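import Mathlib
import Groth.Agent.Lib.Lead.Depth13

/-!
# Depth along a finite ring map: `depth_a M = depth_{aB} M`.
-/

set_option autoImplicit false
universe u v
open RingTheory.Sequence LocCoh Pointwise

namespace Groth.Agent.Helper21.DF

open Groth.Agent.Lead.Depth

section
variable {A B : Type u} [CommRing A] [CommRing B] [Algebra A B]

theorem smul_top_eq_top_iff (a : Ideal A) (M : Type v) [AddCommGroup M] [Module B M] [Module A M]
    [IsScalarTower A B M] :
    a • (⊤ : Submodule A M) = ⊤ ↔ (a.map (algebraMap A B)) • (⊤ : Submodule B M) = ⊤ := by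
  have h := Ideal.smul_restrictScalars (R := A) (S := B) a (⊤ : Submodule B M)
  rw [Submodule.restrictScalars_top] at h
  rw [← h, Submodule.restrictScalars_eq_top_iff]

theorem le_idealDepth_map_of_le (a : Ideal A) (M : Type v) [AddCommGroup M] [Module B M]
    [Module A M] [IsScalarTower A B M] (n : ℕ) (h : (n : ℕ∞) ≤ idealDepth a M) :
    (n : ℕ∞) ≤ idealDepth (a.map (algebraMap A B)) M := by
  by_cases htop : a • (⊤ : Submodule A M) = ⊤
  · rw [idealDepth_of_eq_top _ M ((smul_top_eq_top_iff a M).mp htop)]
    exact le_top
  · obtain ⟨rs, hlen, hreg, hmem⟩ := exists_of_le_idealDepth a M htop n h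
    have h1 := le_idealDepth_of_isWeaklyRegular (a.map (algebraMap A B)) M
      (rs.map (algebraMap A B)) ((isWeaklyRegular_map_algebraMap_iff (S := B) (M := M) rs).mpr hreg)
      (by
        intro r hr
        rw [List.mem_map] at hr
        obtain ⟨r', hr', rfl⟩ := hr
        exact Ideal.mem_map_of_mem _ (hmem r' hr'))
    rwa [List.length_map, hlen] at h1

theorem exists_regular_of_map [IsNoetherianRing A] (a : Ideal A) (M : Type v) [AddCommGroup M]
    [Module B M] [Module A M] [IsScalarTower A B M] [Module.Finite A M]
    (y : B) (hy : y ∈ a.map (algebraMap A B)) (hreg : IsSMulRegular M y) :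
    ∃ x ∈ a, IsSMulRegular M x := by
  by_contra hcon
  push Not at hcon
  obtain ⟨p, hp, hap⟩ : ∃ p ∈ associatedPrimes A M, a ≤ p := by
    refine (a.subset_union_prime_finite (associatedPrimes.finite A M) (f := id) 0 0
      fun _ h _ _ => h.isPrime).1 ?_
    simp_rw [id, biUnion_associatedPrimes_eq_compl_regular A M]
    exact fun x hx => hcon x hx
  obtain ⟨hprime, m, hm⟩ := (isAssociatedPrime_iff (M := M)).mp hp
  have hkill : ∀ r ∈ a, r • m = 0 := by
    intro r hr
    have := hap hr
    rw [hm, Submodule.mem_colon_singleton, Submodule.mem_bot] at this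
    exact this
  have hle : a.map (algebraMap A B) ≤ LinearMap.ker (LinearMap.toSpanSingleton B M m) := by
    rw [Ideal.map_le_iff_le_comap]
    intro r hr
    rw [Ideal.mem_comap, LinearMap.mem_ker, LinearMap.toSpanSingleton_apply, algebraMap_smul]
    exact hkill r hr
  have hym : y • m = 0 := by
    have := hle hy
    rwa [LinearMap.mem_ker, LinearMap.toSpanSingleton_apply] at this
  have hm0 : m = 0 := hreg (show y • m = y • 0 by rw [hym, smul_zero])
  apply hprime.ne_top
  rw [hm, hm0, Ideal.eq_top_iff_one, Submodule.mem_colon_singleton, smul_zero]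
  exact Submodule.zero_mem _

/-- The `A`-linear identification `M/xM ≃ M/φ(x)M`. -/
noncomputable def quotEquiv (x : A) (M : Type v) [AddCommGroup M] [Module B M]
    [Module A M] [IsScalarTower A B M] :
    QuotSMulTop x M ≃ₗ[A] QuotSMulTop (algebraMap A B x) M :=
  (Submodule.quotEquivOfEq _ _ (by
    rw [element_smul_restrictScalars, Submodule.restrictScalars_top])) ≪≫ₗ
    (Submodule.Quotient.restrictScalarsEquiv A (algebraMap A B x • (⊤ : Submodule B M)))

end

section
variable {A B : Type u} [CommRing A] [IsNoetherianRing A] [CommRing B] [Algebra A B]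
  [Module.Finite A B]

theorem le_idealDepth_of_le_map (a : Ideal A) : ∀ (n : ℕ) (M : Type u) [AddCommGroup M]
    [Module B M] [Module A M] [IsScalarTower A B M] [Module.Finite B M],
    (n : ℕ∞) ≤ idealDepth (a.map (algebraMap A B)) M → (n : ℕ∞) ≤ idealDepth a M := by
  have hBnoeth : IsNoetherianRing B :=
    isNoetherian_of_tower A (isNoetherian_of_isNoetherianRing_of_finite A B)
  intro n
  induction n with
  | zero => intro M _ _ _ _ _ _; simp
  | succ n ih =>
    intro M _ _ _ _ _ h
    have hfinA : Module.Finite A M := Module.Finite.trans B M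
    by_cases htop : a • (⊤ : Submodule A M) = ⊤
    · rw [idealDepth_of_eq_top a M htop]
      exact le_top
    · have htopB : (a.map (algebraMap A B)) • (⊤ : Submodule B M) ≠ ⊤ :=
        fun hB => htop ((smul_top_eq_top_iff a M).mpr hB)
      obtain ⟨rs, hlen, hreg, hmem⟩ := exists_of_le_idealDepth _ M htopB (n + 1) h
      obtain ⟨y, rs', rfl⟩ : ∃ y rs', rs = y :: rs' := by
        cases rs with
        | nil => simp at hlen
        | cons y rs' => exact ⟨y, rs', rfl⟩
      have hyreg : IsSMulRegular M y := ((isWeaklyRegular_cons_iff M y rs').mp hreg).1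
      obtain ⟨x, hxa, hxreg⟩ := exists_regular_of_map a M y (hmem y (by simp)) hyreg
      have hxB : algebraMap A B x ∈ a.map (algebraMap A B) := Ideal.mem_map_of_mem _ hxa
      have hxregB : IsSMulRegular M (algebraMap A B x) :=
        (isSMulRegular_map (algebraMap A B) (fun m : M => algebraMap_smul B x m)).mpr hxreg
      have hB := idealDepth_quotSMulTop_add_one (a.map (algebraMap A B)) M htopB
        (algebraMap A B x) hxB hxregB
      have hA := idealDepth_quotSMulTop_add_one a M htop x hxa hxreg
      have h1 : (n : ℕ∞) ≤ idealDepth (a.map (algebraMap A B))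
          (QuotSMulTop (algebraMap A B x) M) := by
        rw [← hB] at h
        generalize idealDepth (a.map (algebraMap A B)) (QuotSMulTop (algebraMap A B x) M) = d at h
        induction d using ENat.recTopCoe with
        | top => exact le_top
        | coe d' =>
          norm_cast at h ⊢
          omega
      have h2 := ih (QuotSMulTop (algebraMap A B x) M) h1
      rw [← idealDepth_congr a (quotEquiv x M)] at h2
      rw [← hA]
      push_cast
      gcongr

theorem idealDepth_eq_map (a : Ideal A) (M : Type u) [AddCommGroup M]
    [Module B M] [Module A M] [IsScalarTower A B M] [Module.Finite B M] :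
    idealDepth a M = idealDepth (a.map (algebraMap A B)) M := by
  apply ENat.eq_of_forall_natCast_le_iff
  intro n
  exact ⟨le_idealDepth_map_of_le a M n, le_idealDepth_of_le_map a n M⟩

end

end Groth.Agent.Helper21.DF
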