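import Mathlib

/-!
# Integral maps do not raise the Krull dimension
-/

namespace Groth.Agent.Helper21.ID

/-- If `f : R → S` is integral then `dim S ≤ dim R` (incomparability). -/
theorem ringKrullDim_le_of_isIntegral {R S : Type*} [CommRing R] [CommRing S] (f : R →+* S)
    (hf : f.IsIntegral) : ringKrullDim S ≤ ringKrullDim R := by
  let _ : Algebra R S := f.toAlgebra
  refine Order.krullDim_le_of_strictMono (fun P : PrimeSpectrum S => PrimeSpectrum.comap f P) ?_
  intro P Q hPQ
  have hlt : P.asIdeal < Q.asIdeal := (PrimeSpectrum.asIdeal_lt_asIdeal P Q).mpr hPQ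
  obtain ⟨x, hxQ, hxP⟩ := SetLike.exists_of_lt hlt
  have h := Ideal.comap_lt_comap_of_integral_mem_sdiff (R := R) (I := P.asIdeal) (J := Q.asIdeal)
    hlt.le ⟨hxQ, hxP⟩ (hf x)
  rw [← PrimeSpectrum.asIdeal_lt_asIdeal]
  exact h

end Groth.Agent.Helper21.ID
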