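import Mathlib
import Groth.Agent.Lib.Helper1.LocalCriterion

/-!
# Finite-stage flatness, part 1: generation of `ker(pQ ⊗ M → Q ⊗ M)` (helper21)

Let `p` be an ideal of `A`, `M` an `A`-module with `M/pM` flat over `A/p`.  For every `A`-module `Q`
the kernel of `pQ ⊗ M → Q ⊗ M` is generated by the images of the kernel of `p ⊗ M → M` under the
maps induced by `a ↦ a • q : p → pQ`.
-/

set_option autoImplicit false
set_option backward.isDefEq.respectTransparency false
set_option backward.isDefEq.respectTransparency.types false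
set_option linter.style.haveILetI false
set_option linter.unusedSectionVars false

universe u

open TensorProduct Function

namespace Groth.Agent.Helper21.FS

section KerGen

variable {B : Type u} [CommRing B] {X Y Z : Type u} [AddCommGroup X] [Module B X]
  [AddCommGroup Y] [Module B Y] [AddCommGroup Z] [Module B Z]

/-- If `X → Y → Z → 0` is exact with `Z` flat, the kernel of `N ⊗ X → N ⊗ Y` is the image of
`N ⊗ ker`. -/
theorem mem_range_lTensor_ker [Module.Flat B Z] (f : X →ₗ[B] Y) (g : Y →ₗ[B] Z)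
    (hfg : Exact f g) (hg : Surjective g) (N : Type u) [AddCommGroup N] [Module B N]
    (w : N ⊗[B] X) (hw : f.lTensor N w = 0) :
    w ∈ LinearMap.range ((LinearMap.ker f).subtype.lTensor N) := by
  -- factor `f` through its range
  let f' : X →ₗ[B] LinearMap.range f := f.rangeRestrict
  let j : LinearMap.range f →ₗ[B] Y := (LinearMap.range f).subtype
  have hjf : j ∘ₗ f' = f := LinearMap.subtype_comp_codRestrict _ _ _
  have hj : Injective j := Submodule.injective_subtype _
  have hjg : Exact j g := by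
    intro y
    rw [hfg y]
    constructor
    · rintro ⟨x, rfl⟩
      exact ⟨⟨f x, x, rfl⟩, rfl⟩
    · rintro ⟨⟨_, x, rfl⟩, rfl⟩
      exact ⟨x, rfl⟩
  have hjN : Injective (j.lTensor N) :=
    Groth.Agent.Helper1.lTensor_injective_of_exact_of_flat j g hj hjg hg N
  have h1 : f'.lTensor N w = 0 := by
    apply hjN
    rw [map_zero, ← LinearMap.comp_apply, ← LinearMap.lTensor_comp, hjf]
    exact hw
  have hex : Exact (LinearMap.ker f).subtype f' := by
    intro x
    constructor
    · intro hx
      refine ⟨⟨x, ?_⟩, rfl⟩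
      have := congrArg Subtype.val hx
      simpa [f'] using this
    · rintro ⟨⟨x, hx⟩, rfl⟩
      apply Subtype.ext
      simpa [f'] using hx
  have hf' : Surjective f' := LinearMap.surjective_rangeRestrict f
  exact (lTensor_exact N hex hf' w).mp h1

end KerGen

section ChangeOfRings

variable {A : Type u} [CommRing A] (p : Ideal A) {M L F : Type u} [AddCommGroup M] [Module A M]
  [AddCommGroup L] [Module A L] [AddCommGroup F] [Module A F]
  (ι : L →ₗ[A] F) (π : F →ₗ[A] M)

/-- Change of rings: if `M/pM` is flat over `A/p` and `X` is killed by `p`, the kernel of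
`X ⊗ L → X ⊗ F` is generated by the `x ⊗ l` with `1 ⊗ ι l = 0` in `A/p ⊗ F`. -/
theorem mem_span_of_lTensor_eq_zero (hex : Exact ι π) (hπ : Surjective π)
    [Module.Flat (A ⧸ p) ((A ⧸ p) ⊗[A] M)]
    (X : Type u) [AddCommGroup X] [Module A X] (hX : p • (⊤ : Submodule A X) = ⊥)
    (w : X ⊗[A] L) (hw : ι.lTensor X w = 0) :
    w ∈ Submodule.span A {v : X ⊗[A] L | ∃ (x : X) (l : L),
      (1 : A ⧸ p) ⊗ₜ[A] ι l = 0 ∧ v = x ⊗ₜ[A] l} := by
  have hT : Module.IsTorsionBySet A X p := by
    intro x a
    have : (a : A) • x ∈ p • (⊤ : Submodule A X) :=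
      Submodule.smul_mem_smul a.2 Submodule.mem_top
    rw [hX] at this
    exact this
  letI : Module (A ⧸ p) X := hT.module
  haveI : IsScalarTower A (A ⧸ p) X := hT.isScalarTower
  let eL := AlgebraTensorModule.cancelBaseChange A (A ⧸ p) (A ⧸ p) X L
  let eF := AlgebraTensorModule.cancelBaseChange A (A ⧸ p) (A ⧸ p) X F
  obtain ⟨w', rfl⟩ := eL.surjective w
  have h1 : (ι.baseChange (A ⧸ p)).lTensor X w' = 0 := by
    apply eF.injective
    rw [map_zero]
    rw [Groth.Agent.Helper1.cancelBaseChange_lTensor]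
    exact hw
  have hexb : Exact (ι.baseChange (A ⧸ p)) (π.baseChange (A ⧸ p)) :=
    lTensor_exact (A ⧸ p) hex hπ
  have hsurjb : Surjective (π.baseChange (A ⧸ p)) :=
    LinearMap.lTensor_surjective (A ⧸ p) hπ
  obtain ⟨v, rfl⟩ := mem_range_lTensor_ker (ι.baseChange (A ⧸ p)) (π.baseChange (A ⧸ p)) hexb hsurjb
    X w' h1
  clear h1 hw
  induction v using TensorProduct.induction_on with
  | zero => simp
  | add a b ha hb =>
    rw [map_add, map_add]
    exact Submodule.add_mem _ ha hb
  | tmul x t =>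
    obtain ⟨l, hl⟩ := Groth.Agent.Helper1.exists_one_tmul_eq p (t : (A ⧸ p) ⊗[A] L)
    have ht : (ι.baseChange (A ⧸ p)) (t : (A ⧸ p) ⊗[A] L) = 0 := t.2
    rw [← hl, LinearMap.baseChange_tmul] at ht
    refine Submodule.subset_span ⟨x, l, ht, ?_⟩
    rw [LinearMap.lTensor_tmul, Submodule.subtype_apply, ← hl]
    simp [eL]

end ChangeOfRings

section Main

variable {A : Type u} [CommRing A] (p : Ideal A) (M : Type u) [AddCommGroup M] [Module A M]
  (Q : Type u) [AddCommGroup Q] [Module A Q]

/-- `a ↦ a • q : p → pQ`. -/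
def mulQ (q : Q) : p →ₗ[A] (p • (⊤ : Submodule A Q) : Submodule A Q) where
  toFun a := ⟨(a : A) • q, Submodule.smul_mem_smul a.2 Submodule.mem_top⟩
  map_add' a b := by
    apply Subtype.ext
    simp [add_smul]
  map_smul' c a := by
    apply Subtype.ext
    simp [mul_smul]

theorem subtype_comp_mulQ (q : Q) :
    (p • (⊤ : Submodule A Q) : Submodule A Q).subtype ∘ₗ mulQ p Q q =
      LinearMap.toSpanSingleton A Q q ∘ₗ Submodule.subtype p := by
  ext a
  rfl

/-- The generating set. -/
def genSet : Set ((p • (⊤ : Submodule A Q) : Submodule A Q) ⊗[A] M) :=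
  {w | ∃ (q : Q) (y : p ⊗[A] M), (Submodule.subtype p).rTensor M y = 0 ∧
    w = (mulQ p Q q).rTensor M y}

variable {M}

local notation "PP" => (p • (⊤ : Submodule A Q) : Submodule A Q)

theorem mem_span_genSet_aux {L F : Type u} [AddCommGroup L] [Module A L] [AddCommGroup F]
    [Module A F] [Module.Flat A F] (ι : L →ₗ[A] F) (π : F →ₗ[A] M) (hex : Exact ι π)
    (hπ : Surjective π) [Module.Flat (A ⧸ p) ((A ⧸ p) ⊗[A] M)]
    (z : (p • (⊤ : Submodule A Q) : Submodule A Q) ⊗[A] M)
    (hz : (p • (⊤ : Submodule A Q) : Submodule A Q).subtype.rTensor M z = 0) :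
    z ∈ Submodule.span A (genSet p M Q) := by
  -- (a)
  obtain ⟨f, rfl⟩ := LinearMap.lTensor_surjective PP hπ z
  -- (b)
  have h1 : π.lTensor Q ((PP).subtype.rTensor F f) = 0 := by
    rw [← LinearMap.comp_apply, LinearMap.lTensor_comp_rTensor, ← LinearMap.rTensor_comp_lTensor,
      LinearMap.comp_apply]
    exact hz
  obtain ⟨l, hl⟩ : ∃ l, ι.lTensor Q l = (PP).subtype.rTensor F f := (lTensor_exact Q hex hπ _).mp h1
  -- (c)
  have h2 : ι.lTensor (Q ⧸ PP) ((PP).mkQ.rTensor L l) = 0 := by
    rw [← LinearMap.comp_apply, LinearMap.lTensor_comp_rTensor, ← LinearMap.rTensor_comp_lTensor,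
      LinearMap.comp_apply, hl, ← LinearMap.comp_apply, ← LinearMap.rTensor_comp]
    have : (PP).mkQ ∘ₗ (PP).subtype = 0 := by
      ext x
      simp
    rw [this, LinearMap.rTensor_zero, LinearMap.zero_apply]
  -- (d)
  have hX : p • (⊤ : Submodule A (Q ⧸ PP)) = ⊥ := by
    rw [eq_bot_iff]
    intro x hx
    refine Submodule.smul_induction_on hx ?_ ?_
    · intro a ha y _
      obtain ⟨y, rfl⟩ := Submodule.Quotient.mk_surjective _ y
      rw [Submodule.mem_bot, ← Submodule.Quotient.mk_smul, Submodule.Quotient.mk_eq_zero]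
      exact Submodule.smul_mem_smul ha Submodule.mem_top
    · intro x y hx hy
      exact Submodule.add_mem _ hx hy
  have h3 := mem_span_of_lTensor_eq_zero p ι π hex hπ (Q ⧸ PP) hX _ h2
  -- (e)
  have claim : ∀ lb ∈ Submodule.span A {v : (Q ⧸ PP) ⊗[A] L | ∃ (x : Q ⧸ PP) (l : L),
      (1 : A ⧸ p) ⊗ₜ[A] ι l = 0 ∧ v = x ⊗ₜ[A] l},
      ∃ (l' : Q ⊗[A] L) (f' : PP ⊗[A] F), (PP).mkQ.rTensor L l' = lb ∧
        (PP).subtype.rTensor F f' = ι.lTensor Q l' ∧
        π.lTensor PP f' ∈ Submodule.span A (genSet p M Q) := by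
    intro lb hlb
    induction hlb using Submodule.span_induction with
    | mem v hv =>
      obtain ⟨x, l0, h0, rfl⟩ := hv
      obtain ⟨q, rfl⟩ := Submodule.Quotient.mk_surjective _ x
      have hex2 := rTensor_exact F (LinearMap.exact_subtype_mkQ p) (Submodule.mkQ_surjective p)
      have h00 : (Submodule.mkQ p).rTensor F ((1 : A) ⊗ₜ[A] ι l0) = 0 := by
        rw [LinearMap.rTensor_tmul]
        exact h0
      obtain ⟨f0, hf0⟩ := (hex2 _).mp h00
      refine ⟨q ⊗ₜ[A] l0, (mulQ p Q q).rTensor F f0, ?_, ?_, ?_⟩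
      · rw [LinearMap.rTensor_tmul]
        rfl
      · rw [← LinearMap.comp_apply, ← LinearMap.rTensor_comp, subtype_comp_mulQ,
          LinearMap.rTensor_comp, LinearMap.comp_apply, hf0, LinearMap.rTensor_tmul,
          LinearMap.lTensor_tmul, LinearMap.toSpanSingleton_apply, one_smul]
      · rw [← LinearMap.comp_apply, LinearMap.lTensor_comp_rTensor,
          ← LinearMap.rTensor_comp_lTensor, LinearMap.comp_apply]
        refine Submodule.subset_span ⟨q, π.lTensor p f0, ?_, rfl⟩
        rw [← LinearMap.comp_apply, LinearMap.rTensor_comp_lTensor,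
          ← LinearMap.lTensor_comp_rTensor, LinearMap.comp_apply, hf0, LinearMap.lTensor_tmul,
          hex.apply_apply_eq_zero, tmul_zero]
    | zero =>
      exact ⟨0, 0, by simp, by simp, by simp⟩
    | add a b _ _ ha hb =>
      obtain ⟨la, fa, h1a, h2a, h3a⟩ := ha
      obtain ⟨lb', fb, h1b, h2b, h3b⟩ := hb
      refine ⟨la + lb', fa + fb, by rw [map_add, h1a, h1b], by rw [map_add, map_add, h2a, h2b], ?_⟩
      rw [map_add]
      exact Submodule.add_mem _ h3a h3b
    | smul c a _ ha =>
      obtain ⟨la, fa, h1a, h2a, h3a⟩ := ha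
      refine ⟨c • la, c • fa, by rw [map_smul, h1a], by rw [map_smul, map_smul, h2a], ?_⟩
      rw [map_smul]
      exact Submodule.smul_mem _ _ h3a
  -- (f)
  obtain ⟨l', f', e1, e2, e3⟩ := claim _ h3
  have h4 : (PP).mkQ.rTensor L (l - l') = 0 := by rw [map_sub, e1, sub_self]
  obtain ⟨l'', hl''⟩ : ∃ l'', (PP).subtype.rTensor L l'' = l - l' :=
    (rTensor_exact L (LinearMap.exact_subtype_mkQ PP) (Submodule.mkQ_surjective PP) _).mp h4
  have hinj : Injective ((PP).subtype.rTensor F) :=
    Module.Flat.rTensor_preserves_injective_linearMap _ (Submodule.injective_subtype PP)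
  have h5 : f = f' + ι.lTensor PP l'' := by
    apply hinj
    rw [map_add, ← hl, e2, ← LinearMap.comp_apply ((PP).subtype.rTensor F),
      LinearMap.rTensor_comp_lTensor, ← LinearMap.lTensor_comp_rTensor, LinearMap.comp_apply,
      hl'', map_sub]
    abel
  rw [h5, map_add, ← LinearMap.comp_apply, ← LinearMap.lTensor_comp]
  have : π ∘ₗ ι = 0 := by
    ext x
    exact hex.apply_apply_eq_zero x
  rw [this, LinearMap.lTensor_zero, LinearMap.zero_apply, add_zero]
  exact e3

/-- **Generation lemma.** If `M/pM` is flat over `A/p`, then for every `A`-module `Q` the kernel of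
`pQ ⊗ M → Q ⊗ M` is generated by the images of the kernel of `p ⊗ M → M`. -/
theorem mem_span_genSet [Module.Flat (A ⧸ p) ((A ⧸ p) ⊗[A] M)]
    (z : (p • (⊤ : Submodule A Q) : Submodule A Q) ⊗[A] M)
    (hz : (p • (⊤ : Submodule A Q) : Submodule A Q).subtype.rTensor M z = 0) :
    z ∈ Submodule.span A (genSet p M Q) :=
  mem_span_genSet_aux p Q (Groth.Agent.Helper1.presι A M) (Groth.Agent.Helper1.presπ A M)
    (Groth.Agent.Helper1.pres_exact A M) (Groth.Agent.Helper1.presπ_surjective A M) z hz

end Main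

end Groth.Agent.Helper21.FS
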