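import Mathlib
import Groth.Agent.Lib.Helper21.FS1

/-!
# Finite-stage flatness, part 2: the limit step for one stratum (helper21)
-/

set_option autoImplicit false
set_option backward.isDefEq.respectTransparency false
set_option backward.isDefEq.respectTransparency.types false
set_option linter.style.haveILetI false
set_option linter.unusedSectionVars false

universe u

open TensorProduct Function

namespace Groth.Agent.Helper21.FS

section Vanish

variable {A : Type u} [CommRing A] {M : Type u} [AddCommGroup M] [Module A M]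

/-- If `x ∈ P₀ ⊗ M` dies in `N ⊗ M`, it already dies in `N' ⊗ M` for every `N' ↪ N` through which
`P₀ → N` factors and which contains a certain finitely generated submodule of `N`. -/
theorem exists_fg_forall_rTensor_eq_zero {P₀ N : Type u} [AddCommGroup P₀] [Module A P₀]
    [AddCommGroup N] [Module A N] (φ : P₀ →ₗ[A] N) (x : P₀ ⊗[A] M) (hx : φ.rTensor M x = 0) :
    ∃ J : Submodule A N, J.FG ∧ ∀ (N' : Type u) [AddCommGroup N'] [Module A N']
      (φ' : P₀ →ₗ[A] N') (j : N' →ₗ[A] N), Injective j → j ∘ₗ φ' = φ → J ≤ LinearMap.range j →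
        φ'.rTensor M x = 0 := by
  let ι := Groth.Agent.Helper1.presι A M
  let π := Groth.Agent.Helper1.presπ A M
  have hex : Exact ι π := Groth.Agent.Helper1.pres_exact A M
  have hπ : Surjective π := Groth.Agent.Helper1.presπ_surjective A M
  obtain ⟨f, rfl⟩ := LinearMap.lTensor_surjective P₀ hπ x
  have h1 : π.lTensor N (φ.rTensor _ f) = 0 := by
    rw [← LinearMap.comp_apply, LinearMap.lTensor_comp_rTensor, ← LinearMap.rTensor_comp_lTensor,
      LinearMap.comp_apply]
    exact hx
  obtain ⟨l, hl⟩ : ∃ l, ι.lTensor N l = φ.rTensor _ f := (lTensor_exact N hex hπ _).mp h1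
  obtain ⟨J, hJ, lJ, rfl⟩ := Submodule.exists_fg_le_eq_rTensor_subtype l
  refine ⟨J, hJ, ?_⟩
  intro N' _ _ φ' j hj hjφ hJj
  let e := LinearEquiv.ofInjective j hj
  let τ : J →ₗ[A] N' := e.symm.toLinearMap ∘ₗ Submodule.inclusion hJj
  have hτ : j ∘ₗ τ = J.subtype := by
    ext y
    have : (e (e.symm (Submodule.inclusion hJj y)) : N) = y := by
      rw [LinearEquiv.apply_symm_apply]
      rfl
    exact this
  have hinj : Injective (j.rTensor (Groth.Agent.Helper1.PresG A M)) :=
    Module.Flat.rTensor_preserves_injective_linearMap _ hj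
  have h2 : φ'.rTensor _ f = ι.lTensor N' (τ.rTensor _ lJ) := by
    apply hinj
    rw [← LinearMap.comp_apply, ← LinearMap.rTensor_comp, hjφ, ← hl,
      ← LinearMap.comp_apply (j.rTensor _), LinearMap.rTensor_comp_lTensor,
      ← LinearMap.lTensor_comp_rTensor, LinearMap.comp_apply, ← LinearMap.comp_apply (j.rTensor _),
      ← LinearMap.rTensor_comp, hτ]
  rw [← LinearMap.comp_apply, LinearMap.rTensor_comp_lTensor, ← LinearMap.lTensor_comp_rTensor,
    LinearMap.comp_apply, h2, ← LinearMap.comp_apply, ← LinearMap.lTensor_comp]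
  have : π ∘ₗ ι = 0 := by
    ext y
    exact hex.apply_apply_eq_zero y
  rw [this, LinearMap.lTensor_zero, LinearMap.zero_apply]

end Vanish

section LimitStep

variable {A : Type u} [CommRing A] (p : Ideal A) {M : Type u} [AddCommGroup M] [Module A M]

/-- Elements of `pR` involve finitely many elements of `R`. -/
theorem exists_finset_mem_smul_span {R : Type u} [AddCommGroup R] [Module A R] (r : R)
    (hr : r ∈ p • (⊤ : Submodule A R)) :
    ∃ S : Finset R, r ∈ p • Submodule.span A (S : Set R) := by
  classical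
  refine Submodule.smul_induction_on hr ?_ ?_
  · intro a ha x _
    exact ⟨{x}, Submodule.smul_mem_smul ha (Submodule.subset_span (by simp))⟩
  · rintro x y ⟨S₁, h₁⟩ ⟨S₂, h₂⟩
    refine ⟨S₁ ∪ S₂, Submodule.add_mem _ ?_ ?_⟩
    · exact Submodule.smul_mono le_rfl (Submodule.span_mono (by simp)) h₁
    · exact Submodule.smul_mono le_rfl (Submodule.span_mono (by simp)) h₂

theorem exists_finset_forall_mem_smul_span {R : Type u} [AddCommGroup R] [Module A R]
    (G : Finset (p • (⊤ : Submodule A R) : Submodule A R)) :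
    ∃ S : Finset R, ∀ g ∈ G, (g : R) ∈ p • Submodule.span A (S : Set R) := by
  classical
  induction G using Finset.induction_on with
  | empty => exact ⟨∅, by simp⟩
  | insert a G _ ih =>
    obtain ⟨S₁, h₁⟩ := ih
    obtain ⟨S₂, h₂⟩ := exists_finset_mem_smul_span p (a : R) a.2
    refine ⟨S₁ ∪ S₂, ?_⟩
    intro g hg
    rcases Finset.mem_insert.mp hg with rfl | hg
    · exact Submodule.smul_mono le_rfl (Submodule.span_mono (by simp)) h₂
    · exact Submodule.smul_mono le_rfl (Submodule.span_mono (by simp)) (h₁ g hg)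

variable (R : Type u) [CommRing R] [Algebra A R]

/-- The inclusion `pR' → pR` for a subalgebra `R'` of `R`. -/
def subIncl (R' : Subalgebra A R) :
    (p • (⊤ : Submodule A R') : Submodule A R') →ₗ[A] (p • (⊤ : Submodule A R) : Submodule A R) :=
  (R'.val.toLinearMap ∘ₗ (p • (⊤ : Submodule A R')).subtype).codRestrict _ (by
    rintro ⟨x, hx⟩
    have h1 : R'.val.toLinearMap x ∈ (p • (⊤ : Submodule A R')).map R'.val.toLinearMap :=
      Submodule.mem_map_of_mem hx
    rw [Submodule.map_smul''] at h1
    exact Submodule.smul_mono le_rfl le_top h1)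

theorem subIncl_injective (R' : Subalgebra A R) : Injective (subIncl p R R') := by
  intro x y hxy
  have := congrArg Subtype.val hxy
  apply Subtype.ext
  apply Subtype.ext
  exact this

theorem subIncl_comp_mulQ (R' : Subalgebra A R) :
    subIncl p R R' ∘ₗ mulQ p R' 1 = mulQ p R 1 := by
  ext a
  change ((a : A) • (1 : R') : R') = (a : A) • (1 : R)
  simp

theorem mem_range_subIncl (R' : Subalgebra A R) (S : Finset R) (hS : (S : Set R) ⊆ R')
    (y : (p • (⊤ : Submodule A R) : Submodule A R))
    (hy : (y : R) ∈ p • Submodule.span A (S : Set R)) : y ∈ LinearMap.range (subIncl p R R') := by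
  have h1 : Submodule.span A (S : Set R) ≤ (⊤ : Submodule A R').map R'.val.toLinearMap := by
    rw [Submodule.span_le]
    intro s hs
    exact ⟨⟨s, hS hs⟩, Submodule.mem_top, rfl⟩
  have h2 : (y : R) ∈ (p • (⊤ : Submodule A R')).map R'.val.toLinearMap := by
    rw [Submodule.map_smul'']
    exact Submodule.smul_mono le_rfl h1 hy
  obtain ⟨x, hx, hxy⟩ := h2
  exact ⟨⟨x, hx⟩, Subtype.ext hxy⟩

/-- Multiplication by `q` on `pR'`. -/
def mulLeftQ (R' : Subalgebra A R) (q : R') :
    (p • (⊤ : Submodule A R') : Submodule A R') →ₗ[A] (p • (⊤ : Submodule A R') : Submodule A R') :=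
  (LinearMap.mulLeft A q).restrict (by
    intro x hx
    refine Submodule.smul_induction_on hx ?_ ?_
    · intro a ha y _
      rw [LinearMap.mulLeft_apply, mul_smul_comm]
      exact Submodule.smul_mem_smul ha Submodule.mem_top
    · intro x y hx hy
      rw [map_add]
      exact Submodule.add_mem _ hx hy)

theorem mulLeftQ_comp_mulQ (R' : Subalgebra A R) (q : R') :
    mulLeftQ p R R' q ∘ₗ mulQ p R' 1 = mulQ p R' q := by
  ext a
  change ((q * ((a : A) • (1 : R')) : R') : R) = (((a : A) • q : R') : R)
  rw [mul_smul_comm, mul_one]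

/-- **Limit step for one stratum.** -/
theorem exists_finset_forall_subalgebra_injective
    [Module.Flat (A ⧸ p) ((A ⧸ p) ⊗[A] M)]
    (hR : Injective ((p • (⊤ : Submodule A R)).subtype.rTensor M))
    (T : Finset (p ⊗[A] M)) (hT : ∀ k ∈ T, (Submodule.subtype p).rTensor M k = 0)
    (hfg : ∀ y : p ⊗[A] M, (Submodule.subtype p).rTensor M y = 0 →
      y ∈ Submodule.span A {w | ∃ (e : M →ₗ[A] M) (k : p ⊗[A] M), k ∈ T ∧ w = e.lTensor p k}) :
    ∃ S : Finset R, ∀ R' : Subalgebra A R, (S : Set R) ⊆ R' →
      Injective ((p • (⊤ : Submodule A R')).subtype.rTensor M) := by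
  classical
  -- Step 1
  have step1 : ∀ k ∈ T, ∃ S : Finset R, ∀ R' : Subalgebra A R, (S : Set R) ⊆ R' →
      (mulQ p R' 1).rTensor M k = 0 := by
    intro k hk
    have h0 : (mulQ p R 1).rTensor M k = 0 := by
      apply hR
      rw [map_zero, ← LinearMap.comp_apply, ← LinearMap.rTensor_comp, subtype_comp_mulQ,
        LinearMap.rTensor_comp, LinearMap.comp_apply, hT k hk, map_zero]
    obtain ⟨J, hJ, hJ'⟩ := exists_fg_forall_rTensor_eq_zero (mulQ p R 1) k h0
    obtain ⟨G, rfl⟩ := hJ
    obtain ⟨S, hS⟩ := exists_finset_forall_mem_smul_span p G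
    refine ⟨S, fun R' hR' => ?_⟩
    refine hJ' _ (mulQ p R' 1) (subIncl p R R') (subIncl_injective p R R')
      (subIncl_comp_mulQ p R R') ?_
    rw [Submodule.span_le]
    intro g hg
    exact mem_range_subIncl p R R' S hR' g (hS g hg)
  choose! Sk hSk using step1
  refine ⟨T.biUnion Sk, fun R' hR' => ?_⟩
  have hk0 : ∀ k ∈ T, (mulQ p R' 1).rTensor M k = 0 := by
    intro k hk
    refine hSk k hk R' ?_
    intro s hs
    exact hR' (Finset.mem_biUnion.mpr ⟨k, hk, hs⟩)
  have hkq : ∀ (q : R') (y : p ⊗[A] M), (Submodule.subtype p).rTensor M y = 0 →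
      (mulQ p R' q).rTensor M y = 0 := by
    intro q y hy
    have hy' := hfg y hy
    clear hy
    induction hy' using Submodule.span_induction with
    | mem w hw =>
      obtain ⟨e, k, hk, rfl⟩ := hw
      rw [← LinearMap.comp_apply, LinearMap.rTensor_comp_lTensor, ← LinearMap.lTensor_comp_rTensor,
        LinearMap.comp_apply, ← mulLeftQ_comp_mulQ, LinearMap.rTensor_comp, LinearMap.comp_apply,
        hk0 k hk, map_zero, map_zero]
    | zero => simp
    | add a b _ _ ha hb => rw [map_add, ha, hb, add_zero]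
    | smul c a _ ha => rw [map_smul, ha, smul_zero]
  rw [injective_iff_map_eq_zero]
  intro z hz
  have hz' := mem_span_genSet p R' z hz
  have hle : Submodule.span A (genSet p M R') ≤ ⊥ := by
    rw [Submodule.span_le]
    rintro w ⟨q, y, hy, rfl⟩
    exact hkq q y hy
  exact hle hz'

end LimitStep

end Groth.Agent.Helper21.FS
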