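import Mathlib
import Groth.Agent.Lib.Helper1.LocalCriterion

/-!
# Finite-stage flatness, part 3: flatness from strata via the local criterion (helper21)
-/

set_option autoImplicit false
set_option backward.isDefEq.respectTransparency false
set_option backward.isDefEq.respectTransparency.types false
set_option linter.style.haveILetI false
set_option linter.unusedSectionVars false

universe u

open TensorProduct Function

namespace Groth.Agent.Helper21.FS

variable {R S M : Type u} [CommRing R] [IsNoetherianRing R] [CommRing S] [IsNoetherianRing S]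
  [Algebra R S] [AddCommGroup M] [Module R M] [Module S M] [IsScalarTower R S M]
  [Module.Finite S M]

/-- Local criterion at a prime `P` of `S` lying in the "stratum" `V(I) ∩ D(t)`. -/
theorem flat_localizedModule_of_stratum (P : Ideal S) [P.IsPrime] (I : Ideal R)
    (hIP : I.map (algebraMap R S) ≤ P) (t : S) (ht : t ∉ P)
    {Mt : Type u} [AddCommGroup Mt] [Module R Mt] [Module S Mt] [IsScalarTower R S Mt]
    (g : M →ₗ[S] Mt) [IsLocalizedModule (Submonoid.powers t) g]
    (H1 : Injective (I.subtype.rTensor Mt)) [H2 : Module.Flat (R ⧸ I) ((R ⧸ I) ⊗[R] Mt)] :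
    Module.Flat R (LocalizedModule P.primeCompl M) := by
  have hle : Submonoid.powers t ≤ P.primeCompl := by
    rw [Submonoid.powers_le]
    exact ht
  let f₂ : M →ₗ[S] LocalizedModule P.primeCompl M := LocalizedModule.mkLinearMap P.primeCompl M
  let g' : Mt →ₗ[S] LocalizedModule P.primeCompl M :=
    IsLocalizedModule.liftOfLE (Submonoid.powers t) P.primeCompl hle g f₂
  haveI : IsLocalizedModule P.primeCompl g' := inferInstance
  have H1N : Injective (I.subtype.rTensor (LocalizedModule P.primeCompl M)) := by
    rw [← LinearMap.lTensor_inj_iff_rTensor_inj]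
    apply Groth.Agent.Helper1.lTensor_injective_of_isLocalizedModule P.primeCompl g'
    rw [LinearMap.lTensor_inj_iff_rTensor_inj]
    exact H1
  haveI H2N : Module.Flat (R ⧸ I) ((R ⧸ I) ⊗[R] LocalizedModule P.primeCompl M) :=
    Groth.Agent.Helper1.flat_baseChange_of_isLocalizedModule P.primeCompl g' (R ⧸ I)
  haveI : Module.Finite (Localization.AtPrime P) (LocalizedModule P.primeCompl M) :=
    Module.Finite.of_isLocalizedModule P.primeCompl f₂
  have hIS : I.map (algebraMap R (Localization.AtPrime P)) ≤ Ideal.jacobson ⊥ := by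
    rw [IsLocalRing.jacobson_eq_maximalIdeal ⊥ bot_ne_top,
      IsScalarTower.algebraMap_eq R S (Localization.AtPrime P), ← Ideal.map_map,
      ← Localization.AtPrime.map_eq_maximalIdeal]
    exact Ideal.map_mono hIP
  exact Groth.Agent.Helper1.flat_of_flat_quotient_pow (S := Localization.AtPrime P) I hIS
    (fun n _ => Groth.Agent.Helper1.flat_quotient_pow I H1N n)

/-- **Flatness from strata.** -/
theorem flat_of_forall_maximal_stratum
    (h : ∀ (P : Ideal S) [P.IsMaximal], ∃ (I : Ideal R) (t : S) (Mt : Type u)
      (_ : AddCommGroup Mt) (_ : Module R Mt) (_ : Module S Mt) (_ : IsScalarTower R S Mt)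
      (g : M →ₗ[S] Mt) (_ : IsLocalizedModule (Submonoid.powers t) g),
      I.map (algebraMap R S) ≤ P ∧ t ∉ P ∧ Injective (I.subtype.rTensor Mt) ∧
        Module.Flat (R ⧸ I) ((R ⧸ I) ⊗[R] Mt)) :
    Module.Flat R M := by
  refine Module.flat_of_isLocalized_maximal S M (fun P _ => LocalizedModule P.primeCompl M)
    (fun P _ => LocalizedModule.mkLinearMap P.primeCompl M) ?_
  intro P hP
  obtain ⟨I, t, Mt, _, _, _, _, g, _, hIP, ht, H1, H2⟩ := h P
  exact flat_localizedModule_of_stratum P I hIP t ht g H1

end Groth.Agent.Helper21.FS
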