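import Mathlib
import Groth.Agent.Lib.Helper2.GenericFreeMain
import Groth.Agent.Lib.Helper21.FS3

/-!
# Finite-stage flatness, part 4: stratification by generic freeness (helper21)
-/

set_option autoImplicit false
set_option backward.isDefEq.respectTransparency false
set_option backward.isDefEq.respectTransparency.types false
set_option linter.style.haveILetI false
set_option linter.unusedSectionVars false

universe u

open TensorProduct Function

namespace Groth.Agent.Helper21.FS

section BaseChangeLoc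

/-- Base change of a localization of modules is a localization. -/
theorem isLocalizedModule_baseChange {R : Type*} [CommRing R] (S : Submonoid R) {M M' : Type*}
    [AddCommGroup M] [Module R M] [AddCommGroup M'] [Module R M'] (f : M →ₗ[R] M')
    [IsLocalizedModule S f] (B : Type*) [CommRing B] [Algebra R B] :
    IsLocalizedModule (Algebra.algebraMapSubmonoid B S) (f.baseChange B) := by
  haveI h1 : IsLocalizedModule S (AlgebraTensorModule.rTensor R B f) := inferInstance
  have h2 : IsLocalizedModule S (f.rTensor B) := h1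
  haveI h3 : IsLocalizedModule S ((TensorProduct.comm R M' B).toLinearMap ∘ₗ f.rTensor B) :=
    IsLocalizedModule.of_linearEquiv S (f.rTensor B) (TensorProduct.comm R M' B)
  haveI h4 : IsLocalizedModule S (((TensorProduct.comm R M' B).toLinearMap ∘ₗ f.rTensor B) ∘ₗ
      (TensorProduct.comm R B M).toLinearMap) :=
    IsLocalizedModule.of_linearEquiv_right S _ (TensorProduct.comm R B M)
  have h5 : ((TensorProduct.comm R M' B).toLinearMap ∘ₗ f.rTensor B) ∘ₗ
      (TensorProduct.comm R B M).toLinearMap = (f.baseChange B).restrictScalars R := by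
    ext b m
    simp
  rw [h5] at h4
  exact IsLocalizedModule.of_restrictScalars S (f.baseChange B)

end BaseChangeLoc

section Strata

variable (A : Type u) [CommRing A] (S₀ : Type u) [CommRing S₀] [Algebra A S₀]
  (M₀ : Type u) [AddCommGroup M₀] [Module S₀ M₀] [Module A M₀] [IsScalarTower A S₀ M₀]

/-- The localization of `M₀` at an element of the base ring `A`. -/
abbrev Ms (s : A) : Type u := LocalizedModule (Submonoid.powers (algebraMap A S₀ s)) M₀

/-- the `A`-linear localization map `M₀ → (M₀)_s` -/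
noncomputable abbrev msMap (s : A) : M₀ →ₗ[S₀] Ms A S₀ M₀ s :=
  LocalizedModule.mkLinearMap (Submonoid.powers (algebraMap A S₀ s)) M₀

variable [Algebra.FiniteType A S₀] [Module.Finite S₀ M₀]

attribute [local instance] Algebra.TensorProduct.rightAlgebra in
theorem exists_stratum_of_prime (p : Ideal A) [p.IsPrime] :
    ∃ s : A, s ∉ p ∧ Module.Flat (A ⧸ p) ((A ⧸ p) ⊗[A] Ms A S₀ M₀ s) := by
  let k := A ⧸ p
  let S := k ⊗[A] S₀
  let M := S ⊗[S₀] M₀
  obtain ⟨f, hf0, hf⟩ := Groth.Agent.Helper2.GenericFree.exists_gfree (R := k) S M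
  let e : M ≃ₗ[k] k ⊗[A] M₀ := Algebra.IsPushout.cancelBaseChange A k S₀ S M₀
  have hf' : Groth.Agent.Helper2.GenericFree.GFree f (k ⊗[A] M₀) := hf.of_equiv e
  have hfree := hf'.free_localizedModule
  obtain ⟨s, rfl⟩ := Ideal.Quotient.mk_surjective f
  refine ⟨s, fun hs => hf0 (Ideal.Quotient.eq_zero_iff_mem.mpr hs), ?_⟩
  haveI hfl : Module.Flat (Localization.Away (Ideal.Quotient.mk p s))
      (LocalizedModule.Away (Ideal.Quotient.mk p s) (k ⊗[A] M₀)) := Module.Flat.of_free
  haveI : Module.Flat k (LocalizedModule.Away (Ideal.Quotient.mk p s) (k ⊗[A] M₀)) :=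
    Module.Flat.trans k (Localization.Away (Ideal.Quotient.mk p s)) _
  -- the localization map
  let g₁ : M₀ →ₗ[A] Ms A S₀ M₀ s := (msMap A S₀ M₀ s).restrictScalars A
  haveI hg₁ : IsLocalizedModule (Submonoid.powers s) g₁ :=
    IsLocalizedModule.restrictScalars_powers s (msMap A S₀ M₀ s)
  haveI hg₂ : IsLocalizedModule (Algebra.algebraMapSubmonoid k (Submonoid.powers s))
      (g₁.baseChange k) := isLocalizedModule_baseChange (Submonoid.powers s) g₁ k
  rw [Algebra.algebraMapSubmonoid_powers] at hg₂
  have hs : algebraMap A k s = Ideal.Quotient.mk p s := rfl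
  rw [hs] at hg₂
  exact Module.Flat.of_linearEquiv
    (IsLocalizedModule.iso (Submonoid.powers (Ideal.Quotient.mk p s)) (g₁.baseChange k)).symm

/-- A list of strata `(p, s)` is good if each `p` is prime and `(M₀)_s / p` is flat over `A/p`. -/
def GoodStrata (L : List (Ideal A × A)) : Prop :=
  ∀ x ∈ L, x.1.IsPrime ∧ Module.Flat (A ⧸ x.1) ((A ⧸ x.1) ⊗[A] Ms A S₀ M₀ x.2)

theorem exists_strata_aux [IsNoetherianRing A] (J : Ideal A) :
    ∃ L : List (Ideal A × A), GoodStrata A S₀ M₀ L ∧
      ∀ q : Ideal A, q.IsPrime → J ≤ q → ∃ x ∈ L, x.1 ≤ q ∧ x.2 ∉ q := by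
  induction J using IsNoetherian.induction with
  | hgt J ih =>
  change Ideal A at J
  by_cases hJ : Ideal.IsPrime J
  · obtain ⟨s, hs, hflat⟩ := exists_stratum_of_prime A S₀ M₀ J
    have hlt : J < J ⊔ Ideal.span {s} := by
      refine lt_of_le_of_ne le_sup_left fun h => hs ?_
      rw [h]
      exact Ideal.mem_sup_right (Ideal.subset_span rfl)
    obtain ⟨L, hL, hcov⟩ := ih _ hlt
    refine ⟨(J, s) :: L, ?_, ?_⟩
    · intro x hx
      rcases List.mem_cons.mp hx with rfl | hx
      · exact ⟨hJ, hflat⟩
      · exact hL x hx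
    · intro q hq hJq
      by_cases hsq : s ∈ q
      · obtain ⟨x, hx, h1, h2⟩ := hcov q hq (sup_le hJq ((Ideal.span_singleton_le_iff_mem q).mpr hsq))
        exact ⟨x, List.mem_cons_of_mem _ hx, h1, h2⟩
      · exact ⟨(J, s), List.mem_cons_self, hJq, hsq⟩
  · rw [Ideal.not_isPrime_iff] at hJ
    rcases hJ with rfl | ⟨a, ha, b, hb, hab⟩
    · exact ⟨[], fun x hx => absurd hx (List.not_mem_nil), fun q hq hq' =>
        absurd (top_le_iff.mp hq') hq.ne_top⟩
    · have hlta : J < J ⊔ Ideal.span {a} := by
        refine lt_of_le_of_ne le_sup_left fun h => ha ?_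
        rw [h]
        exact Ideal.mem_sup_right (Ideal.subset_span rfl)
      have hltb : J < J ⊔ Ideal.span {b} := by
        refine lt_of_le_of_ne le_sup_left fun h => hb ?_
        rw [h]
        exact Ideal.mem_sup_right (Ideal.subset_span rfl)
      obtain ⟨La, hLa, hcova⟩ := ih _ hlta
      obtain ⟨Lb, hLb, hcovb⟩ := ih _ hltb
      refine ⟨La ++ Lb, ?_, ?_⟩
      · intro x hx
        rcases List.mem_append.mp hx with hx | hx
        · exact hLa x hx
        · exact hLb x hx
      · intro q hq hJq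
        rcases hq.mem_or_mem (hJq hab) with h | h
        · obtain ⟨x, hx, h1, h2⟩ :=
            hcova q hq (sup_le hJq ((Ideal.span_singleton_le_iff_mem q).mpr h))
          exact ⟨x, List.mem_append_left _ hx, h1, h2⟩
        · obtain ⟨x, hx, h1, h2⟩ :=
            hcovb q hq (sup_le hJq ((Ideal.span_singleton_le_iff_mem q).mpr h))
          exact ⟨x, List.mem_append_right _ hx, h1, h2⟩

/-- **Stratification.** -/
theorem exists_strata [IsNoetherianRing A] :
    ∃ L : List (Ideal A × A), GoodStrata A S₀ M₀ L ∧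
      ∀ q : Ideal A, q.IsPrime → ∃ x ∈ L, x.1 ≤ q ∧ x.2 ∉ q := by
  obtain ⟨L, hL, hcov⟩ := exists_strata_aux A S₀ M₀ ⊥
  exact ⟨L, hL, fun q hq => hcov q hq bot_le⟩

end Strata

end Groth.Agent.Helper21.FS
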