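import Mathlib
import Groth.Agent.Lib.Helper21.FS2
import Groth.Agent.Lib.Helper21.FS4

/-!
# Finite-stage flatness, part 5: finite generation of the relations, and the core theorem
(helper21)
-/

set_option autoImplicit false
set_option backward.isDefEq.respectTransparency false
set_option backward.isDefEq.respectTransparency.types false
set_option linter.style.haveILetI false
set_option linter.unusedSectionVars false

universe u

open TensorProduct Function

namespace Groth.Agent.Helper21.FS

section FGRel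

variable {A : Type u} [CommRing A] (p : Ideal A) (E : Type u) [CommRing E] [Algebra A E]
  [IsNoetherianRing E] (M : Type u) [AddCommGroup M] [Module A M] [Module E M]
  [IsScalarTower A E M] [Module.Finite E M]

include E in
/-- The kernel of `p ⊗ M → M` is generated, up to `E`-endomorphisms of `M`, by finitely many
elements, when `M` is a finite module over a Noetherian `A`-algebra `E` and `p` is f.g. -/
theorem exists_finset_relations (hp : p.FG) :
    ∃ T : Finset (p ⊗[A] M), (∀ k ∈ T, (Submodule.subtype p).rTensor M k = 0) ∧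
      ∀ y : p ⊗[A] M, (Submodule.subtype p).rTensor M y = 0 →
        y ∈ Submodule.span A {w | ∃ (e : M →ₗ[A] M) (k : p ⊗[A] M), k ∈ T ∧ w = e.lTensor p k} := by
  classical
  obtain ⟨G, hG⟩ := hp
  subst hG
  -- π : (G → M) → p ⊗ M
  have hGp : ∀ j : G, (j : A) ∈ Ideal.span (G : Set A) := fun j => Ideal.subset_span j.2
  let π : (G → M) →ₗ[A] (Ideal.span (G : Set A)) ⊗[A] M :=
    ∑ j : G, (TensorProduct.mk A (Ideal.span (G : Set A)) M ⟨(j : A), hGp j⟩) ∘ₗ LinearMap.proj j
  have hπ : ∀ m : G → M, π m =
      ∑ j : G, (⟨(j : A), hGp j⟩ : Ideal.span (G : Set A)) ⊗ₜ[A] m j := by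
    intro m
    simp [π, LinearMap.sum_apply]
  -- σ : (G → M) →ₗ[E] M
  let σ : (G → M) →ₗ[E] M :=
    ∑ j : G, (algebraMap A E (j : A)) • (LinearMap.proj j : (G → M) →ₗ[E] M)
  have hσ : ∀ m : G → M, σ m = ∑ j : G, (j : A) • m j := by
    intro m
    simp [σ, LinearMap.sum_apply]
  have hkey : ∀ m : G → M, TensorProduct.lid A M
      ((Submodule.subtype (Ideal.span (G : Set A))).rTensor M (π m)) = σ m := by
    intro m
    rw [hπ, hσ, map_sum, map_sum]
    refine Finset.sum_congr rfl fun j _ => ?_
    simp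
  have hπsurj : Surjective π := by
    intro y
    induction y using TensorProduct.induction_on with
    | zero => exact ⟨0, map_zero _⟩
    | add x y hx hy =>
      obtain ⟨a, rfl⟩ := hx
      obtain ⟨b, rfl⟩ := hy
      exact ⟨a + b, map_add _ _ _⟩
    | tmul a m =>
      obtain ⟨a, ha⟩ := a
      change (⟨a, ha⟩ : Ideal.span (G : Set A)) ⊗ₜ[A] m ∈ LinearMap.range π
      induction ha using Submodule.span_induction with
      | mem x hx =>
        refine ⟨Pi.single ⟨x, hx⟩ m, ?_⟩
        rw [hπ, Finset.sum_eq_single ⟨x, hx⟩]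
        · rw [Pi.single_eq_same]
        · intro b _ hb
          rw [Pi.single_eq_of_ne hb, TensorProduct.tmul_zero]
        · intro h
          exact absurd (Finset.mem_univ _) h
      | zero =>
        have : (⟨0, Submodule.zero_mem _⟩ : Ideal.span (G : Set A)) = 0 := rfl
        rw [this, TensorProduct.zero_tmul]
        exact Submodule.zero_mem _
      | add x y hx hy ihx ihy =>
        have : (⟨x + y, Submodule.add_mem _ hx hy⟩ : Ideal.span (G : Set A)) =
          ⟨x, hx⟩ + ⟨y, hy⟩ := rfl
        rw [this, TensorProduct.add_tmul]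
        exact Submodule.add_mem _ ihx ihy
      | smul c x hx ihx =>
        have : (⟨c • x, Submodule.smul_mem _ c hx⟩ : Ideal.span (G : Set A)) =
          c • ⟨x, hx⟩ := rfl
        rw [this, ← TensorProduct.smul_tmul']
        exact Submodule.smul_mem _ c ihx
  -- the relation module
  haveI : IsNoetherian E (G → M) := isNoetherian_of_isNoetherianRing_of_finite E (G → M)
  obtain ⟨T₀, hT₀⟩ := (IsNoetherian.noetherian (LinearMap.ker σ) : (LinearMap.ker σ).FG)
  refine ⟨T₀.image π, ?_, ?_⟩
  · intro k hk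
    obtain ⟨ρ, hρ, rfl⟩ := Finset.mem_image.mp hk
    apply (TensorProduct.lid A M).injective
    rw [hkey, map_zero]
    have : ρ ∈ LinearMap.ker σ := hT₀ ▸ Submodule.subset_span hρ
    exact this
  · intro y hy
    obtain ⟨m, rfl⟩ := hπsurj y
    have hm : m ∈ LinearMap.ker σ := by
      rw [LinearMap.mem_ker, ← hkey, hy, map_zero]
    rw [← hT₀] at hm
    clear hy
    -- the endomorphism attached to ε
    let eε : E → (M →ₗ[A] M) := fun ε => (LinearMap.lsmul E M ε).restrictScalars A
    have hπε : ∀ (ε : E) (m : G → M), π (ε • m) = (eε ε).lTensor _ (π m) := by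
      intro ε m
      rw [hπ, hπ, map_sum]
      refine Finset.sum_congr rfl fun j _ => ?_
      rw [LinearMap.lTensor_tmul]
      rfl
    set W := Submodule.span A {w | ∃ (e : M →ₗ[A] M) (k : (Ideal.span (G : Set A)) ⊗[A] M),
      k ∈ T₀.image π ∧ w = e.lTensor _ k} with hW
    have hWstab : ∀ (e' : M →ₗ[A] M) (w), w ∈ W → e'.lTensor _ w ∈ W := by
      intro e' w hw
      induction hw using Submodule.span_induction with
      | mem x hx =>
        obtain ⟨e, k, hk, rfl⟩ := hx
        refine Submodule.subset_span ⟨e' ∘ₗ e, k, hk, ?_⟩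
        rw [LinearMap.lTensor_comp, LinearMap.comp_apply]
      | zero => rw [map_zero]; exact Submodule.zero_mem _
      | add x y _ _ hx hy => rw [map_add]; exact Submodule.add_mem _ hx hy
      | smul c x _ hx => rw [map_smul]; exact Submodule.smul_mem _ c hx
    induction hm using Submodule.span_induction with
    | mem x hx =>
      refine Submodule.subset_span ⟨LinearMap.id, π x, Finset.mem_image_of_mem _ hx, ?_⟩
      rw [LinearMap.lTensor_id, LinearMap.id_apply]
    | zero => rw [map_zero]; exact Submodule.zero_mem _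
    | add x y _ _ hx hy => rw [map_add]; exact Submodule.add_mem _ hx hy
    | smul ε x _ hx =>
      rw [hπε]
      exact hWstab _ _ hx

end FGRel

section Transport

theorem rTensor_injective_of_eq {R : Type*} [CommRing R] {Q : Type*} [AddCommGroup Q] [Module R Q]
    {N N' : Submodule R Q} (h : N = N') (M : Type*) [AddCommGroup M] [Module R M]
    (hN' : Injective (N'.subtype.rTensor M)) : Injective (N.subtype.rTensor M) := by
  subst h
  exact hN'

theorem rTensor_injective_of_linearEquiv {R : Type*} [CommRing R] {N N' Q Q' : Type*}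
    [AddCommGroup N] [Module R N] [AddCommGroup N'] [Module R N'] [AddCommGroup Q] [Module R Q]
    [AddCommGroup Q'] [Module R Q'] (f : Q →ₗ[R] Q') (e : N ≃ₗ[R] N')
    (h : Injective (f.rTensor N')) : Injective (f.rTensor N) := by
  have h1 : (e.toLinearMap.lTensor Q') ∘ₗ (f.rTensor N) =
      (f.rTensor N') ∘ₗ (e.toLinearMap.lTensor Q) := by
    rw [LinearMap.lTensor_comp_rTensor, LinearMap.rTensor_comp_lTensor]
  have h2 : Injective ((f.rTensor N') ∘ₗ (e.toLinearMap.lTensor Q)) := by
    rw [LinearMap.coe_comp]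
    exact h.comp (e.lTensor Q).injective
  rw [← h1, LinearMap.coe_comp] at h2
  exact Function.Injective.of_comp h2

variable (A : Type u) [CommRing A] (R : Type u) [CommRing R] [Algebra A R]
  (N : Type u) [AddCommGroup N] [Module A N]

theorem injective_of_flat [Module.Flat R (R ⊗[A] N)] (p : Ideal A) :
    Injective ((p • (⊤ : Submodule A R)).subtype.rTensor N) := by
  have h1 : Injective ((p.map (algebraMap A R)).subtype.rTensor (R ⊗[A] N)) :=
    Module.Flat.rTensor_preserves_injective_linearMap _ (Submodule.injective_subtype _)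
  rw [Groth.Agent.Helper1.rTensor_baseChange_injective_iff] at h1
  have h2 : Injective (((p.map (algebraMap A R)).restrictScalars A).subtype.rTensor N) := h1
  exact rTensor_injective_of_eq (Ideal.smul_top_eq_map p) N h2

theorem injective_map_of_injective (p : Ideal A)
    (h : Injective ((p • (⊤ : Submodule A R)).subtype.rTensor N)) :
    Injective ((p.map (algebraMap A R)).subtype.rTensor (R ⊗[A] N)) := by
  rw [Groth.Agent.Helper1.rTensor_baseChange_injective_iff]
  have h2 : Injective (((p.map (algebraMap A R)).restrictScalars A).subtype.rTensor N) :=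
    rTensor_injective_of_eq (Ideal.smul_top_eq_map p).symm N h
  exact h2

end Transport

section CT

variable (A : Type u) [CommRing A] [IsNoetherianRing A] (S₀ : Type u) [CommRing S₀] [Algebra A S₀]
  [Algebra.FiniteType A S₀]
  (M₀ : Type u) [AddCommGroup M₀] [Module S₀ M₀] [Module A M₀] [IsScalarTower A S₀ M₀]
  [Module.Finite S₀ M₀]

attribute [local instance] Algebra.TensorProduct.rightAlgebra in
/-- Flatness of `R' ⊗ M₀` over a finite type `A`-algebra `R'` from stratum-wise `Tor`-vanishing. -/
theorem flat_of_strata (L : List (Ideal A × A)) (hL : GoodStrata A S₀ M₀ L)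
    (hcov : ∀ q : Ideal A, q.IsPrime → ∃ x ∈ L, x.1 ≤ q ∧ x.2 ∉ q)
    (R' : Type u) [CommRing R'] [Algebra A R'] [Algebra.FiniteType A R']
    (hinj : ∀ x ∈ L,
      Injective ((x.1 • (⊤ : Submodule A R')).subtype.rTensor (Ms A S₀ M₀ x.2))) :
    Module.Flat R' (R' ⊗[A] M₀) := by
  let S' := R' ⊗[A] S₀
  haveI : IsNoetherianRing R' := Algebra.FiniteType.isNoetherianRing A R'
  haveI : IsNoetherianRing S' := Algebra.FiniteType.isNoetherianRing R' S'
  let M' := S' ⊗[S₀] M₀
  have key : Module.Flat R' M' := by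
    apply flat_of_forall_maximal_stratum (R := R') (S := S') (M := M')
    intro P hP
    obtain ⟨x, hx, hxq, hsq⟩ := hcov (P.comap (algebraMap A S')) inferInstance
    obtain ⟨hprime, hflat⟩ := hL x hx
    let t : S' := algebraMap A S' x.2
    let Mt := S' ⊗[S₀] Ms A S₀ M₀ x.2
    let g : M' →ₗ[S'] Mt := (msMap A S₀ M₀ x.2).baseChange S'
    have hg : IsLocalizedModule (Submonoid.powers t) g := by
      have := isLocalizedModule_baseChange (Submonoid.powers (algebraMap A S₀ x.2))
        (msMap A S₀ M₀ x.2) S'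
      rw [Algebra.algebraMapSubmonoid_powers] at this
      have ht : algebraMap S₀ S' (algebraMap A S₀ x.2) = t := by
        rw [← IsScalarTower.algebraMap_apply]
      rw [ht] at this
      exact this
    let et : Mt ≃ₗ[R'] R' ⊗[A] Ms A S₀ M₀ x.2 :=
      Algebra.IsPushout.cancelBaseChange A R' S₀ S' (Ms A S₀ M₀ x.2)
    refine ⟨Ideal.map (algebraMap A R') x.1, t, Mt, inferInstance, inferInstance, inferInstance,
      inferInstance, g, hg, ?_, ?_, ?_, ?_⟩
    · rw [Ideal.map_map, Ideal.map_le_iff_le_comap, ← IsScalarTower.algebraMap_eq A R' S']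
      exact hxq
    · exact fun h => hsq (Ideal.mem_comap.mpr h)
    · apply rTensor_injective_of_linearEquiv _ et
      exact injective_map_of_injective A R' _ x.1 (hinj x hx)
    · haveI := hflat
      let Q := R' ⧸ Ideal.map (algebraMap A R') x.1
      let e1 : Q ⊗[R'] Mt ≃ₗ[Q] Q ⊗[R'] (R' ⊗[A] Ms A S₀ M₀ x.2) :=
        AlgebraTensorModule.congr (LinearEquiv.refl Q Q) et
      let e2 : Q ⊗[R'] (R' ⊗[A] Ms A S₀ M₀ x.2) ≃ₗ[Q] Q ⊗[A] Ms A S₀ M₀ x.2 :=
        AlgebraTensorModule.cancelBaseChange A R' Q Q (Ms A S₀ M₀ x.2)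
      let e3 : Q ⊗[A ⧸ x.1] ((A ⧸ x.1) ⊗[A] Ms A S₀ M₀ x.2) ≃ₗ[Q] Q ⊗[A] Ms A S₀ M₀ x.2 :=
        AlgebraTensorModule.cancelBaseChange A (A ⧸ x.1) Q Q (Ms A S₀ M₀ x.2)
      exact Module.Flat.of_linearEquiv (e1 ≪≫ₗ e2 ≪≫ₗ e3.symm)
  exact Module.Flat.of_linearEquiv (Algebra.IsPushout.cancelBaseChange A R' S₀ S' M₀).symm

include S₀ in
/-- **Core theorem (finite-stage flatness).** `A` Noetherian, `S₀` a finite type `A`-algebra, `M₀` a
finite `S₀`-module, `R` any `A`-algebra such that `R ⊗ M₀` is flat over `R`.  Then there is a finite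
subset `T` of `R` such that for every finitely generated `A`-subalgebra `R'` of `R` containing `T`
the module `R' ⊗ M₀` is flat over `R'`. -/
theorem exists_finset_forall_flat (R : Type u) [CommRing R] [Algebra A R]
    [Module.Flat R (R ⊗[A] M₀)] :
    ∃ T : Finset R, ∀ R' : Subalgebra A R, (T : Set R) ⊆ R' → R'.FG →
      Module.Flat R' (R' ⊗[A] M₀) := by
  classical
  obtain ⟨L, hL, hcov⟩ := exists_strata A S₀ M₀
  haveI : IsNoetherianRing S₀ := Algebra.FiniteType.isNoetherianRing A S₀
  have h1 : ∀ x : Ideal A × A, x ∈ L → ∃ Sx : Finset R, ∀ R' : Subalgebra A R,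
      (Sx : Set R) ⊆ R' →
        Injective ((x.1 • (⊤ : Submodule A R')).subtype.rTensor (Ms A S₀ M₀ x.2)) := by
    intro x hx
    obtain ⟨hprime, hflat⟩ := hL x hx
    haveI := hflat
    haveI : Module.Flat R (R ⊗[A] Ms A S₀ M₀ x.2) :=
      Groth.Agent.Helper1.flat_baseChange_of_isLocalizedModule
        (Submonoid.powers (algebraMap A S₀ x.2)) (msMap A S₀ M₀ x.2) R
    obtain ⟨T, hT, hfg⟩ := exists_finset_relations x.1
      (Localization (Submonoid.powers (algebraMap A S₀ x.2))) (Ms A S₀ M₀ x.2)
      (IsNoetherian.noetherian x.1)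
    exact exists_finset_forall_subalgebra_injective x.1 R (injective_of_flat A R _ x.1) T hT hfg
  choose! F hF using h1
  refine ⟨L.toFinset.biUnion F, fun R' hR' hfgR' => ?_⟩
  haveI : Algebra.FiniteType A R' := (Subalgebra.fg_iff_finiteType R').mp hfgR'
  apply flat_of_strata A S₀ M₀ L hL hcov R'
  intro x hx
  apply hF x hx R'
  refine subset_trans ?_ hR'
  intro r hr
  rw [Finset.coe_biUnion]
  exact Set.mem_iUnion₂.mpr ⟨x, List.mem_toFinset.mpr hx, hr⟩

end CT

end Groth.Agent.Helper21.FS
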