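import Mathlib
import Groth.Agent.Lib.Helper21.FS5

/-!
# Finite-stage flatness, part 6: descent of presentations (helper21)
-/

set_option autoImplicit false
set_option linter.style.haveILetI false
set_option linter.unusedSectionVars false

universe u

open TensorProduct Function

namespace Groth.Agent.Helper21.FS

section Model

variable {R S : Type u} [CommRing R] [CommRing S] [Algebra R S] {ι σ : Type}
  (P : Algebra.Presentation R S ι σ) (R₀ : Type u) [CommRing R₀] [Algebra R₀ R] [Algebra R₀ S]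
  [IsScalarTower R₀ R S] [P.HasCoeffs R₀]

/-- The canonical map from the model of `S` over `R₀` to `S`. -/
noncomputable def modelHom : P.ModelOfHasCoeffs R₀ →ₐ[R₀] S :=
  Ideal.Quotient.liftₐ _ (MvPolynomial.aeval P.val) <| by
    simp_rw [← RingHom.mem_ker, ← SetLike.le_def, Ideal.span_le]
    rintro a ⟨i, rfl⟩
    simp

/-- The algebra structure of `S` over its model. -/
@[reducible] noncomputable def modelAlgebra : Algebra (P.ModelOfHasCoeffs R₀) S :=
  (modelHom P R₀).toRingHom.toAlgebra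

attribute [local instance] modelAlgebra

theorem modelAlgebra_mk (y : MvPolynomial ι R₀) :
    algebraMap (P.ModelOfHasCoeffs R₀) S (Ideal.Quotient.mk _ y) = MvPolynomial.aeval P.val y :=
  rfl

instance model_isScalarTower : IsScalarTower R₀ (P.ModelOfHasCoeffs R₀) S :=
  IsScalarTower.of_algebraMap_eq' (modelHom P R₀).comp_algebraMap.symm

attribute [local instance] Algebra.TensorProduct.rightAlgebra in
theorem model_isPushout : Algebra.IsPushout R₀ R (P.ModelOfHasCoeffs R₀) S := by
  haveI h : Algebra.IsPushout R₀ R (P.ModelOfHasCoeffs R₀) (R ⊗[R₀] P.ModelOfHasCoeffs R₀) :=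
    TensorProduct.isPushout
  refine Algebra.IsPushout.of_equiv (h := h) (P.tensorModelOfHasCoeffsEquiv R₀) ?_
  refine RingHom.ext fun y => ?_
  obtain ⟨y, rfl⟩ := Ideal.Quotient.mk_surjective y
  simp [RingHom.algebraMap_toAlgebra]
  rfl

end Model

section Coker

variable {S₁ S : Type u} [CommRing S₁] [CommRing S] [Algebra S₁ S]
  {M : Type u} [AddCommGroup M] [Module S M] [Module S₁ M] [IsScalarTower S₁ S M]
  {n m : ℕ} (c' : Fin m → Fin n → S₁) (f : (Fin n → S) →ₗ[S] M)
  (g : (Fin m → S) →ₗ[S] (Fin n → S))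

/-- the model of the cokernel -/
abbrev CokerModel : Type u := (Fin n → S₁) ⧸ LinearMap.range (Fintype.linearCombination S₁ c')

theorem exists_isBaseChange_cokerModel (hf : Surjective f) (hfg : Exact g f)
    (hc : ∀ k l, algebraMap S₁ S (c' k l) = g (Pi.single k 1) l) :
    ∃ h : CokerModel c' →ₗ[S₁] M, IsBaseChange S h := by
  let h₁ : (Fin m → S₁) →ₗ[S₁] (Fin m → S) := (Algebra.linearMap S₁ S).compLeft (Fin m)
  let h₂ : (Fin n → S₁) →ₗ[S₁] (Fin n → S) := (Algebra.linearMap S₁ S).compLeft (Fin n)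
  let g' : (Fin m → S₁) →ₗ[S₁] (Fin n → S₁) := Fintype.linearCombination S₁ c'
  have comm₁ : h₂ ∘ₗ g' = (g.restrictScalars S₁) ∘ₗ h₁ := by
    apply LinearMap.pi_ext'
    intro k
    apply LinearMap.ext_ring
    ext l
    have e1 : h₁ (Pi.single k 1) = Pi.single k 1 := by
      ext j
      change algebraMap S₁ S ((Pi.single k 1 : Fin m → S₁) j) = (Pi.single k 1 : Fin m → S) j
      by_cases hjk : j = k
      · subst hjk
        rw [Pi.single_eq_same, Pi.single_eq_same, map_one]
      · rw [Pi.single_eq_of_ne hjk, Pi.single_eq_of_ne hjk, map_zero]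
    have e2 : g' (Pi.single k 1) = c' k := by
      simp [g']
    simp only [LinearMap.coe_comp, LinearMap.coe_single, Function.comp_apply,
      LinearMap.coe_restrictScalars]
    rw [e1, e2, ← hc]
    rfl
  have hle : LinearMap.range g' ≤ LinearMap.ker ((f.restrictScalars S₁) ∘ₗ h₂) := by
    rintro _ ⟨v, rfl⟩
    rw [LinearMap.mem_ker, ← LinearMap.comp_apply, LinearMap.comp_assoc, comm₁]
    exact hfg.apply_apply_eq_zero _
  let h₃ : CokerModel c' →ₗ[S₁] M := (LinearMap.range g').liftQ _ hle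
  refine ⟨h₃, ?_⟩
  refine IsBaseChange.of_right_exact S h₁ h₂ h₃ (f := g') (g := (LinearMap.range g').mkQ)
    (f' := g) (g' := f) comm₁ ?_ ?_ ?_ ?_ (Submodule.mkQ_surjective _) hfg hf
  · exact Submodule.liftQ_mkQ _ _ hle
  · exact IsBaseChange.finitePow (Fin m) (IsBaseChange.linearMap S₁ S)
  · exact IsBaseChange.finitePow (Fin n) (IsBaseChange.linearMap S₁ S)
  · exact LinearMap.exact_map_mkQ_range g'

end Coker

section Pack

variable {A R S₁ S : Type u} [CommRing A] [CommRing R] [CommRing S₁] [CommRing S]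
  [Algebra A R] [Algebra A S₁] [Algebra R S] [Algebra S₁ S] [Algebra A S]
  [IsScalarTower A R S] [IsScalarTower A S₁ S] [Algebra.IsPushout A R S₁ S]
  [IsNoetherianRing A] [Algebra.FiniteType A S₁]
  {M₁ : Type u} [AddCommGroup M₁] [Module S₁ M₁] [Module A M₁] [IsScalarTower A S₁ M₁]
  [Module.Finite S₁ M₁]
  {M : Type u} [AddCommGroup M] [Module S M] [Module R M] [IsScalarTower R S M] [Module S₁ M]
  [IsScalarTower S₁ S M]

/-- The base change `R ⊗ M₁` is `M`. -/
noncomputable def baseChangeEquiv (h : M₁ →ₗ[S₁] M) (hh : IsBaseChange S h) :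
    R ⊗[A] M₁ ≃ₗ[R] M :=
  (Algebra.IsPushout.cancelBaseChange A R S₁ S M₁).symm ≪≫ₗ (hh.equiv.restrictScalars R)

theorem flat_baseChange_of_isBaseChange (h : M₁ →ₗ[S₁] M) (hh : IsBaseChange S h)
    [Module.Flat R M] : Module.Flat R (R ⊗[A] M₁) :=
  Module.Flat.of_linearEquiv (baseChangeEquiv h hh)

end Pack

section Stage

variable (A : Type u) {R : Type u} (S₁ S : Type u) [CommRing A] [CommRing R] [CommRing S₁] [CommRing S]
  [Algebra A R] [Algebra A S₁] [Algebra R S] [Algebra S₁ S] [Algebra A S]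
  [IsScalarTower A R S] [IsScalarTower A S₁ S]
  (R' : Type u) [CommRing R'] [Algebra A R'] [Algebra R' R] [IsScalarTower A R' R] [Algebra R' S]
  [IsScalarTower R' R S] [IsScalarTower A R' S]

/-- the map `R' ⊗ S₁ → S` -/
noncomputable def stageHom : R' ⊗[A] S₁ →ₐ[R'] S :=
  Algebra.TensorProduct.lift (Algebra.ofId R' S) (IsScalarTower.toAlgHom A S₁ S)
    (fun _ _ => Commute.all _ _)

/-- `S` as an algebra over the intermediate stage `R' ⊗ S₁`. -/
@[reducible] noncomputable def stageAlgebra : Algebra (R' ⊗[A] S₁) S :=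
  (stageHom A S₁ S R').toRingHom.toAlgebra

attribute [local instance] stageAlgebra Algebra.TensorProduct.rightAlgebra

theorem stageAlgebra_tmul (r : R') (y : S₁) :
    algebraMap (R' ⊗[A] S₁) S (r ⊗ₜ y) = algebraMap R' S r * algebraMap S₁ S y := by
  change stageHom A S₁ S R' (r ⊗ₜ y) = _
  simp [stageHom]

instance stage_tower_left : IsScalarTower R' (R' ⊗[A] S₁) S :=
  IsScalarTower.of_algebraMap_eq' (stageHom A S₁ S R').comp_algebraMap.symm

instance stage_tower_right : IsScalarTower S₁ (R' ⊗[A] S₁) S :=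
  IsScalarTower.of_algebraMap_eq fun y => by
    rw [Algebra.TensorProduct.right_algebraMap_apply, stageAlgebra_tmul, map_one, one_mul]

instance stage_tower_base : IsScalarTower A (R' ⊗[A] S₁) S :=
  IsScalarTower.of_algebraMap_eq fun a => by
    rw [Algebra.TensorProduct.algebraMap_apply, stageAlgebra_tmul, map_one, mul_one,
      ← IsScalarTower.algebraMap_apply]

theorem stage_isPushout [Algebra.IsPushout A R S₁ S] :
    Algebra.IsPushout R' R (R' ⊗[A] S₁) S :=
  (Algebra.IsPushout.comp_iff A R' S₁ (S' := R' ⊗[A] S₁) (T := R) (T' := S)).mp inferInstance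

section Mod

variable {M₁ : Type u} [AddCommGroup M₁] [Module S₁ M₁] [Module A M₁] [IsScalarTower A S₁ M₁]
  {M : Type u} [AddCommGroup M] [Module S M] [Module S₁ M] [IsScalarTower S₁ S M]
  [Module (R' ⊗[A] S₁) M] [IsScalarTower (R' ⊗[A] S₁) S M]

include S in
theorem stageModule_tower' : IsScalarTower S₁ (R' ⊗[A] S₁) M :=
  IsScalarTower.of_algebraMap_smul fun y m => by
    rw [← algebraMap_smul S (algebraMap S₁ (R' ⊗[A] S₁) y) m, ← IsScalarTower.algebraMap_apply,
      algebraMap_smul]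

/-- the comparison map from the intermediate stage -/
noncomputable def stageMap (h : M₁ →ₗ[S₁] M) : (R' ⊗[A] S₁) ⊗[S₁] M₁ →ₗ[R' ⊗[A] S₁] M :=
  haveI := stageModule_tower' A S₁ S R' (M := M)
  (TensorProduct.isBaseChange S₁ M₁ (R' ⊗[A] S₁)).lift h

theorem stageMap_isBaseChange (h : M₁ →ₗ[S₁] M) (hh : IsBaseChange S h) :
    IsBaseChange S (stageMap A S₁ S R' h) := by
  haveI := stageModule_tower' A S₁ S R' (M := M)
  refine IsBaseChange.of_comp (TensorProduct.isBaseChange S₁ M₁ (R' ⊗[A] S₁)) ?_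
  have : (stageMap A S₁ S R' h : (R' ⊗[A] S₁) ⊗[S₁] M₁ →ₗ[S₁] M) ∘ₗ
      (TensorProduct.mk S₁ (R' ⊗[A] S₁) M₁ 1) = h :=
    (TensorProduct.isBaseChange S₁ M₁ (R' ⊗[A] S₁)).lift_comp h
  rw [this]
  exact hh

omit [Algebra R' S] [IsScalarTower A R' S] in
theorem stage_flat [Module.Flat R' (R' ⊗[A] M₁)] :
    Module.Flat R' ((R' ⊗[A] S₁) ⊗[S₁] M₁) :=
  Module.Flat.of_linearEquiv (Algebra.IsPushout.cancelBaseChange A R' S₁ (R' ⊗[A] S₁) M₁)

end Mod

end Stage

section Main

variable {A R S₁ S : Type u} [CommRing A] [CommRing R] [CommRing S₁] [CommRing S]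
  [Algebra A R] [Algebra A S₁] [Algebra R S] [Algebra S₁ S] [Algebra A S]
  [IsScalarTower A R S] [IsScalarTower A S₁ S] [Algebra.IsPushout A R S₁ S]
  [Algebra.FiniteType ℤ A] [Algebra.FiniteType A S₁]
  {M₁ : Type u} [AddCommGroup M₁] [Module S₁ M₁] [Module.Finite S₁ M₁]
  {M : Type u} [AddCommGroup M] [Module S M] [Module R M] [IsScalarTower R S M] [Module S₁ M]
  [IsScalarTower S₁ S M]

variable (A) in
include A in
attribute [local instance] stageAlgebra Algebra.TensorProduct.rightAlgebra in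
/-- The assembly step for descending a flat finitely presented module to a finite type
`ℤ`-algebra. -/
theorem exists_descent (h : M₁ →ₗ[S₁] M) (hh : IsBaseChange S h) [Module.Flat R M] :
    ∃ (R₀ : Type u) (_ : CommRing R₀) (_ : Algebra R₀ R) (S₀ : Type u) (_ : CommRing S₀)
      (_ : Algebra R₀ S₀) (_ : Algebra S₀ S) (_ : Algebra R₀ S) (_ : IsScalarTower R₀ R S)
      (_ : IsScalarTower R₀ S₀ S) (M₀ : Type u) (_ : AddCommGroup M₀) (_ : Module S₀ M₀)
      (_ : Module R₀ M₀) (_ : IsScalarTower R₀ S₀ M₀) (_ : Module S₀ M) (_ : IsScalarTower S₀ S M)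
      (f : M₀ →ₗ[S₀] M),
      Algebra.FiniteType ℤ R₀ ∧ Algebra.FiniteType R₀ S₀ ∧ Module.Finite S₀ M₀ ∧ Module.Flat R₀ M₀ ∧
        Algebra.IsPushout R₀ R S₀ S ∧ IsBaseChange S f := by
  classical
  haveI : IsNoetherianRing A := Algebra.FiniteType.isNoetherianRing ℤ A
  letI : Module A M₁ := Module.compHom M₁ (algebraMap A S₁)
  haveI : IsScalarTower A S₁ M₁ := IsScalarTower.of_algebraMap_smul fun _ _ => rfl
  haveI : Module.Flat R (R ⊗[A] M₁) := flat_baseChange_of_isBaseChange h hh
  obtain ⟨T, hT⟩ := exists_finset_forall_flat A S₁ M₁ R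
  let R' : Subalgebra A R := Algebra.adjoin A (T : Set R)
  have hR'fg : R'.FG := Subalgebra.fg_adjoin_finset T
  haveI : Module.Flat R' (R' ⊗[A] M₁) := hT R' Algebra.subset_adjoin hR'fg
  haveI : Algebra.FiniteType A R' := (Subalgebra.fg_iff_finiteType R').mp hR'fg
  haveI : IsScalarTower A R' S := IsScalarTower.of_algebraMap_eq fun a => by
    rw [IsScalarTower.algebraMap_apply A R S]
    rfl
  let S₀ := R' ⊗[A] S₁
  letI : Module S₀ M := Module.compHom M (algebraMap S₀ S)
  haveI : IsScalarTower S₀ S M := IsScalarTower.of_algebraMap_smul fun _ _ => rfl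
  refine ⟨R', inferInstance, inferInstance, S₀, inferInstance, inferInstance, inferInstance,
    inferInstance, inferInstance, inferInstance, S₀ ⊗[S₁] M₁, inferInstance, inferInstance,
    inferInstance, inferInstance, inferInstance, inferInstance, stageMap A S₁ S R' h,
    ?_, ?_, ?_, ?_, ?_, ?_⟩
  · exact Algebra.FiniteType.trans (inferInstance : Algebra.FiniteType ℤ A) inferInstance
  · infer_instance
  · infer_instance
  · exact stage_flat A S₁ R'
  · exact stage_isPushout A S₁ S R'
  · exact stageMap_isBaseChange A S₁ S R' h hh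

end Main

end Groth.Agent.Helper21.FS
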