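import Mathlib
import Groth.Agent.Lib.Helper21.FS6

/-!
# Descent of a flat finitely presented algebra to a finite type `ℤ`-algebra
-/

set_option autoImplicit false
universe u
open TensorProduct

namespace Groth.Agent.Helper21.FS

attribute [local instance] stageAlgebra Algebra.TensorProduct.rightAlgebra in
/-- A flat finitely presented algebra `R → S` is the base change of a flat finite type algebra
`R₀ → S₀` with `R₀` of finite type over `ℤ`. -/
theorem exists_flat_model (R : Type u) [CommRing R] (S : Type u) [CommRing S] [Algebra R S]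
    [Algebra.FinitePresentation R S] [Module.Flat R S] :
    ∃ (R₀ : Type u) (_ : CommRing R₀) (_ : Algebra R₀ R) (S₀ : Type u) (_ : CommRing S₀)
      (_ : Algebra R₀ S₀) (_ : Algebra S₀ S) (_ : Algebra R₀ S) (_ : IsScalarTower R₀ R S)
      (_ : IsScalarTower R₀ S₀ S),
      Algebra.FiniteType ℤ R₀ ∧ Algebra.FiniteType R₀ S₀ ∧ Module.Flat R₀ S₀ ∧
        Algebra.IsPushout R₀ R S₀ S := by
  classical
  let P := Algebra.Presentation.ofFinitePresentation R S
  let A : Subalgebra ℤ R := Algebra.adjoin ℤ P.coeffs
  haveI : P.HasCoeffs A := ⟨fun x hx => ⟨⟨x, Algebra.subset_adjoin hx⟩, rfl⟩⟩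
  haveI : Algebra.FiniteType ℤ A := Algebra.FiniteType.adjoin_of_finite P.finite_coeffs
  haveI : IsNoetherianRing A := Algebra.FiniteType.isNoetherianRing ℤ A
  let S₁ := P.ModelOfHasCoeffs A
  letI : Algebra S₁ S := modelAlgebra P A
  haveI : IsScalarTower A S₁ S := model_isScalarTower P A
  haveI : Algebra.IsPushout A R S₁ S := model_isPushout P A
  haveI : Module.Flat R (R ⊗[A] S₁) :=
    Module.Flat.of_linearEquiv (Algebra.IsPushout.equiv A R S₁ S).toLinearEquiv
  obtain ⟨T, hT⟩ := exists_finset_forall_flat A S₁ S₁ R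
  let R' : Subalgebra A R := Algebra.adjoin A (T : Set R)
  have hR'fg : R'.FG := Subalgebra.fg_adjoin_finset T
  haveI : Module.Flat R' (R' ⊗[A] S₁) := hT R' Algebra.subset_adjoin hR'fg
  haveI : Algebra.FiniteType A R' := (Subalgebra.fg_iff_finiteType R').mp hR'fg
  haveI : IsScalarTower A R' S := IsScalarTower.of_algebraMap_eq fun a => by
    rw [IsScalarTower.algebraMap_apply A R S]
    rfl
  refine ⟨R', inferInstance, inferInstance, R' ⊗[A] S₁, inferInstance, inferInstance,
    inferInstance, inferInstance, inferInstance, inferInstance, ?_, ?_, ?_, ?_⟩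
  · exact Algebra.FiniteType.trans (inferInstance : Algebra.FiniteType ℤ A) inferInstance
  · infer_instance
  · infer_instance
  · exact stage_isPushout A S₁ S R'

end Groth.Agent.Helper21.FS
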