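import Mathlib
import Groth.Agent.Lib.Helper1.LocalCriterion
import Groth.Agent.Lib.Helper11.Swindle

/-!
# Flat + projective modulo a nilpotent ideal implies projective
-/

set_option autoImplicit false
universe u
open TensorProduct

namespace Groth.Agent.Helper21.NP

variable {R : Type u} [CommRing R] (I : Ideal R)

theorem sup_pow_smul_eq_top {M : Type*} [AddCommGroup M] [Module R M] {N : Submodule R M}
    (h : N ⊔ I • ⊤ = ⊤) (k : ℕ) : N ⊔ I ^ k • (⊤ : Submodule R M) = ⊤ := by
  induction k with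
  | zero => rw [pow_zero, Ideal.one_eq_top, Submodule.top_smul, sup_top_eq]
  | succ k ih =>
    rw [eq_top_iff]
    calc (⊤ : Submodule R M) = N ⊔ I • ⊤ := h.symm
      _ = N ⊔ I • (N ⊔ I ^ k • ⊤) := by rw [ih]
      _ = N ⊔ (I • N ⊔ I • I ^ k • ⊤) := by rw [Submodule.smul_sup]
      _ ≤ N ⊔ I ^ (k + 1) • ⊤ := by
        rw [← Submodule.mul_smul, ← pow_succ']
        exact sup_le le_sup_left (sup_le (le_sup_of_le_left Submodule.smul_le_right) le_sup_right)

theorem eq_top_of_sup_smul_eq_top (hI : IsNilpotent I) {M : Type*} [AddCommGroup M] [Module R M]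
    {N : Submodule R M} (h : N ⊔ I • ⊤ = ⊤) : N = ⊤ := by
  obtain ⟨n, hn⟩ := hI
  have h1 := sup_pow_smul_eq_top I h n
  rw [hn, Submodule.zero_eq_bot, Submodule.bot_smul, sup_bot_eq] at h1
  exact h1

theorem mk_eq_smul_one (a : R) : (Ideal.Quotient.mk I a) = a • (1 : R ⧸ I) := by
  rw [Algebra.smul_def, mul_one]
  rfl

theorem exists_one_tmul {M : Type*} [AddCommGroup M] [Module R M] (y : (R ⧸ I) ⊗[R] M) :
    ∃ m : M, (1 : R ⧸ I) ⊗ₜ[R] m = y := by
  induction y using TensorProduct.induction_on with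
  | zero => exact ⟨0, TensorProduct.tmul_zero _ _⟩
  | tmul r m =>
    obtain ⟨r', rfl⟩ := Ideal.Quotient.mk_surjective r
    exact ⟨r' • m, by rw [mk_eq_smul_one, TensorProduct.smul_tmul]⟩
  | add x y hx hy =>
    obtain ⟨a, rfl⟩ := hx
    obtain ⟨b, rfl⟩ := hy
    exact ⟨a + b, TensorProduct.tmul_add _ _ _⟩

theorem mem_smul_top_of_one_tmul_eq_zero {M : Type*} [AddCommGroup M] [Module R M] (x : M)
    (h : (1 : R ⧸ I) ⊗ₜ[R] x = 0) : x ∈ I • (⊤ : Submodule R M) := by
  have h1 := TensorProduct.quotTensorEquivQuotSMul_mk_one_tmul (M := M) I x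
  rw [h, map_zero] at h1
  exact (Submodule.Quotient.mk_eq_zero _).mp h1.symm

theorem flat_prod (M N : Type*) [AddCommGroup M] [Module R M] [AddCommGroup N] [Module R N]
    [Module.Flat R M] [Module.Flat R N] : Module.Flat R (M × N) := by
  rw [Module.Flat.iff_rTensor_injective']
  intro J
  have h1 := Module.Flat.rTensor_preserves_injective_linearMap (M := M) J.subtype
    (Submodule.injective_subtype J)
  have h2 := Module.Flat.rTensor_preserves_injective_linearMap (M := N) J.subtype
    (Submodule.injective_subtype J)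
  have hcomm : (TensorProduct.prodRight R R R M N).toLinearMap ∘ₗ
      (LinearMap.rTensor (M × N) J.subtype) =
      (LinearMap.prodMap (LinearMap.rTensor M J.subtype) (LinearMap.rTensor N J.subtype)) ∘ₗ
        (TensorProduct.prodRight R R J M N).toLinearMap := by
    apply TensorProduct.ext'
    intro j mn
    simp
  intro x y hxy
  have h3 := congrArg (TensorProduct.prodRight R R R M N) hxy
  have h4 : ∀ t, (TensorProduct.prodRight R R R M N) (LinearMap.rTensor (M × N) J.subtype t) =
      (LinearMap.prodMap (LinearMap.rTensor M J.subtype) (LinearMap.rTensor N J.subtype))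
        (TensorProduct.prodRight R R J M N t) := fun t => LinearMap.congr_fun hcomm t
  rw [h4, h4] at h3
  have h5 : Function.Injective (LinearMap.prodMap (LinearMap.rTensor M J.subtype)
      (LinearMap.rTensor N J.subtype)) := Function.Injective.prodMap h1 h2
  exact (TensorProduct.prodRight R R J M N).injective (h5 h3)

theorem free_of_flat_of_free_quot (hI : IsNilpotent I) (M : Type u) [AddCommGroup M] [Module R M]
    [Module.Flat R M] [Module.Free (R ⧸ I) ((R ⧸ I) ⊗[R] M)] : Module.Free R M := by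
  let b := Module.Free.chooseBasis (R ⧸ I) ((R ⧸ I) ⊗[R] M)
  choose m hm using fun k => exists_one_tmul I (b k)
  let g : (Module.Free.ChooseBasisIndex (R ⧸ I) ((R ⧸ I) ⊗[R] M) →₀ R) →ₗ[R] M :=
    Finsupp.linearCombination R m
  let b' := (Finsupp.basisSingleOne (R := R)
    (ι := Module.Free.ChooseBasisIndex (R ⧸ I) ((R ⧸ I) ⊗[R] M))).baseChange (R ⧸ I)
  let gb := LinearMap.baseChange (R ⧸ I) g
  have hgb : ∀ k, gb (b' k) = b k := by
    intro k
    rw [Module.Basis.baseChange_apply, LinearMap.baseChange_tmul, Finsupp.coe_basisSingleOne,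
      Finsupp.linearCombination_single, one_smul, hm]
  have hgbeq : gb = (b'.equiv b (Equiv.refl _)).toLinearMap :=
    b'.ext (fun k => by rw [hgb]; simp)
  have hbij : Function.Bijective gb := by
    rw [hgbeq]
    exact (b'.equiv b (Equiv.refl _)).bijective
  have hcoe : ∀ t, gb t = LinearMap.lTensor (R ⧸ I) g t := fun t => by
    rw [← LinearMap.baseChange_eq_ltensor]
  have hsurj : Function.Surjective g := by
    rw [← LinearMap.range_eq_top]
    apply eq_top_of_sup_smul_eq_top I hI
    rw [eq_top_iff]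
    intro y _
    obtain ⟨t, ht⟩ := hbij.2 ((1 : R ⧸ I) ⊗ₜ[R] y)
    obtain ⟨t', rfl⟩ := exists_one_tmul I t
    have h1 : (1 : R ⧸ I) ⊗ₜ[R] (y - g t') = 0 := by
      rw [TensorProduct.tmul_sub, ← ht, LinearMap.baseChange_tmul, sub_self]
    have h2 := mem_smul_top_of_one_tmul_eq_zero I _ h1
    have h3 : y = g t' + (y - g t') := by abel
    rw [h3]
    exact Submodule.add_mem_sup (LinearMap.mem_range_self _ _) h2
  have hinj : Function.Injective g := by
    rw [← LinearMap.ker_eq_bot]
    have hK := Groth.Agent.Helper1.lTensor_injective_of_exact_of_flat (R := R)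
      (A := LinearMap.ker g) (f := (LinearMap.ker g).subtype) (g := g)
      (Submodule.injective_subtype _) (LinearMap.exact_subtype_ker_map g) hsurj (R ⧸ I)
    have hz : ∀ t : (R ⧸ I) ⊗[R] (LinearMap.ker g), t = 0 := by
      intro t
      apply hK
      rw [map_zero]
      apply hbij.1
      rw [map_zero, hcoe, ← LinearMap.comp_apply, ← LinearMap.lTensor_comp]
      have h0 : g ∘ₗ (LinearMap.ker g).subtype = 0 := LinearMap.ext fun z => z.2
      rw [h0, LinearMap.lTensor_zero, LinearMap.zero_apply]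
    have htop : (⊥ : Submodule R (LinearMap.ker g)) ⊔ I • ⊤ = ⊤ := by
      rw [eq_top_iff]
      intro z _
      rw [bot_sup_eq]
      exact mem_smul_top_of_one_tmul_eq_zero I z (hz _)
    have hbt : (⊥ : Submodule R (LinearMap.ker g)) = ⊤ :=
      eq_top_of_sup_smul_eq_top I hI (M := LinearMap.ker g) htop
    rw [eq_bot_iff]
    intro z hz'
    have h1 : (⟨z, hz'⟩ : LinearMap.ker g) ∈ (⊤ : Submodule R (LinearMap.ker g)) :=
      Submodule.mem_top
    rw [← hbt, Submodule.mem_bot] at h1
    exact (Submodule.mem_bot R).mpr (congrArg Subtype.val h1)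
  exact Module.Free.of_equiv (LinearEquiv.ofBijective g ⟨hinj, hsurj⟩)

theorem projective_of_flat_of_projective_quot (hI : IsNilpotent I) (M : Type u) [AddCommGroup M]
    [Module R M] [Module.Flat R M] (hproj : Module.Projective (R ⧸ I) ((R ⧸ I) ⊗[R] M)) :
    Module.Projective R M := by
  classical
  obtain ⟨ι, hfree⟩ := Groth.Agent.Helper11.exists_free_prod_of_projective (R := R ⧸ I)
    ((R ⧸ I) ⊗[R] M)
  have hflat : Module.Flat R (M × (ι →₀ R)) := flat_prod M (ι →₀ R)
  let e : ((R ⧸ I) ⊗[R] (M × (ι →₀ R))) ≃ₗ[R ⧸ I] (((R ⧸ I) ⊗[R] M) × (ι →₀ (R ⧸ I))) :=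
    (TensorProduct.prodRight R (R ⧸ I) (R ⧸ I) M (ι →₀ R)).trans
      (LinearEquiv.prodCongr (LinearEquiv.refl _ _)
        (TensorProduct.finsuppScalarRight R (R ⧸ I) (R ⧸ I) ι))
  have hfree' : Module.Free (R ⧸ I) ((R ⧸ I) ⊗[R] (M × (ι →₀ R))) := Module.Free.of_equiv e.symm
  have hF : Module.Free R (M × (ι →₀ R)) := free_of_flat_of_free_quot I hI (M × (ι →₀ R))
  exact Module.Projective.of_split (LinearMap.inl R M (ι →₀ R)) (LinearMap.fst R M (ι →₀ R))
    (LinearMap.ext fun x => rfl)

end Groth.Agent.Helper21.NP
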