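import Mathlib
import Groth.Prelude.Def_ega3

/-!
# Multiplication by an element of `(x₁,…,xₙ)` on the Koszul complex is null-homotopic.
-/

set_option autoImplicit false
universe u
open CategoryTheory CategoryTheory.Limits CochainComplex HomComplex

namespace Groth.Agent.Helper21.KH

variable {R : Type u} [CommRing R]

section Cone
variable (K : CochainComplex (ModuleCat.{u} R) ℤ) (f : R)

/-- Multiplication by `f` on the cone of `f • 𝟙 K` is null-homotopic. -/
theorem coneSelf : Nonempty (Homotopy (f • 𝟙 (mappingCone (f • 𝟙 K))) 0) := by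
  refine ⟨mappingCone.descHomotopy (f • 𝟙 K) _ _ 0 (mappingCone.inl (f • 𝟙 K)) ?_ ?_⟩
  · ext p q hpq
    simp
  · rw [mappingCone.δ_inl]
    ext p
    simp

/-- A null-homotopy of `a • 𝟙 K` induces one of `a • 𝟙 (cone (f • 𝟙 K))`. -/
theorem coneOf (a : R) (h : Nonempty (Homotopy (a • 𝟙 K) 0)) :
    Nonempty (Homotopy (a • 𝟙 (mappingCone (f • 𝟙 K))) 0) := by
  obtain ⟨h⟩ := h
  obtain ⟨z, hz'⟩ := Cochain.equivHomotopy _ _ h
  have hz : δ (-1) 0 z = Cochain.ofHom (a • 𝟙 K) := by
    rw [hz', Cochain.ofHom_zero, add_zero]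
  refine ⟨mappingCone.descHomotopy (f • 𝟙 K) _ _
    (-(z.comp (mappingCone.inl (f • 𝟙 K)) (by norm_num : (-1 : ℤ) + (-1) = -2)))
    (z.comp (Cochain.ofHom (mappingCone.inr (f • 𝟙 K))) (add_zero (-1))) ?_ ?_⟩
  · rw [δ_neg, δ_comp z (mappingCone.inl (f • 𝟙 K)) (by norm_num : (-1 : ℤ) + (-1) = -2) 0 0 (-1)
      (by norm_num) (by norm_num) (by norm_num), hz, mappingCone.δ_inl]
    ext p q hpq
    simp
  · rw [δ_comp_ofHom, hz]
    ext p
    simp

end Cone

theorem nonempty_homotopy_add (K : CochainComplex (ModuleCat.{u} R) ℤ) (a b : R)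
    (ha : Nonempty (Homotopy (a • 𝟙 K) 0)) (hb : Nonempty (Homotopy (b • 𝟙 K) 0)) :
    Nonempty (Homotopy ((a + b) • 𝟙 K) 0) := by
  obtain ⟨ha⟩ := ha
  obtain ⟨hb⟩ := hb
  exact ⟨(Homotopy.ofEq (add_smul a b (𝟙 K))).trans
    ((ha.add hb).trans (Homotopy.ofEq (add_zero 0)))⟩

theorem nonempty_homotopy_smul (K : CochainComplex (ModuleCat.{u} R) ℤ) (r a : R)
    (ha : Nonempty (Homotopy (a • 𝟙 K) 0)) :
    Nonempty (Homotopy ((r * a) • 𝟙 K) 0) := by
  obtain ⟨ha⟩ := ha
  exact ⟨(Homotopy.ofEq (mul_smul r a (𝟙 K))).trans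
    ((ha.smul r).trans (Homotopy.ofEq (smul_zero r)))⟩

theorem main (M : ModuleCat.{u} R) : ∀ (xs : List R) (a : R), a ∈ Ideal.span {x | x ∈ xs} →
    Nonempty (Homotopy (a • 𝟙 (CohIII.koszulCx M xs)) 0) := by
  intro xs
  induction xs with
  | nil =>
    intro a ha
    have h0 : a = 0 := by simpa using ha
    subst h0
    exact ⟨Homotopy.ofEq (zero_smul R _)⟩
  | cons f fs ih =>
    intro a ha
    show Nonempty (Homotopy (a • 𝟙 (mappingCone (f • 𝟙 (CohIII.koszulCx M fs)))) 0)
    induction ha using Submodule.span_induction with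
    | mem x hx =>
      rcases List.mem_cons.mp hx with rfl | hx'
      · exact coneSelf _ _
      · exact coneOf _ _ _ (ih x (Ideal.subset_span hx'))
    | zero => exact ⟨Homotopy.ofEq (zero_smul R _)⟩
    | add x y _ _ hx hy => exact nonempty_homotopy_add _ x y hx hy
    | smul r x _ hx => exact nonempty_homotopy_smul _ r x hx

end Groth.Agent.Helper21.KH

namespace Groth.Agent.Helper21.KH

variable {R : Type u} [CommRing R]

theorem homologyMap_smul {K L : CochainComplex (ModuleCat.{u} R) ℤ} (φ : K ⟶ L) (a : R) (i : ℤ) :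
    HomologicalComplex.homologyMap (a • φ) i = a • HomologicalComplex.homologyMap φ i := by
  have h : (HomologicalComplex.shortComplexFunctor (ModuleCat.{u} R) (ComplexShape.up ℤ) i).map
      (a • φ) = a • (HomologicalComplex.shortComplexFunctor (ModuleCat.{u} R)
        (ComplexShape.up ℤ) i).map φ := by
    ext <;> rfl
  show ShortComplex.homologyMap _ = a • ShortComplex.homologyMap _
  rw [h, ShortComplex.homologyMap_smul]
  rfl

/-- An element `a` with `a • 𝟙 K` null-homotopic acts as zero on homology. -/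
theorem smul_homology_eq_zero (K : CochainComplex (ModuleCat.{u} R) ℤ) (a : R)
    (h : Nonempty (Homotopy (a • 𝟙 K) 0)) (i : ℤ) :
    a • 𝟙 (K.homology i) = 0 := by
  obtain ⟨h⟩ := h
  have h1 := h.homologyMap_eq i
  rw [HomologicalComplex.homologyMap_zero, homologyMap_smul,
    HomologicalComplex.homologyMap_id] at h1
  exact h1

theorem isZero_homology_of_one (K : CochainComplex (ModuleCat.{u} R) ℤ)
    (h : Nonempty (Homotopy ((1 : R) • 𝟙 K) 0)) (i : ℤ) : IsZero (K.homology i) := by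
  rw [IsZero.iff_id_eq_zero]
  have := smul_homology_eq_zero K 1 h i
  rwa [one_smul] at this

theorem koszulH_isZero_of_span_eq_top (M : ModuleCat.{u} R) (xs : List R)
    (h : Ideal.span {x | x ∈ xs} = ⊤) (p : ℕ) : IsZero (CohIII.koszulH xs M p) :=
  isZero_homology_of_one _ (main M xs 1 (by rw [h]; exact Submodule.mem_top)) _

end Groth.Agent.Helper21.KH
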