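import Mathlib
import Groth.Prelude.Def_ega3
import Groth.Agent.Lib.Helper21.KoszHtpy

/-!
# Functoriality and exactness of the (iterated mapping cone) Koszul complex in the module.
-/

set_option autoImplicit false
universe u
open CategoryTheory CategoryTheory.Limits CochainComplex HomComplex

namespace Groth.Agent.Helper21.KF

variable {R : Type u} [CommRing R]

section ConeMap

variable {K₁ L₁ K₂ L₂ : CochainComplex (ModuleCat.{u} R) ℤ} (φ₁ : K₁ ⟶ L₁) (φ₂ : K₂ ⟶ L₂)

theorem map_congr {a a' : K₁ ⟶ K₂} {b b' : L₁ ⟶ L₂} (ha : a = a') (hb : b = b')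
    (comm : φ₁ ≫ b = a ≫ φ₂) (comm' : φ₁ ≫ b' = a' ≫ φ₂) :
    mappingCone.map φ₁ φ₂ a b comm = mappingCone.map φ₁ φ₂ a' b' comm' := by
  subst ha
  subst hb
  rfl

theorem map_smul (y : R) (a : K₁ ⟶ K₂) (b : L₁ ⟶ L₂) (comm : φ₁ ≫ b = a ≫ φ₂)
    (comm' : φ₁ ≫ (y • b) = (y • a) ≫ φ₂) :
    mappingCone.map φ₁ φ₂ (y • a) (y • b) comm' = y • mappingCone.map φ₁ φ₂ a b comm := by
  ext n : 1
  simp [mappingCone.ext_from_iff _ (n + 1) n rfl, mappingCone.map]

theorem map_f_fst (a : K₁ ⟶ K₂) (b : L₁ ⟶ L₂) (comm : φ₁ ≫ b = a ≫ φ₂) (p q : ℤ)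
    (hpq : p + 1 = q) :
    (mappingCone.map φ₁ φ₂ a b comm).f p ≫ (mappingCone.fst φ₂).1.v p q hpq =
      (mappingCone.fst φ₁).1.v p q hpq ≫ a.f q := by
  simp [mappingCone.ext_from_iff _ q p hpq, mappingCone.map]

theorem map_f_snd (a : K₁ ⟶ K₂) (b : L₁ ⟶ L₂) (comm : φ₁ ≫ b = a ≫ φ₂) (p : ℤ) :
    (mappingCone.map φ₁ φ₂ a b comm).f p ≫ (mappingCone.snd φ₂).v p p (add_zero p) =
      (mappingCone.snd φ₁).v p p (add_zero p) ≫ b.f p := by
  simp [mappingCone.ext_from_iff _ (p + 1) p rfl, mappingCone.map]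

end ConeMap

/-- Functoriality of the Koszul complex in the module. -/
noncomputable def kMap {M N : ModuleCat.{u} R} (g : M ⟶ N) :
    ∀ xs : List R, CohIII.koszulCx M xs ⟶ CohIII.koszulCx N xs
  | [] => (HomologicalComplex.single (ModuleCat.{u} R) (ComplexShape.up ℤ) 0).map g
  | f :: fs => mappingCone.map (f • 𝟙 (CohIII.koszulCx M fs)) (f • 𝟙 (CohIII.koszulCx N fs))
      (kMap g fs) (kMap g fs)
      (by rw [Linear.smul_comp, Linear.comp_smul, Category.id_comp, Category.comp_id])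

theorem kMap_id (M : ModuleCat.{u} R) : ∀ xs : List R, kMap (𝟙 M) xs = 𝟙 _
  | [] => by
    show (HomologicalComplex.single (ModuleCat.{u} R) (ComplexShape.up ℤ) 0).map (𝟙 M) = 𝟙 _
    exact CategoryTheory.Functor.map_id _ _
  | f :: fs => by
    show mappingCone.map _ _ (kMap (𝟙 M) fs) (kMap (𝟙 M) fs) _ = 𝟙 _
    exact (map_congr _ _ (kMap_id M fs) (kMap_id M fs) _ (by rw [Category.id_comp, Category.comp_id])).trans
      (mappingCone.map_id _)

theorem kMap_smul {M N : ModuleCat.{u} R} (y : R) (g : M ⟶ N) :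
    ∀ xs : List R, kMap (y • g) xs = y • kMap g xs
  | [] => by
    show (HomologicalComplex.single (ModuleCat.{u} R) (ComplexShape.up ℤ) 0).map (y • g) =
      y • (HomologicalComplex.single (ModuleCat.{u} R) (ComplexShape.up ℤ) 0).map g
    apply HomologicalComplex.from_single_hom_ext
    rw [HomologicalComplex.single_map_f_self, HomologicalComplex.smul_f_apply,
      HomologicalComplex.single_map_f_self]
    simp
  | f :: fs => by
    show mappingCone.map _ _ (kMap (y • g) fs) (kMap (y • g) fs) _ =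
      y • mappingCone.map _ _ (kMap g fs) (kMap g fs) _
    refine (map_congr _ _ (kMap_smul y g fs) (kMap_smul y g fs) _ ?_).trans (map_smul _ _ y _ _ _ _)
    simp only [Linear.smul_comp, Linear.comp_smul, Category.id_comp, Category.comp_id]
    exact smul_comm _ _ _

theorem kMap_smul_id (M : ModuleCat.{u} R) (y : R) (xs : List R) :
    kMap (y • 𝟙 M) xs = y • 𝟙 (CohIII.koszulCx M xs) := by
  rw [kMap_smul, kMap_id]


section Elem

theorem comp_hom_apply {A B C : ModuleCat.{u} R} {ψ₁ : A ⟶ B} {ψ₂ : B ⟶ C} {ψ₃ : A ⟶ C}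
    (h : ψ₁ ≫ ψ₂ = ψ₃) (x : A) : ψ₂.hom (ψ₁.hom x) = ψ₃.hom x :=
  congrArg (fun ψ => ψ.hom x) h

theorem iso_hom_inv_apply {A B : ModuleCat.{u} R} (e : A ≅ B) (x : A) :
    e.inv.hom (e.hom.hom x) = x :=
  comp_hom_apply e.hom_inv_id x

theorem iso_inv_hom_apply {A B : ModuleCat.{u} R} (e : A ≅ B) (x : B) :
    e.hom.hom (e.inv.hom x) = x :=
  comp_hom_apply e.inv_hom_id x

theorem degExact_of_conj {A' A A'' B' B B'' : ModuleCat.{u} R} (α : A' ⟶ A) (β : A ⟶ A'')
    (α' : B' ⟶ B) (β' : B ⟶ B'') (e' : B' ≅ A') (e : B ≅ A) (e'' : B'' ≅ A'')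
    (h1 : α' = e'.hom ≫ α ≫ e.inv) (h2 : β' = e.hom ≫ β ≫ e''.inv)
    (hinj : Function.Injective α.hom) (hsurj : Function.Surjective β.hom)
    (hex : Function.Exact α.hom β.hom) :
    Function.Injective α'.hom ∧ Function.Surjective β'.hom ∧ Function.Exact α'.hom β'.hom := by
  subst h1
  subst h2
  have a1 : ∀ x, (e'.hom ≫ α ≫ e.inv).hom x = e.inv.hom (α.hom (e'.hom.hom x)) := fun x => rfl
  have a2 : ∀ x, (e.hom ≫ β ≫ e''.inv).hom x = e''.inv.hom (β.hom (e.hom.hom x)) := fun x => rfl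
  refine ⟨?_, ?_, ?_⟩
  · intro x y hxy
    rw [a1, a1] at hxy
    have h3 := congrArg e.hom.hom hxy
    rw [iso_inv_hom_apply, iso_inv_hom_apply] at h3
    have h4 := congrArg e'.inv.hom (hinj h3)
    rwa [iso_hom_inv_apply, iso_hom_inv_apply] at h4
  · intro z
    obtain ⟨w, hw⟩ := hsurj (e''.hom.hom z)
    refine ⟨e.inv.hom w, ?_⟩
    rw [a2, iso_inv_hom_apply, hw, iso_hom_inv_apply]
  · intro y
    rw [a2]
    constructor
    · intro hy
      have h3 := congrArg e''.hom.hom hy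
      rw [iso_inv_hom_apply, map_zero] at h3
      obtain ⟨x, hx⟩ := (hex _).mp h3
      refine ⟨e'.inv.hom x, ?_⟩
      rw [a1, iso_inv_hom_apply, hx, iso_hom_inv_apply]
    · rintro ⟨x, rfl⟩
      rw [a1, iso_inv_hom_apply, hex.apply_apply_eq_zero, map_zero]

end Elem

section ConeElem

variable {F G : CochainComplex (ModuleCat.{u} R) ℤ} (φ : F ⟶ G)

theorem cone_decomp (p q : ℤ) (hpq : p + 1 = q) (z : (mappingCone φ).X p) :
    ((mappingCone.inl φ).v q p (by omega)).hom (((mappingCone.fst φ).1.v p q hpq).hom z) +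
      ((mappingCone.inr φ).f p).hom (((mappingCone.snd φ).v p p (add_zero p)).hom z) = z :=
  congrArg (fun ψ => ψ.hom z) (mappingCone.id_X φ p q hpq)

theorem cone_ext (p q : ℤ) (hpq : p + 1 = q) (z z' : (mappingCone φ).X p)
    (h1 : ((mappingCone.fst φ).1.v p q hpq).hom z = ((mappingCone.fst φ).1.v p q hpq).hom z')
    (h2 : ((mappingCone.snd φ).v p p (add_zero p)).hom z =
      ((mappingCone.snd φ).v p p (add_zero p)).hom z') : z = z' := by
  rw [← cone_decomp φ p q hpq z, ← cone_decomp φ p q hpq z', h1, h2]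

theorem cone_mk (p q : ℤ) (hpq : p + 1 = q) (x : F.X q) (y : G.X p) :
    ∃ z : (mappingCone φ).X p, ((mappingCone.fst φ).1.v p q hpq).hom z = x ∧
      ((mappingCone.snd φ).v p p (add_zero p)).hom z = y := by
  refine ⟨((mappingCone.inl φ).v q p (by omega)).hom x + ((mappingCone.inr φ).f p).hom y, ?_, ?_⟩
  · rw [map_add, comp_hom_apply (mappingCone.inl_v_fst_v φ q p hpq) x,
      comp_hom_apply (mappingCone.inr_f_fst_v φ p q hpq) y]
    simp
  · rw [map_add, comp_hom_apply (mappingCone.inl_v_snd_v φ q p (by omega)) x,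
      comp_hom_apply (mappingCone.inr_f_snd_v φ p) y]
    simp

end ConeElem


section Exactness

theorem cone_degExact {K' K K'' : CochainComplex (ModuleCat.{u} R) ℤ} (φ' : K' ⟶ K') (φ : K ⟶ K)
    (φ'' : K'' ⟶ K'') (a : K' ⟶ K) (b : K ⟶ K'') (comm₁ : φ' ≫ a = a ≫ φ)
    (comm₂ : φ ≫ b = b ≫ φ'') (i : ℤ)
    (h0 : Function.Injective (a.f i).hom ∧ Function.Surjective (b.f i).hom ∧
      Function.Exact (a.f i).hom (b.f i).hom)
    (h1 : Function.Injective (a.f (i + 1)).hom ∧ Function.Surjective (b.f (i + 1)).hom ∧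
      Function.Exact (a.f (i + 1)).hom (b.f (i + 1)).hom) :
    Function.Injective ((mappingCone.map φ' φ a a comm₁).f i).hom ∧
      Function.Surjective ((mappingCone.map φ φ'' b b comm₂).f i).hom ∧
      Function.Exact ((mappingCone.map φ' φ a a comm₁).f i).hom
        ((mappingCone.map φ φ'' b b comm₂).f i).hom := by
  have hA1 : ∀ z, ((mappingCone.fst φ).1.v i (i + 1) rfl).hom
      (((mappingCone.map φ' φ a a comm₁).f i).hom z) =
      (a.f (i + 1)).hom (((mappingCone.fst φ').1.v i (i + 1) rfl).hom z) :=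
    fun z => comp_hom_apply (map_f_fst φ' φ a a comm₁ i (i + 1) rfl) z
  have hA2 : ∀ z, ((mappingCone.snd φ).v i i (add_zero i)).hom
      (((mappingCone.map φ' φ a a comm₁).f i).hom z) =
      (a.f i).hom (((mappingCone.snd φ').v i i (add_zero i)).hom z) :=
    fun z => comp_hom_apply (map_f_snd φ' φ a a comm₁ i) z
  have hB1 : ∀ z, ((mappingCone.fst φ'').1.v i (i + 1) rfl).hom
      (((mappingCone.map φ φ'' b b comm₂).f i).hom z) =
      (b.f (i + 1)).hom (((mappingCone.fst φ).1.v i (i + 1) rfl).hom z) :=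
    fun z => comp_hom_apply (map_f_fst φ φ'' b b comm₂ i (i + 1) rfl) z
  have hB2 : ∀ z, ((mappingCone.snd φ'').v i i (add_zero i)).hom
      (((mappingCone.map φ φ'' b b comm₂).f i).hom z) =
      (b.f i).hom (((mappingCone.snd φ).v i i (add_zero i)).hom z) :=
    fun z => comp_hom_apply (map_f_snd φ φ'' b b comm₂ i) z
  refine ⟨?_, ?_, ?_⟩
  · intro z z' h
    apply cone_ext φ' i (i + 1) rfl
    · apply h1.1
      rw [← hA1, ← hA1, h]
    · apply h0.1
      rw [← hA2, ← hA2, h]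
  · intro w
    obtain ⟨x, hx⟩ := h1.2.1 (((mappingCone.fst φ'').1.v i (i + 1) rfl).hom w)
    obtain ⟨y, hy⟩ := h0.2.1 (((mappingCone.snd φ'').v i i (add_zero i)).hom w)
    obtain ⟨z, hz1, hz2⟩ := cone_mk φ i (i + 1) rfl x y
    refine ⟨z, cone_ext φ'' i (i + 1) rfl _ _ ?_ ?_⟩
    · rw [hB1, hz1, hx]
    · rw [hB2, hz2, hy]
  · intro w
    constructor
    · intro hw
      have e1 : (b.f (i + 1)).hom (((mappingCone.fst φ).1.v i (i + 1) rfl).hom w) = 0 := by
        rw [← hB1, hw, map_zero]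
      have e2 : (b.f i).hom (((mappingCone.snd φ).v i i (add_zero i)).hom w) = 0 := by
        rw [← hB2, hw, map_zero]
      obtain ⟨x, hx⟩ := (h1.2.2 _).mp e1
      obtain ⟨y, hy⟩ := (h0.2.2 _).mp e2
      obtain ⟨z, hz1, hz2⟩ := cone_mk φ' i (i + 1) rfl x y
      refine ⟨z, cone_ext φ i (i + 1) rfl _ _ ?_ ?_⟩
      · rw [hA1, hz1, hx]
      · rw [hA2, hz2, hy]
    · rintro ⟨z, rfl⟩
      apply cone_ext φ'' i (i + 1) rfl
      · rw [hB1, hA1, h1.2.2.apply_apply_eq_zero, map_zero]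
      · rw [hB2, hA2, h0.2.2.apply_apply_eq_zero, map_zero]

variable {M' M M'' : ModuleCat.{u} R} (g₁ : M' ⟶ M) (g₂ : M ⟶ M'')

theorem degExact (hinj : Function.Injective g₁.hom) (hsurj : Function.Surjective g₂.hom)
    (hex : Function.Exact g₁.hom g₂.hom) : ∀ (xs : List R) (i : ℤ),
    Function.Injective ((kMap g₁ xs).f i).hom ∧ Function.Surjective ((kMap g₂ xs).f i).hom ∧
      Function.Exact ((kMap g₁ xs).f i).hom ((kMap g₂ xs).f i).hom
  | [], i => by
    by_cases hi : i = 0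
    · subst hi
      exact degExact_of_conj g₁ g₂ _ _
        (HomologicalComplex.singleObjXSelf (ComplexShape.up ℤ) 0 M')
        (HomologicalComplex.singleObjXSelf (ComplexShape.up ℤ) 0 M)
        (HomologicalComplex.singleObjXSelf (ComplexShape.up ℤ) 0 M'')
        (HomologicalComplex.single_map_f_self _ _ g₁) (HomologicalComplex.single_map_f_self _ _ g₂)
        hinj hsurj hex
    · have z' : Subsingleton ((CohIII.koszulCx M' []).X i) :=
        ModuleCat.subsingleton_of_isZero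
          (HomologicalComplex.isZero_single_obj_X (ComplexShape.up ℤ) 0 M' i hi)
      have z : Subsingleton ((CohIII.koszulCx M []).X i) :=
        ModuleCat.subsingleton_of_isZero
          (HomologicalComplex.isZero_single_obj_X (ComplexShape.up ℤ) 0 M i hi)
      have z'' : Subsingleton ((CohIII.koszulCx M'' []).X i) :=
        ModuleCat.subsingleton_of_isZero
          (HomologicalComplex.isZero_single_obj_X (ComplexShape.up ℤ) 0 M'' i hi)
      exact ⟨Function.injective_of_subsingleton _, fun y => ⟨0, Subsingleton.elim _ _⟩,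
        fun y => ⟨fun _ => ⟨0, Subsingleton.elim _ _⟩, fun _ => Subsingleton.elim _ _⟩⟩
  | f :: fs, i =>
    cone_degExact _ _ _ (kMap g₁ fs) (kMap g₂ fs) _ _ i (degExact hinj hsurj hex fs i)
      (degExact hinj hsurj hex fs (i + 1))

theorem kMap_comp_eq_zero (hinj : Function.Injective g₁.hom) (hsurj : Function.Surjective g₂.hom)
    (hex : Function.Exact g₁.hom g₂.hom) (xs : List R) : kMap g₁ xs ≫ kMap g₂ xs = 0 := by
  ext i x
  exact (degExact g₁ g₂ hinj hsurj hex xs i).2.2.apply_apply_eq_zero x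

/-- The short complex of Koszul complexes attached to a short exact sequence of modules. -/
noncomputable def kSC (hinj : Function.Injective g₁.hom) (hsurj : Function.Surjective g₂.hom)
    (hex : Function.Exact g₁.hom g₂.hom) (xs : List R) :
    ShortComplex (CochainComplex (ModuleCat.{u} R) ℤ) :=
  ShortComplex.mk (kMap g₁ xs) (kMap g₂ xs) (kMap_comp_eq_zero g₁ g₂ hinj hsurj hex xs)

theorem kSC_shortExact (hinj : Function.Injective g₁.hom) (hsurj : Function.Surjective g₂.hom)
    (hex : Function.Exact g₁.hom g₂.hom) (xs : List R) :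
    (kSC g₁ g₂ hinj hsurj hex xs).ShortExact := by
  apply HomologicalComplex.shortExact_of_degreewise_shortExact
  intro i
  obtain ⟨h1, h2, h3⟩ := degExact g₁ g₂ hinj hsurj hex xs i
  exact ModuleCat.shortComplex_shortExact _ h3 h1 h2

end Exactness


section Vanish

theorem isZero_X_of_pos (M : ModuleCat.{u} R) : ∀ (xs : List R) (i : ℤ), 0 < i →
    IsZero ((CohIII.koszulCx M xs).X i)
  | [], i, hi => HomologicalComplex.isZero_single_obj_X (ComplexShape.up ℤ) 0 M i (by omega)
  | f :: fs, i, hi => (mappingCone.isZero_X_iff _ i).mpr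
      ⟨isZero_X_of_pos M fs (i + 1) (by omega), isZero_X_of_pos M fs i hi⟩

theorem isZero_X_of_lt (M : ModuleCat.{u} R) : ∀ (xs : List R) (i : ℤ), i < -(xs.length : ℤ) →
    IsZero ((CohIII.koszulCx M xs).X i)
  | [], i, hi => HomologicalComplex.isZero_single_obj_X (ComplexShape.up ℤ) 0 M i
      (by simp only [List.length_nil, Nat.cast_zero, neg_zero] at hi; omega)
  | f :: fs, i, hi => (mappingCone.isZero_X_iff _ i).mpr
      ⟨isZero_X_of_lt M fs (i + 1) (by rw [List.length_cons] at hi; push_cast at hi; omega),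
        isZero_X_of_lt M fs i (by rw [List.length_cons] at hi; push_cast at hi; omega)⟩

theorem isZero_homology_of_isZero_X (K : CochainComplex (ModuleCat.{u} R) ℤ) (i : ℤ)
    (h : IsZero (K.X i)) : IsZero (K.homology i) :=
  (K.exactAt_iff_isZero_homology i).mp (HomologicalComplex.ExactAt.of_isZero h)

end Vanish

section Regular

open RingTheory.Sequence

/-- For `f` regular on `M`, `K(f :: fs; M)` is quasi-isomorphic to `K(fs; M/fM)`. -/
theorem homology_cone_iso (M : Type u) [AddCommGroup M] [Module R M] (f : R)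
    (hf : IsSMulRegular M f) (fs : List R) (j : ℤ) :
    Nonempty ((CohIII.koszulCx (ModuleCat.of R M) (f :: fs)).homology j ≅
      (CohIII.koszulCx (ModuleCat.of R (QuotSMulTop f M)) fs).homology j) := by
  let g₁ : ModuleCat.of R M ⟶ ModuleCat.of R M := f • 𝟙 _
  let g₂ : ModuleCat.of R M ⟶ ModuleCat.of R (QuotSMulTop f M) :=
    ModuleCat.ofHom (Submodule.mkQ _)
  have hg₁ : ∀ x : M, g₁.hom x = f • x := fun x => rfl
  have hinj : Function.Injective g₁.hom := by
    intro x y h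
    rw [hg₁, hg₁] at h
    exact hf h
  have hsurj : Function.Surjective g₂.hom := Submodule.mkQ_surjective _
  have hex : Function.Exact g₁.hom g₂.hom := by
    intro y
    show Submodule.mkQ _ y = 0 ↔ _
    rw [Submodule.mkQ_apply, Submodule.Quotient.mk_eq_zero,
      Submodule.mem_smul_pointwise_iff_exists]
    constructor
    · rintro ⟨x, -, hx⟩
      exact ⟨x, hx⟩
    · rintro ⟨x, hx⟩
      exact ⟨x, Submodule.mem_top, hx⟩
  have key : ∀ (ψ : CohIII.koszulCx (ModuleCat.of R M) fs ⟶ CohIII.koszulCx (ModuleCat.of R M) fs)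
      (_ : ψ = kMap g₁ fs), ∃ (z : ψ ≫ kMap g₂ fs = 0),
        (ShortComplex.mk ψ (kMap g₂ fs) z).ShortExact := by
    intro ψ hψ
    subst hψ
    exact ⟨_, kSC_shortExact g₁ g₂ hinj hsurj hex fs⟩
  obtain ⟨z, hS⟩ := key (f • 𝟙 _) (kMap_smul_id (ModuleCat.of R M) f fs).symm
  have hq := mappingCone.quasiIso_descShortComplex hS
  exact ⟨isoOfQuasiIsoAt (mappingCone.descShortComplex
    (ShortComplex.mk (f • 𝟙 _) (kMap g₂ fs) z)) j⟩

theorem homology_isZero_of_weaklyRegular : ∀ (xs : List R) (M : Type u) [AddCommGroup M]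
    [Module R M], IsWeaklyRegular M xs → ∀ j : ℤ, j ≠ 0 →
    IsZero ((CohIII.koszulCx (ModuleCat.of R M) xs).homology j) := by
  intro xs
  induction xs with
  | nil =>
    intro M _ _ _ j hj
    exact isZero_homology_of_isZero_X _ j
      (HomologicalComplex.isZero_single_obj_X (ComplexShape.up ℤ) 0 _ j hj)
  | cons f fs ih =>
    intro M _ _ h j hj
    obtain ⟨h1, h2⟩ := (isWeaklyRegular_cons_iff M f fs).mp h
    obtain ⟨e⟩ := homology_cone_iso M f h1 fs j
    exact IsZero.of_iso (ih (QuotSMulTop f M) h2 j hj) e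

end Regular

end Groth.Agent.Helper21.KF
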