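import Mathlib
import Groth.Prelude.Def_ega3
import Groth.Agent.Lib.Helper21.KoszFun

/-!
# The top Koszul cohomology is `M / I M`.
-/

set_option autoImplicit false
universe u
open CategoryTheory CategoryTheory.Limits CochainComplex HomComplex Pointwise

namespace Groth.Agent.Helper21.KT

open Groth.Agent.Helper21.KF

variable {R : Type u} [CommRing R]

section ConeTop

variable {F G : CochainComplex (ModuleCat.{u} R) ℤ} (φ : F ⟶ G)

theorem inr_bijective (h1 : IsZero (F.X 1)) :
    Function.Bijective ((mappingCone.inr φ).f 0).hom := by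
  constructor
  · intro y y' h
    have h' := congrArg ((mappingCone.snd φ).v 0 0 (add_zero 0)).hom h
    exact (comp_hom_apply (mappingCone.inr_f_snd_v φ 0) y).symm.trans
      (h'.trans (comp_hom_apply (mappingCone.inr_f_snd_v φ 0) y'))
  · intro z
    refine ⟨((mappingCone.snd φ).v 0 0 (add_zero 0)).hom z, ?_⟩
    have hdec := cone_decomp φ 0 1 (by norm_num) z
    have : Subsingleton (F.X 1) := ModuleCat.subsingleton_of_isZero h1
    rw [Subsingleton.elim (((mappingCone.fst φ).1.v 0 1 (by norm_num)).hom z) 0, map_zero,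
      zero_add] at hdec
    exact hdec

theorem d_inl_add_inr (h1 : IsZero (F.X 1)) (a : F.X 0) (b : G.X (-1)) :
    ((mappingCone φ).d (-1) 0).hom
      (((mappingCone.inl φ).v 0 (-1) (by norm_num)).hom a + ((mappingCone.inr φ).f (-1)).hom b) =
      ((mappingCone.inr φ).f 0).hom ((φ.f 0).hom a + (G.d (-1) 0).hom b) := by
  have : Subsingleton (F.X 1) := ModuleCat.subsingleton_of_isZero h1
  rw [map_add, map_add,
    comp_hom_apply (mappingCone.inl_v_d φ 0 (-1) 1 (by norm_num) (by norm_num)) a,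
    comp_hom_apply (mappingCone.inr_f_d φ (-1) 0) b]
  simp only [ModuleCat.hom_sub, ModuleCat.hom_comp, LinearMap.sub_apply, LinearMap.comp_apply]
  rw [Subsingleton.elim ((F.d 0 1).hom a) 0, map_zero, sub_zero]

theorem range_d_cone (h1 : IsZero (F.X 1)) :
    LinearMap.range ((mappingCone φ).d (-1) 0).hom =
      Submodule.map ((mappingCone.inr φ).f 0).hom
        (LinearMap.range (φ.f 0).hom ⊔ LinearMap.range (G.d (-1) 0).hom) := by
  apply le_antisymm
  · rintro _ ⟨w, rfl⟩
    rw [← cone_decomp φ (-1) 0 (by norm_num) w, d_inl_add_inr φ h1]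
    exact Submodule.mem_map_of_mem (Submodule.add_mem_sup (LinearMap.mem_range_self _ _)
      (LinearMap.mem_range_self _ _))
  · rintro _ ⟨c, hc, rfl⟩
    obtain ⟨c1, ⟨a, rfl⟩, c2, ⟨b, rfl⟩, rfl⟩ := Submodule.mem_sup.mp hc
    rw [← d_inl_add_inr φ h1]
    exact LinearMap.mem_range_self _ _

end ConeTop

theorem exists_top (M : ModuleCat.{u} R) : ∀ (xs : List R),
    ∃ t : M ≃ₗ[R] (CohIII.koszulCx M xs).X 0,
      LinearMap.range ((CohIII.koszulCx M xs).d (-1) 0).hom =
        Submodule.map t.toLinearMap (Ideal.ofList xs • (⊤ : Submodule R M))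
  | [] => by
    refine ⟨(HomologicalComplex.singleObjXSelf (ComplexShape.up ℤ) 0 M).symm.toLinearEquiv, ?_⟩
    have h0 : (CohIII.koszulCx M []).d (-1) 0 = 0 :=
      HomologicalComplex.single_obj_d _ _ _ _ _
    rw [h0, Ideal.ofList_nil, Submodule.bot_smul, Submodule.map_bot]
    exact LinearMap.range_zero
  | f :: fs => by
    obtain ⟨t, ht⟩ := exists_top M fs
    have h1 : IsZero ((CohIII.koszulCx M fs).X 1) := isZero_X_of_pos M fs 1 (by norm_num)
    let e : (CohIII.koszulCx M fs).X 0 ≃ₗ[R] (CohIII.koszulCx M (f :: fs)).X 0 :=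
      LinearEquiv.ofBijective ((mappingCone.inr (f • 𝟙 (CohIII.koszulCx M fs))).f 0).hom
        (inr_bijective _ h1)
    refine ⟨t.trans e, ?_⟩
    have hφ : LinearMap.range ((f • 𝟙 (CohIII.koszulCx M fs)).f 0).hom =
        Submodule.map t.toLinearMap (f • (⊤ : Submodule R M)) := by
      apply le_antisymm
      · rintro _ ⟨x, rfl⟩
        obtain ⟨m, rfl⟩ := t.surjective x
        refine ⟨f • m, Submodule.smul_mem_pointwise_smul m f ⊤ Submodule.mem_top, ?_⟩
        have : ((f • 𝟙 (CohIII.koszulCx M fs)).f 0).hom (t m) = f • t m := rfl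
        rw [this]
        exact _root_.map_smul t f m
      · rintro _ ⟨y, hy, rfl⟩
        obtain ⟨m, -, rfl⟩ := (Submodule.mem_smul_pointwise_iff_exists _ _ _).mp hy
        refine ⟨t m, ?_⟩
        have : ((f • 𝟙 (CohIII.koszulCx M fs)).f 0).hom (t m) = f • t m := rfl
        rw [this]
        exact (_root_.map_smul t f m).symm
    have hr := range_d_cone (f • 𝟙 (CohIII.koszulCx M fs)) h1
    rw [hφ, ht, ← Submodule.map_sup, ← Ideal.ofList_cons_smul, ← Submodule.map_comp] at hr
    exact hr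

theorem homologyTopEquiv (K : CochainComplex (ModuleCat.{u} R) ℤ) (hd : K.d 0 1 = 0) :
    Nonempty (K.homology 0 ≃ₗ[R] (K.X 0 ⧸ LinearMap.range (K.d (-1) 0).hom)) :=
  ⟨((K.isoHomologyι 0 1 (by simp) hd) ≪≫
    (IsColimit.coconePointUniqueUpToIso (K.opcyclesIsCokernel (-1) 0 (by simp))
      (ModuleCat.cokernelIsColimit (K.d (-1) 0)))).toLinearEquiv⟩

theorem top_equiv (M : Type u) [AddCommGroup M] [Module R M] (xs : List R) :
    Nonempty ((CohIII.koszulCx (ModuleCat.of R M) xs).homology 0 ≃ₗ[R]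
      (M ⧸ (Ideal.ofList xs • (⊤ : Submodule R M)))) := by
  obtain ⟨t, ht⟩ := exists_top (ModuleCat.of R M) xs
  have hd : (CohIII.koszulCx (ModuleCat.of R M) xs).d 0 1 = 0 :=
    (isZero_X_of_pos _ xs 1 (by norm_num)).eq_of_tgt _ _
  obtain ⟨e1⟩ := homologyTopEquiv _ hd
  have e2 : (M ⧸ (Ideal.ofList xs • (⊤ : Submodule R M))) ≃ₗ[R]
      ((CohIII.koszulCx (ModuleCat.of R M) xs).X 0 ⧸
        LinearMap.range ((CohIII.koszulCx (ModuleCat.of R M) xs).d (-1) 0).hom) :=
    Submodule.Quotient.equiv _ _ t ht.symm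
  exact ⟨e1.trans e2.symm⟩

end Groth.Agent.Helper21.KT
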