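import Mathlib
import Groth.Agent.Lib.Helper16.Sch.FibStalk2

/-!
# Critère de platitude par fibres, part 10: the stalk map of the morphism of fibres (helper21)
-/

set_option autoImplicit false
set_option linter.style.haveILetI false

universe u

open CategoryTheory AlgebraicGeometry Groth.Agent.Helper16

namespace Groth.Agent.Helper21.CPF

/-- The stalk map of the morphism of fibres is the map induced on the quotients by the ideals
generated by the maximal ideal of the base. -/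
theorem fiber_stalk_square {X Y S : Scheme.{u}} (f : X ⟶ Y) (g : Y ⟶ S) (x : X)
    (φ : (f ≫ g).fiber (g (f x)) ⟶ g.fiber (g (f x)))
    (hφ : φ ≫ g.fiberι (g (f x)) = (f ≫ g).fiberι (g (f x)) ≫ f) :
    ∃ γ : (Y.presheaf.stalk (f x) ⧸ FibStalk.fibIdeal g (f x)) →+*
        (X.presheaf.stalk x ⧸ FibStalk.fibIdeal (f ≫ g) x),
      γ.comp (Ideal.Quotient.mk _) = (Ideal.Quotient.mk _).comp (f.stalkMap x).hom ∧
      (γ.Flat ↔ (φ.stalkMap ((f ≫ g).asFiber x)).hom.Flat) := by
  have hy : g.fiberι (g (f x)) (φ ((f ≫ g).asFiber x)) = f x := by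
    have h1 := congrArg (fun ψ : (f ≫ g).fiber (g (f x)) ⟶ Y => ψ ((f ≫ g).asFiber x)) hφ
    exact h1.trans (congrArg f ((f ≫ g).fiberι_asFiber x))
  let eY := FibStalk.quotEquivStalkFiberOfEq g (g (f x)) (φ ((f ≫ g).asFiber x)) (f x) hy
  let eX := FibStalk.fibStalkEquiv (f ≫ g) x
  have KI : ∀ r : Y.presheaf.stalk (f x),
      (φ.stalkMap ((f ≫ g).asFiber x)).hom (eY (Ideal.Quotient.mk _ r)) =
        eX (Ideal.Quotient.mk _ ((f.stalkMap x).hom r)) := by
    intro r
    rw [FibStalk.quotEquivStalkFiberOfEq_mk, FibStalk.fibStalkEquiv_mk]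
    have hspX : (f ≫ g).fiberι (g (f x)) ((f ≫ g).asFiber x) ⤳ x :=
      (Inseparable.of_eq ((f ≫ g).fiberι_asFiber x)).specializes
    have h1 := Scheme.Hom.stalkMap_comp φ (g.fiberι (g (f x))) ((f ≫ g).asFiber x)
    have h2 := Scheme.Hom.stalkMap_comp ((f ≫ g).fiberι (g (f x))) f ((f ≫ g).asFiber x)
    have h3 := Scheme.Hom.stalkMap_congr_hom _ _ hφ ((f ≫ g).asFiber x)
    rw [h1, h2] at h3
    have h4 := Scheme.Hom.stalkSpecializes_stalkMap_apply f _ _ hspX r
    have h5 : ∀ a, (φ.stalkMap ((f ≫ g).asFiber x)).hom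
        (((g.fiberι (g (f x))).stalkMap (φ ((f ≫ g).asFiber x))).hom a) =
        (((f ≫ g).fiberι (g (f x))).stalkMap ((f ≫ g).asFiber x)).hom
          ((f.stalkMap ((f ≫ g).fiberι (g (f x)) ((f ≫ g).asFiber x))).hom
            ((Y.presheaf.stalkCongr (Inseparable.of_eq (congrArg (fun ψ : (f ≫ g).fiber (g (f x)) ⟶ Y => ψ ((f ≫ g).asFiber x)) hφ))).hom.hom a)) :=
      fun a => congrArg (fun ψ => ψ.hom a) h3
    refine (h5 _).trans ?_
    simp only [FibStalk.toFibStalk, RingHom.comp_apply]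
    congr 1
    erw [← h4]
    congr 1
    simp only [TopCat.Presheaf.stalkCongr_hom]
    exact TopCat.Presheaf.stalkSpecializes_comp_apply Y.presheaf _ _ r
  let γ : (Y.presheaf.stalk (f x) ⧸ FibStalk.fibIdeal g (f x)) →+*
      (X.presheaf.stalk x ⧸ FibStalk.fibIdeal (f ≫ g) x) :=
    eX.symm.toRingHom.comp ((φ.stalkMap ((f ≫ g).asFiber x)).hom.comp eY.toRingHom)
  refine ⟨γ, ?_, ?_⟩
  · ext r
    change eX.symm ((φ.stalkMap ((f ≫ g).asFiber x)).hom (eY (Ideal.Quotient.mk _ r))) =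
      Ideal.Quotient.mk _ ((f.stalkMap x).hom r)
    exact (RingEquiv.symm_apply_eq eX).mpr (KI r)
  · have e1 : γ.Flat ↔ ((φ.stalkMap ((f ≫ g).asFiber x)).hom.comp eY.toRingHom).Flat :=
      RingHom.Flat.comp_iff_of_bijective_left eX.symm.bijective
    have e2 : ((φ.stalkMap ((f ≫ g).asFiber x)).hom.comp eY.toRingHom).Flat ↔
        (φ.stalkMap ((f ≫ g).asFiber x)).hom.Flat :=
      RingHom.Flat.comp_iff_of_bijective_right eY.bijective
    exact e1.trans e2

end Groth.Agent.Helper21.CPF
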