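import Mathlib
import Groth.Agent.Lib.Helper21.FS5

/-!
# Flat locus, part 1: localization lemmas (helper21)

* `flat_of_isLocalizedModule`: a localization (at a submonoid of the algebra) of a module which is
  flat over the base ring is flat over the base ring.
* `lTensor_injective_of_forall_exists_smul_eq_zero`, `exists_smul_eq_zero_of_flat`: kernels of
  `M ⊗ N → M ⊗ P` and localization.
* `flat_localizedModule_of_stratum'`: local criterion at a prime from data on a localization at
  an arbitrary submonoid.
* `flat_localizedModule_of_isBaseChange`: flatness at a prime is preserved under base change.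
-/

set_option autoImplicit false
set_option backward.isDefEq.respectTransparency false
set_option backward.isDefEq.respectTransparency.types false
set_option linter.style.haveILetI false
set_option linter.unusedSectionVars false

universe u

open TensorProduct Function

namespace Groth.Agent.Helper21.FL

section Loc

variable {R S : Type*} [CommRing R] [CommRing S] [Algebra R S]
  {M M' : Type*} [AddCommGroup M] [Module R M] [Module S M] [IsScalarTower R S M]
  [AddCommGroup M'] [Module R M'] [Module S M'] [IsScalarTower R S M']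

/-- A localization (at a submonoid of `S`) of an `R`-flat `S`-module is `R`-flat. -/
theorem flat_of_isLocalizedModule (T : Submonoid S) (g : M →ₗ[S] M') [IsLocalizedModule T g]
    [Module.Flat R M] : Module.Flat R M' := by
  rw [Module.Flat.iff_lTensor_injective']
  intro I
  exact Groth.Agent.Helper1.lTensor_injective_of_isLocalizedModule T g _
    (Module.Flat.lTensor_preserves_injective_linearMap _ (Submodule.injective_subtype I))

/-- If every element of the kernel of `M ⊗ N → M ⊗ P` is killed by an element of `T`, then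
`M_T ⊗ N → M_T ⊗ P` is injective. -/
theorem lTensor_injective_of_forall_exists_smul_eq_zero (T : Submonoid S) (g : M →ₗ[S] M')
    [IsLocalizedModule T g] {N P : Type*} [AddCommGroup N] [Module R N] [AddCommGroup P]
    [Module R P] (f : N →ₗ[R] P)
    (h : ∀ z : M ⊗[R] N, f.lTensor M z = 0 → ∃ t ∈ T, t • z = 0) :
    Injective (f.lTensor M') := by
  rw [injective_iff_map_eq_zero]
  intro y hy
  obtain ⟨⟨z, t⟩, rfl⟩ := IsLocalizedModule.mk'_surjective T (AlgebraTensorModule.rTensor R N g) y
  have h1 : IsLocalizedModule.map T (AlgebraTensorModule.rTensor R N g)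
      (AlgebraTensorModule.rTensor R P g) (AlgebraTensorModule.lTensor S M f) =
      AlgebraTensorModule.lTensor S M' f := IsLocalizedModule.map_lTensor S T f g
  have h2 : AlgebraTensorModule.lTensor S M' f
      (IsLocalizedModule.mk' (AlgebraTensorModule.rTensor R N g) z t) = 0 := hy
  rw [← h1, IsLocalizedModule.map_mk', IsLocalizedModule.mk'_eq_zero,
    IsLocalizedModule.eq_zero_iff T] at h2
  obtain ⟨t', ht'⟩ := h2
  have h3 : f.lTensor M ((t' : S) • z) = 0 := by
    have : AlgebraTensorModule.lTensor S M f ((t' : S) • z) = 0 := by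
      rw [map_smul]
      exact ht'
    exact this
  obtain ⟨t'', ht''T, ht''⟩ := h _ h3
  simp only [Function.uncurry]
  rw [IsLocalizedModule.mk'_eq_zero, IsLocalizedModule.eq_zero_iff T]
  refine ⟨⟨t'' * t', T.mul_mem ht''T t'.2⟩, ?_⟩
  rw [Submonoid.smul_def, mul_smul]
  exact ht''

/-- If `M_T` is `R`-flat, every element of the kernel of `M ⊗ N → M ⊗ P` (for `N → P` injective) is
killed by an element of `T`. -/
theorem exists_smul_eq_zero_of_flat (T : Submonoid S) (g : M →ₗ[S] M') [IsLocalizedModule T g]
    [Module.Flat R M'] {N P : Type*} [AddCommGroup N] [Module R N] [AddCommGroup P]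
    [Module R P] (f : N →ₗ[R] P) (hf : Injective f) (z : M ⊗[R] N) (hz : f.lTensor M z = 0) :
    ∃ t ∈ T, t • z = 0 := by
  have h1 : IsLocalizedModule.map T (AlgebraTensorModule.rTensor R N g)
      (AlgebraTensorModule.rTensor R P g) (AlgebraTensorModule.lTensor S M f) =
      AlgebraTensorModule.lTensor S M' f := IsLocalizedModule.map_lTensor S T f g
  have hinj : Injective (AlgebraTensorModule.lTensor S M' f) :=
    Module.Flat.lTensor_preserves_injective_linearMap (M := M') f hf
  have h2 : AlgebraTensorModule.rTensor R N g z = 0 := by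
    apply hinj
    rw [map_zero, ← h1, IsLocalizedModule.map_apply]
    have : AlgebraTensorModule.lTensor S M f z = 0 := hz
    rw [this, map_zero]
  obtain ⟨t, ht⟩ := (IsLocalizedModule.eq_zero_iff T (AlgebraTensorModule.rTensor R N g)).mp h2
  exact ⟨t, t.2, ht⟩

end Loc

section Stratum

variable {R S M : Type u} [CommRing R] [IsNoetherianRing R] [CommRing S] [IsNoetherianRing S]
  [Algebra R S] [AddCommGroup M] [Module R M] [Module S M] [IsScalarTower R S M]
  [Module.Finite S M]

/-- Local criterion at a prime `P` of `S`, from data on a localization at a submonoid `T` not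
meeting `P`. -/
theorem flat_localizedModule_of_stratum' (P : Ideal S) [P.IsPrime] (I : Ideal R)
    (hIP : I.map (algebraMap R S) ≤ P) (T : Submonoid S) (hT : T ≤ P.primeCompl)
    {Mt : Type u} [AddCommGroup Mt] [Module R Mt] [Module S Mt] [IsScalarTower R S Mt]
    (g : M →ₗ[S] Mt) [IsLocalizedModule T g]
    (H1 : Injective (I.subtype.rTensor Mt)) [H2 : Module.Flat (R ⧸ I) ((R ⧸ I) ⊗[R] Mt)] :
    Module.Flat R (LocalizedModule P.primeCompl M) := by
  let f₂ : M →ₗ[S] LocalizedModule P.primeCompl M := LocalizedModule.mkLinearMap P.primeCompl M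
  let g' : Mt →ₗ[S] LocalizedModule P.primeCompl M :=
    IsLocalizedModule.liftOfLE T P.primeCompl hT g f₂
  haveI : IsLocalizedModule P.primeCompl g' := inferInstance
  have H1N : Injective (I.subtype.rTensor (LocalizedModule P.primeCompl M)) := by
    rw [← LinearMap.lTensor_inj_iff_rTensor_inj]
    apply Groth.Agent.Helper1.lTensor_injective_of_isLocalizedModule P.primeCompl g'
    rw [LinearMap.lTensor_inj_iff_rTensor_inj]
    exact H1
  haveI H2N : Module.Flat (R ⧸ I) ((R ⧸ I) ⊗[R] LocalizedModule P.primeCompl M) :=
    Groth.Agent.Helper1.flat_baseChange_of_isLocalizedModule P.primeCompl g' (R ⧸ I)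
  haveI : Module.Finite (Localization.AtPrime P) (LocalizedModule P.primeCompl M) :=
    Module.Finite.of_isLocalizedModule P.primeCompl f₂
  have hIS : I.map (algebraMap R (Localization.AtPrime P)) ≤ Ideal.jacobson ⊥ := by
    rw [IsLocalRing.jacobson_eq_maximalIdeal ⊥ bot_ne_top,
      IsScalarTower.algebraMap_eq R S (Localization.AtPrime P), ← Ideal.map_map,
      ← Localization.AtPrime.map_eq_maximalIdeal]
    exact Ideal.map_mono hIP
  exact Groth.Agent.Helper1.flat_of_flat_quotient_pow (S := Localization.AtPrime P) I hIS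
    (fun n _ => Groth.Agent.Helper1.flat_quotient_pow I H1N n)

end Stratum

section Generization

variable {R S : Type*} [CommRing R] [CommRing S] [Algebra R S]
  {M : Type*} [AddCommGroup M] [Module R M] [Module S M] [IsScalarTower R S M]

/-- The flat locus is stable under generization. -/
theorem flat_localizedModule_of_le {P Q : Ideal S} [P.IsPrime] [Q.IsPrime] (hPQ : P ≤ Q)
    [Module.Flat R (LocalizedModule Q.primeCompl M)] :
    Module.Flat R (LocalizedModule P.primeCompl M) := by
  have hle : Q.primeCompl ≤ P.primeCompl := fun x hx hxP => hx (hPQ hxP)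
  let g' : LocalizedModule Q.primeCompl M →ₗ[S] LocalizedModule P.primeCompl M :=
    IsLocalizedModule.liftOfLE Q.primeCompl P.primeCompl hle
      (LocalizedModule.mkLinearMap Q.primeCompl M) (LocalizedModule.mkLinearMap P.primeCompl M)
  haveI : IsLocalizedModule P.primeCompl g' := inferInstance
  exact flat_of_isLocalizedModule P.primeCompl g'

end Generization

section BaseChange

variable {R₀ R S₀ S : Type u} [CommRing R₀] [CommRing R] [CommRing S₀] [CommRing S]
  [Algebra R₀ R] [Algebra R₀ S₀] [Algebra R S] [Algebra S₀ S] [Algebra R₀ S]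
  [IsScalarTower R₀ R S] [IsScalarTower R₀ S₀ S] [Algebra.IsPushout R₀ R S₀ S]
  {M₀ : Type u} [AddCommGroup M₀] [Module S₀ M₀] [Module R₀ M₀] [IsScalarTower R₀ S₀ M₀]
  {M : Type u} [AddCommGroup M] [Module S M] [Module R M] [IsScalarTower R S M] [Module S₀ M]
  [IsScalarTower S₀ S M]

/-- Flatness at a prime is preserved by base change. -/
theorem flat_localizedModule_of_isBaseChange (f : M₀ →ₗ[S₀] M) (hf : IsBaseChange S f)
    (P : Ideal S) [P.IsPrime]
    [Module.Flat R₀ (LocalizedModule (P.comap (algebraMap S₀ S)).primeCompl M₀)] :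
    Module.Flat R (LocalizedModule P.primeCompl M) := by
  let P₀ : Ideal S₀ := P.comap (algebraMap S₀ S)
  let N₀ := LocalizedModule P₀.primeCompl M₀
  let g₀ : M₀ →ₗ[S₀] N₀ := LocalizedModule.mkLinearMap P₀.primeCompl M₀
  haveI : Module.Flat R (S ⊗[S₀] N₀) :=
    Module.Flat.of_linearEquiv (Algebra.IsPushout.cancelBaseChange R₀ R S₀ S N₀)
  haveI h1 : IsLocalizedModule (Algebra.algebraMapSubmonoid S P₀.primeCompl) (g₀.baseChange S) :=
    Groth.Agent.Helper21.FS.isLocalizedModule_baseChange P₀.primeCompl g₀ S
  let G : M →ₗ[S] S ⊗[S₀] N₀ := (g₀.baseChange S) ∘ₗ hf.equiv.symm.toLinearMap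
  haveI h2 : IsLocalizedModule (Algebra.algebraMapSubmonoid S P₀.primeCompl) G :=
    IsLocalizedModule.of_linearEquiv_right _ (g₀.baseChange S) hf.equiv.symm
  have hle : Algebra.algebraMapSubmonoid S P₀.primeCompl ≤ P.primeCompl := by
    rintro _ ⟨y, hy, rfl⟩
    exact fun h => hy (Ideal.mem_comap.mpr h)
  let g' : S ⊗[S₀] N₀ →ₗ[S] LocalizedModule P.primeCompl M :=
    IsLocalizedModule.liftOfLE _ P.primeCompl hle G (LocalizedModule.mkLinearMap P.primeCompl M)
  haveI : IsLocalizedModule P.primeCompl g' := inferInstance
  exact flat_of_isLocalizedModule P.primeCompl g'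

end BaseChange

end Groth.Agent.Helper21.FL
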