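import Mathlib
import Groth.Agent.Lib.Helper21.FL1

/-!
# Flat locus, part 2: openness in the Noetherian case (helper21)

`R` Noetherian, `S` a finite type `R`-algebra, `M` a finite `S`-module: the set of primes `q` of `S`
with `M_q` flat over `R` is open.
-/

set_option autoImplicit false
set_option backward.isDefEq.respectTransparency false
set_option backward.isDefEq.respectTransparency.types false
set_option linter.style.haveILetI false
set_option linter.unusedSectionVars false

universe u

open TensorProduct Function

namespace Groth.Agent.Helper21.FL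

section Noeth

variable {R S M : Type u} [CommRing R] [IsNoetherianRing R] [CommRing S] [Algebra R S]
  [Algebra.FiniteType R S] [AddCommGroup M] [Module R M] [Module S M] [IsScalarTower R S M]
  [Module.Finite S M]

/-- If `M_P` is flat over `R`, the flat locus contains a nonempty open subset of `V(P)`. -/
theorem exists_forall_flat_of_le (P : Ideal S) [P.IsPrime]
    [Module.Flat R (LocalizedModule P.primeCompl M)] :
    ∃ t : S, t ∉ P ∧ ∀ (Q : Ideal S) [Q.IsPrime], P ≤ Q → t ∉ Q →
      Module.Flat R (LocalizedModule Q.primeCompl M) := by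
  classical
  haveI : IsNoetherianRing S := Algebra.FiniteType.isNoetherianRing R S
  let p : Ideal R := P.comap (algebraMap R S)
  haveI : p.IsPrime := Ideal.comap_isPrime _ _
  obtain ⟨s, hs, hflat⟩ := Groth.Agent.Helper21.FS.exists_stratum_of_prime R S M p
  -- kernel
  let φ : M ⊗[R] p →ₗ[S] M ⊗[R] R := AlgebraTensorModule.lTensor S M p.subtype
  haveI : Module.Finite S (M ⊗[R] p) :=
    Module.Finite.equiv (AlgebraTensorModule.cancelBaseChange R S S M p)
  haveI : IsNoetherian S (M ⊗[R] p) := isNoetherian_of_isNoetherianRing_of_finite S _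
  obtain ⟨G, hG⟩ := (IsNoetherian.noetherian (LinearMap.ker φ) : (LinearMap.ker φ).FG)
  have hk : ∀ k ∈ G, ∃ t ∈ P.primeCompl, t • k = 0 := by
    intro k hk
    have hkK : k ∈ LinearMap.ker φ := hG ▸ Submodule.subset_span hk
    exact exists_smul_eq_zero_of_flat P.primeCompl (LocalizedModule.mkLinearMap P.primeCompl M)
      p.subtype (Submodule.injective_subtype p) k (LinearMap.mem_ker.mp hkK)
  choose! tk htk htk0 using hk
  let g : S := ∏ k ∈ G, tk k
  have hgP : g ∈ P.primeCompl := Submonoid.prod_mem _ (fun k hk => htk k hk)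
  have hgk : ∀ k ∈ G, g • k = 0 := by
    intro k hk
    obtain ⟨c, hc⟩ := Finset.dvd_prod_of_mem tk hk
    change g = tk k * c at hc
    rw [hc, mul_comm, mul_smul, htk0 k hk, smul_zero]
  have hgK : ∀ z ∈ LinearMap.ker φ, g • z = 0 := by
    intro z hz
    rw [← hG] at hz
    induction hz using Submodule.span_induction with
    | mem x hx => exact hgk x hx
    | zero => exact smul_zero _
    | add x y _ _ hx hy => rw [smul_add, hx, hy, add_zero]
    | smul c x _ hx => rw [smul_comm, hx, smul_zero]
  have hsP : algebraMap R S s ∉ P := fun h => hs (Ideal.mem_comap.mpr h)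
  refine ⟨algebraMap R S s * g, fun h => ?_, ?_⟩
  · rcases Ideal.IsPrime.mem_or_mem inferInstance h with h | h
    · exact hsP h
    · exact hgP h
  · intro Q _ hPQ htQ
    have hsQ : algebraMap R S s ∉ Q := fun h => htQ (Ideal.mul_mem_right _ _ h)
    have hgQ : g ∉ Q := fun h => htQ (Ideal.mul_mem_left _ _ h)
    have hle : Submonoid.powers (algebraMap R S s) ≤ Q.primeCompl := by
      rw [Submonoid.powers_le]
      exact hsQ
    let gs : Groth.Agent.Helper21.FS.Ms R S M s →ₗ[S] LocalizedModule Q.primeCompl M :=
      IsLocalizedModule.liftOfLE _ Q.primeCompl hle (Groth.Agent.Helper21.FS.msMap R S M s)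
        (LocalizedModule.mkLinearMap Q.primeCompl M)
    haveI : IsLocalizedModule Q.primeCompl gs := inferInstance
    haveI := hflat
    haveI H2 : Module.Flat (R ⧸ p) ((R ⧸ p) ⊗[R] LocalizedModule Q.primeCompl M) :=
      Groth.Agent.Helper1.flat_baseChange_of_isLocalizedModule Q.primeCompl gs (R ⧸ p)
    have H1 : Injective (p.subtype.rTensor (LocalizedModule Q.primeCompl M)) := by
      rw [← LinearMap.lTensor_inj_iff_rTensor_inj]
      apply lTensor_injective_of_forall_exists_smul_eq_zero Q.primeCompl
        (LocalizedModule.mkLinearMap Q.primeCompl M)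
      intro z hz
      exact ⟨g, hgQ, hgK z (LinearMap.mem_ker.mpr hz)⟩
    have hpQ : p.map (algebraMap R S) ≤ Q := le_trans Ideal.map_comap_le hPQ
    exact flat_localizedModule_of_stratum' Q p hpQ Q.primeCompl le_rfl
      (LocalizedModule.mkLinearMap Q.primeCompl M) H1

/-- **Openness of the flat locus, Noetherian case.** -/
theorem isOpen_flatLocus_of_noetherian :
    IsOpen {q : PrimeSpectrum S | Module.Flat R (LocalizedModule q.asIdeal.primeCompl M)} := by
  haveI : IsNoetherianRing S := Algebra.FiniteType.isNoetherianRing R S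
  set U := {q : PrimeSpectrum S | Module.Flat R (LocalizedModule q.asIdeal.primeCompl M)} with hU
  have hlt : ∀ (J : Ideal S) (a : S), a ∉ J → J < J ⊔ Ideal.span {a} := by
    intro J a ha
    refine lt_of_le_of_ne le_sup_left fun h => ha ?_
    rw [h]
    exact Ideal.mem_sup_right (Ideal.subset_span rfl)
  have key : ∀ J : Ideal S, IsClosed (PrimeSpectrum.zeroLocus (J : Set S) ∩ Uᶜ) := by
    intro J
    induction J using IsNoetherian.induction with
    | hgt J ih =>
    change Ideal S at J
    by_cases hJ : Ideal.IsPrime J
    · haveI := hJ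
      by_cases hJU : (⟨J, hJ⟩ : PrimeSpectrum S) ∈ U
      · haveI : Module.Flat R (LocalizedModule J.primeCompl M) := hJU
        obtain ⟨t, htJ, ht⟩ := exists_forall_flat_of_le (R := R) (M := M) J
        have heq : PrimeSpectrum.zeroLocus (J : Set S) ∩ Uᶜ =
            PrimeSpectrum.zeroLocus ((J ⊔ Ideal.span {t} : Ideal S) : Set S) ∩ Uᶜ := by
          ext q
          constructor
          · rintro ⟨hq, hqU⟩
            refine ⟨?_, hqU⟩
            have hJq : J ≤ q.asIdeal := (PrimeSpectrum.mem_zeroLocus _ _).mp hq
            have htq : t ∈ q.asIdeal := by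
              by_contra htq
              exact hqU (ht q.asIdeal hJq htq)
            rw [PrimeSpectrum.mem_zeroLocus]
            exact sup_le hJq ((Ideal.span_singleton_le_iff_mem _).mpr htq)
          · rintro ⟨hq, hqU⟩
            exact ⟨PrimeSpectrum.zeroLocus_anti_mono_ideal le_sup_left hq, hqU⟩
        rw [heq]
        exact ih _ (hlt J t htJ)
      · have heq : PrimeSpectrum.zeroLocus (J : Set S) ∩ Uᶜ = PrimeSpectrum.zeroLocus (J : Set S) := by
          apply Set.inter_eq_left.mpr
          intro q hq hqU
          have hJq : J ≤ q.asIdeal := (PrimeSpectrum.mem_zeroLocus _ _).mp hq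
          haveI : Module.Flat R (LocalizedModule q.asIdeal.primeCompl M) := hqU
          exact hJU (flat_localizedModule_of_le (R := R) (M := M) hJq)
        rw [heq]
        exact PrimeSpectrum.isClosed_zeroLocus _
    · rw [Ideal.not_isPrime_iff] at hJ
      rcases hJ with rfl | ⟨a, ha, b, hb, hab⟩
      · have : PrimeSpectrum.zeroLocus ((⊤ : Ideal S) : Set S) = ∅ :=
          PrimeSpectrum.zeroLocus_empty_of_one_mem (Submodule.mem_top)
        rw [this, Set.empty_inter]
        exact isClosed_empty
      · have heq : PrimeSpectrum.zeroLocus (J : Set S) ∩ Uᶜ =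
            (PrimeSpectrum.zeroLocus ((J ⊔ Ideal.span {a} : Ideal S) : Set S) ∩ Uᶜ) ∪
              (PrimeSpectrum.zeroLocus ((J ⊔ Ideal.span {b} : Ideal S) : Set S) ∩ Uᶜ) := by
          ext q
          constructor
          · rintro ⟨hq, hqU⟩
            have hJq : J ≤ q.asIdeal := (PrimeSpectrum.mem_zeroLocus _ _).mp hq
            rcases q.isPrime.mem_or_mem (hJq hab) with h | h
            · left
              refine ⟨?_, hqU⟩
              rw [PrimeSpectrum.mem_zeroLocus]
              exact sup_le hJq ((Ideal.span_singleton_le_iff_mem _).mpr h)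
            · right
              refine ⟨?_, hqU⟩
              rw [PrimeSpectrum.mem_zeroLocus]
              exact sup_le hJq ((Ideal.span_singleton_le_iff_mem _).mpr h)
          · rintro (⟨hq, hqU⟩ | ⟨hq, hqU⟩)
            · exact ⟨PrimeSpectrum.zeroLocus_anti_mono_ideal le_sup_left hq, hqU⟩
            · exact ⟨PrimeSpectrum.zeroLocus_anti_mono_ideal le_sup_left hq, hqU⟩
        rw [heq]
        exact IsClosed.union (ih _ (hlt J a ha)) (ih _ (hlt J b hb))
  have h0 := key ⊥
  rw [PrimeSpectrum.zeroLocus_bot, Set.univ_inter, isClosed_compl_iff] at h0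
  exact h0

end Noeth

end Groth.Agent.Helper21.FL
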