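import Mathlib
import Groth.Agent.Lib.Helper21.FL1

/-!
# Flat locus, part 3: generation of `Tor₁` in the limit and the limit lemma (helper21)
-/

set_option autoImplicit false
set_option backward.isDefEq.respectTransparency false
set_option backward.isDefEq.respectTransparency.types false
set_option linter.style.haveILetI false
set_option linter.unusedSectionVars false

universe u

open TensorProduct Function

namespace Groth.Agent.Helper21.FL

section Gen

variable {A R : Type u} [CommRing A] [CommRing R] [Algebra A R] (p : Ideal A)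
  {N₀ : Type u} [AddCommGroup N₀] [Module A N₀]
  {Y : Type u} [AddCommGroup Y] [Module R Y] [Module A Y] [IsScalarTower A R Y]
  (ι : N₀ →ₗ[A] Y)

/-- `a ↦ a : p → pR`. -/
def inclA : p →ₗ[A] (Ideal.map (algebraMap A R) p) where
  toFun a := ⟨algebraMap A R a, Ideal.mem_map_of_mem _ a.2⟩
  map_add' a b := Subtype.ext (by simp)
  map_smul' c a := Subtype.ext (by simp [Algebra.smul_def])

@[simp] theorem coe_inclA (a : p) : ((inclA (R := R) p a : Ideal.map (algebraMap A R) p) : R) =
    algebraMap A R a := rfl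

/-- `pR` as the `A`-submodule `p • ⊤` of `R` maps to the ideal `pR`. -/
def smulTopIncl : (p • (⊤ : Submodule A R) : Submodule A R) →ₗ[A]
    (Ideal.map (algebraMap A R) p) where
  toFun x := ⟨x.1, by
    have h2 : (x : R) ∈ (Ideal.map (algebraMap A R) p).restrictScalars A := by
      rw [← Ideal.smul_top_eq_map]
      exact x.2
    exact h2⟩
  map_add' a b := rfl
  map_smul' c a := rfl

@[simp] theorem coe_smulTopIncl (x : (p • (⊤ : Submodule A R) : Submodule A R)) :
    ((smulTopIncl (R := R) p x : Ideal.map (algebraMap A R) p) : R) = x.1 := rfl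

/-- `n ⊗ a ↦ ι n ⊗ a : N₀ ⊗_A p → Y ⊗_R pR`. -/
noncomputable def theta : N₀ ⊗[A] p →ₗ[A] Y ⊗[R] (Ideal.map (algebraMap A R) p) :=
  TensorProduct.lift
    (LinearMap.mk₂ A (fun n a => ι n ⊗ₜ[R] inclA (R := R) p a)
      (fun n₁ n₂ a => by rw [map_add, add_tmul])
      (fun c n a => by rw [map_smul, smul_tmul'])
      (fun n a₁ a₂ => by rw [map_add, tmul_add])
      (fun c n a => by rw [map_smul, tmul_smul]))

@[simp] theorem theta_tmul (n : N₀) (a : p) :
    theta p ι (n ⊗ₜ a) = ι n ⊗ₜ[R] inclA (R := R) p a := rfl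

/-- `n ⊗ a ↦ ι n ⊗ a : N₀ ⊗_A A → Y ⊗_R R`. -/
noncomputable def theta' : N₀ ⊗[A] A →ₗ[A] Y ⊗[R] R :=
  TensorProduct.lift
    (LinearMap.mk₂ A (fun n a => ι n ⊗ₜ[R] algebraMap A R a)
      (fun n₁ n₂ a => by rw [map_add, add_tmul])
      (fun c n a => by rw [map_smul, smul_tmul'])
      (fun n a₁ a₂ => by rw [map_add, tmul_add])
      (fun c n a => by rw [smul_eq_mul, map_mul, ← Algebra.smul_def, tmul_smul]))

@[simp] theorem theta'_tmul (n : N₀) (a : A) :
    theta' (R := R) ι (n ⊗ₜ a) = ι n ⊗ₜ[R] algebraMap A R a := rfl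

theorem lTensor_theta (y : N₀ ⊗[A] p) :
    (Ideal.map (algebraMap A R) p).subtype.lTensor Y (theta p ι y) =
      theta' ι (p.subtype.lTensor N₀ y) := by
  induction y using TensorProduct.induction_on with
  | zero => simp
  | add x y hx hy => simp only [map_add, hx, hy]
  | tmul n a => rfl

/-- `x ⊗ n ↦ ι n ⊗ x : pR ⊗_A N₀ → Y ⊗_R pR`. -/
noncomputable def psi : (p • (⊤ : Submodule A R) : Submodule A R) ⊗[A] N₀ →ₗ[A]
    Y ⊗[R] (Ideal.map (algebraMap A R) p) :=
  TensorProduct.lift
    (LinearMap.mk₂ A (fun x n => ι n ⊗ₜ[R] smulTopIncl (R := R) p x)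
      (fun x₁ x₂ n => by rw [map_add, tmul_add])
      (fun c x n => by rw [map_smul, tmul_smul])
      (fun x n₁ n₂ => by rw [map_add, add_tmul])
      (fun c x n => by rw [map_smul, smul_tmul']))

@[simp] theorem psi_tmul (x : (p • (⊤ : Submodule A R) : Submodule A R)) (n : N₀) :
    psi p ι (x ⊗ₜ n) = ι n ⊗ₜ[R] smulTopIncl (R := R) p x := rfl

/-- `r ⊗ n ↦ ι n ⊗ r : R ⊗_A N₀ → Y ⊗_R R`. -/
noncomputable def psi' : R ⊗[A] N₀ →ₗ[A] Y ⊗[R] R :=
  TensorProduct.lift
    (LinearMap.mk₂ A (fun (r : R) n => ι n ⊗ₜ[R] r)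
      (fun x₁ x₂ n => by rw [tmul_add])
      (fun c x n => by rw [tmul_smul])
      (fun x n₁ n₂ => by rw [map_add, add_tmul])
      (fun c x n => by rw [map_smul, smul_tmul']))

@[simp] theorem psi'_tmul (r : R) (n : N₀) : psi' ι (r ⊗ₜ n) = ι n ⊗ₜ[R] r := rfl

theorem psi'_injective (hι : IsBaseChange R ι) : Injective (psi' (R := R) ι) := by
  have h : ∀ x, TensorProduct.rid R Y (psi' ι x) = hι.equiv x := by
    intro x
    induction x using TensorProduct.induction_on with
    | zero => simp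
    | add x y hx hy => simp only [map_add, hx, hy]
    | tmul r n => rw [psi'_tmul, TensorProduct.rid_tmul, hι.equiv_tmul]
  intro x y hxy
  apply hι.equiv.injective
  rw [← h, ← h, hxy]

theorem lTensor_psi (z : (p • (⊤ : Submodule A R) : Submodule A R) ⊗[A] N₀) :
    (Ideal.map (algebraMap A R) p).subtype.lTensor Y (psi p ι z) =
      psi' ι ((p • (⊤ : Submodule A R)).subtype.rTensor N₀ z) := by
  induction z using TensorProduct.induction_on with
  | zero => simp
  | add x y hx hy => simp only [map_add, hx, hy]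
  | tmul x n => rfl

theorem psi_surjective (hι : IsBaseChange R ι) : Surjective (psi (R := R) p ι) := by
  intro w
  induction w using TensorProduct.induction_on with
  | zero => exact ⟨0, map_zero _⟩
  | add x y hx hy =>
    obtain ⟨a, rfl⟩ := hx
    obtain ⟨b, rfl⟩ := hy
    exact ⟨a + b, map_add _ _ _⟩
  | tmul y i =>
    revert i
    refine hι.inductionOn y (fun y => ∀ i : Ideal.map (algebraMap A R) p,
      ∃ z, psi (R := R) p ι z = y ⊗ₜ[R] i) ?_ ?_ ?_ ?_
    · intro i
      exact ⟨0, by rw [map_zero, zero_tmul]⟩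
    · intro n i
      have hi : (i : R) ∈ (p • (⊤ : Submodule A R) : Submodule A R) := by
        rw [Ideal.smul_top_eq_map]
        exact i.2
      exact ⟨(⟨(i : R), hi⟩ : (p • (⊤ : Submodule A R) : Submodule A R)) ⊗ₜ n, rfl⟩
    · intro r y ih i
      obtain ⟨z, hz⟩ := ih (r • i)
      exact ⟨z, by rw [hz, smul_tmul]⟩
    · intro y₁ y₂ h₁ h₂ i
      obtain ⟨a, ha⟩ := h₁ i
      obtain ⟨b, hb⟩ := h₂ i
      exact ⟨a + b, by rw [map_add, ha, hb, add_tmul]⟩

theorem psi_mulQ (q : R) (y : p ⊗[A] N₀) :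
    psi (R := R) p ι ((Groth.Agent.Helper21.FS.mulQ p R q).rTensor N₀ y) =
      q • theta (R := R) p ι (TensorProduct.comm A p N₀ y) := by
  induction y using TensorProduct.induction_on with
  | zero => simp
  | add x y hx hy => simp only [map_add, smul_add, hx, hy]
  | tmul a n =>
    rw [LinearMap.rTensor_tmul, psi_tmul, TensorProduct.comm_tmul, theta_tmul, ← tmul_smul]
    congr 1
    apply Subtype.ext
    change (a : A) • q = q * algebraMap A R a
    rw [Algebra.smul_def, mul_comm]

/-- **Generation of `Tor₁` after base change.** If `N₀/pN₀` is flat over `A/p` and `Y = R ⊗ N₀`,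
the kernel of `Y ⊗_R pR → Y` is generated over `R` by the image of the kernel of `N₀ ⊗ p → N₀`. -/
theorem mem_span_theta [Module.Flat (A ⧸ p) ((A ⧸ p) ⊗[A] N₀)] (hι : IsBaseChange R ι)
    (w : Y ⊗[R] (Ideal.map (algebraMap A R) p))
    (hw : (Ideal.map (algebraMap A R) p).subtype.lTensor Y w = 0) :
    w ∈ Submodule.span R ((theta (R := R) p ι) '' {y | p.subtype.lTensor N₀ y = 0}) := by
  obtain ⟨z, rfl⟩ := psi_surjective p ι hι w
  have hz : (p • (⊤ : Submodule A R)).subtype.rTensor N₀ z = 0 := by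
    apply psi'_injective ι hι
    rw [map_zero, ← lTensor_psi, hw]
  have hz' := Groth.Agent.Helper21.FS.mem_span_genSet p R z hz
  clear hz hw
  induction hz' using Submodule.span_induction with
  | mem x hx =>
    obtain ⟨q, y, hy, rfl⟩ := hx
    rw [psi_mulQ]
    refine Submodule.smul_mem _ q (Submodule.subset_span ⟨_, ?_, rfl⟩)
    change p.subtype.lTensor N₀ (TensorProduct.comm A p N₀ y) = 0
    have h1 := LinearMap.congr_fun (LinearMap.lTensor_comp_comm (R := A) (N := N₀) p.subtype) y
    rw [LinearMap.comp_apply, LinearMap.comp_apply] at h1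
    change p.subtype.lTensor N₀ (TensorProduct.comm A p N₀ y) = _ at h1
    rw [h1, hy, map_zero]
  | zero =>
    rw [map_zero]
    exact Submodule.zero_mem _
  | add x y _ _ hx hy =>
    rw [map_add]
    exact Submodule.add_mem _ hx hy
  | smul c x _ hx =>
    rw [map_smul, ← algebraMap_smul R c]
    exact Submodule.smul_mem _ _ hx

end Gen

end Groth.Agent.Helper21.FL
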