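import Mathlib
import Groth.Agent.Lib.Helper21.FL3

/-!
# Flat locus, part 4: the limit lemma (helper21)

If `M_Q` is flat over `R` then, in a stratum, there is `g ∉ Q` such that `pR ⊗ M_T → M_T` is
injective for every submonoid `T` containing `s` and `g`.
-/

set_option autoImplicit false
set_option backward.isDefEq.respectTransparency false
set_option backward.isDefEq.respectTransparency.types false
set_option linter.style.haveILetI false
set_option linter.unusedSectionVars false

universe u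

open TensorProduct Function

namespace Groth.Agent.Helper21.FL

section LL

variable {A R S₁ S : Type u} [CommRing A] [CommRing R] [CommRing S₁] [CommRing S]
  [Algebra A R] [Algebra A S₁] [Algebra R S] [Algebra S₁ S] [Algebra A S]
  [IsScalarTower A R S] [IsScalarTower A S₁ S] [Algebra.IsPushout A R S₁ S]
  {M₁ : Type u} [AddCommGroup M₁] [Module S₁ M₁] [Module A M₁] [IsScalarTower A S₁ M₁]
  {M : Type u} [AddCommGroup M] [Module S M] [Module R M] [IsScalarTower R S M] [Module S₁ M]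
  [IsScalarTower S₁ S M]

variable (A S₁ S M₁) in
/-- `n ↦ 1 ⊗ n : (M₁)_s → S ⊗ (M₁)_s` -/
noncomputable def iota0 (s : A) : FS.Ms A S₁ M₁ s →ₗ[A] S ⊗[S₁] FS.Ms A S₁ M₁ s :=
  (TensorProduct.mk S₁ S (FS.Ms A S₁ M₁ s) 1).restrictScalars A

theorem iota0_apply (s : A) (n : FS.Ms A S₁ M₁ s) :
    iota0 A S₁ S M₁ s n = (1 : S) ⊗ₜ[S₁] n := rfl

theorem iota0_isBaseChange (s : A) : IsBaseChange R (iota0 A S₁ S M₁ s) :=
  IsBaseChange.of_equiv (Algebra.IsPushout.cancelBaseChange A R S₁ S (FS.Ms A S₁ M₁ s)).symm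
    (fun n => by
      rw [Algebra.IsPushout.cancelBaseChange_symm_tmul, map_one]
      rfl)

/-- `M → S ⊗ (M₁)_s`, a localization at `s`. -/
noncomputable def locMap (h : M₁ →ₗ[S₁] M) (hh : IsBaseChange S h) (s : A) :
    M →ₗ[S] S ⊗[S₁] FS.Ms A S₁ M₁ s :=
  ((FS.msMap A S₁ M₁ s).baseChange S) ∘ₗ hh.equiv.symm.toLinearMap

theorem locMap_isLocalizedModule (h : M₁ →ₗ[S₁] M) (hh : IsBaseChange S h) (s : A) :
    IsLocalizedModule (Submonoid.powers (algebraMap A S s)) (locMap h hh s) := by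
  have h1 := FS.isLocalizedModule_baseChange (Submonoid.powers (algebraMap A S₁ s))
    (FS.msMap A S₁ M₁ s) S
  rw [Algebra.algebraMapSubmonoid_powers, ← IsScalarTower.algebraMap_apply] at h1
  haveI := h1
  exact IsLocalizedModule.of_linearEquiv_right _ _ hh.equiv.symm

theorem theta_smul (p : Ideal A) (s : A) (σ : S₁) (x : FS.Ms A S₁ M₁ s ⊗[A] p) :
    theta (R := R) p (iota0 A S₁ S M₁ s) (σ • x) =
      algebraMap S₁ S σ • theta (R := R) p (iota0 A S₁ S M₁ s) x := by
  induction x using TensorProduct.induction_on with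
  | zero => simp
  | add x y hx hy => simp only [smul_add, map_add, hx, hy]
  | tmul n a =>
    rw [smul_tmul', theta_tmul, theta_tmul, smul_tmul']
    congr 1
    rw [iota0_apply, iota0_apply, ← TensorProduct.smul_tmul, smul_tmul', Algebra.smul_def,
      smul_eq_mul]

variable [IsNoetherianRing A] [Algebra.FiniteType A S₁] [Module.Finite S₁ M₁]

variable (A S₁) in
/-- the localized base ring -/
abbrev EE (s : A) : Type u := Localization (Submonoid.powers (algebraMap A S₁ s))

/-- **The limit lemma.** -/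
theorem exists_forall_rTensor_injective (h : M₁ →ₗ[S₁] M) (hh : IsBaseChange S h)
    (p : Ideal A) (s : A) [Module.Flat (A ⧸ p) ((A ⧸ p) ⊗[A] FS.Ms A S₁ M₁ s)]
    (Q : Ideal S) [Q.IsPrime] (hsQ : algebraMap A S s ∉ Q)
    [Module.Flat R (LocalizedModule Q.primeCompl M)] :
    ∃ g : S, g ∉ Q ∧ ∀ (T : Submonoid S), algebraMap A S s ∈ T → g ∈ T →
      Injective ((p.map (algebraMap A R)).subtype.rTensor (LocalizedModule T M)) := by
  classical
  haveI : IsNoetherianRing S₁ := Algebra.FiniteType.isNoetherianRing A S₁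
  haveI hloc := locMap_isLocalizedModule (A := A) h hh s
  haveI : IsNoetherianRing (EE A S₁ s) :=
    IsLocalization.isNoetherianRing (Submonoid.powers (algebraMap A S₁ s)) _ inferInstance
  haveI : Module.Finite (EE A S₁ s) (FS.Ms A S₁ M₁ s) :=
    Module.Finite.of_isLocalizedModule (Submonoid.powers (algebraMap A S₁ s))
      (FS.msMap A S₁ M₁ s)
  haveI : Module.Finite (EE A S₁ s) (FS.Ms A S₁ M₁ s ⊗[A] p) :=
    Module.Finite.equiv (AlgebraTensorModule.cancelBaseChange A (EE A S₁ s) (EE A S₁ s) (FS.Ms A S₁ M₁ s) p)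
  haveI : IsNoetherian (EE A S₁ s) (FS.Ms A S₁ M₁ s ⊗[A] p) :=
    isNoetherian_of_isNoetherianRing_of_finite (EE A S₁ s) _
  obtain ⟨G, hG⟩ := (IsNoetherian.noetherian
    (LinearMap.ker (AlgebraTensorModule.lTensor (EE A S₁ s) (FS.Ms A S₁ M₁ s) p.subtype)) :
      Submodule.FG _)
  have hθK : ∀ y : FS.Ms A S₁ M₁ s ⊗[A] p, p.subtype.lTensor (FS.Ms A S₁ M₁ s) y = 0 →
      (Ideal.map (algebraMap A R) p).subtype.lTensor (S ⊗[S₁] FS.Ms A S₁ M₁ s)
        (theta (R := R) p (iota0 A S₁ S M₁ s) y) = 0 := by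
    intro y hy
    rw [lTensor_theta, hy, map_zero]
  have hleQ : Submonoid.powers (algebraMap A S s) ≤ Q.primeCompl :=
    (Submonoid.powers_le).mpr hsQ
  let gQ : S ⊗[S₁] FS.Ms A S₁ M₁ s →ₗ[S] LocalizedModule Q.primeCompl M :=
    IsLocalizedModule.liftOfLE _ Q.primeCompl hleQ (locMap h hh s)
      (LocalizedModule.mkLinearMap Q.primeCompl M)
  haveI : IsLocalizedModule Q.primeCompl gQ := inferInstance
  have hk : ∀ k ∈ G, ∃ t ∈ Q.primeCompl,
      t • theta (R := R) p (iota0 A S₁ S M₁ s) k = 0 := by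
    intro k hk
    have hkK : k ∈ LinearMap.ker
        (AlgebraTensorModule.lTensor (EE A S₁ s) (FS.Ms A S₁ M₁ s) p.subtype) :=
      hG ▸ Submodule.subset_span hk
    exact exists_smul_eq_zero_of_flat Q.primeCompl gQ (Ideal.map (algebraMap A R) p).subtype
      (Submodule.injective_subtype _) _ (hθK k (LinearMap.mem_ker.mp hkK))
  choose! tk htk htk0 using hk
  let g : S := ∏ k ∈ G, tk k
  have hgQ : g ∈ Q.primeCompl := Submonoid.prod_mem _ (fun k hk => htk k hk)
  have hgk : ∀ k ∈ G, g • theta (R := R) p (iota0 A S₁ S M₁ s) k = 0 := by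
    intro k hk
    obtain ⟨c, hc⟩ := Finset.dvd_prod_of_mem tk hk
    change g = tk k * c at hc
    rw [hc, mul_comm, mul_smul, htk0 k hk, smul_zero]
  -- the torsion submodule
  let W : Submodule S ((S ⊗[S₁] FS.Ms A S₁ M₁ s) ⊗[R] (Ideal.map (algebraMap A R) p)) :=
    { carrier := {w | ∃ n : ℕ, (g * algebraMap A S s ^ n) • w = 0}
      zero_mem' := ⟨0, smul_zero _⟩
      add_mem' := by
        rintro a b ⟨n₁, h₁⟩ ⟨n₂, h₂⟩
        refine ⟨n₁ + n₂, ?_⟩
        have e1 : g * algebraMap A S s ^ (n₁ + n₂) =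
            algebraMap A S s ^ n₂ * (g * algebraMap A S s ^ n₁) := by ring
        have e2 : g * algebraMap A S s ^ (n₁ + n₂) =
            algebraMap A S s ^ n₁ * (g * algebraMap A S s ^ n₂) := by ring
        have ha : (g * algebraMap A S s ^ (n₁ + n₂)) • a = 0 := by
          rw [e1, mul_smul, h₁, smul_zero]
        have hb : (g * algebraMap A S s ^ (n₁ + n₂)) • b = 0 := by
          rw [e2, mul_smul, h₂, smul_zero]
        rw [smul_add, ha, hb, add_zero]
      smul_mem' := by
        rintro c w ⟨n, hn⟩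
        exact ⟨n, by rw [smul_comm, hn, smul_zero]⟩ }
  have hW1 : ∀ y ∈ LinearMap.ker (AlgebraTensorModule.lTensor (EE A S₁ s) (FS.Ms A S₁ M₁ s) p.subtype),
      theta (R := R) p (iota0 A S₁ S M₁ s) y ∈ W := by
    intro y hy
    rw [← hG] at hy
    induction hy using Submodule.span_induction with
    | mem k hk =>
      refine ⟨0, ?_⟩
      rw [pow_zero, mul_one]
      exact hgk k hk
    | zero =>
      rw [map_zero]
      exact W.zero_mem
    | add x y _ _ hx hy =>
      rw [map_add]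
      exact W.add_mem hx hy
    | smul ε x _ hx =>
      obtain ⟨⟨σ, t⟩, hσ⟩ := IsLocalization.surj (Submonoid.powers (algebraMap A S₁ s)) ε
      obtain ⟨m, hm⟩ := (Submonoid.mem_powers_iff _ _).mp t.2
      obtain ⟨n, hn⟩ := hx
      refine ⟨n + m, ?_⟩
      have e1 : (t : S₁) • (ε • x) = σ • x := by
        rw [← algebraMap_smul (EE A S₁ s) (t : S₁) (ε • x), ← mul_smul, mul_comm, hσ, algebraMap_smul]
      have ht : algebraMap S₁ S (t : S₁) = algebraMap A S s ^ m := by
        rw [← hm, map_pow, ← IsScalarTower.algebraMap_apply]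
      have e2 : algebraMap A S s ^ m • theta (R := R) p (iota0 A S₁ S M₁ s) (ε • x) =
          algebraMap S₁ S σ • theta (R := R) p (iota0 A S₁ S M₁ s) x := by
        rw [← ht, ← theta_smul, e1, theta_smul]
      have e3 : g * algebraMap A S s ^ (n + m) =
          (g * algebraMap A S s ^ n) * algebraMap A S s ^ m := by ring
      rw [e3, mul_smul, e2, smul_comm, hn, smul_zero]
  have hW2 : ∀ w : (S ⊗[S₁] FS.Ms A S₁ M₁ s) ⊗[R] (Ideal.map (algebraMap A R) p),
      (Ideal.map (algebraMap A R) p).subtype.lTensor (S ⊗[S₁] FS.Ms A S₁ M₁ s) w = 0 →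
        w ∈ W := by
    intro w hw
    have h1 := mem_span_theta p (iota0 A S₁ S M₁ s) (iota0_isBaseChange s) w hw
    have h2 : Submodule.span R ((theta (R := R) p (iota0 A S₁ S M₁ s)) ''
        {y | p.subtype.lTensor (FS.Ms A S₁ M₁ s) y = 0}) ≤ W.restrictScalars R := by
      rw [Submodule.span_le]
      rintro _ ⟨y, hy, rfl⟩
      exact hW1 y (LinearMap.mem_ker.mpr hy)
    exact h2 h1
  refine ⟨g, hgQ, fun T hsT hgT => ?_⟩
  have hleT : Submonoid.powers (algebraMap A S s) ≤ T := (Submonoid.powers_le).mpr hsT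
  let gT : S ⊗[S₁] FS.Ms A S₁ M₁ s →ₗ[S] LocalizedModule T M :=
    IsLocalizedModule.liftOfLE _ T hleT (locMap h hh s) (LocalizedModule.mkLinearMap T M)
  haveI : IsLocalizedModule T gT := inferInstance
  rw [← LinearMap.lTensor_inj_iff_rTensor_inj]
  apply lTensor_injective_of_forall_exists_smul_eq_zero T gT
  intro z hz
  obtain ⟨n, hn⟩ := hW2 z hz
  exact ⟨g * algebraMap A S s ^ n, T.mul_mem hgT (T.pow_mem hsT n), hn⟩

end LL

end Groth.Agent.Helper21.FL
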