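import Mathlib
import Groth.Agent.Lib.Helper21.FL1

/-!
# Flat locus, part 5: finite-stage flatness at a prime, for data defined over the base (helper21)
-/

set_option autoImplicit false
set_option backward.isDefEq.respectTransparency false
set_option backward.isDefEq.respectTransparency.types false
set_option linter.style.haveILetI false
set_option linter.unusedSectionVars false

universe u

open TensorProduct Function

namespace Groth.Agent.Helper21.FL

section Transport

variable (A : Type u) [CommRing A] (R : Type u) [CommRing R] [Algebra A R]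
  (N : Type u) [AddCommGroup N] [Module A N]

/-- converse of `FS.injective_map_of_injective` -/
theorem injective_of_injective_map (p : Ideal A)
    (h : Injective ((p.map (algebraMap A R)).subtype.rTensor (R ⊗[A] N))) :
    Injective ((p • (⊤ : Submodule A R)).subtype.rTensor N) := by
  rw [Groth.Agent.Helper1.rTensor_baseChange_injective_iff] at h
  have h2 : Injective (((p.map (algebraMap A R)).restrictScalars A).subtype.rTensor N) := h
  exact FS.rTensor_injective_of_eq (Ideal.smul_top_eq_map p) N h2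

end Transport

section Abs

variable {A R' S₁ S' : Type u} [CommRing A] [CommRing R'] [CommRing S₁] [CommRing S']
  [Algebra A R'] [Algebra A S₁] [Algebra R' S'] [Algebra S₁ S'] [Algebra A S']
  [IsScalarTower A R' S'] [IsScalarTower A S₁ S'] [Algebra.IsPushout A R' S₁ S']
  [IsNoetherianRing R'] [IsNoetherianRing S']
  {M₁ : Type u} [AddCommGroup M₁] [Module S₁ M₁] [Module A M₁] [IsScalarTower A S₁ M₁]
  [Module.Finite S₁ M₁]

/-- Flatness at a prime of a Noetherian stage, from injectivity of `pR' ⊗ (M₁)_T → R' ⊗ (M₁)_T`. -/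
theorem flat_at_of_injective (p : Ideal A) (T₁ : Submonoid S₁)
    [Module.Flat (A ⧸ p) ((A ⧸ p) ⊗[A] LocalizedModule T₁ M₁)]
    (hinj : Injective ((p • (⊤ : Submodule A R')).subtype.rTensor (LocalizedModule T₁ M₁)))
    (Q' : Ideal S') [Q'.IsPrime] (hpQ' : p.map (algebraMap A S') ≤ Q')
    (hTQ' : Algebra.algebraMapSubmonoid S' T₁ ≤ Q'.primeCompl) :
    Module.Flat R' (LocalizedModule Q'.primeCompl (S' ⊗[S₁] M₁)) := by
  have hg : IsLocalizedModule (Algebra.algebraMapSubmonoid S' T₁)
      ((LocalizedModule.mkLinearMap T₁ M₁).baseChange S') :=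
    FS.isLocalizedModule_baseChange T₁ (LocalizedModule.mkLinearMap T₁ M₁) S'
  let et : S' ⊗[S₁] LocalizedModule T₁ M₁ ≃ₗ[R'] R' ⊗[A] LocalizedModule T₁ M₁ :=
    Algebra.IsPushout.cancelBaseChange A R' S₁ S' (LocalizedModule T₁ M₁)
  have hIP : (Ideal.map (algebraMap A R') p).map (algebraMap R' S') ≤ Q' := by
    rw [Ideal.map_map, ← IsScalarTower.algebraMap_eq A R' S']
    exact hpQ'
  have H1 : Injective ((Ideal.map (algebraMap A R') p).subtype.rTensor
      (S' ⊗[S₁] LocalizedModule T₁ M₁)) := by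
    apply FS.rTensor_injective_of_linearEquiv _ et
    exact FS.injective_map_of_injective A R' _ p hinj
  haveI H2 : Module.Flat (R' ⧸ Ideal.map (algebraMap A R') p)
      ((R' ⧸ Ideal.map (algebraMap A R') p) ⊗[R'] (S' ⊗[S₁] LocalizedModule T₁ M₁)) := by
    let Q := R' ⧸ Ideal.map (algebraMap A R') p
    let e1 : Q ⊗[R'] (S' ⊗[S₁] LocalizedModule T₁ M₁) ≃ₗ[Q]
        Q ⊗[R'] (R' ⊗[A] LocalizedModule T₁ M₁) :=
      AlgebraTensorModule.congr (LinearEquiv.refl Q Q) et
    let e2 : Q ⊗[R'] (R' ⊗[A] LocalizedModule T₁ M₁) ≃ₗ[Q] Q ⊗[A] LocalizedModule T₁ M₁ :=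
      AlgebraTensorModule.cancelBaseChange A R' Q Q (LocalizedModule T₁ M₁)
    let e3 : Q ⊗[A ⧸ p] ((A ⧸ p) ⊗[A] LocalizedModule T₁ M₁) ≃ₗ[Q]
        Q ⊗[A] LocalizedModule T₁ M₁ :=
      AlgebraTensorModule.cancelBaseChange A (A ⧸ p) Q Q (LocalizedModule T₁ M₁)
    exact Module.Flat.of_linearEquiv (e1 ≪≫ₗ e2 ≪≫ₗ e3.symm)
  exact flat_localizedModule_of_stratum' (R := R') (S := S') (M := S' ⊗[S₁] M₁) Q'
    (Ideal.map (algebraMap A R') p) hIP (Algebra.algebraMapSubmonoid S' T₁) hTQ'
    ((LocalizedModule.mkLinearMap T₁ M₁).baseChange S') H1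

end Abs

section Key

variable (A : Type u) [CommRing A] [IsNoetherianRing A] (S₁ : Type u) [CommRing S₁] [Algebra A S₁]
  [Algebra.FiniteType A S₁]
  (M₁ : Type u) [AddCommGroup M₁] [Module S₁ M₁] [Module A M₁] [IsScalarTower A S₁ M₁]
  [Module.Finite S₁ M₁]

attribute [local instance] Algebra.TensorProduct.rightAlgebra in
include S₁ in
/-- **Finite-stage flatness at primes**, for a localization `(M₁)_T` defined over the base. -/
theorem exists_finset_forall_flat_at (R : Type u) [CommRing R] [Algebra A R]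
    (p : Ideal A) (T₁ : Submonoid S₁)
    [Module.Flat (A ⧸ p) ((A ⧸ p) ⊗[A] LocalizedModule T₁ M₁)]
    (hR : Injective ((p • (⊤ : Submodule A R)).subtype.rTensor (LocalizedModule T₁ M₁))) :
    ∃ F : Finset R, ∀ R' : Subalgebra A R, (F : Set R) ⊆ R' → R'.FG →
      ∀ (Q' : Ideal (R' ⊗[A] S₁)) [Q'.IsPrime], p.map (algebraMap A (R' ⊗[A] S₁)) ≤ Q' →
        Algebra.algebraMapSubmonoid (R' ⊗[A] S₁) T₁ ≤ Q'.primeCompl →
        Module.Flat R' (LocalizedModule Q'.primeCompl ((R' ⊗[A] S₁) ⊗[S₁] M₁)) := by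
  classical
  haveI : IsNoetherianRing S₁ := Algebra.FiniteType.isNoetherianRing A S₁
  haveI : IsNoetherianRing (Localization T₁) :=
    IsLocalization.isNoetherianRing T₁ _ inferInstance
  haveI : Module.Finite (Localization T₁) (LocalizedModule T₁ M₁) :=
    Module.Finite.of_isLocalizedModule T₁ (LocalizedModule.mkLinearMap T₁ M₁)
  obtain ⟨Trel, hT, hfg⟩ := FS.exists_finset_relations p (Localization T₁)
    (LocalizedModule T₁ M₁) (IsNoetherian.noetherian p)
  obtain ⟨F, hF⟩ := FS.exists_finset_forall_subalgebra_injective p R hR Trel hT hfg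
  refine ⟨F, fun R' hFR' hfgR' Q' _ hpQ' hTQ' => ?_⟩
  haveI : Algebra.FiniteType A R' := (Subalgebra.fg_iff_finiteType R').mp hfgR'
  haveI : IsNoetherianRing R' := Algebra.FiniteType.isNoetherianRing A R'
  haveI : IsNoetherianRing (R' ⊗[A] S₁) := Algebra.FiniteType.isNoetherianRing R' (R' ⊗[A] S₁)
  exact flat_at_of_injective p T₁ (hF R' hFR') Q' hpQ' hTQ'

end Key

end Groth.Agent.Helper21.FL
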