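import Mathlib
import Groth.Agent.Lib.Helper21.FS6
import Groth.Agent.Lib.Helper21.FL2
import Groth.Agent.Lib.Helper21.FL4
import Groth.Agent.Lib.Helper21.FL5

/-!
# Flat locus, part 6: finite-stage flatness at a prime and openness of the flat locus (helper21)
-/

set_option autoImplicit false
set_option linter.style.haveILetI false
set_option linter.unusedSectionVars false

universe u

open TensorProduct Function

namespace Groth.Agent.Helper21.FL

/-- a subalgebra of `R` acts on `R`-algebras compatibly with the base -/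
instance (priority := low) isScalarTower_subalgebra {A R S : Type*} [CommRing A] [CommRing R]
    [CommRing S] [Algebra A R] [Algebra R S] [Algebra A S] [IsScalarTower A R S]
    (R₁ : Subalgebra A R) : IsScalarTower A R₁ S :=
  IsScalarTower.of_algebraMap_eq fun a => by
    rw [IsScalarTower.algebraMap_apply A R S]
    rfl

section Rep

variable {A R S₁ S : Type u} [CommRing A] [CommRing R] [CommRing S₁] [CommRing S]
  [Algebra A R] [Algebra A S₁] [Algebra R S] [Algebra S₁ S] [Algebra A S]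
  [IsScalarTower A R S] [IsScalarTower A S₁ S] [Algebra.IsPushout A R S₁ S]

attribute [local instance] FS.stageAlgebra Algebra.TensorProduct.rightAlgebra in
/-- Every element of `S = R ⊗ S₁` comes from a finite stage. -/
theorem exists_stage_rep (g : S) : ∃ R₁ : Subalgebra A R, R₁.FG ∧
    ∃ g₁ : R₁ ⊗[A] S₁, algebraMap (R₁ ⊗[A] S₁) S g₁ = g := by
  classical
  obtain ⟨J, hJ, y, hy⟩ := Submodule.exists_fg_le_eq_rTensor_subtype
    ((Algebra.IsPushout.equiv A R S₁ S).symm g)
  obtain ⟨GJ, hGJ⟩ := hJ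
  let R₁ : Subalgebra A R := Algebra.adjoin A (GJ : Set R)
  have hJR₁ : ∀ x ∈ J, x ∈ R₁ := by
    intro x hx
    rw [← hGJ] at hx
    have hle : Submodule.span A (GJ : Set R) ≤ Subalgebra.toSubmodule R₁ :=
      Submodule.span_le.mpr Algebra.subset_adjoin
    exact hle hx
  let incl : J →ₗ[A] R₁ :=
    { toFun := fun x => ⟨x.1, hJR₁ x.1 x.2⟩
      map_add' := fun _ _ => rfl
      map_smul' := fun _ _ => rfl }
  refine ⟨R₁, Subalgebra.fg_adjoin_finset GJ, incl.rTensor S₁ y, ?_⟩
  have key : ∀ z : J ⊗[A] S₁, algebraMap (R₁ ⊗[A] S₁) S (incl.rTensor S₁ z) =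
      Algebra.IsPushout.equiv A R S₁ S (J.subtype.rTensor S₁ z) := by
    intro z
    induction z using TensorProduct.induction_on with
    | zero => simp
    | add a b ha hb => simp only [map_add, ha, hb]
    | tmul j σ =>
      rw [LinearMap.rTensor_tmul, LinearMap.rTensor_tmul, FS.stageAlgebra_tmul,
        Algebra.IsPushout.equiv_tmul]
      rfl
  rw [key, ← hy, AlgEquiv.apply_symm_apply]

end Rep

section Aux

variable {A R S₁ S : Type u} [CommRing A] [CommRing R] [CommRing S₁] [CommRing S]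
  [Algebra A R] [Algebra A S₁] [Algebra R S] [Algebra S₁ S] [Algebra A S]
  [IsScalarTower A R S] [IsScalarTower A S₁ S] [Algebra.IsPushout A R S₁ S]
  [Algebra.FiniteType ℤ A] [Algebra.FiniteType A S₁]
  {M₁ : Type u} [AddCommGroup M₁] [Module S₁ M₁] [Module A M₁] [IsScalarTower A S₁ M₁]
  [Module.Finite S₁ M₁]
  {M : Type u} [AddCommGroup M] [Module S M] [Module R M] [IsScalarTower R S M] [Module S₁ M]
  [IsScalarTower S₁ S M]

attribute [local instance] FS.stageAlgebra Algebra.TensorProduct.rightAlgebra in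
/-- Finite-stage flatness at a prime: packaging. -/
theorem exists_stage_flat_at_aux (h : M₁ →ₗ[S₁] M) (hh : IsBaseChange S h)
    (Q : Ideal S) [Q.IsPrime] (p : Ideal A) (hpQ : p.map (algebraMap A S) ≤ Q)
    (T₁ : Submonoid S₁) (hT₁ : Algebra.algebraMapSubmonoid S T₁ ≤ Q.primeCompl)
    [Module.Flat (A ⧸ p) ((A ⧸ p) ⊗[A] LocalizedModule T₁ M₁)]
    (hR : Injective ((p • (⊤ : Submodule A R)).subtype.rTensor (LocalizedModule T₁ M₁))) :
    ∃ (R₀ : Type u) (_ : CommRing R₀) (_ : Algebra R₀ R) (S₀ : Type u) (_ : CommRing S₀)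
      (_ : Algebra R₀ S₀) (_ : Algebra S₀ S) (_ : Algebra R₀ S) (_ : IsScalarTower R₀ R S)
      (_ : IsScalarTower R₀ S₀ S) (M₀ : Type u) (_ : AddCommGroup M₀) (_ : Module S₀ M₀)
      (_ : Module R₀ M₀) (_ : IsScalarTower R₀ S₀ M₀) (_ : Module S₀ M) (_ : IsScalarTower S₀ S M)
      (f : M₀ →ₗ[S₀] M),
      Algebra.FiniteType ℤ R₀ ∧ Algebra.FiniteType R₀ S₀ ∧ Module.Finite S₀ M₀ ∧
        Algebra.IsPushout R₀ R S₀ S ∧ IsBaseChange S f ∧
        Module.Flat R₀ (LocalizedModule (Q.comap (algebraMap S₀ S)).primeCompl M₀) := by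
  classical
  haveI : IsNoetherianRing A := Algebra.FiniteType.isNoetherianRing ℤ A
  obtain ⟨F, hF⟩ := exists_finset_forall_flat_at A S₁ M₁ R p T₁ hR
  let R' : Subalgebra A R := Algebra.adjoin A (F : Set R)
  have hR'fg : R'.FG := Subalgebra.fg_adjoin_finset F
  haveI : Algebra.FiniteType A R' := (Subalgebra.fg_iff_finiteType R').mp hR'fg
  let S₀ := R' ⊗[A] S₁
  letI : Module S₀ M := Module.compHom M (algebraMap S₀ S)
  haveI : IsScalarTower S₀ S M := IsScalarTower.of_algebraMap_smul fun _ _ => rfl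
  have hpQ' : p.map (algebraMap A S₀) ≤ Q.comap (algebraMap S₀ S) := by
    rw [Ideal.map_le_iff_le_comap, Ideal.comap_comap, ← IsScalarTower.algebraMap_eq A S₀ S,
      ← Ideal.map_le_iff_le_comap]
    exact hpQ
  have hTQ' : Algebra.algebraMapSubmonoid S₀ T₁ ≤ (Q.comap (algebraMap S₀ S)).primeCompl := by
    rintro _ ⟨t, ht, rfl⟩ hmem
    have hmem' : algebraMap S₀ S (algebraMap S₁ S₀ t) ∈ Q := hmem
    rw [← IsScalarTower.algebraMap_apply S₁ S₀ S] at hmem'
    exact hT₁ ⟨t, ht, rfl⟩ hmem'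
  have hflat := hF R' Algebra.subset_adjoin hR'fg (Q.comap (algebraMap S₀ S)) hpQ' hTQ'
  refine ⟨R', inferInstance, inferInstance, S₀, inferInstance, inferInstance, inferInstance,
    inferInstance, inferInstance, inferInstance, S₀ ⊗[S₁] M₁, inferInstance, inferInstance,
    inferInstance, inferInstance, inferInstance, inferInstance, FS.stageMap A S₁ S R' h,
    ?_, ?_, ?_, ?_, ?_, ?_⟩
  · exact Algebra.FiniteType.trans (inferInstance : Algebra.FiniteType ℤ A) inferInstance
  · infer_instance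
  · infer_instance
  · exact FS.stage_isPushout A S₁ S R'
  · exact FS.stageMap_isBaseChange A S₁ S R' h hh
  · exact hflat

end Aux

end Groth.Agent.Helper21.FL
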