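import Mathlib
import Groth.Agent.Lib.Helper21.FL6

/-!
# Flat locus, part 7: finite-stage flatness at a prime (re-basing) and openness of the flat locus
(helper21)
-/

set_option autoImplicit false
set_option linter.style.haveILetI false
set_option linter.unusedSectionVars false

universe u

open TensorProduct Function

namespace Groth.Agent.Helper21.FL

section Rebase

set_option backward.isDefEq.respectTransparency false in
set_option backward.isDefEq.respectTransparency.types false in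
/-- The stratum flatness is inherited by a re-based model. -/
theorem flat_stratum_rebase {A R₁ S₁ S₁' : Type u} [CommRing A] [CommRing R₁] [CommRing S₁]
    [CommRing S₁'] [Algebra A R₁] [Algebra A S₁] [Algebra R₁ S₁'] [Algebra S₁ S₁'] [Algebra A S₁']
    [IsScalarTower A R₁ S₁'] [IsScalarTower A S₁ S₁'] [Algebra.IsPushout A R₁ S₁ S₁']
    {M₁ : Type u} [AddCommGroup M₁] [Module S₁ M₁] [Module A M₁] [IsScalarTower A S₁ M₁]
    (p : Ideal A) (s : A) [Module.Flat (A ⧸ p) ((A ⧸ p) ⊗[A] FS.Ms A S₁ M₁ s)]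
    (T₁' : Submonoid S₁') (hs : algebraMap A S₁' s ∈ T₁') :
    Module.Flat (R₁ ⧸ p.map (algebraMap A R₁))
      ((R₁ ⧸ p.map (algebraMap A R₁)) ⊗[R₁] LocalizedModule T₁' (S₁' ⊗[S₁] M₁)) := by
  let et : S₁' ⊗[S₁] FS.Ms A S₁ M₁ s ≃ₗ[R₁] R₁ ⊗[A] FS.Ms A S₁ M₁ s :=
    Algebra.IsPushout.cancelBaseChange A R₁ S₁ S₁' _
  haveI : Module.Flat (R₁ ⧸ p.map (algebraMap A R₁))
      ((R₁ ⧸ p.map (algebraMap A R₁)) ⊗[R₁] (S₁' ⊗[S₁] FS.Ms A S₁ M₁ s)) := by
    let Q := R₁ ⧸ Ideal.map (algebraMap A R₁) p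
    let e1 : Q ⊗[R₁] (S₁' ⊗[S₁] FS.Ms A S₁ M₁ s) ≃ₗ[Q] Q ⊗[R₁] (R₁ ⊗[A] FS.Ms A S₁ M₁ s) :=
      AlgebraTensorModule.congr (LinearEquiv.refl Q Q) et
    let e2 : Q ⊗[R₁] (R₁ ⊗[A] FS.Ms A S₁ M₁ s) ≃ₗ[Q] Q ⊗[A] FS.Ms A S₁ M₁ s :=
      AlgebraTensorModule.cancelBaseChange A R₁ Q Q (FS.Ms A S₁ M₁ s)
    let e3 : Q ⊗[A ⧸ p] ((A ⧸ p) ⊗[A] FS.Ms A S₁ M₁ s) ≃ₗ[Q] Q ⊗[A] FS.Ms A S₁ M₁ s :=
      AlgebraTensorModule.cancelBaseChange A (A ⧸ p) Q Q (FS.Ms A S₁ M₁ s)
    exact Module.Flat.of_linearEquiv (e1 ≪≫ₗ e2 ≪≫ₗ e3.symm)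
  have h1 := FS.isLocalizedModule_baseChange (Submonoid.powers (algebraMap A S₁ s))
    (FS.msMap A S₁ M₁ s) S₁'
  rw [Algebra.algebraMapSubmonoid_powers, ← IsScalarTower.algebraMap_apply] at h1
  haveI := h1
  have hle : Submonoid.powers (algebraMap A S₁' s) ≤ T₁' := Submonoid.powers_le.mpr hs
  let gT : S₁' ⊗[S₁] FS.Ms A S₁ M₁ s →ₗ[S₁'] LocalizedModule T₁' (S₁' ⊗[S₁] M₁) :=
    IsLocalizedModule.liftOfLE _ T₁' hle ((FS.msMap A S₁ M₁ s).baseChange S₁')
      (LocalizedModule.mkLinearMap T₁' (S₁' ⊗[S₁] M₁))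
  haveI : IsLocalizedModule T₁' gT := inferInstance
  exact Groth.Agent.Helper1.flat_baseChange_of_isLocalizedModule (R := R₁)
    (M := S₁' ⊗[S₁] FS.Ms A S₁ M₁ s) (M' := LocalizedModule T₁' (S₁' ⊗[S₁] M₁)) T₁' gT
    (R₁ ⧸ p.map (algebraMap A R₁))

set_option backward.isDefEq.respectTransparency false in
set_option backward.isDefEq.respectTransparency.types false in
/-- `H1` in the limit gives the injectivity needed for the limit step. -/
theorem injective_rebase {R₁ R S₁' S : Type u} [CommRing R₁] [CommRing R] [CommRing S₁']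
    [CommRing S] [Algebra R₁ R] [Algebra R₁ S₁'] [Algebra R S] [Algebra S₁' S] [Algebra R₁ S]
    [IsScalarTower R₁ R S] [IsScalarTower R₁ S₁' S] [Algebra.IsPushout R₁ R S₁' S]
    {M₁' : Type u} [AddCommGroup M₁'] [Module S₁' M₁'] [Module R₁ M₁'] [IsScalarTower R₁ S₁' M₁']
    {M : Type u} [AddCommGroup M] [Module S M] [Module R M] [IsScalarTower R S M] [Module S₁' M]
    [IsScalarTower S₁' S M]
    (h' : M₁' →ₗ[S₁'] M) (hh' : IsBaseChange S h') (p' : Ideal R₁) (T₁' : Submonoid S₁')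
    (H : Injective ((p'.map (algebraMap R₁ R)).subtype.rTensor
      (LocalizedModule (Algebra.algebraMapSubmonoid S T₁') M))) :
    Injective ((p' • (⊤ : Submodule R₁ R)).subtype.rTensor (LocalizedModule T₁' M₁')) := by
  apply injective_of_injective_map R₁ R _ p'
  have hloc : IsLocalizedModule (Algebra.algebraMapSubmonoid S T₁')
      ((LocalizedModule.mkLinearMap T₁' M₁').baseChange S) :=
    FS.isLocalizedModule_baseChange T₁' _ S
  haveI := hloc
  let G : M →ₗ[S] S ⊗[S₁'] LocalizedModule T₁' M₁' :=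
    ((LocalizedModule.mkLinearMap T₁' M₁').baseChange S) ∘ₗ hh'.equiv.symm.toLinearMap
  haveI : IsLocalizedModule (Algebra.algebraMapSubmonoid S T₁') G :=
    IsLocalizedModule.of_linearEquiv_right _ _ hh'.equiv.symm
  let e₁ : R ⊗[R₁] LocalizedModule T₁' M₁' ≃ₗ[R] S ⊗[S₁'] LocalizedModule T₁' M₁' :=
    (Algebra.IsPushout.cancelBaseChange R₁ R S₁' S _).symm
  let e₂ : S ⊗[S₁'] LocalizedModule T₁' M₁' ≃ₗ[R]
      LocalizedModule (Algebra.algebraMapSubmonoid S T₁') M :=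
    ((IsLocalizedModule.iso (Algebra.algebraMapSubmonoid S T₁') G).symm).restrictScalars R
  exact FS.rTensor_injective_of_linearEquiv _ (e₁ ≪≫ₗ e₂) H

end Rebase

section Main

variable {A R S₁ S : Type u} [CommRing A] [CommRing R] [CommRing S₁] [CommRing S]
  [Algebra A R] [Algebra A S₁] [Algebra R S] [Algebra S₁ S] [Algebra A S]
  [IsScalarTower A R S] [IsScalarTower A S₁ S] [Algebra.IsPushout A R S₁ S]
  [Algebra.FiniteType ℤ A] [Algebra.FiniteType A S₁]
  {M₁ : Type u} [AddCommGroup M₁] [Module S₁ M₁] [Module.Finite S₁ M₁]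
  {M : Type u} [AddCommGroup M] [Module S M] [Module R M] [IsScalarTower R S M] [Module S₁ M]
  [IsScalarTower S₁ S M]

set_option maxHeartbeats 1600000 in
variable (A) in
include A in
attribute [local instance] FS.stageAlgebra Algebra.TensorProduct.rightAlgebra in
/-- **Finite-stage flatness at a prime.** If `M_Q` is flat over `R`, the triple `(R, S, M)` with
the prime `Q` descends to a finite type `ℤ`-algebra `R₀` such that `M₀` is flat over `R₀` at the
prime below `Q`. -/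
theorem exists_stage_flat_at (h : M₁ →ₗ[S₁] M) (hh : IsBaseChange S h) (Q : Ideal S) [Q.IsPrime]
    [Module.Flat R (LocalizedModule Q.primeCompl M)] :
    ∃ (R₀ : Type u) (_ : CommRing R₀) (_ : Algebra R₀ R) (S₀ : Type u) (_ : CommRing S₀)
      (_ : Algebra R₀ S₀) (_ : Algebra S₀ S) (_ : Algebra R₀ S) (_ : IsScalarTower R₀ R S)
      (_ : IsScalarTower R₀ S₀ S) (M₀ : Type u) (_ : AddCommGroup M₀) (_ : Module S₀ M₀)
      (_ : Module R₀ M₀) (_ : IsScalarTower R₀ S₀ M₀) (_ : Module S₀ M) (_ : IsScalarTower S₀ S M)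
      (f : M₀ →ₗ[S₀] M),
      Algebra.FiniteType ℤ R₀ ∧ Algebra.FiniteType R₀ S₀ ∧ Module.Finite S₀ M₀ ∧
        Algebra.IsPushout R₀ R S₀ S ∧ IsBaseChange S f ∧
        Module.Flat R₀ (LocalizedModule (Q.comap (algebraMap S₀ S)).primeCompl M₀) := by
  classical
  haveI : IsNoetherianRing A := Algebra.FiniteType.isNoetherianRing ℤ A
  letI : Module A M₁ := Module.compHom M₁ (algebraMap A S₁)
  haveI : IsScalarTower A S₁ M₁ := IsScalarTower.of_algebraMap_smul fun _ _ => rfl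
  let p : Ideal A := Q.comap (algebraMap A S)
  haveI : p.IsPrime := Ideal.comap_isPrime _ _
  obtain ⟨s, hs, hflat⟩ := FS.exists_stratum_of_prime A S₁ M₁ p
  haveI := hflat
  have hsQ : algebraMap A S s ∉ Q := fun hmem => hs (Ideal.mem_comap.mpr hmem)
  obtain ⟨g, hgQ, hH1⟩ := exists_forall_rTensor_injective (R := R) h hh p s Q hsQ
  obtain ⟨R₁, hR₁fg, g₁, hg₁⟩ := exists_stage_rep (A := A) (R := R) (S₁ := S₁) g
  haveI : Algebra.FiniteType A R₁ := (Subalgebra.fg_iff_finiteType R₁).mp hR₁fg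
  haveI : Algebra.FiniteType ℤ R₁ :=
    Algebra.FiniteType.trans (inferInstance : Algebra.FiniteType ℤ A) inferInstance
  letI : Module (R₁ ⊗[A] S₁) M := Module.compHom M (algebraMap (R₁ ⊗[A] S₁) S)
  haveI : IsScalarTower (R₁ ⊗[A] S₁) S M := IsScalarTower.of_algebraMap_smul fun _ _ => rfl
  haveI hpo : Algebra.IsPushout R₁ R (R₁ ⊗[A] S₁) S := FS.stage_isPushout A S₁ S R₁
  have hh' : IsBaseChange S (FS.stageMap A S₁ S R₁ h) :=
    FS.stageMap_isBaseChange A S₁ S R₁ h hh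
  let T₁' : Submonoid (R₁ ⊗[A] S₁) := Submonoid.closure {algebraMap A (R₁ ⊗[A] S₁) s, g₁}
  have hsT' : algebraMap A (R₁ ⊗[A] S₁) s ∈ T₁' :=
    Submonoid.subset_closure (Set.mem_insert _ _)
  have hgT' : g₁ ∈ T₁' := Submonoid.subset_closure (Set.mem_insert_of_mem _ rfl)
  have hT₁' : Algebra.algebraMapSubmonoid S T₁' ≤ Q.primeCompl := by
    rintro _ ⟨t, ht, rfl⟩
    have hle : T₁' ≤ Q.primeCompl.comap (algebraMap (R₁ ⊗[A] S₁) S) := by
      apply Submonoid.closure_le.mpr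
      rintro x (rfl | rfl)
      · change algebraMap (R₁ ⊗[A] S₁) S (algebraMap A (R₁ ⊗[A] S₁) s) ∈ Q.primeCompl
        rw [← IsScalarTower.algebraMap_apply A (R₁ ⊗[A] S₁) S]
        exact hsQ
      · change algebraMap (R₁ ⊗[A] S₁) S x ∈ Q.primeCompl
        rw [hg₁]
        exact hgQ
    exact hle ht
  haveI hfl' := flat_stratum_rebase (A := A) (R₁ := R₁) (S₁ := S₁) (S₁' := R₁ ⊗[A] S₁) (M₁ := M₁) p s T₁' hsT'
  have hsT : algebraMap A S s ∈ Algebra.algebraMapSubmonoid S T₁' :=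
    ⟨_, hsT', by rw [← IsScalarTower.algebraMap_apply A (R₁ ⊗[A] S₁) S]⟩
  have hgT : g ∈ Algebra.algebraMapSubmonoid S T₁' := ⟨g₁, hgT', hg₁⟩
  have hideal : (p.map (algebraMap A R₁)).map (algebraMap R₁ R) = p.map (algebraMap A R) := by
    rw [Ideal.map_map, ← IsScalarTower.algebraMap_eq A R₁ R]
  have H := hH1 _ hsT hgT
  rw [← hideal] at H
  have hR' := injective_rebase (FS.stageMap A S₁ S R₁ h) hh' (p.map (algebraMap A R₁)) T₁' H
  have hpQ' : (p.map (algebraMap A R₁)).map (algebraMap R₁ S) ≤ Q := by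
    rw [Ideal.map_map, ← IsScalarTower.algebraMap_eq A R₁ S]
    exact Ideal.map_comap_le
  exact exists_stage_flat_at_aux (A := R₁) (FS.stageMap A S₁ S R₁ h) hh' Q
    (p.map (algebraMap A R₁)) hpQ' T₁' hT₁' hR'

end Main

end Groth.Agent.Helper21.FL
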