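import Mathlib
import Groth.Agent.Lib.Helper21.FL7

/-!
# Flat locus, part 8: openness of the flat locus for finitely presented data (helper21)
-/

set_option autoImplicit false
set_option linter.style.haveILetI false
set_option linter.unusedSectionVars false

universe u

open TensorProduct Function

namespace Groth.Agent.Helper21.FL

/-- **Openness of the flat locus.** `R → S` of finite presentation, `M` a finitely presented
`S`-module: the set of primes `q` of `S` with `M_q` flat over `R` is open. -/
theorem isOpen_flatLocus {R S M : Type u} [CommRing R] [CommRing S] [Algebra R S]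
    [Algebra.FinitePresentation R S] [AddCommGroup M] [Module S M] [Module R M]
    [IsScalarTower R S M] [Module.FinitePresentation S M] :
    IsOpen {q : PrimeSpectrum S | Module.Flat R (LocalizedModule q.asIdeal.primeCompl M)} := by
  classical
  rw [isOpen_iff_forall_mem_open]
  intro q hq
  -- presentation of `S`
  let P := Algebra.Presentation.ofFinitePresentation R S
  -- presentation of `M`
  obtain ⟨n, m, f, g, hf, hfg⟩ := Module.FinitePresentation.exists_fin' S M
  have hsurj : ∀ (k : Fin m) (l : Fin n), ∃ w : MvPolynomial _ R,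
      MvPolynomial.aeval P.val w = g (Pi.single k 1) l := fun k l => by
    obtain ⟨w, hw⟩ := P.algebraMap_surjective (g (Pi.single k 1) l)
    exact ⟨w, by rw [← hw, Algebra.Generators.algebraMap_apply]⟩
  choose w hw using hsurj
  let s : Set R := P.coeffs ∪ ⋃ k, ⋃ l, ((w k l).coeffs : Set R)
  have hsfin : s.Finite := by
    refine Set.Finite.union P.finite_coeffs ?_
    exact Set.finite_iUnion fun k => Set.finite_iUnion fun l => Finset.finite_toSet _
  let A : Subalgebra ℤ R := Algebra.adjoin ℤ s
  haveI : P.HasCoeffs A := ⟨fun x hx => ⟨⟨x, Algebra.subset_adjoin (Or.inl hx)⟩, rfl⟩⟩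
  haveI : Algebra.FiniteType ℤ A := Algebra.FiniteType.adjoin_of_finite hsfin
  haveI : IsNoetherianRing A := Algebra.FiniteType.isNoetherianRing ℤ A
  let S₁ := P.ModelOfHasCoeffs A
  letI : Algebra S₁ S := Groth.Agent.Helper21.FS.modelAlgebra P A
  haveI : IsScalarTower A S₁ S := Groth.Agent.Helper21.FS.model_isScalarTower P A
  haveI : Algebra.IsPushout A R S₁ S := Groth.Agent.Helper21.FS.model_isPushout P A
  have hw' : ∀ k l, ∃ w' : MvPolynomial _ A, MvPolynomial.map (algebraMap A R) w' = w k l := by
    intro k l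
    have : w k l ∈ Set.range (MvPolynomial.map (algebraMap A R)) := by
      rw [MvPolynomial.mem_range_map_iff_coeffs_subset]
      intro x hx
      exact ⟨⟨x, Algebra.subset_adjoin (Or.inr (Set.mem_iUnion₂.mpr ⟨k, l, hx⟩))⟩, rfl⟩
    exact this
  choose w' hw' using hw'
  let c' : Fin m → Fin n → S₁ := fun k l => Ideal.Quotient.mk _ (w' k l)
  letI : Module S₁ M := Module.compHom M (algebraMap S₁ S)
  haveI : IsScalarTower S₁ S M := IsScalarTower.of_algebraMap_smul fun _ _ => rfl
  have hc : ∀ k l, algebraMap S₁ S (c' k l) = g (Pi.single k 1) l := by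
    intro k l
    rw [Groth.Agent.Helper21.FS.modelAlgebra_mk, ← hw, ← hw', MvPolynomial.aeval_map_algebraMap]
  obtain ⟨h, hh⟩ := Groth.Agent.Helper21.FS.exists_isBaseChange_cokerModel c' f g hf hfg hc
  haveI : Module.Finite S₁ (Groth.Agent.Helper21.FS.CokerModel c') := Module.Finite.quotient S₁ _
  haveI : Module.Flat R (LocalizedModule q.asIdeal.primeCompl M) := hq
  obtain ⟨R₀, _, _, S₀, _, _, _, _, _, _, M₀, _, _, _, _, _, _, f₀, hR₀, hS₀, hM₀, hpo, hf₀, hflat⟩ :=
    exists_stage_flat_at (R := R) A h hh q.asIdeal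
  haveI := hR₀
  haveI := hS₀
  haveI := hM₀
  haveI := hpo
  haveI : IsNoetherianRing R₀ := Algebra.FiniteType.isNoetherianRing ℤ R₀
  have hU₀ := isOpen_flatLocus_of_noetherian (R := R₀) (S := S₀) (M := M₀)
  refine ⟨(PrimeSpectrum.comap (algebraMap S₀ S)) ⁻¹'
    {q₀ | Module.Flat R₀ (LocalizedModule q₀.asIdeal.primeCompl M₀)}, ?_,
    hU₀.preimage (PrimeSpectrum.continuous_comap (algebraMap S₀ S)), ?_⟩
  · intro P' hP'
    haveI : Module.Flat R₀
        (LocalizedModule (P'.asIdeal.comap (algebraMap S₀ S)).primeCompl M₀) := hP'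
    exact flat_localizedModule_of_isBaseChange (R₀ := R₀) (R := R) f₀ hf₀ P'.asIdeal
  · exact hflat

end Groth.Agent.Helper21.FL
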