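import Mathlib
import Groth.Agent.Lib.Helper21.FL8

/-!
# Flat locus, part 9: schemes (helper21)
-/

set_option autoImplicit false
set_option linter.style.haveILetI false
set_option linter.unusedSectionVars false

universe u

open TensorProduct Function CategoryTheory AlgebraicGeometry

namespace Groth.Agent.Helper21.FL

/-- Flatness of the local ring map at a prime in terms of the localized module. -/
theorem flat_localRingHom_iff {R S : Type u} [CommRing R] [CommRing S] [Algebra R S]
    (p : Ideal R) [p.IsPrime] (q : Ideal S) [q.IsPrime] (h : p = q.comap (algebraMap R S)) :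
    (Localization.localRingHom p q (algebraMap R S) h).Flat ↔
      Module.Flat R (LocalizedModule q.primeCompl S) := by
  letI : Algebra (Localization.AtPrime p) (Localization.AtPrime q) :=
    (Localization.localRingHom p q (algebraMap R S) h).toAlgebra
  haveI : IsScalarTower R (Localization.AtPrime p) (Localization.AtPrime q) :=
    IsScalarTower.of_algebraMap_eq (fun r => by
      rw [RingHom.algebraMap_toAlgebra, Localization.localRingHom_to_map,
        ← IsScalarTower.algebraMap_apply])
  have h1 : (Localization.localRingHom p q (algebraMap R S) h).Flat ↔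
      Module.Flat R (Localization.AtPrime q) :=
    Module.flat_iff_of_isLocalization (Localization.AtPrime p) p.primeCompl
      (Localization.AtPrime q)
  haveI : IsLocalizedModule q.primeCompl (Algebra.linearMap S (Localization.AtPrime q)) :=
    (isLocalizedModule_iff_isLocalization).mpr inferInstance
  let e : LocalizedModule q.primeCompl S ≃ₗ[R] Localization.AtPrime q :=
    (IsLocalizedModule.iso q.primeCompl
      (Algebra.linearMap S (Localization.AtPrime q))).restrictScalars R
  exact h1.trans
    ⟨fun _ => Module.Flat.of_linearEquiv e, fun _ => Module.Flat.of_linearEquiv e.symm⟩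

/-- **Openness of the flat locus of a morphism locally of finite presentation.** -/
theorem isOpen_flatLocus_scheme {X S : Scheme.{u}} (f : X ⟶ S) [LocallyOfFinitePresentation f] :
    IsOpen {x : X | (f.stalkMap x).hom.Flat} := by
  rw [isOpen_iff_forall_mem_open]
  intro x hx
  obtain ⟨U, hU, hfx, _⟩ := TopologicalSpace.Opens.isBasis_iff_nbhd.mp S.isBasis_affineOpens
    (TopologicalSpace.Opens.mem_top <| f x)
  obtain ⟨V, hV, hxV, e⟩ := TopologicalSpace.Opens.isBasis_iff_nbhd.mp X.isBasis_affineOpens
    (show x ∈ f ⁻¹ᵁ U from hfx)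
  have hφ : (f.appLE U V e).hom.FinitePresentation :=
    HasRingHomProperty.appLE @LocallyOfFinitePresentation f inferInstance ⟨U, hU⟩ ⟨V, hV⟩ e
  algebraize [(f.appLE U V e).hom]
  have hopen := isOpen_flatLocus (R := Γ(S, U)) (S := Γ(X, V)) (M := Γ(X, V))
  -- the key equivalence
  have key : ∀ (y : X) (hy : y ∈ V), (f.stalkMap y).hom.Flat ↔
      Module.Flat Γ(S, U)
        (LocalizedModule (IsAffineOpen.primeIdealOf hV ⟨y, hy⟩).asIdeal.primeCompl Γ(X, V)) := by
    intro y hy
    rw [RingHom.Flat.respectsIso.arrow_mk_iso_iff (IsAffineOpen.arrowStalkMapIso f U hU V hV e hy)]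
    exact flat_localRingHom_iff _ _
      (congr($(IsAffineOpen.comap_primeIdealOf_appLE U hU V hV e hy).1).symm)
  refine ⟨(Scheme.Opens.ι V) '' ((IsAffineOpen.isoSpec hV).hom ⁻¹' {q : PrimeSpectrum Γ(X, V) | Module.Flat Γ(S, U)
    (LocalizedModule q.asIdeal.primeCompl Γ(X, V))}), ?_, ?_, ?_⟩
  · rintro _ ⟨y', hy', rfl⟩
    exact (key _ y'.2).mpr hy'
  · exact (Scheme.Opens.ι V).isOpenEmbedding.isOpenMap _
      (hopen.preimage (IsAffineOpen.isoSpec hV).hom.continuous)
  · exact ⟨⟨x, hxV⟩, (key x hxV).mp hx, rfl⟩

end Groth.Agent.Helper21.FL
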