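import Mathlib
import Groth.Agent.Lib.Helper21.FL9

/-!
# Critère de platitude par fibres, part 1 (helper21)

* `flat_of_faithfullyFlat_of_flat_comp`, `RingHom.Flat.of_comp_of_isLocalHom`: descent of
  flatness of a ring map along a faithfully flat map.
* `step_flat`: for a pushout `E = D ⊗_{D'} E'` with `D'` a domain, the local rings of `E` at primes
  over the generic point of `D'` are flat over `E'`.
* `fd0`: descent of flatness at a prime along such a pushout.
-/

set_option autoImplicit false
set_option linter.style.haveILetI false
set_option linter.unusedSectionVars false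

universe u

open TensorProduct Function

namespace Groth.Agent.Helper21.CPF

/-- If `B → C` is faithfully flat and `C` is flat over `A`, then `B` is flat over `A`. -/
theorem flat_of_faithfullyFlat_of_flat_comp (A B C : Type u) [CommRing A] [CommRing B] [CommRing C]
    [Algebra A B] [Algebra B C] [Algebra A C] [IsScalarTower A B C]
    [Module.FaithfullyFlat B C] [Module.Flat A C] : Module.Flat A B := by
  rw [Module.Flat.iff_lTensor_injective']
  intro I
  let Φ : B ⊗[A] I →ₗ[B] B ⊗[A] A := AlgebraTensorModule.lTensor B B I.subtype
  have hΦ : Injective (Φ.lTensor C) := by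
    let eI : C ⊗[B] (B ⊗[A] I) ≃ₗ[C] C ⊗[A] I := AlgebraTensorModule.cancelBaseChange A B C C I
    let eA : C ⊗[B] (B ⊗[A] A) ≃ₗ[C] C ⊗[A] A := AlgebraTensorModule.cancelBaseChange A B C C A
    have hcomm : ∀ z, eA (Φ.lTensor C z) = (I.subtype.lTensor C) (eI z) := by
      intro z
      induction z using TensorProduct.induction_on with
      | zero => simp
      | add x y hx hy => simp only [map_add, hx, hy]
      | tmul c w =>
        induction w using TensorProduct.induction_on with
        | zero => simp
        | add x y hx hy => simp only [tmul_add, map_add, hx, hy]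
        | tmul b i => simp [Φ, eI, eA]
    have hinj : Injective (I.subtype.lTensor C) :=
      Module.Flat.lTensor_preserves_injective_linearMap _ (Submodule.injective_subtype I)
    intro z₁ z₂ h
    apply eI.injective
    apply hinj
    rw [← hcomm, ← hcomm, h]
  exact (Module.FaithfullyFlat.lTensor_injective_iff_injective B C Φ).mp hΦ

/-- Descent of flatness of ring maps along a flat local homomorphism of local rings. -/
theorem _root_.RingHom.Flat.of_comp_of_isLocalHom {A B C : Type u} [CommRing A] [CommRing B]
    [CommRing C] [IsLocalRing B] [IsLocalRing C] (f : A →+* B) (g : B →+* C) [IsLocalHom g]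
    (hg : g.Flat) (h : (g.comp f).Flat) : f.Flat := by
  algebraize [f, g, g.comp f]
  haveI : Module.Flat B C := hg
  haveI : Module.Flat A C := h
  haveI : IsLocalHom (algebraMap B C) := ‹IsLocalHom g›
  haveI : Module.FaithfullyFlat B C := Module.FaithfullyFlat.of_flat_of_isLocalHom
  exact flat_of_faithfullyFlat_of_flat_comp A B C

section StepFlat

variable {D' : Type u} (D : Type u) {E' E : Type u} [CommRing D'] [IsDomain D'] [CommRing D]
  [CommRing E'] [CommRing E]
  [Algebra D' D] [Algebra D' E'] [Algebra D E] [Algebra E' E] [Algebra D' E]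
  [IsScalarTower D' D E] [IsScalarTower D' E' E] [Algebra.IsPushout D' D E' E]

include D in
/-- For a pushout `E = D ⊗_{D'} E'` over a domain `D'`, the local ring of `E` at a prime lying
over the generic point of `D'` is flat over `E'`. -/
theorem step_flat (P : Ideal E) [P.IsPrime] (hP : ∀ d : D', d ≠ 0 → algebraMap D' E d ∉ P) :
    Module.Flat E' (LocalizedModule P.primeCompl E) := by
  let W : Submonoid D' := nonZeroDivisors D'
  haveI hV : Module.Flat D' (LocalizedModule W D) := by
    haveI : Module.Flat (FractionRing D') (LocalizedModule W D) := inferInstance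
    haveI : Module.Flat D' (FractionRing D') := IsLocalization.flat _ W
    exact Module.Flat.trans D' (FractionRing D') (LocalizedModule W D)
  let g₀ : D →ₗ[D'] LocalizedModule W D := LocalizedModule.mkLinearMap W D
  haveI h1 : IsLocalizedModule (Algebra.algebraMapSubmonoid E' W) (g₀.baseChange E') :=
    FS.isLocalizedModule_baseChange W g₀ E'
  haveI : Algebra.IsPushout D' E' D E := Algebra.IsPushout.symm inferInstance
  let e : E' ⊗[D'] D ≃ₗ[E'] E := (Algebra.IsPushout.equiv D' E' D E).toLinearEquiv
  let G : E →ₗ[E'] E' ⊗[D'] LocalizedModule W D := (g₀.baseChange E') ∘ₗ e.symm.toLinearMap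
  haveI : IsLocalizedModule (Algebra.algebraMapSubmonoid E' W) G :=
    IsLocalizedModule.of_linearEquiv_right _ _ e.symm
  let W'' : Submonoid E := Algebra.algebraMapSubmonoid E (Algebra.algebraMapSubmonoid E' W)
  let mk₂ : E →ₗ[E] LocalizedModule W'' E := LocalizedModule.mkLinearMap W'' E
  haveI : IsLocalizedModule (Algebra.algebraMapSubmonoid E' W) (mk₂.restrictScalars E') :=
    IsLocalizedModule.restrictScalars (Algebra.algebraMapSubmonoid E' W) mk₂
  let iso : LocalizedModule W'' E ≃ₗ[E'] E' ⊗[D'] LocalizedModule W D :=
    IsLocalizedModule.linearEquiv (Algebra.algebraMapSubmonoid E' W) (mk₂.restrictScalars E') G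
  haveI : Module.Flat E' (LocalizedModule W'' E) := Module.Flat.of_linearEquiv iso
  have hle : W'' ≤ P.primeCompl := by
    rintro _ ⟨_, ⟨d, hd, rfl⟩, rfl⟩
    rw [← IsScalarTower.algebraMap_apply D' E' E]
    exact hP d (nonZeroDivisors.ne_zero hd)
  let g' : LocalizedModule W'' E →ₗ[E] LocalizedModule P.primeCompl E :=
    IsLocalizedModule.liftOfLE W'' P.primeCompl hle mk₂
      (LocalizedModule.mkLinearMap P.primeCompl E)
  haveI : IsLocalizedModule P.primeCompl g' := inferInstance
  exact FL.flat_of_isLocalizedModule P.primeCompl g'

end StepFlat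

section FD0

variable {D' : Type u} (D : Type u) {T' T U' U : Type u} [CommRing D'] [IsDomain D'] [CommRing D] [CommRing T']
  [CommRing T] [CommRing U'] [CommRing U]
  [Algebra D' D] [Algebra D' T'] [Algebra D T] [Algebra T' T] [Algebra D' T]
  [IsScalarTower D' D T] [IsScalarTower D' T' T] [Algebra.IsPushout D' D T' T]
  [Algebra D' U'] [Algebra D U] [Algebra U' U] [Algebra D' U]
  [IsScalarTower D' D U] [IsScalarTower D' U' U] [Algebra.IsPushout D' D U' U]
  [Algebra T' U'] [Algebra T U] [Algebra T' U] [IsScalarTower T' T U] [IsScalarTower T' U' U]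
  [IsScalarTower D' T U]

include D in
/-- **Descent of flatness at a prime over the generic point of a domain** along a pushout. -/
theorem fd0 (Q : Ideal U) [Q.IsPrime] (hQ : ∀ d : D', d ≠ 0 → algebraMap D' U d ∉ Q)
    [Module.Flat T (LocalizedModule Q.primeCompl U)] :
    Module.Flat T' (LocalizedModule (Q.comap (algebraMap U' U)).primeCompl U') := by
  let q : Ideal T := Q.comap (algebraMap T U)
  let Q' : Ideal U' := Q.comap (algebraMap U' U)
  let q' : Ideal T' := Q.comap (algebraMap T' U)
  haveI : q.IsPrime := Ideal.comap_isPrime _ _
  haveI : Q'.IsPrime := Ideal.comap_isPrime _ _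
  haveI : q'.IsPrime := Ideal.comap_isPrime _ _
  have hq'q : q' = q.comap (algebraMap T' T) := by
    rw [Ideal.comap_comap, ← IsScalarTower.algebraMap_eq]
  have hq'Q' : q' = Q'.comap (algebraMap T' U') := by
    rw [Ideal.comap_comap, ← IsScalarTower.algebraMap_eq]
  have hq : ∀ d : D', d ≠ 0 → algebraMap D' T d ∉ q := by
    intro d hd hmem
    apply hQ d hd
    have : algebraMap T U (algebraMap D' T d) ∈ Q := hmem
    rwa [← IsScalarTower.algebraMap_apply D' T U] at this
  have h1 : (Localization.localRingHom q Q (algebraMap T U) rfl).Flat :=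
    (FL.flat_localRingHom_iff q Q rfl).mpr inferInstance
  have h2 : (Localization.localRingHom q' q (algebraMap T' T) hq'q).Flat :=
    (FL.flat_localRingHom_iff q' q hq'q).mpr (step_flat D q hq)
  have h3 : (Localization.localRingHom Q' Q (algebraMap U' U) rfl).Flat :=
    (FL.flat_localRingHom_iff Q' Q rfl).mpr (step_flat D Q hQ)
  have hcomp : (Localization.localRingHom Q' Q (algebraMap U' U) rfl).comp
      (Localization.localRingHom q' Q' (algebraMap T' U') hq'Q') =
      (Localization.localRingHom q Q (algebraMap T U) rfl).comp
        (Localization.localRingHom q' q (algebraMap T' T) hq'q) := by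
    have e1 : Localization.localRingHom q' Q (algebraMap T' U) rfl =
        (Localization.localRingHom Q' Q (algebraMap U' U) rfl).comp
          (Localization.localRingHom q' Q' (algebraMap T' U') hq'Q') :=
      Localization.localRingHom_unique _ _ _ _ fun x => by
        rw [RingHom.comp_apply, Localization.localRingHom_to_map,
          Localization.localRingHom_to_map, ← IsScalarTower.algebraMap_apply T' U' U]
    have e2 : Localization.localRingHom q' Q (algebraMap T' U) rfl =
        (Localization.localRingHom q Q (algebraMap T U) rfl).comp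
          (Localization.localRingHom q' q (algebraMap T' T) hq'q) :=
      Localization.localRingHom_unique _ _ _ _ fun x => by
        rw [RingHom.comp_apply, Localization.localRingHom_to_map,
          Localization.localRingHom_to_map, ← IsScalarTower.algebraMap_apply T' T U]
    rw [← e1, e2]
  have h4 : ((Localization.localRingHom Q' Q (algebraMap U' U) rfl).comp
      (Localization.localRingHom q' Q' (algebraMap T' U') hq'Q')).Flat := by
    rw [hcomp]
    exact h2.comp h1
  haveI : IsLocalHom (Localization.localRingHom Q' Q (algebraMap U' U) rfl) :=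
    Localization.isLocalHom_localRingHom Q' Q (algebraMap U' U) rfl
  have h5 : (Localization.localRingHom q' Q' (algebraMap T' U') hq'Q').Flat :=
    RingHom.Flat.of_comp_of_isLocalHom _ _ h3 h4
  exact (FL.flat_localRingHom_iff q' Q' hq'Q').mp h5

end FD0

end Groth.Agent.Helper21.CPF
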