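import Mathlib
import Groth.Agent.Lib.Helper21.CPF1

/-!
# Critère de platitude par fibres, part 2: quotient rings (helper21)

* `isPushout_quotient`, `isPushout_quotient'`: `E/IE = (R/I) ⊗_R E`.
* `quot_tower`: scalar towers of quotient rings.
* `isPushout_quot`: a pushout square stays a pushout after dividing by an ideal.
* `flat_quot_iff`: `(B/J) ⊗_B C_Q` versus the localization of `C/JC`.
-/

set_option autoImplicit false
set_option linter.style.haveILetI false
set_option linter.unusedSectionVars false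

universe u

open TensorProduct Function

namespace Groth.Agent.Helper21.CPF

section QPO

variable {R E : Type u} [CommRing R] [CommRing E] [Algebra R E] (I : Ideal R)

attribute [local instance] Algebra.TensorProduct.rightAlgebra in
/-- `E/IE` is the pushout of `R/I` and `E` over `R`. -/
theorem isPushout_quotient :
    Algebra.IsPushout R (R ⧸ I) E (E ⧸ I.map (algebraMap R E)) := by
  have h0 : Algebra.IsPushout R (R ⧸ I) E ((R ⧸ I) ⊗[R] E) := inferInstance
  refine Algebra.IsPushout.of_equiv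
    (Algebra.TensorProduct.quotIdealMapEquivQuotTensor E I).symm ?_
  ext b
  change (Algebra.TensorProduct.quotIdealMapEquivQuotTensor E I).symm ((1 : R ⧸ I) ⊗ₜ[R] b) = _
  rw [AlgEquiv.symm_apply_eq]
  rfl

/-- Variant of `isPushout_quotient` for an arbitrary presentation of the ideal and of the algebra
structure. -/
theorem isPushout_quotient' (K : Ideal E) (hK : K = I.map (algebraMap R E))
    [inst : Algebra (R ⧸ I) (E ⧸ K)] [tow : IsScalarTower R (R ⧸ I) (E ⧸ K)] :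
    Algebra.IsPushout R (R ⧸ I) E (E ⧸ K) := by
  subst hK
  have : inst = (Ideal.Quotient.algebraQuotientMapQuotient : Algebra (R ⧸ I) (E ⧸ I.map (algebraMap R E))) := by
    refine Algebra.algebra_ext _ _ fun x => ?_
    obtain ⟨r, rfl⟩ := Ideal.Quotient.mk_surjective x
    have h1 := IsScalarTower.algebraMap_apply R (R ⧸ I) (E ⧸ I.map (algebraMap R E)) r
    exact h1.symm
  subst this
  exact isPushout_quotient I

end QPO

section Tower

/-- scalar towers of quotient rings -/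
theorem quot_tower {X Y Z : Type u} [CommRing X] [CommRing Y] [CommRing Z] [Algebra X Y]
    [Algebra Y Z] [Algebra X Z] [IsScalarTower X Y Z] (I : Ideal X) (J : Ideal Y) (K : Ideal Z)
    [Algebra (X ⧸ I) (Y ⧸ J)] [Algebra (Y ⧸ J) (Z ⧸ K)] [Algebra (X ⧸ I) (Z ⧸ K)]
    [IsScalarTower X (X ⧸ I) (Y ⧸ J)] [IsScalarTower Y (Y ⧸ J) (Z ⧸ K)]
    [IsScalarTower X (X ⧸ I) (Z ⧸ K)] : IsScalarTower (X ⧸ I) (Y ⧸ J) (Z ⧸ K) := by
  refine IsScalarTower.of_algebraMap_eq fun x => ?_
  obtain ⟨x, rfl⟩ := Ideal.Quotient.mk_surjective x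
  have e1 : algebraMap (X ⧸ I) (Z ⧸ K) (Ideal.Quotient.mk I x) = algebraMap X (Z ⧸ K) x :=
    (IsScalarTower.algebraMap_apply X (X ⧸ I) (Z ⧸ K) x).symm
  have e2 : algebraMap (X ⧸ I) (Y ⧸ J) (Ideal.Quotient.mk I x) = algebraMap X (Y ⧸ J) x :=
    (IsScalarTower.algebraMap_apply X (X ⧸ I) (Y ⧸ J) x).symm
  have e3 : algebraMap X (Y ⧸ J) x = algebraMap Y (Y ⧸ J) (algebraMap X Y x) :=
    IsScalarTower.algebraMap_apply X Y (Y ⧸ J) x
  have e4 : algebraMap (Y ⧸ J) (Z ⧸ K) (algebraMap Y (Y ⧸ J) (algebraMap X Y x)) =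
      algebraMap Y (Z ⧸ K) (algebraMap X Y x) :=
    (IsScalarTower.algebraMap_apply Y (Y ⧸ J) (Z ⧸ K) _).symm
  rw [e1, e2, e3, e4, IsScalarTower.algebraMap_apply X Y (Z ⧸ K)]

end Tower

section QuotPO

variable {A' R E' E : Type u} [CommRing A'] [CommRing R] [CommRing E'] [CommRing E]
  [Algebra A' R] [Algebra A' E'] [Algebra R E] [Algebra E' E] [Algebra A' E]
  [IsScalarTower A' R E] [IsScalarTower A' E' E] [Algebra.IsPushout A' R E' E]
  (I' : Ideal A') (I : Ideal R)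
  [Algebra (A' ⧸ I') (R ⧸ I)] [IsScalarTower A' (A' ⧸ I') (R ⧸ I)]
  [Algebra (E' ⧸ I'.map (algebraMap A' E')) (E ⧸ I.map (algebraMap R E))]
  [IsScalarTower E' (E' ⧸ I'.map (algebraMap A' E')) (E ⧸ I.map (algebraMap R E))]
  [Algebra (A' ⧸ I') (E ⧸ I.map (algebraMap R E))]
  [IsScalarTower (A' ⧸ I') (R ⧸ I) (E ⧸ I.map (algebraMap R E))]
  [IsScalarTower (A' ⧸ I') (E' ⧸ I'.map (algebraMap A' E')) (E ⧸ I.map (algebraMap R E))]

/-- A pushout square `E = R ⊗_{A'} E'` remains a pushout square after dividing by ideals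
`I' ⊆ A'`, `I ⊆ R` (with `I'R ⊆ I`) and their extensions. -/
theorem isPushout_quot :
    Algebra.IsPushout (A' ⧸ I') (R ⧸ I) (E' ⧸ I'.map (algebraMap A' E'))
      (E ⧸ I.map (algebraMap R E)) := by
  haveI P1 : IsScalarTower A' (R ⧸ I) (E ⧸ I.map (algebraMap R E)) :=
    IsScalarTower.of_algebraMap_eq fun a => by
      rw [IsScalarTower.algebraMap_apply A' R (R ⧸ I),
        IsScalarTower.algebraMap_apply A' R (E ⧸ I.map (algebraMap R E)),
        IsScalarTower.algebraMap_apply R (R ⧸ I) (E ⧸ I.map (algebraMap R E))]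
  haveI P2 : IsScalarTower A' (E' ⧸ I'.map (algebraMap A' E')) (E ⧸ I.map (algebraMap R E)) :=
    IsScalarTower.of_algebraMap_eq fun a => by
      rw [IsScalarTower.algebraMap_apply A' E' (E' ⧸ I'.map (algebraMap A' E')),
        ← IsScalarTower.algebraMap_apply E' (E' ⧸ I'.map (algebraMap A' E'))
          (E ⧸ I.map (algebraMap R E)),
        ← IsScalarTower.algebraMap_apply A' E' (E ⧸ I.map (algebraMap R E))]
  have H1 : Algebra.IsPushout A' (R ⧸ I) E' (E ⧸ I.map (algebraMap R E)) :=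
    (Algebra.IsPushout.comp_iff A' R E' (T := R ⧸ I) (S' := E)
      (T' := E ⧸ I.map (algebraMap R E))).mpr (isPushout_quotient I)
  haveI : Algebra.IsPushout A' (A' ⧸ I') E' (E' ⧸ I'.map (algebraMap A' E')) :=
    isPushout_quotient I'
  exact (Algebra.IsPushout.comp_iff A' (A' ⧸ I') E' (T := R ⧸ I)
    (S' := E' ⧸ I'.map (algebraMap A' E')) (T' := E ⧸ I.map (algebraMap R E))).mp H1

end QuotPO

section Iso

variable {B C : Type u} [CommRing B] [CommRing C] [Algebra B C] (J : Ideal B) (K : Ideal C)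
  (hK : K = J.map (algebraMap B C)) [Algebra (B ⧸ J) (C ⧸ K)] [IsScalarTower B (B ⧸ J) (C ⧸ K)]
  (Q : Ideal C) [Q.IsPrime] (Qb : Ideal (C ⧸ K)) [Qb.IsPrime]
  (hQb : Qb.comap (Ideal.Quotient.mk K) = Q)

include hK hQb in
/-- `(B/J) ⊗_B C_Q` is the localization of `C/JC` at the image of `Q`. -/
theorem exists_linearEquiv_quot :
    Nonempty (LocalizedModule Qb.primeCompl (C ⧸ K) ≃ₗ[B ⧸ J]
      (B ⧸ J) ⊗[B] LocalizedModule Q.primeCompl C) := by
  haveI : Algebra.IsPushout B (B ⧸ J) C (C ⧸ K) := isPushout_quotient' J K hK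
  let ε₁ : (C ⧸ K) ⊗[C] LocalizedModule Q.primeCompl C ≃ₗ[B ⧸ J]
      (B ⧸ J) ⊗[B] LocalizedModule Q.primeCompl C :=
    Algebra.IsPushout.cancelBaseChange B (B ⧸ J) C (C ⧸ K) (LocalizedModule Q.primeCompl C)
  let mkN : C →ₗ[C] LocalizedModule Q.primeCompl C := LocalizedModule.mkLinearMap Q.primeCompl C
  haveI h1 : IsLocalizedModule (Algebra.algebraMapSubmonoid (C ⧸ K) Q.primeCompl)
      (mkN.baseChange (C ⧸ K)) := FS.isLocalizedModule_baseChange Q.primeCompl mkN (C ⧸ K)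
  let rid : (C ⧸ K) ⊗[C] C ≃ₗ[C ⧸ K] (C ⧸ K) := AlgebraTensorModule.rid C (C ⧸ K) (C ⧸ K)
  let φ : (C ⧸ K) →ₗ[C ⧸ K] (C ⧸ K) ⊗[C] LocalizedModule Q.primeCompl C :=
    (mkN.baseChange (C ⧸ K)) ∘ₗ rid.symm.toLinearMap
  have h2 : IsLocalizedModule (Algebra.algebraMapSubmonoid (C ⧸ K) Q.primeCompl) φ :=
    IsLocalizedModule.of_linearEquiv_right _ _ rid.symm
  have hsub : Algebra.algebraMapSubmonoid (C ⧸ K) Q.primeCompl = Qb.primeCompl := by
    ext u
    obtain ⟨c, rfl⟩ := Ideal.Quotient.mk_surjective u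
    constructor
    · rintro ⟨c', hc', hcc'⟩ hmem
      apply hc'
      have h3 : c' ∈ Qb.comap (Ideal.Quotient.mk K) := by
        rw [Ideal.mem_comap]
        have : Ideal.Quotient.mk K c' = Ideal.Quotient.mk K c := hcc'
        rw [this]
        exact hmem
      rw [hQb] at h3
      exact h3
    · intro hc
      refine ⟨c, ?_, rfl⟩
      intro hcQ
      apply hc
      rw [← hQb] at hcQ
      exact hcQ
  rw [hsub] at h2
  haveI := h2
  let ε₂ : LocalizedModule Qb.primeCompl (C ⧸ K) ≃ₗ[C ⧸ K]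
      (C ⧸ K) ⊗[C] LocalizedModule Q.primeCompl C := IsLocalizedModule.iso Qb.primeCompl φ
  exact ⟨(ε₂.restrictScalars (B ⧸ J)) ≪≫ₗ ε₁⟩

include hK hQb in
/-- The fibre condition in terms of the localization of the quotient ring. -/
theorem flat_quot_iff :
    Module.Flat (B ⧸ J) ((B ⧸ J) ⊗[B] LocalizedModule Q.primeCompl C) ↔
      Module.Flat (B ⧸ J) (LocalizedModule Qb.primeCompl (C ⧸ K)) := by
  obtain ⟨e⟩ := exists_linearEquiv_quot J K hK Q Qb hQb
  exact ⟨fun _ => Module.Flat.of_linearEquiv e, fun _ => Module.Flat.of_linearEquiv e.symm⟩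

end Iso

end Groth.Agent.Helper21.CPF
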