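import Mathlib
import Groth.Agent.Lib.Helper21.CPF3
import Groth.Agent.Lib.Helper21.FL7

/-!
# Critère de platitude par fibres, part 4: the finite level and the stages (helper21)

* `fin_level`: if a Noetherian stage `(A', B', C')` of `(R, B, C)` is such that `C'_{Q'}` is flat
  over `A'`, then the fibre condition for `(R, B, C)` at `Q` implies that `C_Q` is flat over `B`.
* `stageAlg`, ...: the stage `(R', R' ⊗ B₁, R' ⊗ C₁)` of a model `(A, B₁, C₁)`.
-/

set_option autoImplicit false
set_option linter.style.haveILetI false
set_option linter.unusedSectionVars false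

universe u

open TensorProduct Function

namespace Groth.Agent.Helper21.CPF

section FinLevel

variable (A' : Type u) {R : Type u} (B' : Type u) {B : Type u} (C' : Type u) {C : Type u}
  [CommRing A'] [CommRing R] [CommRing B'] [CommRing B]
  [CommRing C'] [CommRing C]
  [Algebra A' R] [Algebra A' B'] [Algebra R B] [Algebra B' B] [Algebra A' B]
  [IsScalarTower A' R B] [IsScalarTower A' B' B] [Algebra.IsPushout A' R B' B]
  [Algebra A' C'] [Algebra R C] [Algebra C' C] [Algebra A' C]
  [IsScalarTower A' R C] [IsScalarTower A' C' C] [Algebra.IsPushout A' R C' C]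
  [Algebra B' C'] [Algebra B C] [Algebra B' C] [IsScalarTower B' B C] [IsScalarTower B' C' C]
  [IsScalarTower A' B' C'] [IsScalarTower R B C]
  [IsNoetherianRing A'] [IsNoetherianRing B'] [IsNoetherianRing C']
  (Q : Ideal C) [Q.IsPrime] (p : Ideal R) [p.IsPrime]

include B' in
set_option maxHeartbeats 1600000 in
set_option synthInstance.maxHeartbeats 400000 in
/-- The critère de platitude par fibres, given a good Noetherian stage. -/
theorem fin_level (hp : p = Q.comap (algebraMap R C))
    [Module.Flat A' (LocalizedModule (Q.comap (algebraMap C' C)).primeCompl C')]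
    [Module.Flat (B ⧸ p.map (algebraMap R B))
      ((B ⧸ p.map (algebraMap R B)) ⊗[B] LocalizedModule Q.primeCompl C)] :
    Module.Flat B (LocalizedModule Q.primeCompl C) := by
  haveI tA'BC : IsScalarTower A' B C := IsScalarTower.of_algebraMap_eq fun a => by
    rw [IsScalarTower.algebraMap_apply A' R C, IsScalarTower.algebraMap_apply R B C,
      ← IsScalarTower.algebraMap_apply A' R B]
  haveI tA'B'C : IsScalarTower A' B' C := IsScalarTower.of_algebraMap_eq fun a => by
    rw [IsScalarTower.algebraMap_apply A' C' C, IsScalarTower.algebraMap_apply A' B' C',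
      ← IsScalarTower.algebraMap_apply B' C' C]
  -- the fibre condition at the stage
  haveI H2 := fd (A' := A') (B' := B') (B := B) (C' := C') Q p hp
  -- `H1`
  have H1 : Injective (((p.comap (algebraMap A' R)).map (algebraMap A' B')).subtype.rTensor
      (LocalizedModule (Q.comap (algebraMap C' C)).primeCompl C')) :=
    Groth.Agent.Helper1.rTensor_map_subtype_injective_of_flat (R := A') (S := B')
      (M := LocalizedModule (Q.comap (algebraMap C' C)).primeCompl C') (p.comap (algebraMap A' R))
  have hIP : ((p.comap (algebraMap A' R)).map (algebraMap A' B')).map (algebraMap B' C') ≤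
      Q.comap (algebraMap C' C) := by
    rw [Ideal.map_map, ← IsScalarTower.algebraMap_eq, Ideal.map_le_iff_le_comap,
      Ideal.comap_comap, ← IsScalarTower.algebraMap_eq, hp, Ideal.comap_comap,
      ← IsScalarTower.algebraMap_eq]
  haveI hB' : Module.Flat B' (LocalizedModule (Q.comap (algebraMap C' C)).primeCompl C') :=
    FL.flat_localizedModule_of_stratum' (R := B') (S := C') (M := C') (Q.comap (algebraMap C' C))
      ((p.comap (algebraMap A' R)).map (algebraMap A' B')) hIP
      (Q.comap (algebraMap C' C)).primeCompl le_rfl
      (LocalizedModule.mkLinearMap (Q.comap (algebraMap C' C)).primeCompl C') H1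
  -- ascent
  haveI po1 : Algebra.IsPushout A' B' R B := Algebra.IsPushout.symm inferInstance
  have po2 : Algebra.IsPushout A' C' R C := Algebra.IsPushout.symm inferInstance
  have po3 : Algebra.IsPushout B' C' B C :=
    (Algebra.IsPushout.comp_iff A' B' R (T := C') (S' := B) (T' := C)).mp po2
  haveI po4 : Algebra.IsPushout B' B C' C := po3.symm
  exact FL.flat_localizedModule_of_isBaseChange (R₀ := B') (R := B) (S₀ := C') (S := C)
    (Algebra.linearMap C' C) (IsBaseChange.linearMap C' C) Q

end FinLevel

end Groth.Agent.Helper21.CPF
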