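import Mathlib
import Groth.Agent.Lib.Helper21.CPF4

/-!
# Critère de platitude par fibres, part 5: stages of a model (helper21)
-/

set_option autoImplicit false
set_option linter.style.haveILetI false
set_option linter.unusedSectionVars false

universe u

open TensorProduct Function

namespace Groth.Agent.Helper21.CPF

section Stage

variable {A R B₁ B C₁ C : Type u} [CommRing A] [CommRing R] [CommRing B₁] [CommRing B]
  [CommRing C₁] [CommRing C]
  [Algebra A R] [Algebra A B₁] [Algebra R B] [Algebra B₁ B] [Algebra A B]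
  [IsScalarTower A R B] [IsScalarTower A B₁ B]
  [Algebra A C₁] [Algebra R C] [Algebra C₁ C] [Algebra A C]
  [IsScalarTower A R C] [IsScalarTower A C₁ C]
  [Algebra B₁ C₁] [Algebra B C] [Algebra B₁ C] [IsScalarTower B₁ B C] [IsScalarTower B₁ C₁ C]
  [IsScalarTower A B₁ C₁] [IsScalarTower R B C] [IsScalarTower A B₁ C]
  (R' : Type u) [CommRing R'] [Algebra A R'] [Algebra R' R] [IsScalarTower A R' R]
  [Algebra R' B] [IsScalarTower R' R B] [IsScalarTower A R' B]
  [Algebra R' C] [IsScalarTower R' R C] [IsScalarTower A R' C] [IsScalarTower R' B C]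

attribute [local instance] FS.stageAlgebra

/-- `R' ⊗ B₁ → R' ⊗ C₁` -/
@[reducible] noncomputable def stageAlg : Algebra (R' ⊗[A] B₁) (R' ⊗[A] C₁) :=
  (Algebra.TensorProduct.map (AlgHom.id R' R') (IsScalarTower.toAlgHom A B₁ C₁)).toRingHom.toAlgebra

attribute [local instance] stageAlg

theorem stageAlg_tmul (r : R') (b : B₁) :
    algebraMap (R' ⊗[A] B₁) (R' ⊗[A] C₁) (r ⊗ₜ b) = r ⊗ₜ algebraMap B₁ C₁ b := by
  change Algebra.TensorProduct.map (AlgHom.id R' R') (IsScalarTower.toAlgHom A B₁ C₁) (r ⊗ₜ b) = _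
  simp

instance stage_tower_BBC : IsScalarTower (R' ⊗[A] B₁) B C := by
  refine IsScalarTower.of_algebraMap_eq fun x => ?_
  induction x using TensorProduct.induction_on with
  | zero => simp
  | add x y hx hy => simp only [map_add, hx, hy]
  | tmul r b =>
    rw [FS.stageAlgebra_tmul, FS.stageAlgebra_tmul, map_mul,
      ← IsScalarTower.algebraMap_apply R' B C, ← IsScalarTower.algebraMap_apply B₁ B C]

instance stage_tower_RBC : IsScalarTower R' (R' ⊗[A] B₁) (R' ⊗[A] C₁) :=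
  IsScalarTower.of_algebraMap_eq fun r => by
    rw [Algebra.TensorProduct.algebraMap_apply, Algebra.TensorProduct.algebraMap_apply,
      stageAlg_tmul, map_one]

instance stage_tower_BCC : IsScalarTower (R' ⊗[A] B₁) (R' ⊗[A] C₁) C := by
  refine IsScalarTower.of_algebraMap_eq fun x => ?_
  induction x using TensorProduct.induction_on with
  | zero => simp
  | add x y hx hy => simp only [map_add, hx, hy]
  | tmul r b =>
    rw [stageAlg_tmul, FS.stageAlgebra_tmul, FS.stageAlgebra_tmul,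
      ← IsScalarTower.algebraMap_apply B₁ C₁ C]

end Stage

section LB

variable {A R : Type u} (B₁ : Type u) {B C₁ C : Type u} [CommRing A] [CommRing R] [CommRing B₁] [CommRing B]
  [CommRing C₁] [CommRing C]
  [Algebra A R] [Algebra A B₁] [Algebra R B] [Algebra B₁ B] [Algebra A B]
  [IsScalarTower A R B] [IsScalarTower A B₁ B] [Algebra.IsPushout A R B₁ B]
  [Algebra A C₁] [Algebra R C] [Algebra C₁ C] [Algebra A C]
  [IsScalarTower A R C] [IsScalarTower A C₁ C] [Algebra.IsPushout A R C₁ C]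
  [Algebra B₁ C₁] [Algebra B C] [Algebra B₁ C] [IsScalarTower B₁ B C] [IsScalarTower B₁ C₁ C]
  [IsScalarTower A B₁ C₁] [IsScalarTower R B C] [IsScalarTower A B₁ C]
  [Algebra.FiniteType ℤ A] [Algebra.FiniteType A B₁] [Algebra.FiniteType A C₁]
  {M₁ : Type u} [AddCommGroup M₁] [Module C₁ M₁] [Module A M₁] [IsScalarTower A C₁ M₁]
  [Module.Finite C₁ M₁]

include B₁ in
set_option maxHeartbeats 1600000 in
set_option synthInstance.maxHeartbeats 400000 in
attribute [local instance] FS.stageAlgebra stageAlg Algebra.TensorProduct.rightAlgebra in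
/-- The critère de platitude par fibres from the data of the limit step. -/
theorem flat_of_stage_data (e₁ : M₁ ≃ₗ[C₁] C₁) (Q : Ideal C) [Q.IsPrime] (p : Ideal A)
    (hpQ : p.map (algebraMap A C) ≤ Q)
    (T₁ : Submonoid C₁) (hT₁ : Algebra.algebraMapSubmonoid C T₁ ≤ Q.primeCompl)
    [Module.Flat (A ⧸ p) ((A ⧸ p) ⊗[A] LocalizedModule T₁ M₁)]
    (hR : Injective ((p • (⊤ : Submodule A R)).subtype.rTensor (LocalizedModule T₁ M₁)))
    (𝔭 : Ideal R) [𝔭.IsPrime] (h𝔭 : 𝔭 = Q.comap (algebraMap R C))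
    [Module.Flat (B ⧸ 𝔭.map (algebraMap R B))
      ((B ⧸ 𝔭.map (algebraMap R B)) ⊗[B] LocalizedModule Q.primeCompl C)] :
    Module.Flat B (LocalizedModule Q.primeCompl C) := by
  classical
  haveI : IsNoetherianRing A := Algebra.FiniteType.isNoetherianRing ℤ A
  obtain ⟨F, hF⟩ := FL.exists_finset_forall_flat_at A C₁ M₁ R p T₁ hR
  let R' : Subalgebra A R := Algebra.adjoin A (F : Set R)
  have hR'fg : R'.FG := Subalgebra.fg_adjoin_finset F
  haveI : Algebra.FiniteType A R' := (Subalgebra.fg_iff_finiteType R').mp hR'fg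
  haveI : Algebra.FiniteType ℤ R' :=
    Algebra.FiniteType.trans (inferInstance : Algebra.FiniteType ℤ A) inferInstance
  haveI : IsNoetherianRing R' := Algebra.FiniteType.isNoetherianRing ℤ R'
  haveI : IsNoetherianRing (R' ⊗[A] B₁) := Algebra.FiniteType.isNoetherianRing R' _
  haveI : IsNoetherianRing (R' ⊗[A] C₁) := Algebra.FiniteType.isNoetherianRing R' _
  haveI tRBC : IsScalarTower R' B C := IsScalarTower.of_algebraMap_eq fun r =>
    IsScalarTower.algebraMap_apply R B C r.1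
  have hpQ' : p.map (algebraMap A (R' ⊗[A] C₁)) ≤ Q.comap (algebraMap (R' ⊗[A] C₁) C) := by
    rw [Ideal.map_le_iff_le_comap, Ideal.comap_comap,
      ← IsScalarTower.algebraMap_eq A (R' ⊗[A] C₁) C, ← Ideal.map_le_iff_le_comap]
    exact hpQ
  have hTQ' : Algebra.algebraMapSubmonoid (R' ⊗[A] C₁) T₁ ≤
      (Q.comap (algebraMap (R' ⊗[A] C₁) C)).primeCompl := by
    rintro _ ⟨t, ht, rfl⟩ hmem
    have hmem' : algebraMap (R' ⊗[A] C₁) C (algebraMap C₁ (R' ⊗[A] C₁) t) ∈ Q := hmem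
    rw [← IsScalarTower.algebraMap_apply C₁ (R' ⊗[A] C₁) C] at hmem'
    exact hT₁ ⟨t, ht, rfl⟩ hmem'
  have hflat := hF R' Algebra.subset_adjoin hR'fg (Q.comap (algebraMap (R' ⊗[A] C₁) C)) hpQ' hTQ'
  let ε : (R' ⊗[A] C₁) ⊗[C₁] M₁ ≃ₗ[R' ⊗[A] C₁] (R' ⊗[A] C₁) :=
    (AlgebraTensorModule.congr (LinearEquiv.refl (R' ⊗[A] C₁) (R' ⊗[A] C₁)) e₁) ≪≫ₗ
      (AlgebraTensorModule.rid C₁ (R' ⊗[A] C₁) (R' ⊗[A] C₁))
  haveI hloc : IsLocalizedModule (Q.comap (algebraMap (R' ⊗[A] C₁) C)).primeCompl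
      ((LocalizedModule.mkLinearMap (Q.comap (algebraMap (R' ⊗[A] C₁) C)).primeCompl
        (R' ⊗[A] C₁)) ∘ₗ ε.toLinearMap) :=
    IsLocalizedModule.of_linearEquiv_right _ _ ε
  let iso : LocalizedModule (Q.comap (algebraMap (R' ⊗[A] C₁) C)).primeCompl
      ((R' ⊗[A] C₁) ⊗[C₁] M₁) ≃ₗ[R' ⊗[A] C₁]
      LocalizedModule (Q.comap (algebraMap (R' ⊗[A] C₁) C)).primeCompl (R' ⊗[A] C₁) :=
    IsLocalizedModule.iso (Q.comap (algebraMap (R' ⊗[A] C₁) C)).primeCompl
      ((LocalizedModule.mkLinearMap (Q.comap (algebraMap (R' ⊗[A] C₁) C)).primeCompl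
        (R' ⊗[A] C₁)) ∘ₗ ε.toLinearMap)
  haveI hflat' : Module.Flat R'
      (LocalizedModule (Q.comap (algebraMap (R' ⊗[A] C₁) C)).primeCompl (R' ⊗[A] C₁)) :=
    Module.Flat.of_linearEquiv (iso.symm.restrictScalars R')
  haveI poB : Algebra.IsPushout R' R (R' ⊗[A] B₁) B := FS.stage_isPushout A B₁ B R'
  haveI poC : Algebra.IsPushout R' R (R' ⊗[A] C₁) C := FS.stage_isPushout A C₁ C R'
  exact fin_level R' (R' ⊗[A] B₁) (R' ⊗[A] C₁) Q 𝔭 h𝔭

end LB

end Groth.Agent.Helper21.CPF
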