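import Mathlib
import Groth.Agent.Lib.Helper21.CPF5

/-!
# Critère de platitude par fibres, part 6: from a model over a finite type `ℤ`-algebra (helper21)
-/

set_option autoImplicit false
set_option linter.style.haveILetI false
set_option linter.unusedSectionVars false

universe u

open TensorProduct Function

namespace Groth.Agent.Helper21.CPF

section Core

variable {A R : Type u} (B₁ : Type u) {B : Type u} (C₁ : Type u) {C : Type u} [CommRing A] [CommRing R] [CommRing B₁]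
  [CommRing B] [CommRing C₁] [CommRing C]
  [Algebra A R] [Algebra A B₁] [Algebra R B] [Algebra B₁ B] [Algebra A B]
  [IsScalarTower A R B] [IsScalarTower A B₁ B] [Algebra.IsPushout A R B₁ B]
  [Algebra A C₁] [Algebra R C] [Algebra C₁ C] [Algebra A C]
  [IsScalarTower A R C] [IsScalarTower A C₁ C] [Algebra.IsPushout A R C₁ C]
  [Algebra B₁ C₁] [Algebra B C] [Algebra B₁ C] [IsScalarTower B₁ B C] [IsScalarTower B₁ C₁ C]
  [IsScalarTower A B₁ C₁] [IsScalarTower R B C] [IsScalarTower A B₁ C]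
  [Algebra.FiniteType ℤ A] [Algebra.FiniteType A B₁] [Algebra.FiniteType A C₁]

variable (A) in
include A B₁ C₁ in
set_option maxHeartbeats 3200000 in
set_option synthInstance.maxHeartbeats 400000 in
attribute [local instance] FS.stageAlgebra stageAlg Algebra.TensorProduct.rightAlgebra in
/-- The critère de platitude par fibres, given a model of `(R, B, C)` over a finite type
`ℤ`-algebra. -/
theorem flat_of_model (Q : Ideal C) [Q.IsPrime] [Module.Flat R (LocalizedModule Q.primeCompl C)]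
    (𝔭 : Ideal R) [𝔭.IsPrime] (h𝔭 : 𝔭 = Q.comap (algebraMap R C))
    [Module.Flat (B ⧸ 𝔭.map (algebraMap R B))
      ((B ⧸ 𝔭.map (algebraMap R B)) ⊗[B] LocalizedModule Q.primeCompl C)] :
    Module.Flat B (LocalizedModule Q.primeCompl C) := by
  classical
  haveI : IsNoetherianRing A := Algebra.FiniteType.isNoetherianRing ℤ A
  let h : C₁ →ₗ[C₁] C := Algebra.linearMap C₁ C
  have hh : IsBaseChange C h := IsBaseChange.linearMap C₁ C
  let p : Ideal A := Q.comap (algebraMap A C)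
  haveI : p.IsPrime := Ideal.comap_isPrime _ _
  obtain ⟨s, hs, hflat⟩ := FS.exists_stratum_of_prime A C₁ C₁ p
  haveI := hflat
  have hsQ : algebraMap A C s ∉ Q := fun hmem => hs (Ideal.mem_comap.mpr hmem)
  obtain ⟨g, hgQ, hH1⟩ := FL.exists_forall_rTensor_injective (R := R) h hh p s Q hsQ
  obtain ⟨R₁, hR₁fg, g₁, hg₁⟩ := FL.exists_stage_rep (A := A) (R := R) (S₁ := C₁) g
  haveI : Algebra.FiniteType A R₁ := (Subalgebra.fg_iff_finiteType R₁).mp hR₁fg
  haveI : Algebra.FiniteType ℤ R₁ :=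
    Algebra.FiniteType.trans (inferInstance : Algebra.FiniteType ℤ A) inferInstance
  haveI hpo : Algebra.IsPushout R₁ R (R₁ ⊗[A] C₁) C := FS.stage_isPushout A C₁ C R₁
  have hh' : IsBaseChange C (FS.stageMap A C₁ C R₁ h) :=
    FS.stageMap_isBaseChange A C₁ C R₁ h hh
  let T₁' : Submonoid (R₁ ⊗[A] C₁) := Submonoid.closure {algebraMap A (R₁ ⊗[A] C₁) s, g₁}
  have hsT' : algebraMap A (R₁ ⊗[A] C₁) s ∈ T₁' :=
    Submonoid.subset_closure (Set.mem_insert _ _)
  have hgT' : g₁ ∈ T₁' := Submonoid.subset_closure (Set.mem_insert_of_mem _ rfl)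
  have hT₁' : Algebra.algebraMapSubmonoid C T₁' ≤ Q.primeCompl := by
    rintro _ ⟨t, ht, rfl⟩
    have hle : T₁' ≤ Q.primeCompl.comap (algebraMap (R₁ ⊗[A] C₁) C) := by
      apply Submonoid.closure_le.mpr
      rintro x (rfl | rfl)
      · change algebraMap (R₁ ⊗[A] C₁) C (algebraMap A (R₁ ⊗[A] C₁) s) ∈ Q.primeCompl
        rw [← IsScalarTower.algebraMap_apply A (R₁ ⊗[A] C₁) C]
        exact hsQ
      · change algebraMap (R₁ ⊗[A] C₁) C x ∈ Q.primeCompl
        rw [hg₁]
        exact hgQ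
    exact hle ht
  haveI hfl' := FL.flat_stratum_rebase (A := A) (R₁ := R₁) (S₁ := C₁) (S₁' := R₁ ⊗[A] C₁)
    (M₁ := C₁) p s T₁' hsT'
  have hsT : algebraMap A C s ∈ Algebra.algebraMapSubmonoid C T₁' :=
    ⟨_, hsT', by rw [← IsScalarTower.algebraMap_apply A (R₁ ⊗[A] C₁) C]⟩
  have hgT : g ∈ Algebra.algebraMapSubmonoid C T₁' := ⟨g₁, hgT', hg₁⟩
  have hideal : (p.map (algebraMap A R₁)).map (algebraMap R₁ R) = p.map (algebraMap A R) := by
    rw [Ideal.map_map, ← IsScalarTower.algebraMap_eq A R₁ R]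
  have H := hH1 _ hsT hgT
  rw [← hideal] at H
  have hR' := FL.injective_rebase (FS.stageMap A C₁ C R₁ h) hh' (p.map (algebraMap A R₁)) T₁' H
  have hpQ' : (p.map (algebraMap A R₁)).map (algebraMap R₁ C) ≤ Q := by
    rw [Ideal.map_map, ← IsScalarTower.algebraMap_eq A R₁ C]
    exact Ideal.map_comap_le
  haveI poB : Algebra.IsPushout R₁ R (R₁ ⊗[A] B₁) B := FS.stage_isPushout A B₁ B R₁
  haveI tRBC : IsScalarTower R₁ B C := IsScalarTower.of_algebraMap_eq fun r =>
    IsScalarTower.algebraMap_apply R B C r.1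
  exact flat_of_stage_data (A := R₁) (R₁ ⊗[A] B₁) (C₁ := R₁ ⊗[A] C₁)
    (M₁ := (R₁ ⊗[A] C₁) ⊗[C₁] C₁)
    (AlgebraTensorModule.rid C₁ (R₁ ⊗[A] C₁) (R₁ ⊗[A] C₁)) Q (p.map (algebraMap A R₁)) hpQ'
    T₁' hT₁' hR' 𝔭 h𝔭

end Core

end Groth.Agent.Helper21.CPF
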