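import Mathlib
import Groth.Agent.Lib.Helper21.FS6
import Groth.Agent.Lib.Helper1.LocalCriterion

/-!
# Fibrewise flatness modulo a locally nilpotent ideal (helper21)

`R → S` a ring map, `I` an ideal of `R` all of whose elements are nilpotent, `S'` a finitely presented
`S`-algebra, `M` a finitely presented `S'`-module flat over `R` with `M/IM` flat over `S/IS`.
Then `M` is flat over `S`.
-/

set_option autoImplicit false
set_option linter.style.haveILetI false
set_option linter.unusedSectionVars false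

universe u

open TensorProduct Function

namespace Groth.Agent.Helper21.NilFib

section Sigma

variable {R S M : Type u} [CommRing R] [CommRing S] [Algebra R S] [AddCommGroup M] [Module S M]
  [Module R M] [IsScalarTower R S M] (I₀ : Ideal R)

/-- `I₀ → I₀ S` -/
noncomputable def inJ : I₀ →+ (I₀.map (algebraMap R S)) where
  toFun i := ⟨algebraMap R S i, Ideal.mem_map_of_mem _ i.2⟩
  map_zero' := Subtype.ext (by simp)
  map_add' i i' := Subtype.ext (by simp)

theorem inJ_smul (r : R) (i : I₀) :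
    inJ (S := S) I₀ (r • i) = algebraMap R S r • inJ (S := S) I₀ i :=
  Subtype.ext (by simp [inJ, Algebra.smul_def])

/-- the additive surjection `I₀ ⊗[R] M →+ (I₀ S) ⊗[S] M` -/
noncomputable def sigma : (I₀ ⊗[R] M) →+ ((I₀.map (algebraMap R S)) ⊗[S] M) :=
  TensorProduct.liftAddHom
    { toFun := fun i => (TensorProduct.mk S (I₀.map (algebraMap R S)) M (inJ I₀ i)).toAddMonoidHom
      map_zero' := by
        ext m
        simp
      map_add' := fun i i' => by
        ext m
        simp }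
    (fun r i m => by
      change (inJ (S := S) I₀ (r • i)) ⊗ₜ[S] m = (inJ (S := S) I₀ i) ⊗ₜ[S] (r • m)
      rw [inJ_smul, TensorProduct.smul_tmul, algebraMap_smul])

theorem sigma_tmul (i : I₀) (m : M) :
    sigma (S := S) I₀ (i ⊗ₜ[R] m) = (inJ (S := S) I₀ i) ⊗ₜ[S] m := rfl

theorem sigma_surjective : Surjective (sigma (S := S) (M := M) I₀) := by
  have key : ∀ (j : S) (hj : j ∈ I₀.map (algebraMap R S)) (m : M),
      ∃ y, sigma (S := S) I₀ y = (⟨j, hj⟩ : I₀.map (algebraMap R S)) ⊗ₜ[S] m := by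
    intro j hj
    refine Submodule.span_induction (p := fun j hj => ∀ m : M,
      ∃ y, sigma (S := S) I₀ y = (⟨j, hj⟩ : I₀.map (algebraMap R S)) ⊗ₜ[S] m) ?_ ?_ ?_ ?_ hj
    · rintro _ ⟨i, hi, rfl⟩ m
      exact ⟨(⟨i, hi⟩ : I₀) ⊗ₜ[R] m, rfl⟩
    · intro m
      refine ⟨0, ?_⟩
      rw [map_zero]
      exact (TensorProduct.zero_tmul _ m).symm
    · intro x y hx hy ihx ihy m
      obtain ⟨a, ha⟩ := ihx m
      obtain ⟨b, hb⟩ := ihy m
      refine ⟨a + b, ?_⟩
      rw [map_add, ha, hb, ← TensorProduct.add_tmul]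
      rfl
    · intro s x hx ihx m
      obtain ⟨a, ha⟩ := ihx (s • m)
      refine ⟨a, ?_⟩
      rw [ha, ← TensorProduct.smul_tmul]
      rfl
  intro x
  induction x using TensorProduct.induction_on with
  | zero => exact ⟨0, map_zero _⟩
  | tmul j m => exact key j.1 j.2 m
  | add x y hx hy =>
    obtain ⟨a, rfl⟩ := hx
    obtain ⟨b, rfl⟩ := hy
    exact ⟨a + b, map_add _ _ _⟩

theorem lid_rTensor_sigma (y : I₀ ⊗[R] M) :
    TensorProduct.lid S M ((I₀.map (algebraMap R S)).subtype.rTensor M (sigma (S := S) I₀ y)) =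
      TensorProduct.lid R M (I₀.subtype.rTensor M y) := by
  induction y using TensorProduct.induction_on with
  | zero => simp
  | tmul i m =>
    rw [sigma_tmul]
    simp only [LinearMap.rTensor_tmul, Submodule.subtype_apply, TensorProduct.lid_tmul]
    exact algebraMap_smul S (i : R) m
  | add x y hx hy => simp only [map_add, hx, hy]

theorem rTensor_injective_of_flat_base [Module.Flat R M] :
    Injective ((I₀.map (algebraMap R S)).subtype.rTensor M) := by
  rw [injective_iff_map_eq_zero]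
  intro x hx
  obtain ⟨y, rfl⟩ := sigma_surjective I₀ x
  have h1 := lid_rTensor_sigma (S := S) I₀ y
  rw [hx, map_zero] at h1
  have h2 : I₀.subtype.rTensor M y = 0 :=
    (TensorProduct.lid R M).injective (by rw [← h1, map_zero])
  have h3 : y = 0 :=
    Module.Flat.rTensor_preserves_injective_linearMap I₀.subtype Subtype.val_injective
      (by rw [h2, map_zero])
  rw [h3, map_zero]

/-- Nilpotent case: `I₀` a nilpotent ideal of `R`, `M` an `S`-module flat over `R` with `M/I₀M` flat
over `S/I₀S`; then `M` is flat over `S`. -/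
theorem flat_of_nilpotent_base [Module.Flat R M] (hI₀ : IsNilpotent I₀)
    [Module.Flat (S ⧸ I₀.map (algebraMap R S)) ((S ⧸ I₀.map (algebraMap R S)) ⊗[S] M)] :
    Module.Flat S M := by
  refine Groth.Agent.Helper1.flat_of_isNilpotent (I₀.map (algebraMap R S)) ?_
    (rTensor_injective_of_flat_base I₀)
  obtain ⟨n, hn⟩ := hI₀
  refine ⟨n, ?_⟩
  rw [← Ideal.map_pow, hn, Ideal.zero_eq_bot, Ideal.map_bot]
  rfl

end Sigma

section FGIdeal

theorem exists_fg_le_forall_mem_map {R S : Type*} [CommRing R] [CommRing S] (f : R →+* S)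
    (I : Ideal R) {ι : Type*} (G : Finset ι) (x : ι → S) (hx : ∀ g ∈ G, x g ∈ I.map f) :
    ∃ I₀ : Ideal R, I₀.FG ∧ I₀ ≤ I ∧ ∀ g ∈ G, x g ∈ I₀.map f := by
  classical
  have single : ∀ y ∈ I.map f, ∃ I₀ : Ideal R, I₀.FG ∧ I₀ ≤ I ∧ y ∈ I₀.map f := by
    intro y hy
    refine Submodule.span_induction
      (p := fun y _ => ∃ I₀ : Ideal R, I₀.FG ∧ I₀ ≤ I ∧ y ∈ I₀.map f) ?_ ?_ ?_ ?_ hy
    · rintro _ ⟨i, hi, rfl⟩
      refine ⟨Ideal.span {i}, Submodule.fg_span_singleton i, ?_,
        Ideal.mem_map_of_mem f (Ideal.subset_span rfl)⟩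
      rw [Ideal.span_le]
      simpa using hi
    · exact ⟨⊥, Submodule.fg_bot, bot_le, zero_mem _⟩
    · rintro a b _ _ ⟨I₁, h1, h1', ha⟩ ⟨I₂, h2, h2', hb⟩
      exact ⟨I₁ ⊔ I₂, Submodule.FG.sup h1 h2, sup_le h1' h2',
        add_mem (Ideal.map_mono le_sup_left ha) (Ideal.map_mono le_sup_right hb)⟩
    · rintro s a _ ⟨I₁, h1, h1', ha⟩
      exact ⟨I₁, h1, h1', Submodule.smul_mem _ s ha⟩
  induction G using Finset.induction_on with
  | empty => exact ⟨⊥, Submodule.fg_bot, bot_le, by simp⟩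
  | insert a G ha ih =>
    obtain ⟨I₁, h1, h1', hG⟩ := ih (fun g hg => hx g (Finset.mem_insert_of_mem hg))
    obtain ⟨I₂, h2, h2', ha'⟩ := single (x a) (hx a (Finset.mem_insert_self a G))
    refine ⟨I₁ ⊔ I₂, Submodule.FG.sup h1 h2, sup_le h1' h2', ?_⟩
    intro g hg
    rcases Finset.mem_insert.mp hg with rfl | hg
    · exact Ideal.map_mono le_sup_right ha'
    · exact Ideal.map_mono le_sup_left (hG g hg)

theorem exists_fg_ideal_flat {R S : Type u} [CommRing R] [CommRing S] [Algebra R S] (I : Ideal R)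
    (A : Type u) [CommRing A] [IsNoetherianRing A] [Algebra A S]
    (S₁ : Type u) [CommRing S₁] [Algebra A S₁] [Algebra.FiniteType A S₁]
    (M₁ : Type u) [AddCommGroup M₁] [Module S₁ M₁] [Module A M₁] [IsScalarTower A S₁ M₁]
    [Module.Finite S₁ M₁]
    [Module.Flat (S ⧸ I.map (algebraMap R S)) ((S ⧸ I.map (algebraMap R S)) ⊗[A] M₁)] :
    ∃ I₀ : Ideal R, I₀.FG ∧ I₀ ≤ I ∧
      Module.Flat (S ⧸ I₀.map (algebraMap R S)) ((S ⧸ I₀.map (algebraMap R S)) ⊗[A] M₁) := by
  classical
  obtain ⟨T, hT⟩ := FS.exists_finset_forall_flat A S₁ M₁ (S ⧸ I.map (algebraMap R S))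
  -- lifts
  let lift : S ⧸ I.map (algebraMap R S) → S := Function.surjInv Ideal.Quotient.mk_surjective
  have hlift : ∀ t, Ideal.Quotient.mk (I.map (algebraMap R S)) (lift t) = t :=
    Function.surjInv_eq _
  let R'' : Subalgebra A S := Algebra.adjoin A ((T.image lift : Finset S) : Set S)
  have hR''fg : R''.FG := Subalgebra.fg_adjoin_finset _
  haveI : Algebra.FiniteType A R'' := (Subalgebra.fg_iff_finiteType R'').mp hR''fg
  haveI : IsNoetherianRing R'' := Algebra.FiniteType.isNoetherianRing A R''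
  let f : R'' →ₐ[A] S ⧸ I.map (algebraMap R S) :=
    (Ideal.Quotient.mkₐ A (I.map (algebraMap R S))).comp R''.val
  have hTR' : (T : Set (S ⧸ I.map (algebraMap R S))) ⊆ f.range := by
    intro t ht
    refine ⟨⟨lift t, Algebra.subset_adjoin ?_⟩, hlift t⟩
    exact Finset.mem_coe.mpr (Finset.mem_image_of_mem lift ht)
  haveI : Algebra.FiniteType A f.range :=
    Algebra.FiniteType.of_surjective f.rangeRestrict f.rangeRestrict_surjective
  have hR'fg : f.range.FG := (Subalgebra.fg_iff_finiteType f.range).mpr inferInstance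
  haveI hflat : Module.Flat f.range (f.range ⊗[A] M₁) := hT f.range hTR' hR'fg
  -- kernel
  have hKmem : ∀ x : R'', x ∈ RingHom.ker f.rangeRestrict → (x : S) ∈ I.map (algebraMap R S) := by
    intro x hx
    have h1 : f.rangeRestrict x = 0 := hx
    have h2 : f x = 0 := congrArg Subtype.val h1
    exact Ideal.Quotient.eq_zero_iff_mem.mp h2
  obtain ⟨G, hG⟩ := (isNoetherianRing_iff_ideal_fg R'').mp inferInstance
    (RingHom.ker f.rangeRestrict)
  obtain ⟨I₀, hI₀fg, hI₀le, hI₀G⟩ := exists_fg_le_forall_mem_map (algebraMap R S) I G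
    (fun x : R'' => (x : S)) (fun g hg => hKmem g (hG ▸ Ideal.subset_span hg))
  refine ⟨I₀, hI₀fg, hI₀le, ?_⟩
  have hKJ₀ : ∀ a : R'', a ∈ RingHom.ker f.rangeRestrict →
      ((Ideal.Quotient.mkₐ A (I₀.map (algebraMap R S))).comp R''.val) a = 0 := by
    intro a ha
    have hle : RingHom.ker f.rangeRestrict ≤
        (I₀.map (algebraMap R S)).comap (algebraMap R'' S) := by
      rw [← hG, Ideal.span_le]
      intro g hg
      exact hI₀G g hg
    exact Ideal.Quotient.eq_zero_iff_mem.mpr (hle ha)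
  let ψ₀ : (R'' ⧸ RingHom.ker f.rangeRestrict) →ₐ[A] S ⧸ I₀.map (algebraMap R S) :=
    Ideal.Quotient.liftₐ _ ((Ideal.Quotient.mkₐ A (I₀.map (algebraMap R S))).comp R''.val) hKJ₀
  let e : (R'' ⧸ RingHom.ker f.rangeRestrict) ≃ₐ[A] f.range :=
    Ideal.quotientKerAlgEquivOfSurjective f.rangeRestrict_surjective
  let g : f.range →ₐ[A] S ⧸ I₀.map (algebraMap R S) := ψ₀.comp e.symm.toAlgHom
  letI : Algebra f.range (S ⧸ I₀.map (algebraMap R S)) := g.toRingHom.toAlgebra
  haveI : IsScalarTower A f.range (S ⧸ I₀.map (algebraMap R S)) :=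
    IsScalarTower.of_algebraMap_eq' g.comp_algebraMap.symm
  exact Module.Flat.of_linearEquiv (AlgebraTensorModule.cancelBaseChange A f.range
    (S ⧸ I₀.map (algebraMap R S)) (S ⧸ I₀.map (algebraMap R S)) M₁).symm

end FGIdeal

section Main

theorem flat_of_descent {R S : Type u} [CommRing R] [CommRing S] [Algebra R S] (I : Ideal R)
    (hI : ∀ a ∈ I, IsNilpotent a)
    {A S₁ S' : Type u} [CommRing A] [CommRing S₁] [CommRing S']
    [Algebra A S] [Algebra A S₁] [Algebra S S'] [Algebra S₁ S'] [Algebra A S']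
    [IsScalarTower A S S'] [IsScalarTower A S₁ S'] [Algebra.IsPushout A S S₁ S']
    [IsNoetherianRing A] [Algebra.FiniteType A S₁]
    {M₁ : Type u} [AddCommGroup M₁] [Module S₁ M₁] [Module A M₁] [IsScalarTower A S₁ M₁]
    [Module.Finite S₁ M₁]
    {M : Type u} [AddCommGroup M] [Module S' M] [Module S M] [IsScalarTower S S' M]
    [Module S₁ M] [IsScalarTower S₁ S' M]
    [Module R M] [IsScalarTower R S M] [Module.Flat R M]
    (h : M₁ →ₗ[S₁] M) (hh : IsBaseChange S' h)
    (hflat : Module.Flat (S ⧸ I.map (algebraMap R S)) ((S ⧸ I.map (algebraMap R S)) ⊗[S] M)) :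
    Module.Flat S M := by
  have eqv : ∀ J : Ideal S, ((S ⧸ J) ⊗[A] M₁) ≃ₗ[S ⧸ J] ((S ⧸ J) ⊗[S] M) := fun J =>
    (AlgebraTensorModule.cancelBaseChange A S (S ⧸ J) (S ⧸ J) M₁).symm ≪≫ₗ
      AlgebraTensorModule.congr (LinearEquiv.refl (S ⧸ J) (S ⧸ J)) (FS.baseChangeEquiv h hh)
  haveI : Module.Flat (S ⧸ I.map (algebraMap R S)) ((S ⧸ I.map (algebraMap R S)) ⊗[A] M₁) :=
    Module.Flat.of_linearEquiv (eqv _)
  obtain ⟨I₀, hfg, hle, hfl⟩ := exists_fg_ideal_flat (S := S) I A S₁ M₁
  haveI : Module.Flat (S ⧸ I₀.map (algebraMap R S)) ((S ⧸ I₀.map (algebraMap R S)) ⊗[S] M) :=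
    Module.Flat.of_linearEquiv (eqv _).symm
  have hnil : IsNilpotent I₀ :=
    hfg.isNilpotent_iff_le_nilradical.mpr (fun a ha => hI a (hle ha))
  exact flat_of_nilpotent_base I₀ hnil

set_option synthInstance.maxHeartbeats 400000 in
set_option maxHeartbeats 1600000 in
/-- **Fibrewise flatness modulo a locally nilpotent ideal.** -/
theorem flat_of_flat_mod_locally_nilpotent {R S S' M : Type u} [CommRing R] [CommRing S]
    [CommRing S'] [Algebra R S] [Algebra S S'] [Algebra R S'] [IsScalarTower R S S']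
    [Algebra.FiniteType R S] [Algebra.FinitePresentation R S'] (I : Ideal R)
    (hI : ∀ a ∈ I, IsNilpotent a)
    [AddCommGroup M] [Module S' M] [Module S M] [Module R M] [IsScalarTower S S' M]
    [IsScalarTower R S M]
    [Module.FinitePresentation S' M] [Module.Flat R M]
    (h : Module.Flat (S ⧸ I.map (algebraMap R S)) ((S ⧸ I.map (algebraMap R S)) ⊗[S] M)) :
    Module.Flat S M := by
  classical
  haveI : Algebra.FinitePresentation S S' :=
    Algebra.FinitePresentation.of_restrict_scalars_finitePresentation R S S'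
  -- presentation of `S'`
  let P := Algebra.Presentation.ofFinitePresentation S S'
  -- presentation of `M`
  obtain ⟨n, m, f, g, hf, hfg⟩ := Module.FinitePresentation.exists_fin' S' M
  -- lift the matrix entries to polynomials
  have hsurj : ∀ (k : Fin m) (l : Fin n), ∃ w : MvPolynomial _ S,
      MvPolynomial.aeval P.val w = g (Pi.single k 1) l := fun k l => by
    obtain ⟨w, hw⟩ := P.algebraMap_surjective (g (Pi.single k 1) l)
    exact ⟨w, by rw [← hw, Algebra.Generators.algebraMap_apply]⟩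
  choose w hw using hsurj
  -- the coefficient ring
  let s : Set S := P.coeffs ∪ ⋃ k, ⋃ l, ((w k l).coeffs : Set S)
  have hsfin : s.Finite := by
    refine Set.Finite.union P.finite_coeffs ?_
    exact Set.finite_iUnion fun k => Set.finite_iUnion fun l => Finset.finite_toSet _
  let A : Subalgebra ℤ S := Algebra.adjoin ℤ s
  haveI : P.HasCoeffs A := ⟨fun x hx => ⟨⟨x, Algebra.subset_adjoin (Or.inl hx)⟩, rfl⟩⟩
  haveI : Algebra.FiniteType ℤ A := Algebra.FiniteType.adjoin_of_finite hsfin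
  haveI : IsNoetherianRing A := Algebra.FiniteType.isNoetherianRing ℤ A
  let S₁ := P.ModelOfHasCoeffs A
  letI : Algebra S₁ S' := Groth.Agent.Helper21.FS.modelAlgebra P A
  haveI : IsScalarTower A S₁ S' := Groth.Agent.Helper21.FS.model_isScalarTower P A
  haveI : Algebra.IsPushout A S S₁ S' := Groth.Agent.Helper21.FS.model_isPushout P A
  -- descend the matrix
  have hw' : ∀ k l, ∃ w' : MvPolynomial _ A, MvPolynomial.map (algebraMap A S) w' = w k l := by
    intro k l
    have : w k l ∈ Set.range (MvPolynomial.map (algebraMap A S)) := by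
      rw [MvPolynomial.mem_range_map_iff_coeffs_subset]
      intro x hx
      exact ⟨⟨x, Algebra.subset_adjoin (Or.inr (Set.mem_iUnion₂.mpr ⟨k, l, hx⟩))⟩, rfl⟩
    exact this
  choose w' hw' using hw'
  let c' : Fin m → Fin n → S₁ := fun k l => Ideal.Quotient.mk _ (w' k l)
  -- module structure of `M` over `S₁`
  letI : Module S₁ M := Module.compHom M (algebraMap S₁ S')
  haveI : IsScalarTower S₁ S' M := IsScalarTower.of_algebraMap_smul fun _ _ => rfl
  have hc : ∀ k l, algebraMap S₁ S' (c' k l) = g (Pi.single k 1) l := by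
    intro k l
    rw [Groth.Agent.Helper21.FS.modelAlgebra_mk, ← hw, ← hw', MvPolynomial.aeval_map_algebraMap]
  obtain ⟨h₁, hh⟩ := Groth.Agent.Helper21.FS.exists_isBaseChange_cokerModel c' f g hf hfg hc
  haveI : Module.Finite S₁ (Groth.Agent.Helper21.FS.CokerModel c') := Module.Finite.quotient S₁ _
  exact flat_of_descent (A := A) I hI h₁ hh h

end Main

end Groth.Agent.Helper21.NilFib
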