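import Mathlib
import Groth.Agent.Lib.Helper21.CPF7
import Groth.Agent.Lib.Helper21.NilFib

/-!
# Critère de platitude par fibres, part 8: `B` only of finite type (helper21)

* `flat_of_surjective`: flatness over `B₁` implies flatness over a quotient `B` of `B₁`.
* `flat_of_surjective_of_torsion_ker`: flatness over `T` implies flatness over `T₁` when
  `T₁ → T` is surjective with "torsion" kernel.
* `exists_fg_le_generic`: finitely generated subideal which is generically (along `𝔭`) everything.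
* `cpf_ft`: the critère for `R → B → C` with `B` of finite type and `C` of finite presentation.
-/

set_option autoImplicit false
set_option linter.style.haveILetI false
set_option linter.unusedSectionVars false

universe u

open TensorProduct Function

namespace Groth.Agent.Helper21.CPF

section Surj

/-- Flatness descends along a surjective ring map. -/
theorem flat_of_surjective {B₁ B N : Type u} [CommRing B₁] [CommRing B] [Algebra B₁ B]
    [AddCommGroup N] [Module B₁ N] [Module B N] [IsScalarTower B₁ B N]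
    (hs : Surjective (algebraMap B₁ B)) [Module.Flat B₁ N] : Module.Flat B N := by
  refine Module.Flat.of_forall_isTrivialRelation ?_
  intro l f x h
  choose f' hf' using fun i => hs (f i)
  have h' : ∑ i, f' i • x i = 0 := by
    rw [← h]
    refine Finset.sum_congr rfl fun i _ => ?_
    rw [← hf' i, algebraMap_smul]
  obtain ⟨k, a, y, h1, h2⟩ := Module.Flat.isTrivialRelation_of_sum_smul_eq_zero h'
  refine ⟨k, fun i j => algebraMap B₁ B (a i j), y, fun i => ?_, fun j => ?_⟩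
  · rw [h1 i]
    refine Finset.sum_congr rfl fun j _ => ?_
    rw [algebraMap_smul]
  · have := congrArg (algebraMap B₁ B) (h2 j)
    rw [map_sum, map_zero] at this
    rw [← this]
    refine Finset.sum_congr rfl fun i _ => ?_
    rw [map_mul, hf' i]

/-- Flatness ascends along a surjective ring map whose kernel is torsion with respect to a
multiplicative set acting divisibly on the module. -/
theorem flat_of_surjective_of_torsion_ker {T₁ T X : Type u} [CommRing T₁] [CommRing T]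
    [Algebra T₁ T] [AddCommGroup X] [Module T₁ X] [Module T X] [IsScalarTower T₁ T X]
    (hs : Surjective (algebraMap T₁ T)) (W : Submonoid T₁)
    (hdiv : ∀ w ∈ W, ∀ x : X, ∃ x' : X, w • x' = x)
    (hker : ∀ z : T₁, algebraMap T₁ T z = 0 → ∃ w ∈ W, w * z = 0) [Module.Flat T X] :
    Module.Flat T₁ X := by
  classical
  refine Module.Flat.of_forall_isTrivialRelation ?_
  intro l f x h
  have h' : ∑ i, (algebraMap T₁ T (f i)) • x i = 0 := by
    rw [← h]
    refine Finset.sum_congr rfl fun i _ => ?_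
    rw [algebraMap_smul]
  obtain ⟨k, a, y, h1, h2⟩ := Module.Flat.isTrivialRelation_of_sum_smul_eq_zero h'
  choose a' ha' using fun i j => hs (a i j)
  have hz : ∀ j, algebraMap T₁ T (∑ i, f i * a' i j) = 0 := fun j => by
    rw [map_sum, ← h2 j]
    refine Finset.sum_congr rfl fun i _ => ?_
    rw [map_mul, ha']
  choose w hwW hw using fun j => hker _ (hz j)
  have hw₀ : (∏ j, w j) ∈ W := prod_mem (fun j _ => hwW j)
  have hw₀z : ∀ j, (∏ j, w j) * (∑ i, f i * a' i j) = 0 := fun j => by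
    have : (∏ j, w j) = (∏ j' ∈ Finset.univ.erase j, w j') * w j :=
      (Finset.prod_erase_mul _ _ (Finset.mem_univ j)).symm
    rw [this, mul_assoc, hw j, mul_zero]
  choose y' hy' using fun j => hdiv _ hw₀ (y j)
  refine ⟨k, fun i j => a' i j * (∏ j, w j), y', fun i => ?_, fun j => ?_⟩
  · rw [h1 i]
    refine Finset.sum_congr rfl fun j _ => ?_
    rw [mul_smul, hy' j, ← ha' i j, algebraMap_smul]
  · have : ∑ i, f i * (a' i j * (∏ j, w j)) = (∏ j, w j) * ∑ i, f i * a' i j := by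
      rw [Finset.mul_sum]
      refine Finset.sum_congr rfl fun i _ => ?_
      ring
    rw [this, hw₀z j]

end Surj

section Generic

attribute [local instance] MvPolynomial.algebraMvPolynomial in
/-- A finitely generated subideal of an ideal `b` of a polynomial ring over `R` which agrees
with `b` generically along the prime `𝔭` of `R`. -/
theorem exists_fg_le_generic {R : Type u} [CommRing R] (𝔭 : Ideal R) [𝔭.IsPrime] (n : ℕ)
    (b : Ideal (MvPolynomial (Fin n) R)) :
    ∃ b₁ : Ideal (MvPolynomial (Fin n) R), b₁.FG ∧ b₁ ≤ b ∧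
      ∀ c ∈ b, ∃ t : R, t ∉ 𝔭 ∧ MvPolynomial.C t * c ∈ b₁ ⊔ 𝔭.map MvPolynomial.C := by
  classical
  let D := R ⧸ 𝔭
  let K := FractionRing D
  let ψ₁ : MvPolynomial (Fin n) R →+* MvPolynomial (Fin n) D :=
    MvPolynomial.map (Ideal.Quotient.mk 𝔭)
  let ψ₂ : MvPolynomial (Fin n) D →+* MvPolynomial (Fin n) K :=
    algebraMap (MvPolynomial (Fin n) D) (MvPolynomial (Fin n) K)
  let ψ := ψ₂.comp ψ₁
  have hfg : (b.map ψ).FG := (isNoetherianRing_iff_ideal_fg _).mp inferInstance _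
  obtain ⟨G, hG⟩ := hfg
  obtain ⟨b₁, hb₁fg, hb₁le, hb₁G⟩ := NilFib.exists_fg_le_forall_mem_map ψ b G id
    (fun g hg => by rw [← hG]; exact Ideal.subset_span hg)
  refine ⟨b₁, hb₁fg, hb₁le, fun c hc => ?_⟩
  have hle : b.map ψ ≤ b₁.map ψ := by
    rw [← hG, Ideal.span_le]
    intro g hg
    exact hb₁G g hg
  have h1 : ψ c ∈ b₁.map ψ := hle (Ideal.mem_map_of_mem ψ hc)
  have h2 : ψ₂ (ψ₁ c) ∈ Ideal.map
      (algebraMap (MvPolynomial (Fin n) D) (MvPolynomial (Fin n) K)) (b₁.map ψ₁) := by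
    rw [Ideal.map_map]
    exact h1
  rw [IsLocalization.mem_map_algebraMap_iff ((nonZeroDivisors D).map MvPolynomial.C)
    (MvPolynomial (Fin n) K)] at h2
  obtain ⟨⟨⟨u, hu⟩, ⟨s, hs⟩⟩, h3⟩ := h2
  obtain ⟨d, hd, rfl⟩ := hs
  have hinj : Function.Injective ψ₂ := MvPolynomial.map_injective _ (IsFractionRing.injective D K)
  have h4 : ψ₁ c * MvPolynomial.C d = u := by
    apply hinj
    rw [map_mul]
    exact h3
  obtain ⟨t, rfl⟩ := Ideal.Quotient.mk_surjective d
  have ht : t ∉ 𝔭 := by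
    intro h
    exact nonZeroDivisors.ne_zero hd (Ideal.Quotient.eq_zero_iff_mem.mpr h)
  refine ⟨t, ht, ?_⟩
  have hψ₁s : Function.Surjective ψ₁ :=
    MvPolynomial.map_surjective _ Ideal.Quotient.mk_surjective
  obtain ⟨v, hv, hvu⟩ := (Ideal.mem_map_iff_of_surjective ψ₁ hψ₁s).mp hu
  have h5 : MvPolynomial.C t * c - v ∈ RingHom.ker ψ₁ := by
    rw [RingHom.mem_ker, map_sub, map_mul, hvu, ← h4]
    have : ψ₁ (MvPolynomial.C t) = MvPolynomial.C (Ideal.Quotient.mk 𝔭 t) :=
      MvPolynomial.map_C _ _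
    rw [this]
    ring
  have h6 : RingHom.ker ψ₁ = 𝔭.map MvPolynomial.C := by
    rw [MvPolynomial.ker_map, Ideal.mk_ker]
  rw [h6] at h5
  have : MvPolynomial.C t * c = v + (MvPolynomial.C t * c - v) := by ring
  rw [this]
  exact Submodule.add_mem_sup hv h5

end Generic

section FT

variable {R B₁ B C : Type u} [CommRing R] [CommRing B₁] [CommRing B] [CommRing C]
  [Algebra R B₁] [Algebra R B] [Algebra B₁ B] [IsScalarTower R B₁ B]
  [Algebra B C] [Algebra R C] [IsScalarTower R B C] [Algebra B₁ C] [IsScalarTower B₁ B C]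
  [IsScalarTower R B₁ C] [Algebra.FinitePresentation R B₁] [Algebra.FinitePresentation R C]
  (Q : Ideal C) [Q.IsPrime] (𝔭 : Ideal R) [𝔭.IsPrime]

local notation "JB₁" => Ideal.map (algebraMap R B₁) 𝔭
local notation "JB" => Ideal.map (algebraMap R B) 𝔭
local notation "JC" => Ideal.map (algebraMap R C) 𝔭

set_option maxHeartbeats 1600000 in
set_option synthInstance.maxHeartbeats 400000 in
/-- The critère for a quotient `B` of a finitely presented `B₁` whose kernel is generically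
trivial along `𝔭`. -/
theorem cpf_ft_aux (hs : Surjective (algebraMap B₁ B)) (h𝔭 : 𝔭 = Q.comap (algebraMap R C))
    (hstar : ∀ z : B₁, algebraMap B₁ B z = 0 →
      ∃ t : R, t ∉ 𝔭 ∧ algebraMap R B₁ t * z ∈ JB₁)
    [Module.Flat R (LocalizedModule Q.primeCompl C)]
    [Module.Flat (B ⧸ JB) ((B ⧸ JB) ⊗[B] LocalizedModule Q.primeCompl C)] :
    Module.Flat B (LocalizedModule Q.primeCompl C) := by
  classical
  letI i1 : Algebra (B₁ ⧸ JB₁) (B ⧸ JB) :=
    Ideal.Quotient.algebraQuotientOfLEComap (map_le_comap_map_tower 𝔭)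
  haveI t1 : IsScalarTower B₁ (B₁ ⧸ JB₁) (B ⧸ JB) := IsScalarTower.of_algebraMap_eq fun _ => rfl
  letI i2 : Algebra (B ⧸ JB) (C ⧸ JC) :=
    Ideal.Quotient.algebraQuotientOfLEComap (map_le_comap_map_tower 𝔭)
  haveI t2 : IsScalarTower B (B ⧸ JB) (C ⧸ JC) := IsScalarTower.of_algebraMap_eq fun _ => rfl
  letI i3 : Algebra (B₁ ⧸ JB₁) (C ⧸ JC) :=
    Ideal.Quotient.algebraQuotientOfLEComap (map_le_comap_map_tower 𝔭)
  haveI t3 : IsScalarTower B₁ (B₁ ⧸ JB₁) (C ⧸ JC) := IsScalarTower.of_algebraMap_eq fun _ => rfl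
  haveI t4 : IsScalarTower (B₁ ⧸ JB₁) (B ⧸ JB) (C ⧸ JC) := quot_tower JB₁ JB JC
  have hJCQ : JC ≤ Q := by
    rw [h𝔭]
    exact Ideal.map_comap_le
  let Qb : Ideal (C ⧸ JC) := Q.map (Ideal.Quotient.mk JC)
  haveI hQbp : Qb.IsPrime :=
    Ideal.map_isPrime_of_surjective Ideal.Quotient.mk_surjective (by rw [Ideal.mk_ker]; exact hJCQ)
  have hQb : Qb.comap (Ideal.Quotient.mk JC) = Q := Ideal.comap_map_mk hJCQ
  have hJC : JC = Ideal.map (algebraMap B C) JB := by
    rw [Ideal.map_map, ← IsScalarTower.algebraMap_eq]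
  have hJC₁ : JC = Ideal.map (algebraMap B₁ C) JB₁ := by
    rw [Ideal.map_map, ← IsScalarTower.algebraMap_eq]
  haveI h1 : Module.Flat (B ⧸ JB) (LocalizedModule Qb.primeCompl (C ⧸ JC)) :=
    (flat_quot_iff JB JC hJC Q Qb hQb).mp inferInstance
  have hsT : Surjective (algebraMap (B₁ ⧸ JB₁) (B ⧸ JB)) := by
    intro y
    obtain ⟨y, rfl⟩ := Ideal.Quotient.mk_surjective y
    obtain ⟨x, rfl⟩ := hs y
    exact ⟨Ideal.Quotient.mk _ x, rfl⟩
  let W : Submonoid (B₁ ⧸ JB₁) := Qb.primeCompl.comap (algebraMap (B₁ ⧸ JB₁) (C ⧸ JC))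
  have hdiv : ∀ w ∈ W, ∀ x : LocalizedModule Qb.primeCompl (C ⧸ JC), ∃ x', w • x' = x := by
    intro w hw x
    induction x using LocalizedModule.induction_on with
    | h m s =>
      refine ⟨LocalizedModule.mk m (⟨algebraMap (B₁ ⧸ JB₁) (C ⧸ JC) w, hw⟩ * s), ?_⟩
      rw [LocalizedModule.smul'_mk]
      have : w • m = (⟨algebraMap (B₁ ⧸ JB₁) (C ⧸ JC) w, hw⟩ : Qb.primeCompl) • m := by
        rw [Algebra.smul_def]
        rfl
      rw [this]
      exact LocalizedModule.mk_cancel_common_left _ s m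
  have hker : ∀ z : B₁ ⧸ JB₁, algebraMap (B₁ ⧸ JB₁) (B ⧸ JB) z = 0 → ∃ w ∈ W, w * z = 0 := by
    intro z hz
    obtain ⟨z, rfl⟩ := Ideal.Quotient.mk_surjective z
    have hz1 : (Ideal.Quotient.mk JB (algebraMap B₁ B z) : B ⧸ JB) = 0 := hz
    have hz' : algebraMap B₁ B z ∈ JB := Ideal.Quotient.eq_zero_iff_mem.mp hz1
    have hJB : JB = Ideal.map (algebraMap B₁ B) JB₁ := by
      rw [Ideal.map_map, ← IsScalarTower.algebraMap_eq]
    rw [hJB] at hz'
    obtain ⟨z', hz'mem, hz'eq⟩ := (Ideal.mem_map_iff_of_surjective _ hs).mp hz'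
    obtain ⟨t, ht, htz⟩ := hstar (z - z') (by rw [map_sub, hz'eq, sub_self])
    refine ⟨Ideal.Quotient.mk _ (algebraMap R B₁ t), ?_, ?_⟩
    · intro hmem
      have h3 : algebraMap R C t ∈ Qb.comap (Ideal.Quotient.mk JC) := by
        rw [Ideal.mem_comap, IsScalarTower.algebraMap_apply R B₁ C]
        exact hmem
      rw [hQb] at h3
      exact ht (by rw [h𝔭]; exact h3)
    · rw [← map_mul, Ideal.Quotient.eq_zero_iff_mem]
      have : algebraMap R B₁ t * z = algebraMap R B₁ t * (z - z') + algebraMap R B₁ t * z' := by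
        ring
      rw [this]
      exact add_mem htz (Ideal.mul_mem_left _ _ hz'mem)
  haveI h2 : Module.Flat (B₁ ⧸ JB₁) (LocalizedModule Qb.primeCompl (C ⧸ JC)) :=
    flat_of_surjective_of_torsion_ker hsT W hdiv hker
  haveI h3 : Module.Flat (B₁ ⧸ JB₁) ((B₁ ⧸ JB₁) ⊗[B₁] LocalizedModule Q.primeCompl C) :=
    (flat_quot_iff JB₁ JC hJC₁ Q Qb hQb).mpr h2
  haveI h4 : Module.Flat B₁ (LocalizedModule Q.primeCompl C) :=
    cpf_fp (R := R) (B := B₁) (C := C) Q 𝔭 h𝔭
  exact flat_of_surjective (B₁ := B₁) (B := B) hs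

end FT

set_option maxHeartbeats 1600000 in
set_option synthInstance.maxHeartbeats 400000 in
/-- **Critère de platitude par fibres**: `R → B → C` with `B` of finite type and `C` of finite
presentation over `R`, `Q` a prime of `C` over `𝔭 ⊆ R`. If `C_Q` is flat over `R` and
`C_Q/𝔭C_Q` is flat over `B/𝔭B`, then `C_Q` is flat over `B`. -/
theorem cpf_ft {R B C : Type u} [CommRing R] [CommRing B] [CommRing C] [Algebra R B]
    [Algebra B C] [Algebra R C] [IsScalarTower R B C]
    [Algebra.FiniteType R B] [Algebra.FinitePresentation R C]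
    (Q : Ideal C) [Q.IsPrime] [Module.Flat R (LocalizedModule Q.primeCompl C)]
    (𝔭 : Ideal R) [𝔭.IsPrime] (h𝔭 : 𝔭 = Q.comap (algebraMap R C))
    [Module.Flat (B ⧸ 𝔭.map (algebraMap R B))
      ((B ⧸ 𝔭.map (algebraMap R B)) ⊗[B] LocalizedModule Q.primeCompl C)] :
    Module.Flat B (LocalizedModule Q.primeCompl C) := by
  classical
  obtain ⟨n, π, hπ⟩ := Algebra.FiniteType.iff_quotient_mvPolynomial''.mp
    (inferInstance : Algebra.FiniteType R B)
  obtain ⟨b₁, hfg, hle, hgen⟩ := exists_fg_le_generic 𝔭 n (RingHom.ker π.toRingHom)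
  haveI : Algebra.FinitePresentation R (MvPolynomial (Fin n) R ⧸ b₁) :=
    Algebra.FinitePresentation.quotient hfg
  let σ : (MvPolynomial (Fin n) R ⧸ b₁) →ₐ[R] B :=
    Ideal.Quotient.liftₐ b₁ π (fun a ha => hle ha)
  have hσ : Surjective σ := fun y => by
    obtain ⟨x, rfl⟩ := hπ y
    exact ⟨Ideal.Quotient.mk _ x, rfl⟩
  letI : Algebra (MvPolynomial (Fin n) R ⧸ b₁) B := σ.toRingHom.toAlgebra
  haveI : IsScalarTower R (MvPolynomial (Fin n) R ⧸ b₁) B :=
    IsScalarTower.of_algebraMap_eq' σ.comp_algebraMap.symm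
  letI : Algebra (MvPolynomial (Fin n) R ⧸ b₁) C :=
    ((algebraMap B C).comp (algebraMap (MvPolynomial (Fin n) R ⧸ b₁) B)).toAlgebra
  haveI : IsScalarTower (MvPolynomial (Fin n) R ⧸ b₁) B C :=
    IsScalarTower.of_algebraMap_eq fun _ => rfl
  haveI : IsScalarTower R (MvPolynomial (Fin n) R ⧸ b₁) C :=
    IsScalarTower.of_algebraMap_eq (R := R) (S := MvPolynomial (Fin n) R ⧸ b₁) (A := C) fun r => by
      rw [IsScalarTower.algebraMap_apply R B C,
        IsScalarTower.algebraMap_apply R (MvPolynomial (Fin n) R ⧸ b₁) B]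
      rfl
  refine cpf_ft_aux (B₁ := MvPolynomial (Fin n) R ⧸ b₁) Q 𝔭 hσ h𝔭 ?_
  intro z hz
  obtain ⟨c, rfl⟩ := Ideal.Quotient.mk_surjective z
  have hc : c ∈ RingHom.ker π.toRingHom := hz
  obtain ⟨t, ht, htc⟩ := hgen c hc
  refine ⟨t, ht, ?_⟩
  have h1 : algebraMap R (MvPolynomial (Fin n) R ⧸ b₁) t * Ideal.Quotient.mk b₁ c =
      Ideal.Quotient.mk b₁ (MvPolynomial.C t * c) := by
    rw [map_mul]
    rfl
  rw [h1]
  obtain ⟨v, hv, v', hv', hvv⟩ := Submodule.mem_sup.mp htc
  rw [← hvv, map_add, Ideal.Quotient.eq_zero_iff_mem.mpr hv, zero_add]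
  have h2 : Ideal.map (algebraMap R (MvPolynomial (Fin n) R ⧸ b₁)) 𝔭 =
      Ideal.map (Ideal.Quotient.mk b₁) (Ideal.map MvPolynomial.C 𝔭) := by
    rw [Ideal.map_map]
    rfl
  rw [h2]
  exact Ideal.mem_map_of_mem _ hv'

end Groth.Agent.Helper21.CPF
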