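import Mathlib
import Groth.Agent.Lib.Helper21.CPF8

/-!
# Critère de platitude par fibres, part 9: local form (helper21)

* `cpf_loc_core`, `cpf_loc`: the critère in terms of local rings which are localizations of
  `R → B → C` (`B` of finite type, `C` of finite presentation over `R`).
-/

set_option autoImplicit false
set_option linter.style.haveILetI false
set_option linter.unusedSectionVars false

universe u

open TensorProduct Function

namespace Groth.Agent.Helper21.CPF

section Loc

variable {R B C : Type u} [CommRing R] [CommRing B] [CommRing C] [Algebra R B]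
  [Algebra B C] [Algebra R C] [IsScalarTower R B C]
  [Algebra.FiniteType R B] [Algebra.FinitePresentation R C]
  (p : Ideal R) [p.IsPrime] (q : Ideal B) [q.IsPrime] (Q : Ideal C) [Q.IsPrime]
  {LY LX : Type u} [CommRing LY] [CommRing LX] [Algebra B LY] [Algebra C LX]
  [IsLocalization.AtPrime LY q] [IsLocalization.AtPrime LX Q]

local notation "JB" => Ideal.map (algebraMap R B) p
local notation "JC" => Ideal.map (algebraMap R C) p

include q in
set_option maxHeartbeats 1600000 in
set_option synthInstance.maxHeartbeats 400000 in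
/-- Local form of the critère de platitude par fibres (without the local ring of the base). -/
theorem cpf_loc_core (hp : p = Q.comap (algebraMap R C))
    (β : LY →+* LX) (hβ : β.comp (algebraMap B LY) = (algebraMap C LX).comp (algebraMap B C))
    (IY : Ideal LY) (hIY : IY = Ideal.map (algebraMap B LY) JB)
    (IX : Ideal LX) (hIX : IX = Ideal.map (algebraMap C LX) JC)
    (γ : LY ⧸ IY →+* LX ⧸ IX)
    (hγ : γ.comp (Ideal.Quotient.mk IY) = (Ideal.Quotient.mk IX).comp β)
    (h1 : ((algebraMap C LX).comp (algebraMap R C)).Flat) (h2 : γ.Flat) : β.Flat := by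
  classical
  subst hIY
  letI aRLX : Algebra R LX := ((algebraMap C LX).comp (algebraMap R C)).toAlgebra
  haveI tRCLX : IsScalarTower R C LX := IsScalarTower.of_algebraMap_eq fun _ => rfl
  letI aBLX : Algebra B LX := ((algebraMap C LX).comp (algebraMap B C)).toAlgebra
  haveI tBCLX : IsScalarTower B C LX := IsScalarTower.of_algebraMap_eq fun _ => rfl
  haveI tRBLX : IsScalarTower R B LX := IsScalarTower.of_algebraMap_eq fun r => by
    change algebraMap C LX (algebraMap R C r) =
      algebraMap C LX (algebraMap B C (algebraMap R B r))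
    rw [← IsScalarTower.algebraMap_apply R B C]
  haveI hflatR : Module.Flat R LX := h1
  haveI hloc : IsLocalizedModule Q.primeCompl (Algebra.linearMap C LX) :=
    (isLocalizedModule_iff_isLocalization).mpr inferInstance
  let e : LocalizedModule Q.primeCompl C ≃ₗ[C] LX :=
    IsLocalizedModule.iso Q.primeCompl (Algebra.linearMap C LX)
  haveI hflatRN : Module.Flat R (LocalizedModule Q.primeCompl C) :=
    Module.Flat.of_linearEquiv (e.restrictScalars R)
  -- the fibre condition
  haveI hflat1 : Module.Flat (B ⧸ JB) (LY ⧸ Ideal.map (algebraMap B LY) JB) :=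
    IsLocalization.flat (LY ⧸ Ideal.map (algebraMap B LY) JB)
      (Algebra.algebraMapSubmonoid (B ⧸ JB) q.primeCompl)
  letI aγ : Algebra (LY ⧸ Ideal.map (algebraMap B LY) JB) (LX ⧸ IX) := γ.toAlgebra
  haveI hflat2 : Module.Flat (LY ⧸ Ideal.map (algebraMap B LY) JB) (LX ⧸ IX) := h2
  letI aBX : Algebra (B ⧸ JB) (LX ⧸ IX) :=
    ((algebraMap (LY ⧸ Ideal.map (algebraMap B LY) JB) (LX ⧸ IX)).comp
      (algebraMap (B ⧸ JB) (LY ⧸ Ideal.map (algebraMap B LY) JB))).toAlgebra
  haveI tw : IsScalarTower (B ⧸ JB) (LY ⧸ Ideal.map (algebraMap B LY) JB) (LX ⧸ IX) :=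
    IsScalarTower.of_algebraMap_eq fun _ => rfl
  haveI hflat3 : Module.Flat (B ⧸ JB) (LX ⧸ IX) :=
    Module.Flat.trans (B ⧸ JB) (LY ⧸ Ideal.map (algebraMap B LY) JB) (LX ⧸ IX)
  haveI tw2 : IsScalarTower B (B ⧸ JB) (LX ⧸ IX) := IsScalarTower.of_algebraMap_eq fun b => by
    have e1 : γ (Ideal.Quotient.mk _ (algebraMap B LY b)) =
        Ideal.Quotient.mk IX (β (algebraMap B LY b)) := RingHom.congr_fun hγ (algebraMap B LY b)
    have e2 : β (algebraMap B LY b) = algebraMap C LX (algebraMap B C b) :=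
      RingHom.congr_fun hβ b
    change Ideal.Quotient.mk IX (algebraMap C LX (algebraMap B C b)) =
      γ (Ideal.Quotient.mk _ (algebraMap B LY b))
    rw [e1, e2]
  have hK : IX = Ideal.map (algebraMap B LX) JB := by
    rw [hIX, Ideal.map_map, Ideal.map_map]
    congr 1
    exact RingHom.ext fun r => IsScalarTower.algebraMap_apply R B LX r
  haveI po : Algebra.IsPushout B (B ⧸ JB) LX (LX ⧸ IX) := isPushout_quotient' JB IX hK
  let ε₁ : (B ⧸ JB) ⊗[B] LX ≃ₐ[B ⧸ JB] (LX ⧸ IX) :=
    Algebra.IsPushout.equiv B (B ⧸ JB) LX (LX ⧸ IX)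
  let ε₂ : (B ⧸ JB) ⊗[B] LocalizedModule Q.primeCompl C ≃ₗ[B ⧸ JB] (B ⧸ JB) ⊗[B] LX :=
    TensorProduct.AlgebraTensorModule.congr (LinearEquiv.refl (B ⧸ JB) (B ⧸ JB))
      (e.restrictScalars B)
  haveI hfib : Module.Flat (B ⧸ JB) ((B ⧸ JB) ⊗[B] LocalizedModule Q.primeCompl C) :=
    Module.Flat.of_linearEquiv (ε₂ ≪≫ₗ ε₁.toLinearEquiv)
  haveI hB : Module.Flat B (LocalizedModule Q.primeCompl C) := cpf_ft Q p hp
  haveI hBX : Module.Flat B LX := Module.Flat.of_linearEquiv (e.restrictScalars B).symm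
  letI aβ : Algebra LY LX := β.toAlgebra
  haveI tBLYLX : IsScalarTower B LY LX := IsScalarTower.of_algebraMap_eq fun b =>
    (RingHom.congr_fun hβ b).symm
  exact (Module.flat_iff_of_isLocalization LY q.primeCompl LX).mpr hBX

end Loc

section Loc2

variable {R B C : Type u} [CommRing R] [CommRing B] [CommRing C] [Algebra R B]
  [Algebra B C] [Algebra R C] [IsScalarTower R B C]
  [Algebra.FiniteType R B] [Algebra.FinitePresentation R C]
  (p : Ideal R) [p.IsPrime] (q : Ideal B) [q.IsPrime] (Q : Ideal C) [Q.IsPrime]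
  {Λ LY LX : Type u} [CommRing Λ] [CommRing LY] [CommRing LX]
  [Algebra R Λ] [Algebra B LY] [Algebra C LX]
  [IsLocalization.AtPrime Λ p] [IsLocalization.AtPrime LY q] [IsLocalization.AtPrime LX Q]
  [IsLocalRing Λ] [IsLocalRing LY] [IsLocalRing LX]

include q in
/-- **Critère de platitude par fibres**, local form: `Λ → LY → LX` local rings which are the
localizations of `R → B → C` at primes `p`, `q`, `Q` with `B` of finite type and `C` of finite
presentation over `R`. If `LX` is flat over `Λ` and `LX/𝔪_Λ LX` is flat over `LY/𝔪_Λ LY`, then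
`LY` is flat over `Λ` and `LX` is flat over `LY`. -/
theorem cpf_loc (hp : p = Q.comap (algebraMap R C))
    (α : Λ →+* LY) (β : LY →+* LX) [IsLocalHom β]
    (hα : α.comp (algebraMap R Λ) = (algebraMap B LY).comp (algebraMap R B))
    (hβ : β.comp (algebraMap B LY) = (algebraMap C LX).comp (algebraMap B C))
    (IY : Ideal LY) (hIY : IY = (IsLocalRing.maximalIdeal Λ).map α)
    (IX : Ideal LX) (hIX : IX = (IsLocalRing.maximalIdeal Λ).map (β.comp α))
    (γ : LY ⧸ IY →+* LX ⧸ IX)
    (hγ : γ.comp (Ideal.Quotient.mk IY) = (Ideal.Quotient.mk IX).comp β)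
    (h1 : (β.comp α).Flat) (h2 : γ.Flat) : α.Flat ∧ β.Flat := by
  have hmax : IsLocalRing.maximalIdeal Λ = p.map (algebraMap R Λ) :=
    (IsLocalization.AtPrime.map_eq_maximalIdeal p Λ).symm
  have hcomp : (β.comp α).comp (algebraMap R Λ) = (algebraMap C LX).comp (algebraMap R C) := by
    rw [RingHom.comp_assoc, hα, ← RingHom.comp_assoc, hβ, RingHom.comp_assoc,
      ← IsScalarTower.algebraMap_eq R B C]
  have hIY' : IY = Ideal.map (algebraMap B LY) (Ideal.map (algebraMap R B) p) := by
    rw [hIY, hmax, Ideal.map_map, Ideal.map_map, hα]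
  have hIX' : IX = Ideal.map (algebraMap C LX) (Ideal.map (algebraMap R C) p) := by
    rw [hIX, hmax, Ideal.map_map, Ideal.map_map, hcomp]
  have hΛ : (algebraMap R Λ).Flat :=
    RingHom.flat_algebraMap_iff.mpr (IsLocalization.flat Λ p.primeCompl)
  have h1' : ((algebraMap C LX).comp (algebraMap R C)).Flat := by
    rw [← hcomp]
    exact RingHom.Flat.comp hΛ h1
  have hβflat : β.Flat := cpf_loc_core p q Q hp β hβ IY hIY' IX hIX' γ hγ h1' h2
  exact ⟨RingHom.Flat.of_comp_of_isLocalHom α β hβflat h1, hβflat⟩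

end Loc2

end Groth.Agent.Helper21.CPF
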