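import Mathlib
import Groth.Agent.Lib.Helper21.CPF9
import Groth.Agent.Lib.Helper21.CPF10
import Groth.Agent.Lib.Helper21.FL9
import Groth.Agent.Lib.Helper7.FinPres

/-!
# Critère de platitude par fibres, part 11: schemes (helper21)
-/

set_option autoImplicit false
set_option linter.style.haveILetI false
set_option linter.unusedSectionVars false

universe u

open TensorProduct Function CategoryTheory AlgebraicGeometry Groth.Agent.Helper16

namespace Groth.Agent.Helper21.CPF

/-- Base change of a flat ring map to quotients. -/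
theorem flat_quotientMap_of_flat {LY LX : Type u} [CommRing LY] [CommRing LX] (β : LY →+* LX)
    (IY : Ideal LY) (IX : Ideal LX) (hIX : IX = IY.map β) (γ : LY ⧸ IY →+* LX ⧸ IX)
    (hγ : γ.comp (Ideal.Quotient.mk IY) = (Ideal.Quotient.mk IX).comp β) (hβ : β.Flat) :
    γ.Flat := by
  algebraize [β]
  have hIX' : IX = IY.map (algebraMap LY LX) := hIX
  subst hIX'
  haveI : Module.Flat LY LX := hβ
  haveI po : Algebra.IsPushout LY (LY ⧸ IY) LX (LX ⧸ IY.map (algebraMap LY LX)) :=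
    isPushout_quotient IY
  have h : Module.Flat (LY ⧸ IY) (LX ⧸ IY.map (algebraMap LY LX)) :=
    Module.Flat.of_linearEquiv
      (Algebra.IsPushout.equiv LY (LY ⧸ IY) LX (LX ⧸ IY.map (algebraMap LY LX))).toLinearEquiv.symm
  have hγ' : γ = algebraMap (LY ⧸ IY) (LX ⧸ IY.map (algebraMap LY LX)) :=
    Ideal.Quotient.ringHom_ext (by rw [hγ]; ext r; rfl)
  rw [hγ']
  exact RingHom.flat_algebraMap_iff.mpr h

set_option maxHeartbeats 1600000 in
set_option synthInstance.maxHeartbeats 400000 in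
/-- The critère de platitude par fibres for schemes, in terms of the quotients of the local
rings. -/
theorem flat_stalkMap_of_fibre {X Y S : Scheme.{u}} (f : X ⟶ Y) (g : Y ⟶ S)
    [LocallyOfFinitePresentation (f ≫ g)] [LocallyOfFiniteType g] (x : X)
    (γ : (Y.presheaf.stalk (f x) ⧸ FibStalk.fibIdeal g (f x)) →+*
        (X.presheaf.stalk x ⧸ FibStalk.fibIdeal (f ≫ g) x))
    (hγ : γ.comp (Ideal.Quotient.mk _) = (Ideal.Quotient.mk _).comp (f.stalkMap x).hom)
    (h1 : ((f ≫ g).stalkMap x).hom.Flat) (h2 : γ.Flat) :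
    (g.stalkMap (f x)).hom.Flat ∧ (f.stalkMap x).hom.Flat := by
  obtain ⟨W, hW, hsW, -⟩ := TopologicalSpace.Opens.isBasis_iff_nbhd.mp S.isBasis_affineOpens
    (TopologicalSpace.Opens.mem_top (g (f x)))
  obtain ⟨V, hV, hyV, eV⟩ := TopologicalSpace.Opens.isBasis_iff_nbhd.mp Y.isBasis_affineOpens
    (show f x ∈ g ⁻¹ᵁ W from hsW)
  obtain ⟨U, hU, hxU, eU⟩ := TopologicalSpace.Opens.isBasis_iff_nbhd.mp X.isBasis_affineOpens
    (show x ∈ f ⁻¹ᵁ V from hyV)
  have hcomp := Scheme.Hom.appLE_comp_appLE f g W V U eV eU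
  have hft : (g.appLE W V eV).hom.FiniteType :=
    HasRingHomProperty.appLE @LocallyOfFiniteType g inferInstance ⟨W, hW⟩ ⟨V, hV⟩ eV
  have hfp0 := HasRingHomProperty.appLE @LocallyOfFinitePresentation (f ≫ g) inferInstance
    ⟨W, hW⟩ ⟨U, hU⟩ (eU.trans ((TopologicalSpace.Opens.map f.base).map (homOfLE eV)).le)
  have hfp : ((f.appLE V U eU).hom.comp (g.appLE W V eV).hom).FinitePresentation := by
    rw [← hcomp] at hfp0
    exact hfp0
  algebraize [(g.appLE W V eV).hom, (f.appLE V U eU).hom,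
    (f.appLE V U eU).hom.comp (g.appLE W V eV).hom]
  letI aΛ := S.presheaf.algebra_section_stalk ⟨g (f x), hsW⟩
  letI aLY := Y.presheaf.algebra_section_stalk ⟨f x, hyV⟩
  letI aLX := X.presheaf.algebra_section_stalk ⟨x, hxU⟩
  haveI lΛ := hW.isLocalization_stalk ⟨g (f x), hsW⟩
  haveI lLY := hV.isLocalization_stalk ⟨f x, hyV⟩
  haveI lLX := hU.isLocalization_stalk ⟨x, hxU⟩
  have hp : (hW.primeIdealOf ⟨g (f x), hsW⟩).asIdeal =
      (hU.primeIdealOf ⟨x, hxU⟩).asIdeal.comap (algebraMap Γ(S, W) Γ(X, U)) := by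
    have h3 := IsAffineOpen.comap_primeIdealOf_appLE (f := f ≫ g) W hW U hU
      (eU.trans ((TopologicalSpace.Opens.map f.base).map (homOfLE eV)).le) hxU
    have h4 := congr($(h3).1)
    rw [← hcomp] at h4
    exact h4.symm
  have hα : (g.stalkMap (f x)).hom.comp (algebraMap Γ(S, W) (S.presheaf.stalk (g (f x)))) =
      (algebraMap Γ(Y, V) (Y.presheaf.stalk (f x))).comp (algebraMap Γ(S, W) Γ(Y, V)) := by
    ext a
    simp only [RingHom.comp_apply, RingHom.algebraMap_toAlgebra,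
      Scheme.Hom.germ_stalkMap_apply, Scheme.Hom.appLE,
      homOfLE_leOfHom, CommRingCat.hom_comp, Y.presheaf.germ_res_apply]
  have hβ : (f.stalkMap x).hom.comp (algebraMap Γ(Y, V) (Y.presheaf.stalk (f x))) =
      (algebraMap Γ(X, U) (X.presheaf.stalk x)).comp (algebraMap Γ(Y, V) Γ(X, U)) := by
    ext a
    simp only [RingHom.comp_apply, RingHom.algebraMap_toAlgebra,
      Scheme.Hom.germ_stalkMap_apply, Scheme.Hom.appLE,
      homOfLE_leOfHom, CommRingCat.hom_comp, X.presheaf.germ_res_apply]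
  have hst : ((f ≫ g).stalkMap x).hom = (f.stalkMap x).hom.comp (g.stalkMap (f x)).hom := by
    rw [Scheme.Hom.stalkMap_comp]
    rfl
  have hIX : FibStalk.fibIdeal (f ≫ g) x =
      (IsLocalRing.maximalIdeal (S.presheaf.stalk (g (f x)))).map
        ((f.stalkMap x).hom.comp (g.stalkMap (f x)).hom) := by
    rw [← hst]
    rfl
  rw [hst] at h1
  exact cpf_loc (hW.primeIdealOf ⟨g (f x), hsW⟩).asIdeal (hV.primeIdealOf ⟨f x, hyV⟩).asIdeal
    (hU.primeIdealOf ⟨x, hxU⟩).asIdeal hp (g.stalkMap (f x)).hom (f.stalkMap x).hom hα hβ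
    (FibStalk.fibIdeal g (f x)) rfl (FibStalk.fibIdeal (f ≫ g) x) hIX γ hγ h1 h2

/-- **Critère de platitude par fibres** (EGA IV 11.3.10) for the structure sheaf, with the
morphism of fibres given abstractly. -/
theorem critere_fibres {X Y S : Scheme.{u}} (f : X ⟶ Y) (g : Y ⟶ S)
    [LocallyOfFinitePresentation (f ≫ g)] [LocallyOfFiniteType g]
    (φ : ∀ s : S, (f ≫ g).fiber s ⟶ g.fiber s)
    (hφ : ∀ s, φ s ≫ g.fiberι s = (f ≫ g).fiberι s ≫ f) :
    (∀ x : X, ((f ≫ g).stalkMap x).hom.Flat ∧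
        ((φ (g (f x))).stalkMap ((f ≫ g).asFiber x)).hom.Flat ↔
        (g.stalkMap (f x)).hom.Flat ∧ (f.stalkMap x).hom.Flat) ∧
      IsOpen {x : ↑X | (g.stalkMap (f x)).hom.Flat ∧ (f.stalkMap x).hom.Flat} := by
  have hst : ∀ x, ((f ≫ g).stalkMap x).hom =
      (f.stalkMap x).hom.comp (g.stalkMap (f x)).hom := fun x => by
    rw [Scheme.Hom.stalkMap_comp]
    rfl
  refine ⟨fun x => ?_, ?_⟩
  · obtain ⟨γ, hγ, hγflat⟩ := fiber_stalk_square f g x (φ (g (f x))) (hφ _)
    constructor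
    · rintro ⟨h1, h2⟩
      exact flat_stalkMap_of_fibre f g x γ hγ h1 (hγflat.mpr h2)
    · rintro ⟨hα, hβ⟩
      refine ⟨?_, hγflat.mp ?_⟩
      · rw [hst]
        exact RingHom.Flat.comp hα hβ
      · refine flat_quotientMap_of_flat (f.stalkMap x).hom _ _ ?_ γ hγ hβ
        rw [FibStalk.fibIdeal_def, FibStalk.fibIdeal_def, Ideal.map_map, ← hst]
        rfl
  · haveI : LocallyOfFinitePresentation f :=
      Groth.Agent.Helper7.locallyOfFinitePresentation_of_comp f g inferInstance inferInstance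
    have ho1 := FL.isOpen_flatLocus_scheme f
    have ho2 := FL.isOpen_flatLocus_scheme (f ≫ g)
    have : {x : X | (g.stalkMap (f x)).hom.Flat ∧ (f.stalkMap x).hom.Flat} =
        {x | (f.stalkMap x).hom.Flat} ∩ {x | ((f ≫ g).stalkMap x).hom.Flat} := by
      ext x
      simp only [Set.mem_ofPred_eq, Set.mem_inter_iff]
      constructor
      · rintro ⟨hα, hβ⟩
        exact ⟨hβ, by rw [hst]; exact RingHom.Flat.comp hα hβ⟩
      · rintro ⟨hβ, hh⟩
        rw [hst] at hh
        exact ⟨RingHom.Flat.of_comp_of_isLocalHom _ _ hβ hh, hβ⟩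
    rw [this]
    exact ho1.inter ho2

end Groth.Agent.Helper21.CPF
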