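import Mathlib
import Groth.Prelude.Def_FlatCA
import Groth.Agent.Lib.Helper21.FS6

/-!
# Flatness in a directed colimit of rings descends to a stage (EGA IV 11.2.6, ring form) (helper21)
-/

set_option autoImplicit false
set_option linter.style.haveILetI false
set_option linter.unusedSectionVars false

universe u

open TensorProduct Function

namespace Groth.Agent.Helper21.StageColim

section Colim

variable {ι : Type u} [Preorder ι] (G : ι → Type u) [∀ i, CommRing (G i)]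
  (g : ∀ i j, i ≤ j → G i →+* G j) (A : Type u) [CommRing A] [∀ i, Algebra (G i) A]
  (hcolim : FlatCA.IsDirectedColimitRing G g A)

include hcolim

/-- finitely many elements of a directed colimit of rings lift to a common stage -/
theorem exists_stage_lift {κ : Type*} [Finite κ] (a : κ → A) :
    ∃ i, ∃ y : κ → G i, ∀ k, algebraMap (G i) A (y k) = a k := by
  obtain ⟨hdir, hne, -, -, hcompat, hsurj, -⟩ := hcolim
  haveI := hdir
  haveI := hne
  choose i x hx using fun k => hsurj (a k)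
  obtain ⟨i₀, hi₀⟩ := Finite.exists_le i
  refine ⟨i₀, fun k => g (i k) i₀ (hi₀ k) (x k), fun k => ?_⟩
  rw [← RingHom.comp_apply, hcompat, hx]

/-- finitely many elements of a stage vanishing in the colimit vanish at a common later stage -/
theorem exists_stage_forall_eq_zero (i₀ : ι) (F : Finset (G i₀))
    (hF : ∀ x ∈ F, algebraMap (G i₀) A x = 0) :
    ∃ j, ∃ h : i₀ ≤ j, ∀ x ∈ F, g i₀ j h x = 0 := by
  classical
  obtain ⟨hdir, hne, hid, hcomp, hcompat, hsurj, hvan⟩ := hcolim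
  haveI := hdir
  induction F using Finset.induction_on with
  | empty => exact ⟨i₀, le_rfl, fun x hx => absurd hx (Finset.notMem_empty x)⟩
  | insert a F' ha ih =>
    obtain ⟨j₁, h₁, H₁⟩ := ih (fun x hx => hF x (Finset.mem_insert_of_mem hx))
    obtain ⟨j₂, h₂, H₂⟩ := hvan i₀ a (hF a (Finset.mem_insert_self a F'))
    obtain ⟨j, hj₁, hj₂⟩ := exists_ge_ge j₁ j₂
    refine ⟨j, h₁.trans hj₁, fun x hx => ?_⟩
    rcases Finset.mem_insert.mp hx with hxa | hx'
    · have e : g i₀ j (h₁.trans hj₁) x = g j₂ j hj₂ (g i₀ j₂ h₂ x) := by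
        rw [← RingHom.comp_apply, hcomp]
      rw [e, hxa, H₂, map_zero]
    · have e : g i₀ j (h₁.trans hj₁) x = g j₁ j hj₁ (g i₀ j₁ h₁ x) := by
        rw [← RingHom.comp_apply, hcomp]
      rw [e, H₁ x hx', map_zero]

/-- **Lemma L.** A finitely generated subalgebra (over a Noetherian ring `𝔸`) of a directed colimit
of `𝔸`-algebras maps to some stage, compatibly with the `𝔸`-algebra structures. -/
theorem exists_ringHom_of_fg {𝔸 : Type u} [CommRing 𝔸] [IsNoetherianRing 𝔸]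
    [∀ i, Algebra 𝔸 (G i)] [Algebra 𝔸 A] [∀ i, IsScalarTower 𝔸 (G i) A]
    (hg : ∀ i j (h : i ≤ j) (x : 𝔸), g i j h (algebraMap 𝔸 (G i) x) = algebraMap 𝔸 (G j) x)
    (R' : Subalgebra 𝔸 A) (hR' : R'.FG) :
    ∃ j, ∃ φ : R' →+* G j, ∀ x : 𝔸, φ (algebraMap 𝔸 R' x) = algebraMap 𝔸 (G j) x := by
  classical
  obtain ⟨t, ht⟩ := hR'
  let ψ : MvPolynomial t 𝔸 →ₐ[𝔸] A := MvPolynomial.aeval (fun k : t => (k : A))
  have hrange : ψ.range = R' := by
    rw [← ht, ← Algebra.adjoin_range_eq_range_aeval]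
    congr 1
    ext x
    constructor
    · rintro ⟨⟨y, hy⟩, rfl⟩
      exact hy
    · intro hx
      exact ⟨⟨x, hx⟩, rfl⟩
  have hmem : ∀ p, ψ p ∈ R' := fun p => by
    rw [← hrange]
    exact ⟨p, rfl⟩
  let ψ' : MvPolynomial t 𝔸 →ₐ[𝔸] R' := ψ.codRestrict R' hmem
  have hsurj' : Surjective ψ' := by
    intro r
    have hr : (r : A) ∈ ψ.range := by
      rw [hrange]
      exact r.2
    obtain ⟨p, hp⟩ := hr
    exact ⟨p, Subtype.ext hp⟩
  obtain ⟨i₀, y, hy⟩ := exists_stage_lift G g A hcolim (fun k : t => (k : A))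
  let ψ₀ : MvPolynomial t 𝔸 →ₐ[𝔸] G i₀ := MvPolynomial.aeval y
  have h1 : ∀ p, algebraMap (G i₀) A (ψ₀ p) = ψ p := by
    have h2 : (IsScalarTower.toAlgHom 𝔸 (G i₀) A).comp ψ₀ = ψ := by
      apply MvPolynomial.algHom_ext
      intro k
      simp only [AlgHom.comp_apply, ψ₀, ψ, MvPolynomial.aeval_X, IsScalarTower.coe_toAlgHom', hy]
    intro p
    exact AlgHom.congr_fun h2 p
  obtain ⟨F, hF⟩ := IsNoetherian.noetherian (RingHom.ker ψ)
  obtain ⟨j, hj, Hj⟩ := exists_stage_forall_eq_zero G g A hcolim i₀ (F.image ψ₀) (by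
    intro x hx
    obtain ⟨p, hp, rfl⟩ := Finset.mem_image.mp hx
    rw [h1]
    have hpk : p ∈ RingHom.ker ψ := by
      rw [← hF]
      exact Submodule.subset_span hp
    exact hpk)
  let ψj : MvPolynomial t 𝔸 →+* G j := (g i₀ j hj).comp (ψ₀ : MvPolynomial t 𝔸 →+* G i₀)
  have hker : RingHom.ker (ψ' : MvPolynomial t 𝔸 →+* R') ≤ RingHom.ker ψj := by
    intro p hp
    have hp' : p ∈ RingHom.ker ψ := by
      rw [RingHom.mem_ker] at hp ⊢
      exact congrArg Subtype.val hp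
    rw [← hF] at hp'
    have hle : Submodule.span (MvPolynomial t 𝔸) (F : Set (MvPolynomial t 𝔸)) ≤
        RingHom.ker ψj := by
      rw [Submodule.span_le]
      intro q hq
      rw [SetLike.mem_coe, RingHom.mem_ker]
      exact Hj (ψ₀ q) (Finset.mem_image_of_mem _ hq)
    exact hle hp'
  refine ⟨j, RingHom.liftOfSurjective (ψ' : MvPolynomial t 𝔸 →+* R') hsurj' ⟨ψj, hker⟩,
    fun x => ?_⟩
  have e1 : algebraMap 𝔸 R' x =
      (ψ' : MvPolynomial t 𝔸 →+* R') (algebraMap 𝔸 (MvPolynomial t 𝔸) x) :=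
    (ψ'.commutes x).symm
  rw [e1, RingHom.liftOfSurjective_comp_apply]
  change g i₀ j hj (ψ₀ (algebraMap 𝔸 (MvPolynomial t 𝔸) x)) = _
  rw [ψ₀.commutes, hg]

end Colim

/-- transfer of flatness of a base change between a module and its model -/
theorem flat_model_iff {𝔸 A₀ X : Type u} [CommRing 𝔸] [CommRing A₀] [CommRing X] [Algebra 𝔸 A₀]
    [Algebra A₀ X] [Algebra 𝔸 X] [IsScalarTower 𝔸 A₀ X] {M₁ M₀ : Type u} [AddCommGroup M₁]
    [Module 𝔸 M₁] [AddCommGroup M₀] [Module A₀ M₀] (e : A₀ ⊗[𝔸] M₁ ≃ₗ[A₀] M₀) :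
    Module.Flat X (X ⊗[A₀] M₀) ↔ Module.Flat X (X ⊗[𝔸] M₁) :=
  Module.Flat.equiv_iff ((AlgebraTensorModule.congr (LinearEquiv.refl X X) e.symm) ≪≫ₗ
    AlgebraTensorModule.cancelBaseChange 𝔸 A₀ X X M₁)

section Main

variable {𝔸 A₀ S₁ B₀ : Type u} [CommRing 𝔸] [CommRing A₀] [CommRing S₁] [CommRing B₀]
  [Algebra 𝔸 A₀] [Algebra 𝔸 S₁] [Algebra A₀ B₀] [Algebra S₁ B₀] [Algebra 𝔸 B₀]
  [IsScalarTower 𝔸 A₀ B₀] [IsScalarTower 𝔸 S₁ B₀] [Algebra.IsPushout 𝔸 A₀ S₁ B₀]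
  [IsNoetherianRing 𝔸] [Algebra.FiniteType 𝔸 S₁]
  {M₁ : Type u} [AddCommGroup M₁] [Module S₁ M₁] [Module.Finite S₁ M₁]
  {M₀ : Type u} [AddCommGroup M₀] [Module B₀ M₀] [Module A₀ M₀] [IsScalarTower A₀ B₀ M₀]
  [Module S₁ M₀] [IsScalarTower S₁ B₀ M₀]

variable (𝔸) in
include 𝔸 in
/-- stage flatness, given a Noetherian model -/
theorem exists_stage_flat (h : M₁ →ₗ[S₁] M₀) (hh : IsBaseChange B₀ h)
    {ι : Type u} [Preorder ι] (G : ι → Type u) [∀ i, CommRing (G i)] [∀ i, Algebra A₀ (G i)]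
    (g : ∀ i j, i ≤ j → G i →ₐ[A₀] G j)
    (A : Type u) [CommRing A] [Algebra A₀ A] [∀ i, Algebra (G i) A]
    [∀ i, IsScalarTower A₀ (G i) A]
    (hcolim : FlatCA.IsDirectedColimitRing G (fun i j h => (g i j h).toRingHom) A)
    [Module.Flat A (A ⊗[A₀] M₀)] : ∃ i, Module.Flat (G i) (G i ⊗[A₀] M₀) := by
  classical
  letI : Module 𝔸 M₁ := Module.compHom M₁ (algebraMap 𝔸 S₁)
  haveI : IsScalarTower 𝔸 S₁ M₁ := IsScalarTower.of_algebraMap_smul fun _ _ => rfl
  letI : ∀ i, Algebra 𝔸 (G i) := fun i =>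
    ((algebraMap A₀ (G i)).comp (algebraMap 𝔸 A₀)).toAlgebra
  haveI : ∀ i, IsScalarTower 𝔸 A₀ (G i) := fun i => IsScalarTower.of_algebraMap_eq fun _ => rfl
  letI : Algebra 𝔸 A := ((algebraMap A₀ A).comp (algebraMap 𝔸 A₀)).toAlgebra
  haveI : IsScalarTower 𝔸 A₀ A := IsScalarTower.of_algebraMap_eq fun _ => rfl
  haveI : ∀ i, IsScalarTower 𝔸 (G i) A := fun i => IsScalarTower.of_algebraMap_eq fun x => by
    change algebraMap A₀ A (algebraMap 𝔸 A₀ x) =
      algebraMap (G i) A (algebraMap A₀ (G i) (algebraMap 𝔸 A₀ x))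
    rw [← IsScalarTower.algebraMap_apply A₀ (G i) A]
  let e : A₀ ⊗[𝔸] M₁ ≃ₗ[A₀] M₀ := FS.baseChangeEquiv h hh
  haveI : Module.Flat A (A ⊗[𝔸] M₁) := (flat_model_iff (X := A) e).mp inferInstance
  obtain ⟨T, hT⟩ := FS.exists_finset_forall_flat 𝔸 S₁ M₁ A
  let R' : Subalgebra 𝔸 A := Algebra.adjoin 𝔸 (T : Set A)
  have hfg : R'.FG := Subalgebra.fg_adjoin_finset T
  haveI : Module.Flat R' (R' ⊗[𝔸] M₁) := hT R' Algebra.subset_adjoin hfg
  obtain ⟨j, φ, hφ⟩ := exists_ringHom_of_fg G (fun i j h => (g i j h).toRingHom) A hcolim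
    (fun i j h x => by
      change g i j h (algebraMap A₀ (G i) (algebraMap 𝔸 A₀ x)) =
        algebraMap A₀ (G j) (algebraMap 𝔸 A₀ x)
      rw [AlgHom.commutes]) R' hfg
  letI : Algebra R' (G j) := φ.toAlgebra
  haveI : IsScalarTower 𝔸 R' (G j) := IsScalarTower.of_algebraMap_eq fun x => (hφ x).symm
  haveI : Module.Flat (G j) (G j ⊗[𝔸] M₁) :=
    Module.Flat.of_linearEquiv (AlgebraTensorModule.cancelBaseChange 𝔸 R' (G j) (G j) M₁).symm
  exact ⟨j, (flat_model_iff (X := G j) e).mpr inferInstance⟩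

end Main

/-- **EGA IV 11.2.6 (ring form).** -/
theorem flat_colim_iff {A₀ : Type u} [CommRing A₀]
    {ι : Type u} [Preorder ι] (G : ι → Type u) [∀ i, CommRing (G i)] [∀ i, Algebra A₀ (G i)]
    (g : ∀ i j, i ≤ j → G i →ₐ[A₀] G j)
    (A : Type u) [CommRing A] [Algebra A₀ A] [∀ i, Algebra (G i) A]
    [∀ i, IsScalarTower A₀ (G i) A]
    (hcolim : FlatCA.IsDirectedColimitRing G (fun i j h => (g i j h).toRingHom) A)
    {B₀ : Type u} [CommRing B₀] [Algebra A₀ B₀] [Algebra.FinitePresentation A₀ B₀]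
    (M₀ : Type u) [AddCommGroup M₀] [Module B₀ M₀] [Module A₀ M₀] [IsScalarTower A₀ B₀ M₀]
    [Module.FinitePresentation B₀ M₀] :
    Module.Flat A (A ⊗[A₀] M₀) ↔ ∃ i : ι, Module.Flat (G i) (G i ⊗[A₀] M₀) := by
  classical
  constructor
  · intro hflat
    haveI := hflat
    let P := Algebra.Presentation.ofFinitePresentation A₀ B₀
    obtain ⟨n, m, f, gg, hf, hfg⟩ := Module.FinitePresentation.exists_fin' B₀ M₀
    have hsurj : ∀ (k : Fin m) (l : Fin n), ∃ w : MvPolynomial _ A₀,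
        MvPolynomial.aeval P.val w = gg (Pi.single k 1) l := fun k l => by
      obtain ⟨w, hw⟩ := P.algebraMap_surjective (gg (Pi.single k 1) l)
      exact ⟨w, by rw [← hw, Algebra.Generators.algebraMap_apply]⟩
    choose w hw using hsurj
    let s : Set A₀ := P.coeffs ∪ ⋃ k, ⋃ l, ((w k l).coeffs : Set A₀)
    have hsfin : s.Finite := by
      refine Set.Finite.union P.finite_coeffs ?_
      exact Set.finite_iUnion fun k => Set.finite_iUnion fun l => Finset.finite_toSet _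
    let 𝔸 : Subalgebra ℤ A₀ := Algebra.adjoin ℤ s
    haveI : P.HasCoeffs 𝔸 := ⟨fun x hx => ⟨⟨x, Algebra.subset_adjoin (Or.inl hx)⟩, rfl⟩⟩
    haveI : Algebra.FiniteType ℤ 𝔸 := Algebra.FiniteType.adjoin_of_finite hsfin
    haveI : IsNoetherianRing 𝔸 := Algebra.FiniteType.isNoetherianRing ℤ 𝔸
    let S₁ := P.ModelOfHasCoeffs 𝔸
    letI : Algebra S₁ B₀ := FS.modelAlgebra P 𝔸
    haveI : IsScalarTower 𝔸 S₁ B₀ := FS.model_isScalarTower P 𝔸
    haveI : Algebra.IsPushout 𝔸 A₀ S₁ B₀ := FS.model_isPushout P 𝔸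
    have hw' : ∀ k l, ∃ w' : MvPolynomial _ 𝔸, MvPolynomial.map (algebraMap 𝔸 A₀) w' = w k l := by
      intro k l
      have : w k l ∈ Set.range (MvPolynomial.map (algebraMap 𝔸 A₀)) := by
        rw [MvPolynomial.mem_range_map_iff_coeffs_subset]
        intro x hx
        exact ⟨⟨x, Algebra.subset_adjoin (Or.inr (Set.mem_iUnion₂.mpr ⟨k, l, hx⟩))⟩, rfl⟩
      exact this
    choose w' hw' using hw'
    let c' : Fin m → Fin n → S₁ := fun k l => Ideal.Quotient.mk _ (w' k l)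
    letI : Module S₁ M₀ := Module.compHom M₀ (algebraMap S₁ B₀)
    haveI : IsScalarTower S₁ B₀ M₀ := IsScalarTower.of_algebraMap_smul fun _ _ => rfl
    have hc : ∀ k l, algebraMap S₁ B₀ (c' k l) = gg (Pi.single k 1) l := by
      intro k l
      rw [FS.modelAlgebra_mk, ← hw, ← hw', MvPolynomial.aeval_map_algebraMap]
    obtain ⟨h, hh⟩ := FS.exists_isBaseChange_cokerModel c' f gg hf hfg hc
    haveI : Module.Finite S₁ (FS.CokerModel c') := Module.Finite.quotient S₁ _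
    exact exists_stage_flat 𝔸 h hh G g A hcolim
  · rintro ⟨i, hi⟩
    haveI := hi
    exact Module.Flat.of_linearEquiv (AlgebraTensorModule.cancelBaseChange A₀ (G i) A A M₀).symm

end Groth.Agent.Helper21.StageColim
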