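import Mathlib
import Groth.Prelude.Def_CInt
import Groth.Agent.Lib.Helper7.SepFlatGeom

/-!
# Preimage of a schematically dense open under a flat morphism locally of finite presentation
(EGA IV 11.10.5 for one open immersion, via helper7's `isSchDom_pullback_flat`)
-/

set_option autoImplicit false
set_option linter.style.haveILetI false
set_option linter.unusedSectionVars false

open CategoryTheory AlgebraicGeometry Limits Opposite TopologicalSpace

universe u

namespace Groth.Agent.Helper21.SchDensePre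

/-- For an open immersion `j`, a section restricting to zero on `W ⊓ range j` pulls back to zero. -/
theorem app_eq_zero_of_res_eq_zero {P X : Scheme.{u}} (j : P ⟶ X) [IsOpenImmersion j]
    (W : X.Opens) (t : Γ(X, W))
    (ht : X.presheaf.map (homOfLE (inf_le_left : W ⊓ j.opensRange ≤ W)).op t = 0) :
    j.app W t = 0 := by
  have hle : j ⁻¹ᵁ W ≤ j ⁻¹ᵁ (W ⊓ j.opensRange) := by
    intro x hx
    exact ⟨hx, ⟨x, rfl⟩⟩
  have h1 : j.app W = X.presheaf.map (homOfLE (inf_le_left : W ⊓ j.opensRange ≤ W)).op ≫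
      j.appLE (W ⊓ j.opensRange) (j ⁻¹ᵁ W) hle := by
    rw [Scheme.Hom.map_appLE, Scheme.Hom.app_eq_appLE]
  rw [h1, CommRingCat.comp_apply, ht, map_zero]

/-- If `V` is schematically dense, sections vanishing on `W ⊓ V` vanish. -/
theorem main {X X' : Scheme.{u}} (f : X' ⟶ X) [Flat f] [LocallyOfFinitePresentation f]
    (V : X.Opens) (hV : CInt.IsSchematicallyDense V) :
    CInt.IsSchematicallyDense (f ⁻¹ᵁ V) := by
  have h : ∀ (W : X.Opens) (t : Γ(X, W)),
      (∀ _ : PUnit.{u + 1}, (V.ι).app W t = 0) → t = 0 := by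
    intro W t ht
    have h0 := ht PUnit.unit
    apply hV W
    rw [map_zero]
    -- `V.ι.app W t` is the restriction to `W ⊓ V` up to the canonical iso
    have hle : V.ι ⁻¹ᵁ W ≤ V.ι ⁻¹ᵁ (W ⊓ V) := fun x hx => ⟨hx, x.2⟩
    have h2 : (V.ι).appLE (W ⊓ V) (V.ι ⁻¹ᵁ (W ⊓ V)) le_rfl
        (X.presheaf.map (homOfLE (inf_le_left : W ⊓ V ≤ W)).op t) = 0 := by
      rw [← CommRingCat.comp_apply, Scheme.Hom.map_appLE]
      have h3 : (V.ι).appLE W (V.ι ⁻¹ᵁ (W ⊓ V)) (by intro x hx; exact hx.1) =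
          (V.ι).app W ≫ (V : Scheme.{u}).presheaf.map
            (homOfLE (show V.ι ⁻¹ᵁ (W ⊓ V) ≤ V.ι ⁻¹ᵁ W from fun x hx => hx.1)).op := rfl
      rw [h3, CommRingCat.comp_apply, h0, map_zero]
    rw [Scheme.Hom.appLE_eq_app] at h2
    have hinj : Function.Injective ((V.ι).app (W ⊓ V)) := by
      have : IsIso ((V.ι).app (W ⊓ V)) := by
        have hWV : W ⊓ V ≤ (V.ι).opensRange := by
          rw [Scheme.Opens.opensRange_ι]; exact inf_le_right
        exact Scheme.Hom.isIso_app (V.ι) (W ⊓ V) hWV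
      exact ((ConcreteCategory.isIso_iff_bijective _).mp this).1
    exact hinj (by rw [h2, map_zero])
  have key := Groth.Agent.Helper7.SepFlatGeom.isSchDom_pullback_flat f
    (fun _ : PUnit.{u + 1} => (V : Scheme.{u})) (fun _ => V.ι) h
  intro W'
  rw [injective_iff_map_eq_zero]
  intro t ht
  apply key W' t
  intro _
  apply app_eq_zero_of_res_eq_zero
  have hr : (pullback.snd V.ι f).opensRange = f ⁻¹ᵁ V := by
    rw [Scheme.Hom.opensRange_pullbackSnd, Scheme.Opens.opensRange_ι]
  have hle : W' ⊓ (pullback.snd V.ι f).opensRange ≤ W' ⊓ f ⁻¹ᵁ V := by rw [hr]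
  have : X'.presheaf.map (homOfLE (inf_le_left :
      W' ⊓ (pullback.snd V.ι f).opensRange ≤ W')).op =
      X'.presheaf.map (homOfLE (inf_le_left : W' ⊓ f ⁻¹ᵁ V ≤ W')).op ≫
        X'.presheaf.map (homOfLE hle).op := by
    rw [← Functor.map_comp]; rfl
  rw [this, CommRingCat.comp_apply, ht, map_zero]

end Groth.Agent.Helper21.SchDensePre
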