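import Mathlib
import Groth.Prelude.Def_ega3
import Groth.Agent.Lib.Helper21.KoszTop

/-!
# Koszul complexes with module coefficients: long exact sequence tools
-/

set_option autoImplicit false
universe u
open CategoryTheory CategoryTheory.Limits CochainComplex HomComplex Pointwise

namespace Groth.Agent.Helper21.KL

open Groth.Agent.Helper21.KF Groth.Agent.Helper21.KT

variable {R : Type u} [CommRing R]

/-! ### degree zero homology of complexes vanishing in degree one -/
section Top

theorem pOpcycles_eq_zero_iff (K : CochainComplex (ModuleCat.{u} R) ℤ) (z : K.X 0) :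
    (K.pOpcycles 0).hom z = 0 ↔ z ∈ LinearMap.range (K.d (-1) 0).hom := by
  constructor
  · intro hz
    have hE : (ShortComplex.mk (K.d (-1) 0) (K.pOpcycles 0) (K.d_pOpcycles (-1) 0)).Exact :=
      ShortComplex.exact_of_g_is_cokernel _ (K.opcyclesIsCokernel (-1) 0 (by simp))
    rw [ShortComplex.moduleCat_exact_iff] at hE
    obtain ⟨w, hw⟩ := hE z hz
    exact ⟨w, hw⟩
  · rintro ⟨w, rfl⟩
    rw [comp_hom_apply (K.d_pOpcycles (-1) 0) w]
    rfl

theorem injective_homologyMap_zero_iff {K L : CochainComplex (ModuleCat.{u} R) ℤ} (φ : K ⟶ L)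
    (hK : K.d 0 1 = 0) (hL : L.d 0 1 = 0) :
    Function.Injective (HomologicalComplex.homologyMap φ 0).hom ↔
      ∀ z : K.X 0, (φ.f 0).hom z ∈ LinearMap.range (L.d (-1) 0).hom →
        z ∈ LinearMap.range (K.d (-1) 0).hom := by
  haveI : IsIso (K.homologyι 0) := K.isIso_homologyι 0 1 (by simp) hK
  haveI : IsIso (L.homologyι 0) := L.isIso_homologyι 0 1 (by simp) hL
  have hιK : Function.Bijective (K.homologyι 0).hom :=
    ConcreteCategory.bijective_of_isIso (K.homologyι 0)
  have hιL : Function.Bijective (L.homologyι 0).hom :=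
    ConcreteCategory.bijective_of_isIso (L.homologyι 0)
  have hpK : Function.Surjective (K.pOpcycles 0).hom :=
    (ModuleCat.epi_iff_surjective _).mp inferInstance
  have nat : ∀ h : K.homology 0,
      (L.homologyι 0).hom ((HomologicalComplex.homologyMap φ 0).hom h) =
        (HomologicalComplex.opcyclesMap φ 0).hom ((K.homologyι 0).hom h) := fun h =>
    comp_hom_apply (HomologicalComplex.homologyι_naturality φ 0) h
  have natp : ∀ z : K.X 0, (HomologicalComplex.opcyclesMap φ 0).hom ((K.pOpcycles 0).hom z) =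
      (L.pOpcycles 0).hom ((φ.f 0).hom z) := fun z =>
    comp_hom_apply (HomologicalComplex.p_opcyclesMap φ 0) z
  constructor
  · intro hinj z hz
    obtain ⟨h, hh⟩ := hιK.2 ((K.pOpcycles 0).hom z)
    have h1 : (L.pOpcycles 0).hom ((φ.f 0).hom z) = 0 := (pOpcycles_eq_zero_iff L _).mpr hz
    have h2 : (L.homologyι 0).hom ((HomologicalComplex.homologyMap φ 0).hom h) = 0 := by
      rw [nat, hh, natp, h1]
    have h3 : (HomologicalComplex.homologyMap φ 0).hom h = 0 :=
      hιL.1 (h2.trans (map_zero _).symm)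
    have h4 : h = 0 := hinj (h3.trans (map_zero _).symm)
    rw [h4, map_zero] at hh
    exact (pOpcycles_eq_zero_iff K z).mp hh.symm
  · intro H
    rw [injective_iff_map_eq_zero]
    intro h hh
    obtain ⟨z, hz⟩ := hpK ((K.homologyι 0).hom h)
    have h1 : (L.pOpcycles 0).hom ((φ.f 0).hom z) = 0 := by
      rw [← natp, hz, ← nat, hh, map_zero]
    have h2 := H z ((pOpcycles_eq_zero_iff L _).mp h1)
    have h3 : (K.homologyι 0).hom h = 0 := by
      rw [← hz]
      exact (pOpcycles_eq_zero_iff K z).mpr h2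
    exact hιK.1 (h3.trans (map_zero _).symm)

end Top

/-! ### the natural identification of the degree zero term -/
section TopEquiv

theorem inr_map {K₁ L₁ K₂ L₂ : CochainComplex (ModuleCat.{u} R) ℤ} (φ₁ : K₁ ⟶ L₁) (φ₂ : K₂ ⟶ L₂)
    (a : K₁ ⟶ K₂) (b : L₁ ⟶ L₂) (comm : φ₁ ≫ b = a ≫ φ₂) :
    mappingCone.inr φ₁ ≫ mappingCone.map φ₁ φ₂ a b comm = b ≫ mappingCone.inr φ₂ := by
  simp [mappingCone.map]

/-- The identification `M ≃ K⁰(xs; M)`. -/
noncomputable def topEquiv (M : ModuleCat.{u} R) :
    ∀ xs : List R, M ≃ₗ[R] (CohIII.koszulCx M xs).X 0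
  | [] => (HomologicalComplex.singleObjXSelf (ComplexShape.up ℤ) 0 M).symm.toLinearEquiv
  | f :: fs => (topEquiv M fs).trans
      (LinearEquiv.ofBijective ((mappingCone.inr (f • 𝟙 (CohIII.koszulCx M fs))).f 0).hom
        (inr_bijective _ (isZero_X_of_pos M fs 1 (by norm_num))))

theorem range_d (M : ModuleCat.{u} R) : ∀ (xs : List R),
    LinearMap.range ((CohIII.koszulCx M xs).d (-1) 0).hom =
      Submodule.map (topEquiv M xs).toLinearMap (Ideal.ofList xs • (⊤ : Submodule R M))
  | [] => by
    have h0 : (CohIII.koszulCx M []).d (-1) 0 = 0 :=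
      HomologicalComplex.single_obj_d _ _ _ _ _
    rw [h0, Ideal.ofList_nil, Submodule.bot_smul, Submodule.map_bot]
    exact LinearMap.range_zero
  | f :: fs => by
    have ht := range_d M fs
    have h1 : IsZero ((CohIII.koszulCx M fs).X 1) := isZero_X_of_pos M fs 1 (by norm_num)
    have hφ : LinearMap.range ((f • 𝟙 (CohIII.koszulCx M fs)).f 0).hom =
        Submodule.map (topEquiv M fs).toLinearMap (f • (⊤ : Submodule R M)) := by
      apply le_antisymm
      · rintro _ ⟨x, rfl⟩
        obtain ⟨m, rfl⟩ := (topEquiv M fs).surjective x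
        refine ⟨f • m, Submodule.smul_mem_pointwise_smul m f ⊤ Submodule.mem_top, ?_⟩
        have : ((f • 𝟙 (CohIII.koszulCx M fs)).f 0).hom (topEquiv M fs m) =
            f • topEquiv M fs m := rfl
        rw [this]
        exact _root_.map_smul (topEquiv M fs) f m
      · rintro _ ⟨y, hy, rfl⟩
        obtain ⟨m, -, rfl⟩ := (Submodule.mem_smul_pointwise_iff_exists _ _ _).mp hy
        refine ⟨topEquiv M fs m, ?_⟩
        have : ((f • 𝟙 (CohIII.koszulCx M fs)).f 0).hom (topEquiv M fs m) =
            f • topEquiv M fs m := rfl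
        rw [this]
        exact (_root_.map_smul (topEquiv M fs) f m).symm
    have hr := range_d_cone (f • 𝟙 (CohIII.koszulCx M fs)) h1
    rw [hφ, ht, ← Submodule.map_sup, ← Ideal.ofList_cons_smul, ← Submodule.map_comp] at hr
    exact hr

theorem kMap_topEquiv {M N : ModuleCat.{u} R} (g : M ⟶ N) : ∀ (xs : List R) (m : M),
    ((kMap g xs).f 0).hom (topEquiv M xs m) = topEquiv N xs (g.hom m)
  | [], m => by
    show (((HomologicalComplex.single (ModuleCat.{u} R) (ComplexShape.up ℤ) 0).map g).f 0).hom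
      ((HomologicalComplex.singleObjXSelf (ComplexShape.up ℤ) 0 M).inv.hom m) =
      (HomologicalComplex.singleObjXSelf (ComplexShape.up ℤ) 0 N).inv.hom (g.hom m)
    rw [HomologicalComplex.single_map_f_self]
    show (HomologicalComplex.singleObjXSelf (ComplexShape.up ℤ) 0 N).inv.hom (g.hom
      ((HomologicalComplex.singleObjXSelf (ComplexShape.up ℤ) 0 M).hom.hom
        ((HomologicalComplex.singleObjXSelf (ComplexShape.up ℤ) 0 M).inv.hom m))) = _
    rw [iso_inv_hom_apply]
  | f :: fs, m => by
    have h := congrArg (fun ψ => ψ.f 0) (inr_map (f • 𝟙 (CohIII.koszulCx M fs))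
      (f • 𝟙 (CohIII.koszulCx N fs)) (kMap g fs) (kMap g fs)
      (by rw [Linear.smul_comp, Linear.comp_smul, Category.id_comp, Category.comp_id]))
    have h' := comp_hom_apply (ψ₁ := (mappingCone.inr (f • 𝟙 (CohIII.koszulCx M fs))).f 0)
      (ψ₂ := (kMap g (f :: fs)).f 0) h (topEquiv M fs m)
    refine h'.trans ?_
    show ((mappingCone.inr (f • 𝟙 (CohIII.koszulCx N fs))).f 0).hom
      (((kMap g fs).f 0).hom (topEquiv M fs m)) = _
    rw [kMap_topEquiv g fs m]
    rfl

theorem injective_homologyMap_kMap_iff {M N : ModuleCat.{u} R} (g : M ⟶ N) (xs : List R) :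
    Function.Injective (HomologicalComplex.homologyMap (kMap g xs) 0).hom ↔
      ∀ m : M, g.hom m ∈ Ideal.ofList xs • (⊤ : Submodule R N) →
        m ∈ Ideal.ofList xs • (⊤ : Submodule R M) := by
  have hdM : (CohIII.koszulCx M xs).d 0 1 = 0 :=
    (isZero_X_of_pos M xs 1 (by norm_num)).eq_of_tgt _ _
  have hdN : (CohIII.koszulCx N xs).d 0 1 = 0 :=
    (isZero_X_of_pos N xs 1 (by norm_num)).eq_of_tgt _ _
  rw [injective_homologyMap_zero_iff (kMap g xs) hdM hdN, range_d, range_d]
  have key : ∀ (P : ModuleCat.{u} R) (p : P), topEquiv P xs p ∈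
      Submodule.map (topEquiv P xs).toLinearMap (Ideal.ofList xs • (⊤ : Submodule R P)) ↔
      p ∈ Ideal.ofList xs • (⊤ : Submodule R P) := by
    intro P p
    constructor
    · rintro ⟨q, hq, hqp⟩
      rwa [← (topEquiv P xs).injective hqp]
    · intro hp
      exact ⟨p, hp, rfl⟩
  constructor
  · intro H m hm
    rw [← key M m]
    apply H
    rw [kMap_topEquiv, key N]
    exact hm
  · intro H z hz
    obtain ⟨m, rfl⟩ := (topEquiv M xs).surjective z
    rw [key M]
    apply H
    rwa [kMap_topEquiv, key N] at hz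

end TopEquiv

end Groth.Agent.Helper21.KL
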