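import Mathlib
import Groth.Prelude.Def_ega3
import Groth.Agent.Lib.Helper21.KL1

/-!
# Koszul complexes with module coefficients: acyclicity along short exact sequences
-/

set_option autoImplicit false
universe u
open CategoryTheory CategoryTheory.Limits CochainComplex HomComplex Pointwise

namespace Groth.Agent.Helper21.KL

open Groth.Agent.Helper21.KF Groth.Agent.Helper21.KT

variable {R : Type u} [CommRing R]

/-- The Koszul complex of `xs` with coefficients in `M` has no cohomology in degree `i`. -/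
def AcycAt (xs : List R) (M : Type u) [AddCommGroup M] [Module R M] (i : ℤ) : Prop :=
  IsZero ((CohIII.koszulCx (ModuleCat.of R M) xs).homology i)

section Iso

theorem kMap_comp {M N P : ModuleCat.{u} R} (g : M ⟶ N) (h : N ⟶ P) :
    ∀ xs : List R, kMap (g ≫ h) xs = kMap g xs ≫ kMap h xs
  | [] => by
    show (HomologicalComplex.single (ModuleCat.{u} R) (ComplexShape.up ℤ) 0).map (g ≫ h) = _
    exact CategoryTheory.Functor.map_comp _ _ _
  | f :: fs => by
    show mappingCone.map _ _ (kMap (g ≫ h) fs) (kMap (g ≫ h) fs) _ =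
      mappingCone.map _ _ (kMap g fs) (kMap g fs) _ ≫ mappingCone.map _ _ (kMap h fs) (kMap h fs) _
    rw [← mappingCone.map_comp]
    exact map_congr _ _ (kMap_comp g h fs) (kMap_comp g h fs) _ _

/-- An isomorphism of coefficient modules induces an isomorphism of Koszul complexes. -/
noncomputable def kIso {M N : ModuleCat.{u} R} (e : M ≅ N) (xs : List R) :
    CohIII.koszulCx M xs ≅ CohIII.koszulCx N xs where
  hom := kMap e.hom xs
  inv := kMap e.inv xs
  hom_inv_id := by rw [← kMap_comp, e.hom_inv_id, kMap_id]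
  inv_hom_id := by rw [← kMap_comp, e.inv_hom_id, kMap_id]

theorem isZero_homology_of_iso {M N : ModuleCat.{u} R} (e : M ≅ N) (xs : List R) (i : ℤ)
    (h : IsZero ((CohIII.koszulCx M xs).homology i)) :
    IsZero ((CohIII.koszulCx N xs).homology i) :=
  h.of_iso ((HomologicalComplex.homologyFunctor (ModuleCat.{u} R) (ComplexShape.up ℤ) i).mapIso
    (kIso e xs)).symm

theorem AcycAt.of_linearEquiv {xs : List R} {M N : Type u} [AddCommGroup M] [Module R M]
    [AddCommGroup N] [Module R N] (e : M ≃ₗ[R] N) {i : ℤ} (h : AcycAt xs M i) :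
    AcycAt xs N i :=
  isZero_homology_of_iso e.toModuleIso xs i h

theorem isZero_X_of_subsingleton (M : ModuleCat.{u} R) [Subsingleton M] :
    ∀ (xs : List R) (i : ℤ), IsZero ((CohIII.koszulCx M xs).X i)
  | [], i => by
    by_cases hi : i = 0
    · subst hi
      exact (ModuleCat.isZero_of_subsingleton M).of_iso
        (HomologicalComplex.singleObjXSelf (ComplexShape.up ℤ) 0 M)
    · exact HomologicalComplex.isZero_single_obj_X (ComplexShape.up ℤ) 0 M i hi
  | f :: fs, i => (mappingCone.isZero_X_iff _ i).mpr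
      ⟨isZero_X_of_subsingleton M fs (i + 1), isZero_X_of_subsingleton M fs i⟩

theorem AcycAt.of_subsingleton (xs : List R) (M : Type u) [AddCommGroup M] [Module R M]
    [Subsingleton M] (i : ℤ) : AcycAt xs M i :=
  isZero_homology_of_isZero_X _ i (isZero_X_of_subsingleton (ModuleCat.of R M) xs i)

theorem AcycAt.of_pos (xs : List R) (M : Type u) [AddCommGroup M] [Module R M] (i : ℤ)
    (hi : 0 < i) : AcycAt xs M i :=
  isZero_homology_of_isZero_X _ i (isZero_X_of_pos (ModuleCat.of R M) xs i hi)

end Iso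

section LES

variable (xs : List R) {M' M M'' : Type u} [AddCommGroup M'] [Module R M'] [AddCommGroup M]
  [Module R M] [AddCommGroup M''] [Module R M''] (g₁ : M' →ₗ[R] M) (g₂ : M →ₗ[R] M'')
  (hinj : Function.Injective g₁) (hsurj : Function.Surjective g₂) (hex : Function.Exact g₁ g₂)

include hinj hsurj hex

theorem shortExact : (ShortComplex.mk (kMap (ModuleCat.ofHom g₁) xs) (kMap (ModuleCat.ofHom g₂) xs)
    (kMap_comp_eq_zero (ModuleCat.ofHom g₁) (ModuleCat.ofHom g₂) hinj hsurj hex xs)).ShortExact :=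
  kSC_shortExact (ModuleCat.ofHom g₁) (ModuleCat.ofHom g₂) hinj hsurj hex xs

/-- middle term -/
theorem AcycAt.mid {i : ℤ} (h' : AcycAt xs M' i) (h'' : AcycAt xs M'' i) : AcycAt xs M i := by
  have hS := shortExact xs g₁ g₂ hinj hsurj hex
  have hE := hS.homology_exact₂ i
  rw [ShortComplex.moduleCat_exact_iff] at hE
  have s' : Subsingleton ((CohIII.koszulCx (ModuleCat.of R M') xs).homology i) :=
    ModuleCat.subsingleton_of_isZero h'
  have s'' : Subsingleton ((CohIII.koszulCx (ModuleCat.of R M'') xs).homology i) :=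
    ModuleCat.subsingleton_of_isZero h''
  have : Subsingleton ((CohIII.koszulCx (ModuleCat.of R M) xs).homology i) := by
    refine ⟨fun a b => ?_⟩
    obtain ⟨a₁, ha₁⟩ := hE a (Subsingleton.elim _ _)
    obtain ⟨b₁, hb₁⟩ := hE b (Subsingleton.elim _ _)
    rw [← ha₁, ← hb₁, Subsingleton.elim a₁ b₁]
  exact ModuleCat.isZero_of_subsingleton _

/-- dimension shifting -/
theorem AcycAt.shift {i j : ℤ} (hij : i + 1 = j) (h : AcycAt xs M i) (h' : AcycAt xs M' j) :
    AcycAt xs M'' i := by
  have hS := shortExact xs g₁ g₂ hinj hsurj hex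
  have hE := hS.homology_exact₃ i j hij
  rw [ShortComplex.moduleCat_exact_iff] at hE
  have s : Subsingleton ((CohIII.koszulCx (ModuleCat.of R M) xs).homology i) :=
    ModuleCat.subsingleton_of_isZero h
  have s' : Subsingleton ((CohIII.koszulCx (ModuleCat.of R M') xs).homology j) :=
    ModuleCat.subsingleton_of_isZero h'
  have : Subsingleton ((CohIII.koszulCx (ModuleCat.of R M'') xs).homology i) := by
    refine ⟨fun a b => ?_⟩
    obtain ⟨a₁, ha₁⟩ := hE a (Subsingleton.elim _ _)
    obtain ⟨b₁, hb₁⟩ := hE b (Subsingleton.elim _ _)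
    rw [← ha₁, ← hb₁, Subsingleton.elim a₁ b₁]
  exact ModuleCat.isZero_of_subsingleton _

/-- dimension shifting at the top -/
theorem AcycAt.shift_top (h : AcycAt xs M (-1))
    (hH : Function.Injective
      (HomologicalComplex.homologyMap (kMap (ModuleCat.ofHom g₁) xs) 0).hom) :
    AcycAt xs M'' (-1) := by
  have hS := shortExact xs g₁ g₂ hinj hsurj hex
  have hE := hS.homology_exact₃ (-1) 0 (by norm_num)
  rw [ShortComplex.moduleCat_exact_iff] at hE
  have s : Subsingleton ((CohIII.koszulCx (ModuleCat.of R M) xs).homology (-1)) :=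
    ModuleCat.subsingleton_of_isZero h
  have hδ : ∀ c : (CohIII.koszulCx (ModuleCat.of R M'') xs).homology (-1),
      (hS.δ (-1) 0 (by norm_num)).hom c = 0 := by
    intro c
    apply hH
    rw [map_zero]
    exact (comp_hom_apply (hS.δ_comp (-1) 0 (by norm_num)) c).trans rfl
  have : Subsingleton ((CohIII.koszulCx (ModuleCat.of R M'') xs).homology (-1)) := by
    refine ⟨fun a b => ?_⟩
    obtain ⟨a₁, ha₁⟩ := hE a (hδ a)
    obtain ⟨b₁, hb₁⟩ := hE b (hδ b)
    rw [← ha₁, ← hb₁, Subsingleton.elim a₁ b₁]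
  exact ModuleCat.isZero_of_subsingleton _

/-- injectivity on `H⁰` from vanishing of `H⁻¹` of the cokernel -/
theorem injective_homologyMap_of_acycAt (h'' : AcycAt xs M'' (-1)) :
    Function.Injective
      (HomologicalComplex.homologyMap (kMap (ModuleCat.ofHom g₁) xs) 0).hom := by
  have hS := shortExact xs g₁ g₂ hinj hsurj hex
  have hE := hS.homology_exact₁ (-1) 0 (by norm_num)
  rw [ShortComplex.moduleCat_exact_iff] at hE
  have s'' : Subsingleton ((CohIII.koszulCx (ModuleCat.of R M'') xs).homology (-1)) :=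
    ModuleCat.subsingleton_of_isZero h''
  rw [injective_iff_map_eq_zero]
  intro a ha
  obtain ⟨c, hc⟩ := hE a ha
  rw [← hc, Subsingleton.elim c 0]
  exact map_zero _

end LES

section Sums

variable (xs : List R)

theorem AcycAt.prod {M N : Type u} [AddCommGroup M] [Module R M] [AddCommGroup N] [Module R N]
    {i : ℤ} (hM : AcycAt xs M i) (hN : AcycAt xs N i) : AcycAt xs (M × N) i := by
  refine AcycAt.mid xs (LinearMap.inl R M N) (LinearMap.snd R M N) LinearMap.inl_injective
    LinearMap.snd_surjective ?_ hM hN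
  intro y
  constructor
  · intro hy
    exact ⟨y.1, Prod.ext rfl (by simpa using hy.symm)⟩
  · rintro ⟨m, rfl⟩
    rfl

theorem AcycAt.pi_fin {M : Type u} [AddCommGroup M] [Module R M] {i : ℤ} (hM : AcycAt xs M i) :
    ∀ n : ℕ, AcycAt xs (Fin n → M) i
  | 0 => AcycAt.of_subsingleton xs _ i
  | n + 1 => (AcycAt.prod xs hM (AcycAt.pi_fin hM n)).of_linearEquiv
      (Fin.consLinearEquiv R (fun _ : Fin (n + 1) => M))

end Sums

end Groth.Agent.Helper21.KL
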