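import Mathlib
import Groth.Prelude.Def_ega3
import Groth.Agent.Lib.Helper21.KL2

/-!
# Koszul complexes with module coefficients: restriction of scalars
-/

set_option autoImplicit false
universe u
open CategoryTheory CategoryTheory.Limits CochainComplex HomComplex

namespace Groth.Agent.Helper21.KL

open Groth.Agent.Helper21.KF

variable {B C : Type u} [CommRing B] [CommRing C] (π : B →+* C)

/-- iso of cones induced by an iso of complexes -/
noncomputable def coneIso {K₁ K₂ : CochainComplex (ModuleCat.{u} B) ℤ} (e : K₁ ≅ K₂) (x : B) :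
    mappingCone (x • 𝟙 K₁) ≅ mappingCone (x • 𝟙 K₂) where
  hom := mappingCone.map _ _ e.hom e.hom
    (by rw [Linear.smul_comp, Linear.comp_smul, Category.id_comp, Category.comp_id])
  inv := mappingCone.map _ _ e.inv e.inv
    (by rw [Linear.smul_comp, Linear.comp_smul, Category.id_comp, Category.comp_id])
  hom_inv_id := by
    rw [← mappingCone.map_comp]
    exact (map_congr _ _ e.hom_inv_id e.hom_inv_id _
      (by rw [Category.id_comp, Category.comp_id])).trans (mappingCone.map_id _)
  inv_hom_id := by
    rw [← mappingCone.map_comp]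
    exact (map_congr _ _ e.inv_hom_id e.inv_hom_id _
      (by rw [Category.id_comp, Category.comp_id])).trans (mappingCone.map_id _)

theorem map_smul_id (x : B) (K : CochainComplex (ModuleCat.{u} C) ℤ) :
    ((ModuleCat.restrictScalars π).mapHomologicalComplex (ComplexShape.up ℤ)).map (π x • 𝟙 K) =
      x • 𝟙 (((ModuleCat.restrictScalars π).mapHomologicalComplex (ComplexShape.up ℤ)).obj K) := by
  ext n m
  rfl

theorem nonempty_restrict_iso (M : ModuleCat.{u} C) : ∀ xs : List B,
    Nonempty (((ModuleCat.restrictScalars π).mapHomologicalComplex (ComplexShape.up ℤ)).obj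
      (CohIII.koszulCx M (xs.map π)) ≅ CohIII.koszulCx ((ModuleCat.restrictScalars π).obj M) xs)
  | [] => ⟨(HomologicalComplex.singleMapHomologicalComplex (ModuleCat.restrictScalars π)
      (ComplexShape.up ℤ) 0).app M⟩
  | x :: xs => by
    obtain ⟨e⟩ := nonempty_restrict_iso M xs
    let e1 := mappingCone.mapHomologicalComplexIso (π x • 𝟙 (CohIII.koszulCx M (xs.map π)))
      (ModuleCat.restrictScalars π)
    have key : ∀ ψ : ((ModuleCat.restrictScalars π).mapHomologicalComplex (ComplexShape.up ℤ)).obj
        (CohIII.koszulCx M (xs.map π)) ⟶ _, ψ = x • 𝟙 _ →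
        Nonempty (mappingCone ψ ≅
          mappingCone (x • 𝟙 (CohIII.koszulCx ((ModuleCat.restrictScalars π).obj M) xs))) := by
      rintro ψ rfl
      exact ⟨coneIso e x⟩
    obtain ⟨e2⟩ := key _ (map_smul_id π x _)
    exact ⟨e1 ≪≫ e2⟩

theorem isZero_homology_mapHomologicalComplex (K : CochainComplex (ModuleCat.{u} C) ℤ) (i : ℤ)
    (h : IsZero (K.homology i)) :
    IsZero ((((ModuleCat.restrictScalars π).mapHomologicalComplex (ComplexShape.up ℤ)).obj
      K).homology i) := by
  have h1 : (K.sc i).Exact := (K.exactAt_iff_isZero_homology i).mpr h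
  rw [ShortComplex.moduleCat_exact_iff] at h1
  apply (HomologicalComplex.exactAt_iff_isZero_homology _ i).mp
  show ((((ModuleCat.restrictScalars π).mapHomologicalComplex (ComplexShape.up ℤ)).obj K).sc
    i).Exact
  rw [ShortComplex.moduleCat_exact_iff]
  intro y hy
  exact h1 y hy

/-- Acyclicity of a Koszul complex passes to the restriction of scalars. -/
theorem isZero_homology_restrict (M : ModuleCat.{u} C) (xs : List B) (i : ℤ)
    (h : IsZero ((CohIII.koszulCx M (xs.map π)).homology i)) :
    IsZero ((CohIII.koszulCx ((ModuleCat.restrictScalars π).obj M) xs).homology i) := by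
  obtain ⟨e⟩ := nonempty_restrict_iso π M xs
  exact (isZero_homology_mapHomologicalComplex π _ i h).of_iso
    ((HomologicalComplex.homologyFunctor (ModuleCat.{u} B) (ComplexShape.up ℤ) i).mapIso e).symm

end Groth.Agent.Helper21.KL
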