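import Mathlib
import Groth.Agent.Lib.Helper1.TorFree

/-!
# The local criterion of flatness, without Tor

`TorVanish R M Q` is a Tor-free formulation of `Tor₁(Q, M) = 0`.
-/

namespace Groth.Agent.Helper21.LCV

open TensorProduct Function Groth.Agent.Helper1

universe u v

section Pres

variable (R : Type u) [CommRing R] (M : Type v) [AddCommGroup M] [Module R M]

/-- The free module of the canonical free presentation of `M`. -/
def PresG : Type (max u v) := M →₀ R

noncomputable instance : AddCommGroup (PresG R M) := inferInstanceAs (AddCommGroup (M →₀ R))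
noncomputable instance : Module R (PresG R M) := inferInstanceAs (Module R (M →₀ R))
instance : Module.Free R (PresG R M) := inferInstanceAs (Module.Free R (M →₀ R))

/-- The canonical free presentation of `M`. -/
noncomputable def presπ : PresG R M →ₗ[R] M := Finsupp.linearCombination R id

/-- The kernel of the canonical free presentation of `M`. -/
def PresK : Type (max u v) := LinearMap.ker (presπ R M)

noncomputable instance : AddCommGroup (PresK R M) :=
  inferInstanceAs (AddCommGroup (LinearMap.ker (presπ R M)))
noncomputable instance : Module R (PresK R M) :=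
  inferInstanceAs (Module R (LinearMap.ker (presπ R M)))

/-- The kernel inclusion of the canonical presentation. -/
noncomputable def presι : PresK R M →ₗ[R] PresG R M :=
  (LinearMap.ker (presπ R M)).subtype

theorem presπ_surjective : Surjective (presπ R M) := fun m =>
  ⟨(Finsupp.single m 1 : M →₀ R), by
    show Finsupp.linearCombination R id (Finsupp.single m 1) = m
    rw [Finsupp.linearCombination_single, one_smul]; rfl⟩

theorem pres_exact : Exact (presι R M) (presπ R M) := (presπ R M).exact_subtype_ker_map

theorem presι_injective : Injective (presι R M) := Submodule.injective_subtype _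

/-- Tor-free formulation of `Tor₁(Q, M) = 0`. -/
def TorVanish (Q : Type*) [AddCommGroup Q] [Module R Q] : Prop :=
  Injective ((presι R M).lTensor Q)

variable {R M}

/-- If for one presentation `K → F → Q → 0` with `F` flat the map `K ⊗ M → F ⊗ M` is injective,
then `Tor₁(Q, M) = 0`. -/
theorem TorVanish.of_presentation {K F Q : Type*} [AddCommGroup K] [Module R K]
    [AddCommGroup F] [Module R F] [AddCommGroup Q] [Module R Q] [Module.Flat R F]
    (f : K →ₗ[R] F) (g : F →ₗ[R] Q) (hfg : Exact f g) (hg : Surjective g)
    (h : Injective (f.rTensor M)) : TorVanish R M Q :=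
  lTensor_injective_of_exact_of_exact_of_rTensor_injective hfg hg (pres_exact R M)
    (presπ_surjective R M) h
    (Module.Flat.lTensor_preserves_injective_linearMap _ (presι_injective R M))

/-- If `Tor₁(Q, M) = 0` then for every exact `0 → A → B → Q → 0`, `A ⊗ M → B ⊗ M` is injective. -/
theorem TorVanish.rTensor_injective {A B Q : Type*} [AddCommGroup A] [Module R A]
    [AddCommGroup B] [Module R B] [AddCommGroup Q] [Module R Q] (hQ : TorVanish R M Q)
    (f : A →ₗ[R] B) (g : B →ₗ[R] Q) (hf : Injective f) (hfg : Exact f g) (hg : Surjective g) :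
    Injective (f.rTensor M) := by
  rw [← LinearMap.lTensor_inj_iff_rTensor_inj]
  refine lTensor_injective_of_exact_of_exact_of_rTensor_injective (pres_exact R M)
    (presπ_surjective R M) hfg hg ?_ ?_
  · rw [← LinearMap.lTensor_inj_iff_rTensor_inj]
    exact hQ
  · exact Module.Flat.lTensor_preserves_injective_linearMap _ hf

/-- The class of modules with vanishing Tor₁ against `M` is stable under extensions. -/
theorem TorVanish.of_extension {Q : Type*} [AddCommGroup Q] [Module R Q] (Q' : Submodule R Q)
    (h1 : TorVanish R M Q') (h2 : TorVanish R M (Q ⧸ Q')) : TorVanish R M Q :=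
  lTensor_injective_of_extension (presι R M) Q'.subtype Q'.mkQ (Submodule.injective_subtype _)
    (LinearMap.exact_subtype_mkQ Q') (Submodule.mkQ_surjective _) h1 h2

end Pres

section Flat

/-- If `0 → A → B → C → 0` is exact with `C` flat, then `Q ⊗ A → Q ⊗ B` is injective. -/
theorem lTensor_injective_of_exact_of_flat {R : Type u} [CommRing R] {A B C : Type*}
    [AddCommGroup A] [Module R A] [AddCommGroup B] [Module R B] [AddCommGroup C] [Module R C]
    [Module.Flat R C] (f : A →ₗ[R] B) (g : B →ₗ[R] C) (hf : Injective f) (hfg : Exact f g)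
    (hg : Surjective g) (Q : Type u) [AddCommGroup Q] [Module R Q] :
    Injective (f.lTensor Q) :=
  lTensor_injective_of_exact_of_exact_of_rTensor_injective (pres_exact R Q)
    (presπ_surjective R Q) hfg hg
    (Module.Flat.rTensor_preserves_injective_linearMap _ (presι_injective R Q))
    (Module.Flat.lTensor_preserves_injective_linearMap _ hf)

end Flat

section BaseChange

variable {R : Type*} [CommRing R] (R' : Type*) [CommRing R'] [Algebra R R']

/-- Variant of `lTensor_injective_of_baseChange_injective` with the injectivity over `R'` as a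
hypothesis. -/
theorem lTensor_injective_of_baseChange_lTensor_injective
    {N M : Type*} [AddCommGroup N] [Module R N] [AddCommGroup M] [Module R M]
    (Q : Type*) [AddCommGroup Q] [Module R Q] [Module R' Q] [IsScalarTower R R' Q]
    (u : N →ₗ[R] M) (h1 : Injective ((u.baseChange R').lTensor Q)) : Injective (u.lTensor Q) := by
  intro x y hxy
  obtain ⟨x, rfl⟩ := (AlgebraTensorModule.cancelBaseChange R R' R' Q N).surjective x
  obtain ⟨y, rfl⟩ := (AlgebraTensorModule.cancelBaseChange R R' R' Q N).surjective y
  rw [← cancelBaseChange_lTensor, ← cancelBaseChange_lTensor] at hxy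
  rw [h1 ((AlgebraTensorModule.cancelBaseChange R R' R' Q M).injective hxy)]

/-- Injectivity of `f ⊗_R M` is equivalent to injectivity of `f ⊗_{R'} (R' ⊗_R M)`. -/
theorem rTensor_baseChange_injective_iff
    {A B : Type*} [AddCommGroup A] [Module R A] [Module R' A] [IsScalarTower R R' A]
    [AddCommGroup B] [Module R B] [Module R' B] [IsScalarTower R R' B]
    (M : Type*) [AddCommGroup M] [Module R M] (f : A →ₗ[R'] B) :
    Injective (f.rTensor (R' ⊗[R] M)) ↔ Injective ((f.restrictScalars R).rTensor M) := by
  constructor
  · intro h1 x y hxy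
    obtain ⟨x, rfl⟩ := (AlgebraTensorModule.cancelBaseChange R R' R' A M).surjective x
    obtain ⟨y, rfl⟩ := (AlgebraTensorModule.cancelBaseChange R R' R' A M).surjective y
    rw [← cancelBaseChange_rTensor, ← cancelBaseChange_rTensor] at hxy
    rw [h1 ((AlgebraTensorModule.cancelBaseChange R R' R' B M).injective hxy)]
  · intro h1 x y hxy
    apply (AlgebraTensorModule.cancelBaseChange R R' R' A M).injective
    apply h1
    rw [← cancelBaseChange_rTensor, ← cancelBaseChange_rTensor, hxy]

end BaseChange

section LCNil

variable {R : Type u} [CommRing R] {M : Type v} [AddCommGroup M] [Module R M]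

/-- Step 1: if `I ⊗ M → M` is injective and `M/IM` is flat over `R/I`, then `Tor₁(Q, M) = 0` for
every `Q` killed by `I`. -/
theorem TorVanish.of_smul_eq_bot (I : Ideal R) (H1 : Injective (I.subtype.rTensor M))
    [H2 : Module.Flat (R ⧸ I) ((R ⧸ I) ⊗[R] M)]
    (Q : Type u) [AddCommGroup Q] [Module R Q] (hQ : I • (⊤ : Submodule R Q) = ⊥) :
    TorVanish R M Q := by
  -- Tor₁(R/I, M) = 0
  have h0 : TorVanish R M (R ⧸ I) :=
    TorVanish.of_presentation I.subtype I.mkQ (LinearMap.exact_subtype_mkQ I)
      (Submodule.mkQ_surjective _) H1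
  -- `Q` is an `R/I`-module
  have hT : Module.IsTorsionBySet R Q I := by
    intro x a
    have : (a : R) • x ∈ I • (⊤ : Submodule R Q) :=
      Submodule.smul_mem_smul a.2 Submodule.mem_top
    rw [hQ] at this
    exact this
  let _ : Module (R ⧸ I) Q := hT.module
  have : IsScalarTower R (R ⧸ I) Q := hT.isScalarTower
  -- the base-changed presentation is exact with flat cokernel
  have hinj : Injective ((presι R M).baseChange (R ⧸ I)) := h0
  have hex : Exact ((presι R M).baseChange (R ⧸ I)) ((presπ R M).baseChange (R ⧸ I)) :=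
    lTensor_exact (R ⧸ I) (pres_exact R M) (presπ_surjective R M)
  have hsurj : Surjective ((presπ R M).baseChange (R ⧸ I)) :=
    LinearMap.lTensor_surjective (R ⧸ I) (presπ_surjective R M)
  have h1 : Injective (((presι R M).baseChange (R ⧸ I)).lTensor Q) :=
    lTensor_injective_of_exact_of_flat _ _ hinj hex hsurj Q
  exact lTensor_injective_of_baseChange_lTensor_injective (R ⧸ I) Q (presι R M) h1

/-- Nilpotent local criterion: if `I ⊗ M → M` is injective and `M/IM` is flat over `R/I`,
then `Tor₁(Q, M) = 0` for every `Q` killed by a power of `I`. -/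
theorem TorVanish.of_pow_smul_eq_bot (I : Ideal R) (H1 : Injective (I.subtype.rTensor M))
    [H2 : Module.Flat (R ⧸ I) ((R ⧸ I) ⊗[R] M)] (n : ℕ)
    (Q : Type u) [AddCommGroup Q] [Module R Q] (hQ : I ^ n • (⊤ : Submodule R Q) = ⊥) :
    TorVanish R M Q := by
  refine devissage_pow I (fun Q _ _ => TorVanish R M Q) ?_ ?_ n Q hQ
  · intro Q _ _ hQ
    exact TorVanish.of_smul_eq_bot I H1 Q hQ
  · intro Q _ _ Q' h1 h2
    exact TorVanish.of_extension Q' h1 h2

/-- If `Tor₁(Q, M) = 0` for all `Q` killed by `J`, then `M/JM` is flat over `R/J`. -/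
theorem flat_quotient_of_torVanish (J : Ideal R)
    (h : ∀ (Q : Type u) [AddCommGroup Q] [Module R Q],
      J • (⊤ : Submodule R Q) = ⊥ → TorVanish R M Q) :
    Module.Flat (R ⧸ J) ((R ⧸ J) ⊗[R] M) := by
  rw [Module.Flat.iff_rTensor_injective']
  intro 𝔟
  rw [rTensor_baseChange_injective_iff]
  have hQ : J • (⊤ : Submodule R ((R ⧸ J) ⧸ 𝔟)) = ⊥ := by
    rw [eq_bot_iff]
    intro x hx
    refine Submodule.smul_induction_on hx ?_ ?_
    · intro a ha y _
      rw [Submodule.mem_bot, ← algebraMap_smul (R ⧸ J) a y, Ideal.Quotient.algebraMap_eq,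
        Ideal.Quotient.eq_zero_iff_mem.mpr ha, zero_smul]
    · intro x y hx hy
      exact Submodule.add_mem _ hx hy
  exact (h _ hQ).rTensor_injective (𝔟.subtype.restrictScalars R) (𝔟.mkQ.restrictScalars R)
    (Submodule.injective_subtype _) (LinearMap.exact_subtype_mkQ 𝔟) (Submodule.mkQ_surjective _)

/-- If `Tor₁(Q, M) = 0` for all `Q`, then `M` is flat. -/
theorem flat_of_torVanish
    (h : ∀ (Q : Type u) [AddCommGroup Q] [Module R Q], TorVanish R M Q) :
    Module.Flat R M := by
  rw [Module.Flat.iff_rTensor_injective']
  intro 𝔟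
  exact (h (R ⧸ 𝔟)).rTensor_injective 𝔟.subtype 𝔟.mkQ
    (Submodule.injective_subtype _) (LinearMap.exact_subtype_mkQ 𝔟) (Submodule.mkQ_surjective _)

/-- Local criterion of flatness for a nilpotent ideal. -/
theorem flat_of_isNilpotent (I : Ideal R) (hI : IsNilpotent I)
  (H1 : Injective (I.subtype.rTensor M))
    [H2 : Module.Flat (R ⧸ I) ((R ⧸ I) ⊗[R] M)] : Module.Flat R M := by
  obtain ⟨n, hn⟩ := hI
  apply flat_of_torVanish
  intro Q _ _
  apply TorVanish.of_pow_smul_eq_bot I H1 n Q
  rw [hn]
  exact Submodule.bot_smul _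

end LCNil

end Groth.Agent.Helper21.LCV
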