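import Mathlib
import Groth.Prelude.Def_ega3
import Groth.Agent.Lib.Helper21.KL3
import Groth.Agent.Lib.Helper21.LCV

/-!
# Lifting Koszul-regularity and flatness along a nilpotent thickening of the base
-/

set_option autoImplicit false
universe u
open CategoryTheory CategoryTheory.Limits TensorProduct Pointwise

namespace Groth.Agent.Helper21.KL

variable {A B : Type u} [CommRing A] [CommRing B] [Algebra A B]

section QLemma

variable (J : Ideal B) (N : Type u) [AddCommGroup N] [Module A N]

/-- the quotient map as an `A`-linear map -/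
noncomputable abbrev mkA : B →ₗ[A] B ⧸ J := (Ideal.Quotient.mkₐ A J).toLinearMap

theorem mkA_surjective : Function.Surjective (mkA (A := A) J) := Ideal.Quotient.mk_surjective

theorem mkA_exact : Function.Exact ((Submodule.subtype J).restrictScalars A) (mkA (A := A) J) := by
  intro b
  constructor
  · intro hb
    exact ⟨⟨b, Ideal.Quotient.eq_zero_iff_mem.mp hb⟩, rfl⟩
  · rintro ⟨j, rfl⟩
    exact Ideal.Quotient.eq_zero_iff_mem.mpr j.2

theorem mem_smul_top_iff (z : B ⊗[A] N) :
    z ∈ J • (⊤ : Submodule B (B ⊗[A] N)) ↔ (mkA (A := A) J).rTensor N z = 0 := by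
  constructor
  · intro hz
    refine Submodule.smul_induction_on hz (fun j hj w hw => ?_) (fun x y hx hy => ?_)
    · clear hw
      induction w using TensorProduct.induction_on with
      | zero => rw [smul_zero, map_zero]
      | tmul b n =>
        rw [TensorProduct.smul_tmul', LinearMap.rTensor_tmul]
        have : mkA (A := A) J (j • b) = 0 :=
          Ideal.Quotient.eq_zero_iff_mem.mpr (J.mul_mem_right b hj)
        rw [this, TensorProduct.zero_tmul]
      | add x y hx hy => rw [smul_add, map_add, hx, hy, add_zero]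
    · rw [map_add, hx, hy, add_zero]
  · intro hz
    obtain ⟨y, rfl⟩ := (rTensor_exact N (mkA_exact (A := A) J) (mkA_surjective J) z).mp hz
    clear hz
    induction y using TensorProduct.induction_on with
    | zero => rw [map_zero]; exact Submodule.zero_mem _
    | tmul j n =>
      rw [LinearMap.rTensor_tmul]
      have : ((Submodule.subtype J).restrictScalars A) j ⊗ₜ[A] n = (j : B) • ((1 : B) ⊗ₜ[A] n) := by
        rw [TensorProduct.smul_tmul', smul_eq_mul, mul_one]
        rfl
      rw [this]
      exact Submodule.smul_mem_smul j.2 Submodule.mem_top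
    | add x y hx hy => rw [map_add]; exact Submodule.add_mem _ hx hy

theorem rTensor_lTensor {N' : Type u} [AddCommGroup N'] [Module A N'] (ι : N' →ₗ[A] N)
    (w : B ⊗[A] N') :
    (mkA (A := A) J).rTensor N (ι.lTensor B w) =
      ι.lTensor (B ⧸ J) ((mkA (A := A) J).rTensor N' w) := by
  rw [← LinearMap.comp_apply, ← LinearMap.comp_apply, LinearMap.rTensor_comp_lTensor,
    LinearMap.lTensor_comp_rTensor]

end QLemma

section SES

variable [Module.Flat A B] {N' N N'' : Type u} [AddCommGroup N'] [Module A N'] [AddCommGroup N]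
  [Module A N] [AddCommGroup N''] [Module A N''] (ι : N' →ₗ[A] N) (p : N →ₗ[A] N'')
  (hι : Function.Injective ι) (hp : Function.Surjective p) (hex : Function.Exact ι p)

include hι in
theorem baseChange_injective : Function.Injective (ι.baseChange B) := by
  rw [LinearMap.baseChange_eq_ltensor]
  exact Module.Flat.lTensor_preserves_injective_linearMap ι hι

include hp in
omit [Module.Flat A B] in
theorem baseChange_surjective : Function.Surjective (p.baseChange B) := by
  rw [LinearMap.baseChange_eq_ltensor]
  exact LinearMap.lTensor_surjective B hp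

include hp hex in
omit [Module.Flat A B] in
theorem baseChange_exact : Function.Exact (ι.baseChange B) (p.baseChange B) := by
  rw [LinearMap.baseChange_eq_ltensor, LinearMap.baseChange_eq_ltensor]
  exact lTensor_exact B hex hp

variable (xs : List B)

include hι hp hex in
/-- If `H⁻¹` of the Koszul complex of `B ⊗ N''` vanishes then `B/(xs) ⊗ N' → B/(xs) ⊗ N` is
injective. -/
theorem lTensor_quot_injective (h'' : AcycAt xs (B ⊗[A] N'') (-1)) :
    Function.Injective (ι.lTensor (B ⧸ Ideal.ofList xs)) := by
  have hH := injective_homologyMap_of_acycAt xs (ι.baseChange B) (p.baseChange B)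
    (baseChange_injective ι hι) (baseChange_surjective p hp) (baseChange_exact ι p hp hex) h''
  rw [injective_homologyMap_kMap_iff] at hH
  rw [injective_iff_map_eq_zero]
  intro w hw
  obtain ⟨m', rfl⟩ := LinearMap.rTensor_surjective N' (mkA_surjective (A := A) (Ideal.ofList xs)) w
  have h1 : (mkA (A := A) (Ideal.ofList xs)).rTensor N (ι.lTensor B m') = 0 := by
    rw [rTensor_lTensor]
    exact hw
  have h2 : ι.lTensor B m' ∈ Ideal.ofList xs • (⊤ : Submodule B (B ⊗[A] N)) :=
    (mem_smul_top_iff (Ideal.ofList xs) N _).mpr h1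
  have h3 : m' ∈ Ideal.ofList xs • (⊤ : Submodule B (B ⊗[A] N')) := hH m' h2
  exact (mem_smul_top_iff (Ideal.ofList xs) N' m').mp h3

end SES

section Killed

variable (I : Ideal A)

theorem exists_surjective_of_killed (N : Type u) [AddCommGroup N] [Module A N] [Module.Finite A N]
    (hN : ∀ a ∈ I, ∀ y : N, a • y = 0) :
    ∃ (n : ℕ) (p : (Fin n → A ⧸ I) →ₗ[A] N), Function.Surjective p := by
  classical
  obtain ⟨n, f, hf⟩ := Module.Finite.exists_fin' A N
  let g : Fin n → N := fun k => f fun j => if k = j then 1 else 0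
  have hle : ∀ k, I ≤ LinearMap.ker (LinearMap.toSpanSingleton A N (g k)) := by
    intro k a ha
    rw [LinearMap.mem_ker, LinearMap.toSpanSingleton_apply]
    exact hN a ha _
  let q : Fin n → ((A ⧸ I) →ₗ[A] N) := fun k =>
    Submodule.liftQ I (LinearMap.toSpanSingleton A N (g k)) (hle k)
  refine ⟨n, LinearMap.lsum A (fun _ : Fin n => A ⧸ I) A q, ?_⟩
  intro y
  obtain ⟨w, rfl⟩ := hf y
  refine ⟨fun k => Ideal.Quotient.mk I (w k), ?_⟩
  rw [LinearMap.lsum_apply, LinearMap.sum_apply, LinearMap.pi_apply_eq_sum_univ f w]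
  refine Finset.sum_congr rfl fun k _ => ?_
  rw [LinearMap.comp_apply, LinearMap.proj_apply]
  show Submodule.liftQ I (LinearMap.toSpanSingleton A N (g k)) (hle k)
    (Submodule.Quotient.mk (w k)) = _
  rw [Submodule.liftQ_apply, LinearMap.toSpanSingleton_apply]

theorem smul_pi_quot_eq_zero (n : ℕ) (a : A) (ha : a ∈ I) (v : Fin n → A ⧸ I) : a • v = 0 := by
  funext k
  rw [Pi.smul_apply, Pi.zero_apply, Algebra.smul_def, Ideal.Quotient.algebraMap_eq,
    Ideal.Quotient.eq_zero_iff_mem.mpr ha, zero_mul]

variable (xs : List B) [IsNoetherianRing A] [Module.Flat A B]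
  [Module.Flat A (B ⧸ Ideal.ofList xs)]

/-- Dimension shifting: acyclicity for finite modules killed by `I`. -/
theorem acycAt_of_killed_neg (h0 : ∀ i : ℤ, i ≠ 0 → AcycAt xs (B ⊗[A] (A ⧸ I)) i) :
    ∀ (j : ℕ) (N : Type u) [AddCommGroup N] [Module A N] [Module.Finite A N],
      (∀ a ∈ I, ∀ y : N, a • y = 0) → AcycAt xs (B ⊗[A] N) (-((j : ℤ) + 1)) := by
  classical
  intro j
  induction j with
  | zero =>
    intro N _ _ _ hN
    obtain ⟨n, p, hp⟩ := exists_surjective_of_killed I N hN
    have hF : ∀ i : ℤ, i ≠ 0 → AcycAt xs (B ⊗[A] (Fin n → A ⧸ I)) i := fun i hi =>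
      (AcycAt.pi_fin xs (h0 i hi) n).of_linearEquiv
        (TensorProduct.piRight A B B (fun _ : Fin n => A ⧸ I)).symm
    have hinj := Submodule.injective_subtype (LinearMap.ker p)
    have hex := LinearMap.exact_subtype_ker_map p
    have h := AcycAt.shift_top xs ((LinearMap.ker p).subtype.baseChange B) (p.baseChange B)
      (baseChange_injective _ hinj) (baseChange_surjective p hp)
      (baseChange_exact _ p hp hex) (hF (-1) (by norm_num)) ?_
    · simpa using h
    · rw [injective_homologyMap_kMap_iff]
      intro m' hm'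
      have h1 := (mem_smul_top_iff (Ideal.ofList xs) _ _).mp hm'
      have h1' : (mkA (A := A) (Ideal.ofList xs)).rTensor (Fin n → A ⧸ I)
          ((LinearMap.ker p).subtype.lTensor B m') = 0 := h1
      rw [rTensor_lTensor] at h1'
      have h2 := Module.Flat.lTensor_preserves_injective_linearMap
        (M := B ⧸ Ideal.ofList xs) _ hinj
      exact (mem_smul_top_iff (Ideal.ofList xs) _ m').mpr (h2 (h1'.trans (map_zero _).symm))
  | succ j ih =>
    intro N _ _ _ hN
    obtain ⟨n, p, hp⟩ := exists_surjective_of_killed I N hN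
    have hF : ∀ i : ℤ, i ≠ 0 → AcycAt xs (B ⊗[A] (Fin n → A ⧸ I)) i := fun i hi =>
      (AcycAt.pi_fin xs (h0 i hi) n).of_linearEquiv
        (TensorProduct.piRight A B B (fun _ : Fin n => A ⧸ I)).symm
    have hinj := Submodule.injective_subtype (LinearMap.ker p)
    have hex := LinearMap.exact_subtype_ker_map p
    have hK : ∀ a ∈ I, ∀ y : LinearMap.ker p, a • y = 0 := fun a ha y =>
      Subtype.ext (smul_pi_quot_eq_zero I n a ha y.1)
    have hij : (-(((j + 1 : ℕ) : ℤ) + 1)) + 1 = -((j : ℤ) + 1) := by push_cast; ring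
    exact AcycAt.shift xs ((LinearMap.ker p).subtype.baseChange B) (p.baseChange B)
      (baseChange_injective _ hinj) (baseChange_surjective p hp)
      (baseChange_exact _ p hp hex) hij (hF _ (by have : (0:ℤ) ≤ ((j + 1 : ℕ) : ℤ) := by positivity
                                                  omega)) (ih _ hK)

theorem acycAt_of_killed (h0 : ∀ i : ℤ, i ≠ 0 → AcycAt xs (B ⊗[A] (A ⧸ I)) i)
    (N : Type u) [AddCommGroup N] [Module A N] [Module.Finite A N]
    (hN : ∀ a ∈ I, ∀ y : N, a • y = 0) (i : ℤ) (hi : i ≠ 0) : AcycAt xs (B ⊗[A] N) i := by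
  rcases lt_or_gt_of_ne hi with h | h
  · have := acycAt_of_killed_neg I xs h0 (-i - 1).toNat N hN
    have e : -(((-i - 1).toNat : ℤ) + 1) = i := by
      rw [Int.toNat_of_nonneg (by omega)]
      ring
    rwa [e] at this
  · exact AcycAt.of_pos xs _ i h

omit [IsNoetherianRing A] [Module.Flat A B] in
theorem subsingleton_tensor (N : Type u) [AddCommGroup N] [Module A N] [Subsingleton N] :
    Subsingleton (B ⊗[A] N) := by
  refine ⟨fun x y => ?_⟩
  have h : ∀ z : B ⊗[A] N, z = 0 := by
    intro z
    induction z using TensorProduct.induction_on with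
    | zero => rfl
    | tmul b n => rw [Subsingleton.elim n 0, TensorProduct.tmul_zero]
    | add x y hx hy => rw [hx, hy, add_zero]
  rw [h x, h y]

/-- Acyclicity for finite modules killed by a power of `I`. -/
theorem acycAt_of_pow (h0 : ∀ i : ℤ, i ≠ 0 → AcycAt xs (B ⊗[A] (A ⧸ I)) i) :
    ∀ (n : ℕ) (N : Type u) [AddCommGroup N] [Module A N] [Module.Finite A N],
      I ^ n • (⊤ : Submodule A N) = ⊥ → ∀ i : ℤ, i ≠ 0 → AcycAt xs (B ⊗[A] N) i := by
  intro n
  induction n with
  | zero =>
    intro N _ _ _ hN i _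
    rw [pow_zero, Ideal.one_eq_top, Submodule.top_smul] at hN
    have hs : Subsingleton (Submodule A N) := subsingleton_of_bot_eq_top hN.symm
    haveI : Subsingleton N := (Submodule.subsingleton_iff A).mp hs
    haveI := subsingleton_tensor (A := A) (B := B) N
    exact AcycAt.of_subsingleton xs _ i
  | succ n ih =>
    intro N _ _ _ hN i hi
    let N₁ : Submodule A N := I • ⊤
    have h1 : I ^ n • (⊤ : Submodule A N₁) = ⊥ := by
      rw [eq_bot_iff]
      intro x hx
      rw [Submodule.mem_bot]
      apply Subtype.ext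
      have hx' : (N₁.subtype x) ∈ I ^ n • N₁ := by
        refine Submodule.smul_induction_on hx (fun a ha y _ => ?_) (fun x y hx hy => ?_)
        · rw [map_smul]
          exact Submodule.smul_mem_smul ha y.2
        · rw [map_add]
          exact Submodule.add_mem _ hx hy
      have : I ^ n • N₁ = ⊥ := by
        show I ^ n • (I • (⊤ : Submodule A N)) = ⊥
        rw [← Submodule.mul_smul, ← pow_succ, hN]
      rw [this, Submodule.mem_bot] at hx'
      exact hx'
    have h2 : ∀ a ∈ I, ∀ y : N ⧸ N₁, a • y = 0 := by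
      intro a ha y
      obtain ⟨y, rfl⟩ := Submodule.Quotient.mk_surjective N₁ y
      rw [← Submodule.Quotient.mk_smul, Submodule.Quotient.mk_eq_zero]
      exact Submodule.smul_mem_smul ha Submodule.mem_top
    exact AcycAt.mid xs (N₁.subtype.baseChange B) (N₁.mkQ.baseChange B)
      (baseChange_injective _ (Submodule.injective_subtype N₁))
      (baseChange_surjective _ (Submodule.mkQ_surjective N₁))
      (baseChange_exact _ _ (Submodule.mkQ_surjective N₁) (LinearMap.exact_subtype_mkQ N₁))
      (ih N₁ h1 i hi) (acycAt_of_killed I xs h0 (N ⧸ N₁) h2 i hi)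

end Killed

/-- **Main theorem.** `A` Noetherian, `I` a nilpotent ideal, `B` a flat `A`-algebra and `xs` a list
in `B` whose Koszul complex with coefficients in `B/IB` is acyclic off degree zero and such that
`(B/(xs))/I` is flat over `A/I`.  Then `B/(xs)` is flat over `A` and the Koszul complex of `xs`
is acyclic off degree zero. -/
theorem main [IsNoetherianRing A] [Module.Flat A B] (xs : List B) (I : Ideal A) (n : ℕ)
    (hn : I ^ n = ⊥) (h0 : ∀ i : ℤ, i ≠ 0 → AcycAt xs (B ⊗[A] (A ⧸ I)) i)
    [H2 : Module.Flat (A ⧸ I) ((A ⧸ I) ⊗[A] (B ⧸ Ideal.ofList xs))] :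
    Module.Flat A (B ⧸ Ideal.ofList xs) ∧ ∀ i : ℤ, i ≠ 0 → AcycAt xs B i := by
  have hflat : Module.Flat A (B ⧸ Ideal.ofList xs) := by
    apply Groth.Agent.Helper21.LCV.flat_of_isNilpotent I ⟨n, hn⟩
    rw [← LinearMap.lTensor_inj_iff_rTensor_inj]
    exact lTensor_quot_injective I.subtype I.mkQ (Submodule.injective_subtype I)
      (Submodule.mkQ_surjective I) (LinearMap.exact_subtype_mkQ I) xs (h0 (-1) (by norm_num))
  refine ⟨hflat, fun i hi => ?_⟩
  have h := acycAt_of_pow I xs h0 n A (by rw [hn, Submodule.bot_smul]) i hi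
  exact h.of_linearEquiv (TensorProduct.AlgebraTensorModule.rid A B B)

end Groth.Agent.Helper21.KL
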