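import Mathlib
import Groth.Prelude.Def_LCI2
import Groth.Prelude.Def_ega3
import Groth.Agent.Lib.Helper21.KL4

/-!
# Lifting Koszul-regular sequences along a nilpotent thickening: translation of hypotheses
-/

set_option autoImplicit false
universe u
open CategoryTheory CategoryTheory.Limits TensorProduct Pointwise

namespace Groth.Agent.Helper21.KL

theorem koszul_eq {B : Type u} [CommRing B] (l : List B) :
    Koszul.koszul B l = CohIII.koszulCx (ModuleCat.of B B) l := by
  induction l with
  | nil => rfl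
  | cons f l ih =>
    change CochainComplex.mappingCone (f • 𝟙 (Koszul.koszul B l)) = _
    rw [ih]
    rfl

theorem ofList_ofFn {B : Type u} [CommRing B] {r : ℕ} (f' : Fin r → B) :
    Ideal.ofList (List.ofFn f') = Ideal.span (Set.range f') := by
  unfold Ideal.ofList
  congr 1
  ext x
  simp [List.mem_ofFn]

theorem isKoszulRegularSeq_iff {B : Type u} [CommRing B] (l : List B) :
    LCI.IsKoszulRegularSeq B l ↔ ∀ i : ℤ, i ≠ 0 → AcycAt l B i := by
  have key : ∀ (K L : CochainComplex (ModuleCat.{u} B) ℤ), K = L →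
      ((∀ i : ℤ, i ≠ 0 → IsZero (K.homology i)) ↔ ∀ i : ℤ, i ≠ 0 → IsZero (L.homology i)) := by
    rintro K L rfl
    rfl
  exact key _ _ (koszul_eq l)

variable {A B : Type u} [CommRing A] [CommRing B] [Algebra A B] (I : Ideal A)

/-- the `B`-linear identification of `B/IB` (with scalars restricted along the quotient map)
with `B ⊗ A/I` -/
noncomputable def restrictIso :
    (ModuleCat.restrictScalars (Ideal.Quotient.mk (I.map (algebraMap A B)))).obj
      (ModuleCat.of (B ⧸ I.map (algebraMap A B)) (B ⧸ I.map (algebraMap A B))) ≅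
      ModuleCat.of B (B ⊗[A] (A ⧸ I)) :=
  LinearEquiv.toModuleIso
    { toFun := fun c => Algebra.TensorProduct.quotIdealMapEquivTensorQuot B I c
      invFun := fun z => (Algebra.TensorProduct.quotIdealMapEquivTensorQuot B I).symm z
      map_add' := fun x y => map_add (Algebra.TensorProduct.quotIdealMapEquivTensorQuot B I) x y
      map_smul' := fun b c => by
        show Algebra.TensorProduct.quotIdealMapEquivTensorQuot B I
          (Ideal.Quotient.mk (I.map (algebraMap A B)) b * c) =
          b • Algebra.TensorProduct.quotIdealMapEquivTensorQuot B I c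
        have h1 : Ideal.Quotient.mk (I.map (algebraMap A B)) b * c =
            b • (c : B ⧸ I.map (algebraMap A B)) := by
          rw [Algebra.smul_def]
          rfl
        rw [h1]
        exact map_smul (Algebra.TensorProduct.quotIdealMapEquivTensorQuot B I) b c
      left_inv := fun c => (Algebra.TensorProduct.quotIdealMapEquivTensorQuot B I).symm_apply_apply c
      right_inv := fun z => (Algebra.TensorProduct.quotIdealMapEquivTensorQuot B I).apply_symm_apply z }

theorem acycAt_of_quotient (xs : List B) (i : ℤ)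
    (h : IsZero ((CohIII.koszulCx (ModuleCat.of (B ⧸ I.map (algebraMap A B))
      (B ⧸ I.map (algebraMap A B)))
      (xs.map (Ideal.Quotient.mk (I.map (algebraMap A B))))).homology i)) :
    AcycAt xs (B ⊗[A] (A ⧸ I)) i :=
  isZero_homology_of_iso (restrictIso I) xs i
    (isZero_homology_restrict (Ideal.Quotient.mk (I.map (algebraMap A B))) _ xs i h)

section Flat

variable (J : Ideal B)

theorem flat_tensor_quot (K : Ideal (B ⧸ I.map (algebraMap A B)))
    (hK : K = J.map (Ideal.Quotient.mkₐ A (I.map (algebraMap A B))))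
    [hfl : Module.Flat (A ⧸ I) ((B ⧸ I.map (algebraMap A B)) ⧸ K)] :
    Module.Flat (A ⧸ I) ((A ⧸ I) ⊗[A] (B ⧸ J)) := by
  subst hK
  have h3 : (I.map (algebraMap A B)).map (Ideal.Quotient.mkₐ A J) =
      I.map (algebraMap A (B ⧸ J)) := by
    show (I.map (algebraMap A B)).map (Ideal.Quotient.mk J) = _
    rw [Ideal.map_map]
    rfl
  let e2 := DoubleQuot.quotQuotEquivCommₐ A (I.map (algebraMap A B)) J
  let e3 := Ideal.quotientEquivAlgOfEq A h3
  let E : ((B ⧸ I.map (algebraMap A B)) ⧸
      J.map (Ideal.Quotient.mkₐ A (I.map (algebraMap A B)))) ≃ₗ[A]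
      ((B ⧸ J) ⧸ I.map (algebraMap A (B ⧸ J))) := (e2.trans e3).toLinearEquiv
  let E' := E.extendScalarsOfSurjective (S := A ⧸ I) Ideal.Quotient.mk_surjective
  let e4 := (Algebra.TensorProduct.quotIdealMapEquivQuotTensor (B ⧸ J) I).toLinearEquiv
  exact Module.Flat.of_linearEquiv (E' ≪≫ₗ e4).symm

end Flat

section Part2

variable {I}

theorem mkA_mem_smul_top (J : Ideal B) (y : B) (hy : y ∈ I.map (algebraMap A B)) :
    Ideal.Quotient.mk J y ∈ I • (⊤ : Submodule A (B ⧸ J)) := by
  have hy' : y ∈ I • (⊤ : Submodule A B) := by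
    rw [Ideal.smul_top_eq_map]
    exact hy
  refine Submodule.smul_induction_on hy' (fun a ha b _ => ?_) (fun x z hx hz => ?_)
  · have : Ideal.Quotient.mk J (a • b) = a • Ideal.Quotient.mk J b := by
      rw [Algebra.smul_def, map_mul, Algebra.smul_def]
      rfl
    rw [this]
    exact Submodule.smul_mem_smul ha Submodule.mem_top
  · rw [map_add]
    exact Submodule.add_mem _ hx hz

theorem top_eq_pow_smul_top {M : Type u} [AddCommGroup M] [Module A M]
    (h : I • (⊤ : Submodule A M) = ⊤) : ∀ n : ℕ, I ^ n • (⊤ : Submodule A M) = ⊤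
  | 0 => by rw [pow_zero, Ideal.one_eq_top, Submodule.top_smul]
  | n + 1 => by rw [pow_succ, Submodule.mul_smul, h, top_eq_pow_smul_top h n]

/-- Two ideals `J ≤ J'` of `B` with flat quotients over `A` and the same image modulo a nilpotent
ideal `I` of `A` are equal. -/
theorem eq_of_flat_quotients (J J' : Ideal B) (hle : J ≤ J') [Module.Flat A (B ⧸ J')]
    (n : ℕ) (hn : I ^ n = ⊥)
    (hmap : J'.map (Ideal.Quotient.mk (I.map (algebraMap A B))) =
      J.map (Ideal.Quotient.mk (I.map (algebraMap A B)))) : J' = J := by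
  refine le_antisymm ?_ hle
  let g : (B ⧸ J) →ₗ[A] (B ⧸ J') := (Submodule.mapQ J J' LinearMap.id hle).restrictScalars A
  have hg : ∀ x : B, g (Ideal.Quotient.mk J x) = Ideal.Quotient.mk J' x := fun x => rfl
  have hgs : Function.Surjective g := by
    intro y
    obtain ⟨x, rfl⟩ := Ideal.Quotient.mk_surjective y
    exact ⟨Ideal.Quotient.mk J x, hg x⟩
  let M : Submodule A (B ⧸ J) := LinearMap.ker g
  have hinj := Groth.Agent.Helper21.LCV.lTensor_injective_of_exact_of_flat M.subtype g
    (Submodule.injective_subtype M) (LinearMap.exact_subtype_ker_map g) hgs (A ⧸ I)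
  -- elements of `M` lie in `I • ⊤`
  have hM : ∀ m : M, (m : B ⧸ J) ∈ I • (⊤ : Submodule A (B ⧸ J)) := by
    intro m
    obtain ⟨x, hx⟩ := Ideal.Quotient.mk_surjective (m : B ⧸ J)
    have hxJ' : x ∈ J' := by
      have := m.2
      rw [LinearMap.mem_ker, ← hx, hg] at this
      exact Ideal.Quotient.eq_zero_iff_mem.mp this
    have h1 : Ideal.Quotient.mk (I.map (algebraMap A B)) x ∈
        J.map (Ideal.Quotient.mk (I.map (algebraMap A B))) := by
      rw [← hmap]
      exact Ideal.mem_map_of_mem _ hxJ'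
    obtain ⟨j, hj, hjx⟩ := (Ideal.mem_map_iff_of_surjective _ Ideal.Quotient.mk_surjective).mp h1
    have h2 : x - j ∈ I.map (algebraMap A B) := by
      rw [← Ideal.Quotient.eq_zero_iff_mem, map_sub, hjx, sub_self]
    have h3 : Ideal.Quotient.mk J x = Ideal.Quotient.mk J (x - j) := by
      rw [map_sub, Ideal.Quotient.eq_zero_iff_mem.mpr hj, sub_zero]
    rw [← hx, h3]
    exact mkA_mem_smul_top J _ h2
  -- `1 ⊗ p = 0` for `p ∈ I • ⊤`
  have hzero : ∀ p : B ⧸ J, p ∈ I • (⊤ : Submodule A (B ⧸ J)) →
      (1 : A ⧸ I) ⊗ₜ[A] p = 0 := by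
    intro p hp
    refine Submodule.smul_induction_on hp (fun a ha q _ => ?_) (fun x z hx hz => ?_)
    · rw [TensorProduct.tmul_smul, TensorProduct.smul_tmul', Algebra.smul_def, mul_one,
        Ideal.Quotient.algebraMap_eq, Ideal.Quotient.eq_zero_iff_mem.mpr ha,
        TensorProduct.zero_tmul]
    · rw [TensorProduct.tmul_add, hx, hz, add_zero]
  -- hence `A/I ⊗ M = 0`
  have hsub : ∀ z : (A ⧸ I) ⊗[A] M, z = 0 := by
    intro z
    apply hinj
    rw [map_zero]
    induction z using TensorProduct.induction_on with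
    | zero => rw [map_zero]
    | tmul a m =>
      obtain ⟨a, rfl⟩ := Ideal.Quotient.mk_surjective a
      rw [LinearMap.lTensor_tmul]
      have : (Ideal.Quotient.mk I a) ⊗ₜ[A] (M.subtype m) =
          a • ((1 : A ⧸ I) ⊗ₜ[A] (M.subtype m)) := by
        rw [TensorProduct.smul_tmul', Algebra.smul_def, mul_one]
        rfl
      rw [this, Submodule.subtype_apply, hzero _ (hM m), smul_zero]
    | add x y hx hy => rw [map_add, hx, hy, add_zero]
  have htop : I • (⊤ : Submodule A M) = ⊤ := by
    rw [eq_top_iff]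
    intro m _
    have := hsub ((TensorProduct.quotTensorEquivQuotSMul M I).symm (Submodule.Quotient.mk m))
    have h' := (TensorProduct.quotTensorEquivQuotSMul M I).symm.injective
      (this.trans (map_zero _).symm)
    exact (Submodule.Quotient.mk_eq_zero _).mp h'
  have hbot : (⊤ : Submodule A M) = ⊥ := by
    rw [← top_eq_pow_smul_top htop n, hn, Submodule.bot_smul]
  intro x hx
  have hm : Ideal.Quotient.mk J x ∈ M := by
    rw [LinearMap.mem_ker, hg]
    exact Ideal.Quotient.eq_zero_iff_mem.mpr hx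
  have h0 : (⟨Ideal.Quotient.mk J x, hm⟩ : M) ∈ (⊤ : Submodule A M) := Submodule.mem_top
  rw [hbot, Submodule.mem_bot] at h0
  exact Ideal.Quotient.eq_zero_iff_mem.mp (congrArg Subtype.val h0)

end Part2

end Groth.Agent.Helper21.KL
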