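import Mathlib
import Groth.Agent.Lib.Helper21.CPF9

/-!
# Slicing a flat algebra by a fibrewise nonzerodivisor, part 1 (helper21)

* `cpf_ft_loc`: the critère de platitude par fibres `cpf_ft` with an arbitrary model of the local
  ring and of its closed fibre.
* `fibre_flat`: if `h₀` is a nonzerodivisor of the local ring `C_Q / 𝔭 C_Q` lying in its maximal
  ideal, then `C_Q / 𝔭 C_Q` is flat over `R[X] / 𝔭 R[X]` (`X ↦ h₀`).
* `flat_polynomial`: consequently `C_Q` is flat over `R[X]`.
-/

set_option autoImplicit false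
set_option linter.style.haveILetI false
set_option linter.unusedSectionVars false

universe u

open TensorProduct Function Polynomial

namespace Groth.Agent.Helper21.Slice

section A

variable {R B C : Type u} [CommRing R] [CommRing B] [CommRing C] [Algebra R B]
  [Algebra B C] [Algebra R C] [IsScalarTower R B C]
  [Algebra.FiniteType R B] [Algebra.FinitePresentation R C]
  (p : Ideal R) [p.IsPrime] (Q : Ideal C) [Q.IsPrime]
  {LX : Type u} [CommRing LX] [Algebra C LX] [IsLocalization.AtPrime LX Q]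
  [Algebra R LX] [IsScalarTower R C LX] [Algebra B LX] [IsScalarTower B C LX]
  [IsScalarTower R B LX]

set_option maxHeartbeats 1600000 in
set_option synthInstance.maxHeartbeats 400000 in
/-- The critère de platitude par fibres with an arbitrary model `LX` of the local ring `C_Q` and an
arbitrary algebra structure on its closed fibre. -/
theorem cpf_ft_loc (hp : p = Q.comap (algebraMap R C)) [Module.Flat R LX]
    (IX : Ideal LX) (hIX : IX = p.map (algebraMap R LX))
    [Algebra (B ⧸ p.map (algebraMap R B)) (LX ⧸ IX)]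
    [IsScalarTower B (B ⧸ p.map (algebraMap R B)) (LX ⧸ IX)]
    [Module.Flat (B ⧸ p.map (algebraMap R B)) (LX ⧸ IX)] : Module.Flat B LX := by
  classical
  haveI hloc : IsLocalizedModule Q.primeCompl (Algebra.linearMap C LX) :=
    (isLocalizedModule_iff_isLocalization).mpr inferInstance
  let e : LocalizedModule Q.primeCompl C ≃ₗ[C] LX :=
    IsLocalizedModule.iso Q.primeCompl (Algebra.linearMap C LX)
  haveI hflatRN : Module.Flat R (LocalizedModule Q.primeCompl C) :=
    Module.Flat.of_linearEquiv (e.restrictScalars R)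
  have hK : IX = Ideal.map (algebraMap B LX) (p.map (algebraMap R B)) := by
    rw [hIX, Ideal.map_map]
    congr 1
    exact RingHom.ext fun r => IsScalarTower.algebraMap_apply R B LX r
  haveI po : Algebra.IsPushout B (B ⧸ p.map (algebraMap R B)) LX (LX ⧸ IX) :=
    CPF.isPushout_quotient' (p.map (algebraMap R B)) IX hK
  let ε₁ : (B ⧸ p.map (algebraMap R B)) ⊗[B] LX ≃ₐ[B ⧸ p.map (algebraMap R B)] (LX ⧸ IX) :=
    Algebra.IsPushout.equiv B (B ⧸ p.map (algebraMap R B)) LX (LX ⧸ IX)
  let ε₂ : (B ⧸ p.map (algebraMap R B)) ⊗[B] LocalizedModule Q.primeCompl C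
      ≃ₗ[B ⧸ p.map (algebraMap R B)] (B ⧸ p.map (algebraMap R B)) ⊗[B] LX :=
    TensorProduct.AlgebraTensorModule.congr
      (LinearEquiv.refl (B ⧸ p.map (algebraMap R B)) (B ⧸ p.map (algebraMap R B)))
      (e.restrictScalars B)
  haveI hfib : Module.Flat (B ⧸ p.map (algebraMap R B))
      ((B ⧸ p.map (algebraMap R B)) ⊗[B] LocalizedModule Q.primeCompl C) :=
    Module.Flat.of_linearEquiv (ε₂ ≪≫ₗ ε₁.toLinearEquiv)
  haveI hB : Module.Flat B (LocalizedModule Q.primeCompl C) := CPF.cpf_ft Q p hp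
  exact Module.Flat.of_linearEquiv (e.restrictScalars B).symm

end A

section F

variable {R C : Type u} [CommRing R] [CommRing C] [Algebra R C]
  (p : Ideal R) [p.IsPrime] (Q : Ideal C) [Q.IsPrime]
  {LX : Type u} [CommRing LX] [Algebra C LX] [IsLocalization.AtPrime LX Q]
  [Algebra R LX] [IsScalarTower R C LX]

/-- flatness of `(R/𝔭)[X] → Frac(R/𝔭)[X]` -/
theorem flat_mapRingHom_fractionRing (A : Type u) [CommRing A] [IsDomain A] :
    (Polynomial.mapRingHom (algebraMap A (FractionRing A))).Flat := by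
  letI := Polynomial.algebra A (FractionRing A)
  haveI := Polynomial.isLocalization (nonZeroDivisors A) (FractionRing A)
  have h : Module.Flat A[X] (FractionRing A)[X] :=
    IsLocalization.flat (FractionRing A)[X]
      ((nonZeroDivisors A).map (Polynomial.C : A →+* A[X]))
  have h2 : (algebraMap A[X] (FractionRing A)[X]).Flat := RingHom.flat_algebraMap_iff.mpr h
  rwa [Polynomial.algebraMap_def] at h2

set_option maxHeartbeats 1600000 in
set_option synthInstance.maxHeartbeats 400000 in
/-- The closed fibre of `C_Q` is flat over `R[X]/𝔭R[X]` when `X` acts as a nonzerodivisor lying in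
the maximal ideal. -/
theorem fibre_flat (hp : p = Q.comap (algebraMap R C)) (IX : Ideal LX)
    (hIX : IX = p.map (algebraMap R LX)) (h₀ : C) (hQ : h₀ ∈ Q)
    (hreg : Ideal.Quotient.mk IX (algebraMap C LX h₀) ∈ nonZeroDivisors (LX ⧸ IX))
    (J : Ideal R[X]) (hJ : J = p.map (Polynomial.C : R →+* R[X])) :
    ∃ φ : R[X] ⧸ J →+* LX ⧸ IX, φ.Flat ∧
      ∀ b : R[X], φ (Ideal.Quotient.mk J b) =
        Ideal.Quotient.mk IX (algebraMap C LX (Polynomial.aeval h₀ b)) := by
  classical
  subst hJ
  haveI : IsLocalRing LX := IsLocalization.AtPrime.isLocalRing LX Q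
  have hmemQ : ∀ c : C, algebraMap C LX c ∈ IsLocalRing.maximalIdeal LX ↔ c ∈ Q := fun c =>
    IsLocalization.AtPrime.to_map_mem_maximal_iff LX Q c
  have hIXle : IX ≤ IsLocalRing.maximalIdeal LX := by
    rw [hIX, Ideal.map_le_iff_le_comap]
    intro r hr
    rw [Ideal.mem_comap, IsScalarTower.algebraMap_apply R C LX, hmemQ]
    rw [hp] at hr
    exact hr
  haveI : Nontrivial (LX ⧸ IX) :=
    Ideal.Quotient.nontrivial_iff.mpr (fun h =>
      (IsLocalRing.maximalIdeal.isMaximal LX).ne_top (top_le_iff.mp (h ▸ hIXle)))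
  haveI : IsLocalRing (LX ⧸ IX) :=
    IsLocalRing.of_surjective' (Ideal.Quotient.mk IX) Ideal.Quotient.mk_surjective
  -- the base field
  let ψ₀ : R ⧸ p →+* LX ⧸ IX :=
    Ideal.Quotient.lift p ((Ideal.Quotient.mk IX).comp (algebraMap R LX)) (fun r hr => by
      rw [RingHom.comp_apply, Ideal.Quotient.eq_zero_iff_mem, hIX]
      exact Ideal.mem_map_of_mem _ hr)
  have hψ₀ : ∀ r : R, ψ₀ (Ideal.Quotient.mk p r) = Ideal.Quotient.mk IX (algebraMap R LX r) :=
    fun r => rfl
  have hunit : ∀ y : nonZeroDivisors (R ⧸ p), IsUnit (ψ₀ y) := by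
    rintro ⟨y, hy⟩
    obtain ⟨r, rfl⟩ := Ideal.Quotient.mk_surjective y
    have hr : r ∉ p := fun hr =>
      nonZeroDivisors.ne_zero hy (Ideal.Quotient.eq_zero_iff_mem.mpr hr)
    have hrQ : algebraMap R C r ∉ Q := by
      intro h
      apply hr
      rw [hp]
      exact h
    have h1 : IsUnit (algebraMap C LX (algebraMap R C r)) :=
      IsLocalization.map_units LX (⟨algebraMap R C r, hrQ⟩ : Q.primeCompl)
    change IsUnit (ψ₀ (Ideal.Quotient.mk p r))
    rw [hψ₀, IsScalarTower.algebraMap_apply R C LX]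
    exact h1.map _
  let ψ₁ : FractionRing (R ⧸ p) →+* LX ⧸ IX := IsLocalization.lift hunit
  have hψ₁ : ∀ y : R ⧸ p, ψ₁ (algebraMap (R ⧸ p) (FractionRing (R ⧸ p)) y) = ψ₀ y := fun y =>
    IsLocalization.lift_eq hunit y
  set hbar : LX ⧸ IX := Ideal.Quotient.mk IX (algebraMap C LX h₀) with hbar_def
  let ψ : (FractionRing (R ⧸ p))[X] →+* LX ⧸ IX := Polynomial.eval₂RingHom ψ₁ hbar
  have hψX : ψ X = hbar := Polynomial.eval₂_X _ _
  have hψC : ∀ a, ψ (Polynomial.C a) = ψ₁ a := fun a => Polynomial.eval₂_C _ _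
  -- `hbar` is not a unit
  have hbar_nonunit : ¬ IsUnit hbar := by
    intro hu
    obtain ⟨b, hb⟩ := hu.exists_right_inv
    obtain ⟨b', rfl⟩ := Ideal.Quotient.mk_surjective b
    have h2 : algebraMap C LX h₀ * b' - 1 ∈ IX := by
      rw [← Ideal.Quotient.eq_zero_iff_mem, map_sub, map_mul, map_one]
      exact sub_eq_zero.mpr hb
    have h3 : algebraMap C LX h₀ ∈ IsLocalRing.maximalIdeal LX := (hmemQ h₀).mpr hQ
    have h4 : algebraMap C LX h₀ * b' ∈ IsLocalRing.maximalIdeal LX :=
      Ideal.mul_mem_right _ _ h3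
    have h5 : (1 : LX) ∈ IsLocalRing.maximalIdeal LX := by
      have := Ideal.sub_mem _ h4 (hIXle h2)
      simpa using this
    exact (IsLocalRing.maximalIdeal.isMaximal LX).ne_top ((Ideal.eq_top_iff_one _).mpr h5)
  -- flatness over the polynomial ring over the field
  have hψ : ψ.Flat := by
    letI : Algebra (FractionRing (R ⧸ p))[X] (LX ⧸ IX) := ψ.toAlgebra
    change Module.Flat (FractionRing (R ⧸ p))[X] (LX ⧸ IX)
    rw [Module.Flat.flat_iff_torsion_eq_bot_of_isBezout, eq_bot_iff]
    intro e he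
    obtain ⟨⟨P, hP⟩, hPe⟩ := (Submodule.mem_torsion_iff e).mp he
    have hP0 : P ≠ 0 := nonZeroDivisors.ne_zero hP
    have hPe' : ψ P * e = 0 := hPe
    obtain ⟨q, hq1, hq2⟩ := Polynomial.exists_eq_pow_rootMultiplicity_mul_and_not_dvd P hP0 0
    simp only [map_zero, sub_zero] at hq1 hq2
    have hq0 : q.coeff 0 ≠ 0 := fun h => hq2 (Polynomial.X_dvd_iff.mpr h)
    have hψq : IsUnit (ψ q) := by
      have h1 : ψ q = ψ q.divX * hbar + ψ₁ (q.coeff 0) := by
        conv_lhs => rw [← Polynomial.divX_mul_X_add q]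
        rw [map_add, map_mul, hψX, hψC]
      have h2 : IsUnit (ψ₁ (q.coeff 0)) := (isUnit_iff_ne_zero.mpr hq0).map ψ₁
      have h3 : IsUnit (ψ q + -(ψ q.divX * hbar)) := by
        rw [h1]
        simpa using h2
      rcases IsLocalRing.isUnit_or_isUnit_of_isUnit_add h3 with h | h
      · exact h
      · exfalso
        rw [IsUnit.neg_iff] at h
        exact hbar_nonunit (isUnit_of_mul_isUnit_right h)
    rw [hq1, map_mul, map_pow, hψX, mul_assoc] at hPe'
    have h6 : ψ q * e = 0 :=
      (mul_left_mem_nonZeroDivisors_eq_zero_iff (pow_mem hreg _)).mp hPe'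
    exact (Submodule.mem_bot _).mpr (hψq.mul_right_eq_zero.mp h6)
  -- flatness of the localization
  let e := Ideal.polynomialQuotientEquivQuotientPolynomial p
  let φL : R[X] ⧸ p.map (Polynomial.C : R →+* R[X]) →+* (FractionRing (R ⧸ p))[X] :=
    (Polynomial.mapRingHom (algebraMap (R ⧸ p) (FractionRing (R ⧸ p)))).comp e.symm.toRingHom
  have hφL : φL.Flat :=
    RingHom.Flat.comp (RingHom.Flat.of_bijective e.symm.bijective)
      (flat_mapRingHom_fractionRing (R ⧸ p))
  refine ⟨ψ.comp φL, RingHom.Flat.comp hφL hψ, fun b => ?_⟩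
  have key : (ψ.comp φL).comp (Ideal.Quotient.mk _) =
      ((Ideal.Quotient.mk IX).comp (algebraMap C LX)).comp
        (Polynomial.aeval h₀ : R[X] →ₐ[R] C).toRingHom := by
    apply Polynomial.ringHom_ext
    · intro r
      have e1 : e.symm (Ideal.Quotient.mk _ (Polynomial.C r)) =
          Polynomial.C (Ideal.Quotient.mk p r) := by
        rw [Ideal.polynomialQuotientEquivQuotientPolynomial_symm_mk, Polynomial.map_C]
      change ψ (Polynomial.mapRingHom _ (e.symm (Ideal.Quotient.mk _ (Polynomial.C r)))) =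
        Ideal.Quotient.mk IX (algebraMap C LX (Polynomial.aeval h₀ (Polynomial.C r)))
      rw [e1, Polynomial.coe_mapRingHom, Polynomial.map_C, hψC, hψ₁, hψ₀, Polynomial.aeval_C,
        ← IsScalarTower.algebraMap_apply R C LX]
    · have e1 : e.symm (Ideal.Quotient.mk _ (X : R[X])) = X := by
        rw [Ideal.polynomialQuotientEquivQuotientPolynomial_symm_mk, Polynomial.map_X]
      change ψ (Polynomial.mapRingHom _ (e.symm (Ideal.Quotient.mk _ (X : R[X])))) =
        Ideal.Quotient.mk IX (algebraMap C LX (Polynomial.aeval h₀ (X : R[X])))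
      rw [e1, Polynomial.coe_mapRingHom, Polynomial.map_X, hψX, Polynomial.aeval_X]
  exact RingHom.congr_fun key b

variable [Algebra.FinitePresentation R C]
  [Algebra R[X] C] [IsScalarTower R R[X] C] [Algebra R[X] LX] [IsScalarTower R[X] C LX]
  [IsScalarTower R R[X] LX]

set_option maxHeartbeats 1600000 in
set_option synthInstance.maxHeartbeats 400000 in
/-- If `C_Q` is flat over `R` and the image `h₀` of `X` is a nonzerodivisor in the maximal ideal of
the closed fibre `C_Q/𝔭C_Q`, then `C_Q` is flat over `R[X]`. -/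
theorem flat_polynomial (hp : p = Q.comap (algebraMap R C)) [Module.Flat R LX] (IX : Ideal LX)
    (hIX : IX = p.map (algebraMap R LX)) (h₀ : C) (hX : algebraMap R[X] C X = h₀) (hQ : h₀ ∈ Q)
    (hreg : Ideal.Quotient.mk IX (algebraMap C LX h₀) ∈ nonZeroDivisors (LX ⧸ IX)) :
    Module.Flat R[X] LX := by
  have hJ : p.map (algebraMap R R[X]) = p.map (Polynomial.C : R →+* R[X]) := rfl
  obtain ⟨φ, hφ, hφmk⟩ := fibre_flat p Q hp IX hIX h₀ hQ hreg (p.map (algebraMap R R[X])) hJ
  have hae : (IsScalarTower.toAlgHom R R[X] C) = Polynomial.aeval h₀ :=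
    Polynomial.algHom_ext (by simp [hX])
  letI : Algebra (R[X] ⧸ p.map (algebraMap R R[X])) (LX ⧸ IX) := φ.toAlgebra
  haveI : IsScalarTower R[X] (R[X] ⧸ p.map (algebraMap R R[X])) (LX ⧸ IX) :=
    IsScalarTower.of_algebraMap_eq (R := R[X]) (S := R[X] ⧸ p.map (algebraMap R R[X]))
      (A := LX ⧸ IX) fun b => by
      change Ideal.Quotient.mk IX (algebraMap R[X] LX b) = φ (Ideal.Quotient.mk _ b)
      rw [hφmk, IsScalarTower.algebraMap_apply R[X] C LX, ← hae]
      rfl
  haveI : Module.Flat (R[X] ⧸ p.map (algebraMap R R[X])) (LX ⧸ IX) := hφ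
  exact cpf_ft_loc p Q hp IX hIX

end F

end Groth.Agent.Helper21.Slice
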