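import Mathlib
import Groth.Agent.Lib.Helper21.Slice1
import Groth.Agent.Lib.Helper21.CPF11

/-!
# Slicing a flat algebra by a fibrewise nonzerodivisor, part 2 (helper21)

* `flat_away_of_forall`: `C_g` is flat over `B` if `C_q` is for all primes `q ∌ g`.
* `slice_main`: `R → C` of finite presentation, `C_Q` flat over `R`, `h₀ ∈ Q` a nonzerodivisor on
  `C_Q/𝔭C_Q`; then for some `g ∉ Q`, `h₀` is a nonzerodivisor on `C_g` and `C_g/h₀` is flat over `R`.
-/

set_option autoImplicit false
set_option linter.style.haveILetI false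
set_option linter.unusedSectionVars false

universe u

open TensorProduct Function Polynomial

namespace Groth.Agent.Helper21.Slice

set_option maxHeartbeats 1600000 in
set_option synthInstance.maxHeartbeats 400000 in
/-- Flatness of a principal localization from flatness at the primes of the basic open. -/
theorem flat_away_of_forall {B C : Type u} [CommRing B] [CommRing C] [Algebra B C] (g : C)
    (Cg : Type u) [CommRing Cg] [Algebra C Cg] [IsLocalization.Away g Cg] [Algebra B Cg]
    [IsScalarTower B C Cg]
    (h : ∀ (q : Ideal C) [q.IsPrime], g ∉ q → Module.Flat B (LocalizedModule q.primeCompl C)) :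
    Module.Flat B Cg := by
  apply Module.flat_of_isLocalized_maximal Cg Cg (fun P _ => Localization.AtPrime P)
    (fun P _ => Algebra.linearMap Cg (Localization.AtPrime P))
  intro P hP
  haveI : P.IsPrime := hP.isPrime
  let P₀ : Ideal C := P.comap (algebraMap C Cg)
  haveI : P₀.IsPrime := Ideal.comap_isPrime _ _
  have hg : g ∉ P₀ := fun hg =>
    hP.ne_top (Ideal.eq_top_of_isUnit_mem _ hg (IsLocalization.Away.algebraMap_isUnit g))
  haveI := h P₀ hg
  haveI : IsLocalization.AtPrime (Localization.AtPrime P) P₀ :=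
    IsLocalization.isLocalization_isLocalization_atPrime_isLocalization (Submonoid.powers g) _ P
  haveI : IsLocalizedModule P₀.primeCompl (Algebra.linearMap C (Localization.AtPrime P)) :=
    (isLocalizedModule_iff_isLocalization).mpr inferInstance
  let e : LocalizedModule P₀.primeCompl C ≃ₗ[C] Localization.AtPrime P :=
    IsLocalizedModule.iso P₀.primeCompl (Algebra.linearMap C (Localization.AtPrime P))
  haveI : IsScalarTower B C (Localization.AtPrime P) := IsScalarTower.of_algebraMap_eq fun b => by
    rw [IsScalarTower.algebraMap_apply B Cg (Localization.AtPrime P),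
      IsScalarTower.algebraMap_apply B C Cg,
      ← IsScalarTower.algebraMap_apply C Cg (Localization.AtPrime P)]
  exact Module.Flat.of_linearEquiv (e.restrictScalars B).symm

/-- `R → R[X]/(X)` is bijective. -/
theorem bijective_quotient_X (R : Type u) [CommRing R] :
    Bijective ((Ideal.Quotient.mk (Ideal.span {(X : R[X])})).comp (Polynomial.C : R →+* R[X])) := by
  constructor
  · rw [injective_iff_map_eq_zero]
    intro r hr
    rw [RingHom.comp_apply, Ideal.Quotient.eq_zero_iff_mem, Ideal.mem_span_singleton,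
      Polynomial.X_dvd_iff, Polynomial.coeff_C_zero] at hr
    exact hr
  · intro y
    obtain ⟨P, rfl⟩ := Ideal.Quotient.mk_surjective y
    refine ⟨P.coeff 0, ?_⟩
    rw [RingHom.comp_apply, Ideal.Quotient.eq, Ideal.mem_span_singleton]
    refine ⟨-P.divX, ?_⟩
    have := Polynomial.divX_mul_X_add P
    linear_combination this

/-- The image of a nonzerodivisor in a flat algebra is a nonzerodivisor. -/
theorem nzd_of_flat {B Cg : Type u} [CommRing B] [CommRing Cg] [Algebra B Cg] [Module.Flat B Cg]
    (b : B) (hb : b ∈ nonZeroDivisors B) : algebraMap B Cg b ∈ nonZeroDivisors Cg := by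
  have hreg' : IsSMulRegular Cg b := Module.Flat.isSMulRegular_of_nonZeroDivisors hb
  rw [mem_nonZeroDivisors_iff_left]
  intro c hc
  apply hreg'
  change b • c = b • (0 : Cg)
  rw [smul_zero, Algebra.smul_def]
  exact hc

/-- If `Cg` is flat over `R[X]`, then `Cg/(X)` is flat over `R`. -/
theorem flat_quotient_X {R Cg : Type u} [CommRing R] [CommRing Cg] [Algebra R Cg]
    [Algebra R[X] Cg] [IsScalarTower R R[X] Cg] [Module.Flat R[X] Cg] (c : Cg)
    (hc : algebraMap R[X] Cg X = c) : Module.Flat R (Cg ⧸ Ideal.span {c}) := by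
  let β : R[X] →+* Cg := algebraMap R[X] Cg
  let IY : Ideal R[X] := Ideal.span {X}
  have hmap : Ideal.span {c} = IY.map β := by
    rw [Ideal.map_span, Set.image_singleton, hc]
  have hle : IY ≤ (Ideal.span {c}).comap β := by
    rw [← Ideal.map_le_iff_le_comap, hmap]
  let γ : R[X] ⧸ IY →+* Cg ⧸ Ideal.span {c} := Ideal.quotientMap (Ideal.span {c}) β hle
  have hγ : γ.comp (Ideal.Quotient.mk IY) = (Ideal.Quotient.mk (Ideal.span {c})).comp β :=
    Ideal.quotientMap_comp_mk hle
  have hγflat : γ.Flat :=
    CPF.flat_quotientMap_of_flat β IY _ hmap γ hγ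
      (RingHom.flat_algebraMap_iff.mpr (inferInstance : Module.Flat R[X] Cg))
  have hσ := RingHom.Flat.of_bijective (bijective_quotient_X R)
  have hcomp := RingHom.Flat.comp hσ hγflat
  have heq : γ.comp ((Ideal.Quotient.mk (Ideal.span {(X : R[X])})).comp
      (Polynomial.C : R →+* R[X])) = algebraMap R (Cg ⧸ Ideal.span {c}) := by
    ext r
    change γ (Ideal.Quotient.mk IY (Polynomial.C r)) = _
    rw [Ideal.quotientMap_mk]
    change Ideal.Quotient.mk _ (algebraMap R[X] Cg (algebraMap R R[X] r)) = _
    rw [← IsScalarTower.algebraMap_apply R R[X] Cg]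
    rfl
  rw [heq] at hcomp
  exact RingHom.flat_algebraMap_iff.mp hcomp

set_option maxHeartbeats 1600000 in
set_option synthInstance.maxHeartbeats 400000 in
/-- **Slicing by a fibrewise nonzerodivisor.** -/
theorem slice_main {R C : Type u} [CommRing R] [CommRing C] [Algebra R C]
    [Algebra.FinitePresentation R C] (Q : Ideal C) [Q.IsPrime]
    {LX : Type u} [CommRing LX] [Algebra C LX] [IsLocalization.AtPrime LX Q]
    [Algebra R LX] [IsScalarTower R C LX] [Module.Flat R LX]
    (IX : Ideal LX) (hIX : IX = (Q.comap (algebraMap R C)).map (algebraMap R LX))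
    (h₀ : C) (hQ : h₀ ∈ Q)
    (hreg : Ideal.Quotient.mk IX (algebraMap C LX h₀) ∈ nonZeroDivisors (LX ⧸ IX)) :
    ∃ g : C, g ∉ Q ∧ ∀ (Cg : Type u) [CommRing Cg] [Algebra C Cg] [IsLocalization.Away g Cg]
      [Algebra R Cg] [IsScalarTower R C Cg],
      algebraMap C Cg h₀ ∈ nonZeroDivisors Cg ∧
        Module.Flat R (Cg ⧸ Ideal.span {algebraMap C Cg h₀}) := by
  classical
  letI aBC : Algebra R[X] C := (Polynomial.aeval h₀ : R[X] →ₐ[R] C).toRingHom.toAlgebra
  haveI tRBC : IsScalarTower R R[X] C := IsScalarTower.of_algebraMap_eq fun r => by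
    change algebraMap R C r = Polynomial.aeval h₀ (Polynomial.C r)
    rw [Polynomial.aeval_C]
  have hX : algebraMap R[X] C X = h₀ := Polynomial.aeval_X h₀
  letI aBLX : Algebra R[X] LX := ((algebraMap C LX).comp (algebraMap R[X] C)).toAlgebra
  haveI tBCLX : IsScalarTower R[X] C LX := IsScalarTower.of_algebraMap_eq fun _ => rfl
  haveI tRBLX : IsScalarTower R R[X] LX := IsScalarTower.of_algebraMap_eq fun r => by
    change algebraMap R LX r = algebraMap C LX (algebraMap R[X] C (algebraMap R R[X] r))
    rw [← IsScalarTower.algebraMap_apply R R[X] C, ← IsScalarTower.algebraMap_apply R C LX]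
  haveI hBLX : Module.Flat R[X] LX :=
    flat_polynomial (Q.comap (algebraMap R C)) Q rfl IX hIX h₀ hX hQ hreg
  haveI : Algebra.FinitePresentation R[X] C :=
    Algebra.FinitePresentation.of_restrict_scalars_finitePresentation (R := R) (A := R[X]) (B := C)
  have hopen := FL.isOpen_flatLocus (R := R[X]) (S := C) (M := C)
  have hQmem : (⟨Q, inferInstance⟩ : PrimeSpectrum C) ∈ {q : PrimeSpectrum C |
      Module.Flat R[X] (LocalizedModule q.asIdeal.primeCompl C)} := by
    haveI hloc : IsLocalizedModule Q.primeCompl (Algebra.linearMap C LX) :=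
      (isLocalizedModule_iff_isLocalization).mpr inferInstance
    let e : LocalizedModule Q.primeCompl C ≃ₗ[C] LX :=
      IsLocalizedModule.iso Q.primeCompl (Algebra.linearMap C LX)
    exact Module.Flat.of_linearEquiv (e.restrictScalars R[X])
  obtain ⟨_, ⟨_, ⟨g, rfl⟩, rfl⟩, hQg, hgsub⟩ :=
    PrimeSpectrum.isBasis_basic_opens.exists_subset_of_mem_open hQmem hopen
  refine ⟨g, hQg, ?_⟩
  intro Cg _ _ _ _ _
  letI aBCg : Algebra R[X] Cg := ((algebraMap C Cg).comp (algebraMap R[X] C)).toAlgebra
  haveI tBCCg : IsScalarTower R[X] C Cg := IsScalarTower.of_algebraMap_eq fun _ => rfl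
  haveI tRBCg : IsScalarTower R R[X] Cg := IsScalarTower.of_algebraMap_eq fun r => by
    change algebraMap R Cg r = algebraMap C Cg (algebraMap R[X] C (algebraMap R R[X] r))
    rw [← IsScalarTower.algebraMap_apply R R[X] C, ← IsScalarTower.algebraMap_apply R C Cg]
  haveI hflatCg : Module.Flat R[X] Cg := flat_away_of_forall g Cg (fun q _ hgq =>
    hgsub (show (⟨q, inferInstance⟩ : PrimeSpectrum C) ∈
      (PrimeSpectrum.basicOpen g : Set (PrimeSpectrum C)) from hgq))
  have hXCg : algebraMap R[X] Cg X = algebraMap C Cg h₀ := by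
    rw [IsScalarTower.algebraMap_apply R[X] C Cg, hX]
  constructor
  · rw [← hXCg]
    exact nzd_of_flat (X : R[X]) Polynomial.X_mem_nonzeroDivisors
  · exact flat_quotient_X _ hXCg

end Groth.Agent.Helper21.Slice
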