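import Mathlib
import Groth.Prelude.Def_CInt

/-!
# Vanishing of the first Koszul homology implies regularity (separated case)

Elementary relation-chasing proof of: if `H₁(f; M) = 0` (in the explicit form `CInt.KoszulH1Zero`)
and all subquotients of `M` are `J`-adically separated for an ideal `J` containing the `f i`, then
`f` is a weakly regular sequence on `M`.
-/

set_option autoImplicit false

namespace Groth.Agent.Helper21.KH1

universe u v

variable {A : Type u} [CommRing A]

/-- a Nakayama-type property of the element `x` on the module `L`. -/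
def Nak (x : A) (L : Type v) [AddCommGroup L] [Module A L] : Prop :=
  ∀ T Z : Submodule A L, T ≤ Z → (∀ z ∈ Z, ∃ t ∈ T, ∃ z' ∈ Z, z = t + x • z') → Z ≤ T

theorem nak_of_sep (J : Ideal A) (x : A) (hx : x ∈ J) (L : Type v) [AddCommGroup L] [Module A L]
    (hsep : ∀ (N : Submodule A L) (N' : Submodule A N), IsHausdorff J (N ⧸ N')) : Nak x L := by
  intro T Z hTZ h
  have hH := hsep Z (T.comap Z.subtype)
  have key : ∀ k : ℕ, ∀ z : Z, ((T.comap Z.subtype).mkQ z) ∈
      (J ^ k • ⊤ : Submodule A (Z ⧸ T.comap Z.subtype)) := by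
    intro k
    induction k with
    | zero =>
      intro z
      rw [pow_zero, Ideal.one_eq_top, Submodule.top_smul]
      exact Submodule.mem_top
    | succ k ih =>
      intro z
      obtain ⟨t, ht, z', hz', hzz⟩ := h z.1 z.2
      have hz_eq : z = (⟨t, hTZ ht⟩ : Z) + x • (⟨z', hz'⟩ : Z) := Subtype.ext hzz
      have ht0 : (T.comap Z.subtype).mkQ (⟨t, hTZ ht⟩ : Z) = 0 := by
        rw [Submodule.mkQ_apply, Submodule.Quotient.mk_eq_zero]
        exact ht
      rw [hz_eq, map_add, ht0, zero_add, map_smul, pow_succ', Submodule.mul_smul]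
      exact Submodule.smul_mem_smul hx (ih _)
  intro z hz
  have h0 : (T.comap Z.subtype).mkQ (⟨z, hz⟩ : Z) = 0 :=
    hH.haus _ (fun k => SModEq.zero.2 (key k _))
  rw [Submodule.mkQ_apply, Submodule.Quotient.mk_eq_zero] at h0
  exact h0

theorem nak_of_injective {L K : Type v} [AddCommGroup L] [Module A L] [AddCommGroup K] [Module A K]
    (ι : K →ₗ[A] L) (hι : Function.Injective ι) (x : A) (h : Nak x L) : Nak x K := by
  intro T Z hTZ hz
  have key : Z.map ι ≤ T.map ι := by
    apply h _ _ (Submodule.map_mono hTZ)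
    rintro _ ⟨z, hzZ, rfl⟩
    obtain ⟨t, ht, z', hz', rfl⟩ := hz z hzZ
    exact ⟨ι t, Submodule.mem_map_of_mem ht, ι z', Submodule.mem_map_of_mem hz',
      by rw [map_add, map_smul]⟩
  intro z hzZ
  obtain ⟨t, ht, hιt⟩ := key (Submodule.mem_map_of_mem hzZ)
  rwa [← hι hιt]

theorem nak_ext {L L'' : Type v} [AddCommGroup L] [Module A L] [AddCommGroup L''] [Module A L'']
    (π : L →ₗ[A] L'') (x : A) (h2 : Nak x L'') (h1 : Nak x (LinearMap.ker π)) : Nak x L := by
  intro T Z hTZ hz
  have hbar : Z.map π ≤ T.map π := by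
    apply h2 _ _ (Submodule.map_mono hTZ)
    rintro _ ⟨z, hzZ, rfl⟩
    obtain ⟨t, ht, z', hz', rfl⟩ := hz z hzZ
    exact ⟨π t, Submodule.mem_map_of_mem ht, π z', Submodule.mem_map_of_mem hz',
      by rw [map_add, map_smul]⟩
  have hK : (Z.comap (LinearMap.ker π).subtype) ≤ (T.comap (LinearMap.ker π).subtype) := by
    apply h1 _ _ (Submodule.comap_mono hTZ)
    rintro ⟨k, hk⟩ hkZ
    have hkZ' : k ∈ Z := hkZ
    obtain ⟨t, ht, z, hzZ, hkz⟩ := hz k hkZ'
    obtain ⟨t₁, ht₁, hπ⟩ := hbar (Submodule.mem_map_of_mem hzZ)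
    have hz₁K : z - t₁ ∈ LinearMap.ker π := by
      rw [LinearMap.mem_ker, map_sub, hπ, sub_self]
    have hz₁Z : z - t₁ ∈ Z := Z.sub_mem hzZ (hTZ ht₁)
    have hsum : t + x • t₁ = k - x • (z - t₁) := by
      rw [hkz, smul_sub]
      abel
    have htK : t + x • t₁ ∈ LinearMap.ker π := by
      rw [hsum]
      exact Submodule.sub_mem _ hk (Submodule.smul_mem _ _ hz₁K)
    have htT : t + x • t₁ ∈ T := T.add_mem ht (T.smul_mem _ ht₁)
    refine ⟨⟨t + x • t₁, htK⟩, htT, ⟨z - t₁, hz₁K⟩, hz₁Z, ?_⟩
    apply Subtype.ext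
    show k = (t + x • t₁) + x • (z - t₁)
    rw [hkz, smul_sub]
    abel
  intro z hzZ
  obtain ⟨t, ht, hπ⟩ := hbar (Submodule.mem_map_of_mem hzZ)
  have hK' : z - t ∈ LinearMap.ker π := by
    rw [LinearMap.mem_ker, map_sub, hπ, sub_self]
  have hmem : (⟨z - t, hK'⟩ : LinearMap.ker π) ∈ T.comap (LinearMap.ker π).subtype :=
    hK (show (⟨z - t, hK'⟩ : LinearMap.ker π) ∈ Z.comap (LinearMap.ker π).subtype from
      Z.sub_mem hzZ (hTZ ht))
  have h3 : z - t ∈ T := hmem
  have h4 := T.add_mem h3 ht
  rwa [sub_add_cancel] at h4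

theorem nak_pi (x : A) (M : Type v) [AddCommGroup M] [Module A M] (h : Nak x M) :
    ∀ k : ℕ, Nak x (Fin k → M) := by
  intro k
  induction k with
  | zero =>
    intro T Z _ _ z _
    have : z = 0 := Subsingleton.elim _ _
    rw [this]
    exact T.zero_mem
  | succ k ih =>
    refine nak_ext (LinearMap.proj 0 : (Fin (k + 1) → M) →ₗ[A] M) x h ?_
    refine nak_of_injective
      ((LinearMap.funLeft A M (Fin.succ : Fin k → Fin (k + 1))) ∘ₗ
        (LinearMap.ker (LinearMap.proj 0 : (Fin (k + 1) → M) →ₗ[A] M)).subtype) ?_ x ih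
    rintro ⟨v, hv⟩ ⟨w, hw⟩ hvw
    apply Subtype.ext
    funext i
    refine Fin.cases ?_ (fun j => ?_) i
    · exact (LinearMap.mem_ker.1 hv).trans (LinearMap.mem_ker.1 hw).symm
    · exact congrFun hvw j

section koszul

variable {M : Type v} [AddCommGroup M] [Module A M]

/-- the map `m ↦ ∑ g i • m i`. -/
def S {n : ℕ} (g : Fin n → A) (M : Type v) [AddCommGroup M] [Module A M] :
    (Fin n → M) →ₗ[A] M :=
  ∑ i, g i • (LinearMap.proj i : (Fin n → M) →ₗ[A] M)

theorem S_apply {n : ℕ} (g : Fin n → A) (m : Fin n → M) : S g M m = ∑ i, g i • m i := by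
  simp [S, LinearMap.sum_apply]

theorem S_single {n : ℕ} (g : Fin n → A) (i : Fin n) (z : M) :
    S g M (Pi.single i z) = g i • z := by
  rw [S_apply, Finset.sum_eq_single i]
  · rw [Pi.single_eq_same]
  · intro b _ hb
    rw [Pi.single_eq_of_ne hb, smul_zero]
  · intro hi
    exact absurd (Finset.mem_univ i) hi

/-- the trivial (Koszul) relations. -/
def triv {n : ℕ} (g : Fin n → A) (M : Type v) [AddCommGroup M] [Module A M] :
    Set (Fin n → M) :=
  {v : Fin n → M | ∃ (i j : Fin n) (x : M),
    v = g j • (Pi.single i x : Fin n → M) - g i • (Pi.single j x : Fin n → M)}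

theorem koszulH1Zero_iff {n : ℕ} (g : Fin n → A) :
    CInt.KoszulH1Zero g M ↔ LinearMap.ker (S g M) ≤ Submodule.span A (triv g M) := by
  constructor
  · intro h m hm
    rw [LinearMap.mem_ker, S_apply] at hm
    exact h m hm
  · intro h m hm
    exact h (by rw [LinearMap.mem_ker, S_apply]; exact hm)

theorem triv_le {n : ℕ} (g : Fin n → A) :
    Submodule.span A (triv g M) ≤ LinearMap.ker (S g M) := by
  rw [Submodule.span_le]
  rintro _ ⟨i, j, z, rfl⟩
  rw [SetLike.mem_coe, LinearMap.mem_ker, map_sub, map_smul, map_smul, S_single, S_single,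
    smul_smul, smul_smul, mul_comm, sub_self]

theorem single_castSucc {n : ℕ} (i : Fin n) (z : M) :
    (fun k : Fin n => (Pi.single (Fin.castSucc i) z : Fin (n + 1) → M) (Fin.castSucc k)) =
      Pi.single i z := by
  funext k
  by_cases hk : k = i
  · subst hk
    rw [Pi.single_eq_same, Pi.single_eq_same]
  · rw [Pi.single_eq_of_ne hk, Pi.single_eq_of_ne (fun h => hk (Fin.castSucc_injective _ h))]

theorem single_last_castSucc {n : ℕ} (z : M) (k : Fin n) :
    (Pi.single (Fin.last n) z : Fin (n + 1) → M) (Fin.castSucc k) = 0 :=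
  Pi.single_eq_of_ne (Fin.castSucc_lt_last k).ne _

theorem single_castSucc_last {n : ℕ} (i : Fin n) (z : M) :
    (Pi.single (Fin.castSucc i) z : Fin (n + 1) → M) (Fin.last n) = 0 :=
  Pi.single_eq_of_ne (Fin.castSucc_lt_last i).ne' _

/-- decomposition of the span of trivial relations of `f` along the last coordinate. -/
theorem decomp {n : ℕ} (f : Fin (n + 1) → A) (v : Fin (n + 1) → M)
    (hv : v ∈ Submodule.span A (triv f M)) :
    ∃ τ ∈ Submodule.span A (triv (fun i => f (Fin.castSucc i)) M), ∃ y : Fin n → M,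
      (fun k => v (Fin.castSucc k)) = τ + f (Fin.last n) • y ∧
        v (Fin.last n) = - S (fun i => f (Fin.castSucc i)) M y := by
  induction hv using Submodule.span_induction with
  | mem v hv =>
    obtain ⟨i, j, z, rfl⟩ := hv
    induction i using Fin.lastCases with
    | last =>
      induction j using Fin.lastCases with
      | last =>
        refine ⟨0, Submodule.zero_mem _, 0, ?_, ?_⟩
        · funext k
          simp
        · simp
      | cast j =>
        refine ⟨0, Submodule.zero_mem _, - Pi.single j z, ?_, ?_⟩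
        · funext k
          simp only [Pi.sub_apply, Pi.smul_apply, single_last_castSucc, smul_zero, zero_sub,
            Pi.add_apply, Pi.zero_apply, zero_add, Pi.neg_apply, smul_neg, neg_inj]
          rw [← congrFun (single_castSucc j z) k]
        · rw [map_neg, neg_neg, S_single]
          simp only [Pi.sub_apply, Pi.smul_apply, Pi.single_eq_same, single_castSucc_last,
            smul_zero, sub_zero]
    | cast i =>
      induction j using Fin.lastCases with
      | last =>
        refine ⟨0, Submodule.zero_mem _, Pi.single i z, ?_, ?_⟩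
        · funext k
          simp only [Pi.sub_apply, Pi.smul_apply, single_last_castSucc, smul_zero, sub_zero,
            Pi.add_apply, Pi.zero_apply, zero_add]
          rw [← congrFun (single_castSucc i z) k]
        · rw [S_single]
          simp only [Pi.sub_apply, Pi.smul_apply, Pi.single_eq_same, single_castSucc_last,
            smul_zero, zero_sub]
      | cast j =>
        refine ⟨f (Fin.castSucc j) • (Pi.single i z : Fin n → M) -
            f (Fin.castSucc i) • (Pi.single j z : Fin n → M),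
          Submodule.subset_span ⟨i, j, z, rfl⟩, 0, ?_, ?_⟩
        · funext k
          simp only [Pi.sub_apply, Pi.smul_apply, Pi.add_apply, smul_zero, Pi.zero_apply,
            add_zero]
          rw [← congrFun (single_castSucc i z) k, ← congrFun (single_castSucc j z) k]
        · simp only [Pi.sub_apply, Pi.smul_apply, single_castSucc_last, smul_zero, sub_zero,
            map_zero, neg_zero]
  | zero =>
    refine ⟨0, Submodule.zero_mem _, 0, ?_, ?_⟩
    · funext k
      simp
    · simp
  | add v w _ _ ihv ihw =>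
    obtain ⟨τ₁, hτ₁, y₁, h1, h1'⟩ := ihv
    obtain ⟨τ₂, hτ₂, y₂, h2, h2'⟩ := ihw
    refine ⟨τ₁ + τ₂, Submodule.add_mem _ hτ₁ hτ₂, y₁ + y₂, ?_, ?_⟩
    · funext k
      have e1 := congrFun h1 k
      have e2 := congrFun h2 k
      simp only [Pi.add_apply, Pi.smul_apply] at e1 e2 ⊢
      rw [e1, e2, smul_add]
      abel
    · rw [Pi.add_apply, h1', h2', map_add, neg_add]
  | smul a v _ ih =>
    obtain ⟨τ, hτ, y, h1, h1'⟩ := ih
    refine ⟨a • τ, Submodule.smul_mem _ _ hτ, a • y, ?_, ?_⟩
    · funext k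
      have e1 := congrFun h1 k
      simp only [Pi.add_apply, Pi.smul_apply] at e1 ⊢
      rw [e1, smul_add, smul_comm a]
    · rw [Pi.smul_apply, h1', map_smul, smul_neg]

/-- the last coordinate of a combination of trivial relations lies in `(g) M`. -/
theorem last_mem {n : ℕ} (f : Fin (n + 1) → A) (v : Fin (n + 1) → M)
    (hv : v ∈ Submodule.span A (triv f M)) :
    v (Fin.last n) ∈
      (Ideal.span (Set.range fun i : Fin n => f (Fin.castSucc i)) • ⊤ : Submodule A M) := by
  obtain ⟨τ, -, y, -, h⟩ := decomp f v hv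
  rw [h, S_apply]
  refine Submodule.neg_mem _ (Submodule.sum_mem _ fun i _ => ?_)
  exact Submodule.smul_mem_smul (Ideal.subset_span ⟨i, rfl⟩) Submodule.mem_top

theorem exists_sum_of_mem {n : ℕ} (g : Fin n → A) (m : M)
    (hm : m ∈ (Ideal.span (Set.range g) • ⊤ : Submodule A M)) :
    ∃ c : Fin n → M, m = S g M c := by
  refine Submodule.smul_induction_on hm ?_ ?_
  · intro r hr m _
    obtain ⟨a, rfl⟩ := Ideal.mem_span_range_iff_exists_fun.1 hr
    refine ⟨fun i => a i • m, ?_⟩
    rw [S_apply, Finset.sum_smul]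
    refine Finset.sum_congr rfl fun i _ => ?_
    rw [smul_smul, mul_comm]
  · rintro m₁ m₂ ⟨c₁, rfl⟩ ⟨c₂, rfl⟩
    exact ⟨c₁ + c₂, (map_add _ _ _).symm⟩

theorem S_snoc {n : ℕ} (f : Fin (n + 1) → A) (c : Fin n → M) (m : M) :
    S f M (Fin.snoc (α := fun _ => M) c m) =
      S (fun i => f (Fin.castSucc i)) M c + f (Fin.last n) • m := by
  rw [S_apply, S_apply, Fin.sum_univ_castSucc]
  simp only [Fin.snoc_castSucc, Fin.snoc_last]

/-- `H₁ = 0` passes to the initial segment under the Nakayama property. -/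
theorem koszulH1Zero_init {n : ℕ} (f : Fin (n + 1) → A) (hN : Nak (f (Fin.last n)) (Fin n → M))
    (h : CInt.KoszulH1Zero f M) : CInt.KoszulH1Zero (fun i => f (Fin.castSucc i)) M := by
  rw [koszulH1Zero_iff] at h ⊢
  apply hN _ _ (triv_le _)
  intro z hz
  have hv : (Fin.snoc (α := fun _ => M) z 0 : Fin (n + 1) → M) ∈ LinearMap.ker (S f M) := by
    rw [LinearMap.mem_ker, S_snoc, smul_zero, add_zero]
    exact hz
  obtain ⟨τ, hτ, y, h1, h2⟩ := decomp f _ (h hv)
  simp only [Fin.snoc_castSucc, Fin.snoc_last] at h1 h2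
  refine ⟨τ, hτ, y, ?_, h1⟩
  rw [LinearMap.mem_ker]
  exact neg_eq_zero.1 h2.symm

/-- the last element is regular modulo the initial segment. -/
theorem isSMulRegular_last {n : ℕ} (f : Fin (n + 1) → A) (h : CInt.KoszulH1Zero f M) :
    IsSMulRegular
      (M ⧸ (Ideal.span (Set.range fun i : Fin n => f (Fin.castSucc i)) • ⊤ : Submodule A M))
      (f (Fin.last n)) := by
  rw [isSMulRegular_on_quot_iff_lsmul_comap_le]
  intro m hm
  rw [Submodule.mem_comap, LinearMap.lsmul_apply] at hm
  obtain ⟨c, hc⟩ := exists_sum_of_mem _ _ hm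
  rw [koszulH1Zero_iff] at h
  have hv : (Fin.snoc (α := fun _ => M) c (-m) : Fin (n + 1) → M) ∈ LinearMap.ker (S f M) := by
    rw [LinearMap.mem_ker, S_snoc, ← hc, smul_neg, add_neg_cancel]
  have := last_mem f _ (h hv)
  rw [Fin.snoc_last] at this
  exact (Submodule.neg_mem_iff _).1 this

end koszul

/-- **Main theorem.** `H₁(f; M) = 0` and separated subquotients imply weak regularity. -/
theorem main (J : Ideal A) (M : Type v) [AddCommGroup M] [Module A M]
    (hsep : ∀ (N : Submodule A M) (N' : Submodule A N), IsHausdorff J (N ⧸ N')) :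
    ∀ (n : ℕ) (f : Fin n → A), (∀ i, f i ∈ J) → CInt.KoszulH1Zero f M →
      RingTheory.Sequence.IsWeaklyRegular M (List.ofFn f) := by
  intro n
  induction n with
  | zero =>
    intro f _ _
    rw [List.ofFn_zero]
    exact RingTheory.Sequence.IsWeaklyRegular.nil A M
  | succ n ih =>
    intro f hJ h
    have hN : Nak (f (Fin.last n)) (Fin n → M) :=
      nak_pi _ M (nak_of_sep J _ (hJ _) M hsep) n
    have hg := koszulH1Zero_init f hN h
    have ih' := ih (fun i => f (Fin.castSucc i)) (fun i => hJ _) hg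
    rw [List.ofFn_succ', List.concat_eq_append, RingTheory.Sequence.isWeaklyRegular_append_iff]
    refine ⟨ih', (RingTheory.Sequence.isWeaklyRegular_singleton_iff _ _).2 ?_⟩
    have hI : Ideal.ofList (List.ofFn fun i => f (Fin.castSucc i)) =
        Ideal.span (Set.range fun i : Fin n => f (Fin.castSucc i)) := by
      unfold Ideal.ofList
      congr 1
      ext a
      exact List.mem_ofFn' _ _
    rw [hI]
    exact isSMulRegular_last f h

end Groth.Agent.Helper21.KH1
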