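import Mathlib
import Groth.Agent.Lib.Helper1.LocalFlat

/-!
# Regular sequences on the closed fibre lift to flat modules (EGA 0_IV 15.1.16)
-/

set_option autoImplicit false

namespace Groth.Agent.Helper21.FRS2

open TensorProduct Function RingTheory.Sequence Pointwise

universe u

/-- `(M/IM)/f ≃ (M/f)/I(M/f)`. -/
noncomputable def swapEquiv {B : Type*} [CommRing B] (M : Type*) [AddCommGroup M] [Module B M]
    (I : Ideal B) (f : B) :
    QuotSMulTop f (M ⧸ (I • ⊤ : Submodule B M)) ≃ₗ[B]
      (QuotSMulTop f M) ⧸ (I • ⊤ : Submodule B (QuotSMulTop f M)) :=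
  Submodule.quotEquivOfEq _ _ (by
      rw [Submodule.map_pointwise_smul, Submodule.map_top, Submodule.range_mkQ]) ≪≫ₗ
    Submodule.quotientQuotientEquivQuotientSup (I • ⊤ : Submodule B M) (f • ⊤ : Submodule B M) ≪≫ₗ
    Submodule.quotEquivOfEq _ _ (sup_comm _ _) ≪≫ₗ
    (Submodule.quotientQuotientEquivQuotientSup (f • ⊤ : Submodule B M)
      (I • ⊤ : Submodule B M)).symm ≪≫ₗ
    Submodule.quotEquivOfEq _ _ (by
      rw [Submodule.map_smul'', Submodule.map_top, Submodule.range_mkQ])

theorem flat_quot_of_eq_bot {A B M : Type*} [CommRing A] [CommRing B] [Algebra A B]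
    [AddCommGroup M] [Module B M] [Module A M] [IsScalarTower A B M] [Module.Flat A M]
    (p : Submodule B M) (hp : p = ⊥) : Module.Flat A (M ⧸ p) :=
  Module.Flat.of_linearEquiv ((Submodule.quotEquivOfEqBot p hp).restrictScalars A)

theorem aux (A B : Type u) [CommRing A] [CommRing B]
    [IsLocalRing A] [IsLocalRing B] [IsNoetherianRing B] [Algebra A B]
    [IsLocalHom (algebraMap A B)] :
    ∀ (fs : List B) (M : Type u) [AddCommGroup M] [Module B M] [Module A M]
      [IsScalarTower A B M] [Module.Finite B M] [Module.Flat A M],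
      IsWeaklyRegular
        (M ⧸ ((IsLocalRing.maximalIdeal A).map (algebraMap A B) • (⊤ : Submodule B M))) fs →
      IsWeaklyRegular M fs ∧
        ∀ i ≤ fs.length, Module.Flat A (M ⧸ (Ideal.ofList (fs.take i) • (⊤ : Submodule B M))) := by
  intro fs
  induction fs with
  | nil =>
    intro M _ _ _ _ _ _ _
    refine ⟨IsWeaklyRegular.nil B M, ?_⟩
    intro i _
    refine flat_quot_of_eq_bot _ ?_
    rw [List.take_nil, Ideal.ofList_nil, Submodule.bot_smul]
  | cons f fs ih =>
    intro M _ _ _ _ _ _ hreg
    rw [isWeaklyRegular_cons_iff] at hreg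
    obtain ⟨hf, hfs⟩ := hreg
    let u : M →ₗ[A] M := (LinearMap.lsmul B M f).restrictScalars A
    have hK : ((IsLocalRing.maximalIdeal A).map (algebraMap A B) •
        (⊤ : Submodule B M)).restrictScalars A =
        IsLocalRing.maximalIdeal A • (⊤ : Submodule A M) := by
      rw [Ideal.smul_restrictScalars, Submodule.restrictScalars_top]
    have h : Injective (u.lTensor (IsLocalRing.ResidueField A)) := by
      refine (Groth.Agent.Helper1.lTensor_quotient_injective_iff u
        (IsLocalRing.maximalIdeal A)).2 ?_
      intro x hx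
      rw [← hK, Submodule.restrictScalars_mem] at hx ⊢
      have hx' : f • x ∈ ((IsLocalRing.maximalIdeal A).map (algebraMap A B) •
        (⊤ : Submodule B M)) := hx
      have h1 : f • (Submodule.Quotient.mk x : M ⧸ ((IsLocalRing.maximalIdeal A).map
          (algebraMap A B) • (⊤ : Submodule B M))) = f • 0 := by
        rw [smul_zero, ← Submodule.Quotient.mk_smul, Submodule.Quotient.mk_eq_zero]
        exact hx'
      exact (Submodule.Quotient.mk_eq_zero _).1 (hf h1)
    have hinj : Injective u := Groth.Agent.Helper1.injective_of_injective_residueField B u h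
    have hflat : Module.Flat A (M ⧸ LinearMap.range u) :=
      Groth.Agent.Helper1.flat_quotient_range_of_injective_residueField B u h
    have hfM : IsSMulRegular M f := hinj
    have hrange : (f • (⊤ : Submodule B M)).restrictScalars A = LinearMap.range u := by
      ext x
      rw [Submodule.restrictScalars_mem, Submodule.mem_smul_pointwise_iff_exists,
        LinearMap.mem_range]
      constructor
      · rintro ⟨s, _, rfl⟩
        exact ⟨s, rfl⟩
      · rintro ⟨s, rfl⟩
        exact ⟨s, Submodule.mem_top, rfl⟩
    have hflat' : Module.Flat A (QuotSMulTop f M) :=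
      Module.Flat.of_linearEquiv
        ((Submodule.Quotient.restrictScalarsEquiv A (f • (⊤ : Submodule B M))).symm ≪≫ₗ
          Submodule.quotEquivOfEq _ _ hrange)
    obtain ⟨h1, h2⟩ := ih (QuotSMulTop f M)
      ((LinearEquiv.isWeaklyRegular_congr (swapEquiv M _ f) fs).1 hfs)
    refine ⟨(isWeaklyRegular_cons_iff M f fs).2 ⟨hfM, h1⟩, ?_⟩
    intro i hi
    cases i with
    | zero =>
      refine flat_quot_of_eq_bot _ ?_
      rw [List.take_zero, Ideal.ofList_nil, Submodule.bot_smul]
    | succ j =>
      rw [List.take_succ_cons]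
      have hj : j ≤ fs.length := by
        rw [List.length_cons] at hi
        omega
      have := h2 j hj
      exact Module.Flat.of_linearEquiv
        ((Submodule.quotOfListConsSMulTopEquivQuotSMulTopInner M f (fs.take j)).restrictScalars A)

end Groth.Agent.Helper21.FRS2
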