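import Mathlib
import Groth.Agent.Lib.Helper21.CPF3

/-!
# Critère de platitude par fibres for modules, part 1 (helper21)

* `flat_of_isBaseChange_of_faithfullyFlat`: flatness over a base `T` descends along a faithfully
  flat ring map `V' → V`.
* `flat_of_faithfullyFlat_module`: a ring `V'` carrying a faithfully flat module which is flat
  over `T` is flat over `T`.
* `exists_isBaseChange_of_square`: base change along a commutative square of rings.
* `flat_quot_iff_mod`: the fibre condition in terms of the localization of the fibre module.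
* `fd0_mod`: descent of flatness of a module at a prime over the generic point of a domain,
  along a pushout.
-/

set_option autoImplicit false
set_option linter.style.haveILetI false
set_option linter.unusedSectionVars false

universe u

open TensorProduct Function

namespace Groth.Agent.Helper21.MCPF

section Descent

variable {T V' V X Y : Type u} [CommRing T] [CommRing V'] [CommRing V]
  [Algebra T V'] [Algebra V' V] [Algebra T V] [IsScalarTower T V' V]
  [AddCommGroup X] [Module V' X] [Module T X] [IsScalarTower T V' X]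
  [AddCommGroup Y] [Module V Y] [Module V' Y] [IsScalarTower V' V Y] [Module T Y]
  [IsScalarTower T V Y]

/-- **Descent of flatness** over a base `T` along a faithfully flat ring map `V' → V`. -/
theorem flat_of_isBaseChange_of_faithfullyFlat [Module.FaithfullyFlat V' V]
    (ψ : X →ₗ[V'] Y) (hψ : IsBaseChange V ψ) [Module.Flat T Y] : Module.Flat T X := by
  rw [Module.Flat.iff_lTensor_injective']
  intro I
  let Φ : X ⊗[T] I →ₗ[V'] X ⊗[T] T := AlgebraTensorModule.lTensor V' X I.subtype
  have hinj : Injective (I.subtype.lTensor Y) :=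
    Module.Flat.lTensor_preserves_injective_linearMap _ (Submodule.injective_subtype I)
  let a1 : V ⊗[V'] (X ⊗[T] I) ≃ₗ[V] (V ⊗[V'] X) ⊗[T] I :=
    (AlgebraTensorModule.assoc T V' V V X I).symm
  let a1' : V ⊗[V'] (X ⊗[T] T) ≃ₗ[V] (V ⊗[V'] X) ⊗[T] T :=
    (AlgebraTensorModule.assoc T V' V V X T).symm
  let a2 : (V ⊗[V'] X) ⊗[T] I ≃ₗ[T] Y ⊗[T] I :=
    TensorProduct.congr (hψ.equiv.restrictScalars T) (LinearEquiv.refl T I)
  let a2' : (V ⊗[V'] X) ⊗[T] T ≃ₗ[T] Y ⊗[T] T :=
    TensorProduct.congr (hψ.equiv.restrictScalars T) (LinearEquiv.refl T T)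
  have hcomm : ∀ z, a2' (a1' (Φ.lTensor V z)) = (I.subtype.lTensor Y) (a2 (a1 z)) := by
    intro z
    induction z using TensorProduct.induction_on with
    | zero => simp
    | add x y hx hy => simp only [map_add, hx, hy]
    | tmul c w =>
      induction w using TensorProduct.induction_on with
      | zero => simp
      | add x y hx hy => simp only [tmul_add, map_add, hx, hy]
      | tmul x i => simp [Φ, a1, a1', a2, a2']
  have hΦ : Injective (Φ.lTensor V) := by
    intro z₁ z₂ h
    apply a1.injective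
    apply a2.injective
    apply hinj
    rw [← hcomm, ← hcomm, h]
  exact (Module.FaithfullyFlat.lTensor_injective_iff_injective V' V Φ).mp hΦ

end Descent

/-- If `X` is a faithfully flat `V'`-module which is flat over `T`, then `V'` is flat over `T`. -/
theorem flat_of_faithfullyFlat_module {T V' X : Type u} [CommRing T] [CommRing V'] [Algebra T V']
    [AddCommGroup X] [Module V' X] [Module T X] [IsScalarTower T V' X]
    [Module.FaithfullyFlat V' X] [Module.Flat T X] : Module.Flat T V' := by
  rw [Module.Flat.iff_lTensor_injective']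
  intro I
  let Φ : V' ⊗[T] I →ₗ[V'] V' ⊗[T] T := AlgebraTensorModule.lTensor V' V' I.subtype
  have hΦ : Injective (Φ.lTensor X) := by
    let eI : X ⊗[V'] (V' ⊗[T] I) ≃ₗ[V'] X ⊗[T] I :=
      AlgebraTensorModule.cancelBaseChange T V' V' X I
    let eA : X ⊗[V'] (V' ⊗[T] T) ≃ₗ[V'] X ⊗[T] T :=
      AlgebraTensorModule.cancelBaseChange T V' V' X T
    have hcomm : ∀ z, eA (Φ.lTensor X z) = (I.subtype.lTensor X) (eI z) := by
      intro z
      induction z using TensorProduct.induction_on with
      | zero => simp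
      | add x y hx hy => simp only [map_add, hx, hy]
      | tmul c w =>
        induction w using TensorProduct.induction_on with
        | zero => simp
        | add x y hx hy => simp only [tmul_add, map_add, hx, hy]
        | tmul b i => simp [Φ, eI, eA]
    have hinj : Injective (I.subtype.lTensor X) :=
      Module.Flat.lTensor_preserves_injective_linearMap _ (Submodule.injective_subtype I)
    intro z₁ z₂ h
    apply eI.injective
    apply hinj
    rw [← hcomm, ← hcomm, h]
  exact (Module.FaithfullyFlat.lTensor_injective_iff_injective V' X Φ).mp hΦ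

section Square

variable {U' U V' V N' N X Y : Type u} [CommRing U'] [CommRing U] [CommRing V'] [CommRing V]
  [Algebra U' U] [Algebra U' V'] [Algebra U V] [Algebra V' V] [Algebra U' V]
  [IsScalarTower U' U V] [IsScalarTower U' V' V]
  [AddCommGroup N'] [Module U' N'] [AddCommGroup N] [Module U N] [Module U' N]
  [IsScalarTower U' U N]
  [AddCommGroup X] [Module V' X] [Module U' X] [IsScalarTower U' V' X]
  [AddCommGroup Y] [Module V Y] [Module U Y] [IsScalarTower U V Y] [Module U' Y]
  [IsScalarTower U' U Y] [IsScalarTower U' V Y] [Module V' Y] [IsScalarTower V' V Y]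
  [IsScalarTower U' V' Y]

/-- Base change along a commutative square of rings: if `N = U ⊗ N'`, `X = V' ⊗ N'` and
`Y = V ⊗ N`, then `Y = V ⊗_{V'} X`. -/
theorem exists_isBaseChange_of_square (h : N' →ₗ[U'] N) (hh : IsBaseChange U h)
    (mkX : N' →ₗ[U'] X) (hX : IsBaseChange V' mkX) (mkY : N →ₗ[U] Y) (hY : IsBaseChange V mkY) :
    ∃ ψ : X →ₗ[V'] Y, IsBaseChange V ψ ∧ ∀ n', ψ (mkX n') = mkY (h n') := by
  let g : N' →ₗ[U'] Y := (mkY.restrictScalars U') ∘ₗ h
  have hg : IsBaseChange V g := IsBaseChange.comp hh hY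
  have e : ((hX.lift g).restrictScalars U') ∘ₗ mkX = g := hX.lift_comp g
  refine ⟨hX.lift g, IsBaseChange.of_comp hX ?_, fun n' => ?_⟩
  · rw [e]
    exact hg
  · exact hX.lift_eq g n'

end Square

section Iso

variable {B C : Type u} [CommRing B] [CommRing C] [Algebra B C] (J : Ideal B) (K : Ideal C)
  (hK : K = J.map (algebraMap B C)) [Algebra (B ⧸ J) (C ⧸ K)] [IsScalarTower B (B ⧸ J) (C ⧸ K)]
  (Q : Ideal C) [Q.IsPrime] (Qb : Ideal (C ⧸ K)) [Qb.IsPrime]
  (hQb : Qb.comap (Ideal.Quotient.mk K) = Q)
  {M : Type u} [AddCommGroup M] [Module C M] [Module B M] [IsScalarTower B C M]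
  {N : Type u} [AddCommGroup N] [Module (C ⧸ K) N] [Module (B ⧸ J) N]
  [IsScalarTower (B ⧸ J) (C ⧸ K) N] [Module C N] [IsScalarTower C (C ⧸ K) N]
  (k : M →ₗ[C] N) (hk : IsBaseChange (C ⧸ K) k)

include hK hQb hk in
/-- `(B/J) ⊗_B M_Q` is the localization of `M/JM` at the image of `Q`. -/
theorem exists_linearEquiv_quot_mod :
    Nonempty (LocalizedModule Qb.primeCompl N ≃ₗ[B ⧸ J]
      (B ⧸ J) ⊗[B] LocalizedModule Q.primeCompl M) := by
  haveI : Algebra.IsPushout B (B ⧸ J) C (C ⧸ K) := CPF.isPushout_quotient' J K hK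
  let ε₁ : (C ⧸ K) ⊗[C] LocalizedModule Q.primeCompl M ≃ₗ[B ⧸ J]
      (B ⧸ J) ⊗[B] LocalizedModule Q.primeCompl M :=
    Algebra.IsPushout.cancelBaseChange B (B ⧸ J) C (C ⧸ K) (LocalizedModule Q.primeCompl M)
  let mkN : M →ₗ[C] LocalizedModule Q.primeCompl M := LocalizedModule.mkLinearMap Q.primeCompl M
  haveI h1 : IsLocalizedModule (Algebra.algebraMapSubmonoid (C ⧸ K) Q.primeCompl)
      (mkN.baseChange (C ⧸ K)) := FS.isLocalizedModule_baseChange Q.primeCompl mkN (C ⧸ K)
  let φ : N →ₗ[C ⧸ K] (C ⧸ K) ⊗[C] LocalizedModule Q.primeCompl M :=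
    (mkN.baseChange (C ⧸ K)) ∘ₗ hk.equiv.symm.toLinearMap
  have h2 : IsLocalizedModule (Algebra.algebraMapSubmonoid (C ⧸ K) Q.primeCompl) φ :=
    IsLocalizedModule.of_linearEquiv_right _ _ hk.equiv.symm
  have hsub : Algebra.algebraMapSubmonoid (C ⧸ K) Q.primeCompl = Qb.primeCompl := by
    ext u
    obtain ⟨c, rfl⟩ := Ideal.Quotient.mk_surjective u
    constructor
    · rintro ⟨c', hc', hcc'⟩ hmem
      apply hc'
      have h3 : c' ∈ Qb.comap (Ideal.Quotient.mk K) := by
        rw [Ideal.mem_comap]
        have : Ideal.Quotient.mk K c' = Ideal.Quotient.mk K c := hcc'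
        rw [this]
        exact hmem
      rw [hQb] at h3
      exact h3
    · intro hc
      refine ⟨c, ?_, rfl⟩
      intro hcQ
      apply hc
      rw [← hQb] at hcQ
      exact hcQ
  rw [hsub] at h2
  haveI := h2
  let ε₂ : LocalizedModule Qb.primeCompl N ≃ₗ[C ⧸ K]
      (C ⧸ K) ⊗[C] LocalizedModule Q.primeCompl M := IsLocalizedModule.iso Qb.primeCompl φ
  exact ⟨(ε₂.restrictScalars (B ⧸ J)) ≪≫ₗ ε₁⟩

include hK hQb hk in
/-- The fibre condition in terms of the localization of the fibre module. -/
theorem flat_quot_iff_mod :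
    Module.Flat (B ⧸ J) ((B ⧸ J) ⊗[B] LocalizedModule Q.primeCompl M) ↔
      Module.Flat (B ⧸ J) (LocalizedModule Qb.primeCompl N) := by
  obtain ⟨e⟩ := exists_linearEquiv_quot_mod J K hK Q Qb hQb k hk
  exact ⟨fun _ => Module.Flat.of_linearEquiv e, fun _ => Module.Flat.of_linearEquiv e.symm⟩

end Iso

end Groth.Agent.Helper21.MCPF
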