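import Mathlib
import Groth.Agent.Lib.Helper21.MCPF1

/-!
# Critère de platitude par fibres for modules, part 2: `fd0_mod` (helper21)
-/

set_option autoImplicit false
set_option linter.style.haveILetI false
set_option linter.unusedSectionVars false

universe u

open TensorProduct Function

namespace Groth.Agent.Helper21.MCPF

section FD0

variable {D' : Type u} (D : Type u) {T' T U' U : Type u} [CommRing D'] [IsDomain D'] [CommRing D]
  [CommRing T'] [CommRing T] [CommRing U'] [CommRing U]
  [Algebra D' D] [Algebra D' T'] [Algebra D T] [Algebra T' T] [Algebra D' T]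
  [IsScalarTower D' D T] [IsScalarTower D' T' T] [Algebra.IsPushout D' D T' T]
  [Algebra D' U'] [Algebra D U] [Algebra U' U] [Algebra D' U]
  [IsScalarTower D' D U] [IsScalarTower D' U' U] [Algebra.IsPushout D' D U' U]
  [Algebra T' U'] [Algebra T U] [Algebra T' U] [IsScalarTower T' T U] [IsScalarTower T' U' U]
  [IsScalarTower D' T U]
  {N' : Type u} [AddCommGroup N'] [Module U' N'] [Module T' N'] [IsScalarTower T' U' N']
  {N : Type u} [AddCommGroup N] [Module U N] [Module T N] [IsScalarTower T U N] [Module U' N]
  [IsScalarTower U' U N]
  (h : N' →ₗ[U'] N) (hh : IsBaseChange U h)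

include D hh in
set_option maxHeartbeats 1600000 in
set_option synthInstance.maxHeartbeats 400000 in
/-- **Descent of flatness of a module at a prime over the generic point of a domain** along a
pushout. -/
theorem fd0_mod (Q : Ideal U) [Q.IsPrime] (hQ : ∀ d : D', d ≠ 0 → algebraMap D' U d ∉ Q)
    [Module.Flat T (LocalizedModule Q.primeCompl N)] :
    Module.Flat T' (LocalizedModule (Q.comap (algebraMap U' U)).primeCompl N') := by
  haveI hqp : (Q.comap (algebraMap T U)).IsPrime := Ideal.comap_isPrime _ _
  haveI hQ'p : (Q.comap (algebraMap U' U)).IsPrime := Ideal.comap_isPrime _ _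
  have hq : ∀ d : D', d ≠ 0 → algebraMap D' T d ∉ Q.comap (algebraMap T U) := by
    intro d hd hmem
    apply hQ d hd
    have : algebraMap T U (algebraMap D' T d) ∈ Q := hmem
    rwa [← IsScalarTower.algebraMap_apply D' T U] at this
  -- the local rings and the faithfully flat map between them
  letI algV : Algebra (Localization.AtPrime (Q.comap (algebraMap U' U))) (Localization.AtPrime Q) :=
    (Localization.localRingHom (Q.comap (algebraMap U' U)) Q (algebraMap U' U) rfl).toAlgebra
  have hφ : (Localization.localRingHom (Q.comap (algebraMap U' U)) Q (algebraMap U' U) rfl).Flat :=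
    (FL.flat_localRingHom_iff (Q.comap (algebraMap U' U)) Q rfl).mpr (CPF.step_flat D Q hQ)
  haveI : Module.Flat (Localization.AtPrime (Q.comap (algebraMap U' U))) (Localization.AtPrime Q) :=
    hφ
  haveI : IsLocalHom (algebraMap (Localization.AtPrime (Q.comap (algebraMap U' U)))
      (Localization.AtPrime Q)) :=
    Localization.isLocalHom_localRingHom (Q.comap (algebraMap U' U)) Q (algebraMap U' U) rfl
  haveI : Module.FaithfullyFlat (Localization.AtPrime (Q.comap (algebraMap U' U)))
      (Localization.AtPrime Q) := Module.FaithfullyFlat.of_flat_of_isLocalHom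
  haveI tUVV : IsScalarTower U' (Localization.AtPrime (Q.comap (algebraMap U' U)))
      (Localization.AtPrime Q) := IsScalarTower.of_algebraMap_eq fun u => by
    rw [RingHom.algebraMap_toAlgebra, Localization.localRingHom_to_map,
      ← IsScalarTower.algebraMap_apply U' U (Localization.AtPrime Q)]
  haveI tTVV : IsScalarTower T' (Localization.AtPrime (Q.comap (algebraMap U' U)))
      (Localization.AtPrime Q) := IsScalarTower.of_algebraMap_eq fun t => by
    rw [IsScalarTower.algebraMap_apply T' U' (Localization.AtPrime (Q.comap (algebraMap U' U))),
      ← IsScalarTower.algebraMap_apply U' (Localization.AtPrime (Q.comap (algebraMap U' U)))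
        (Localization.AtPrime Q),
      IsScalarTower.algebraMap_apply T' U (Localization.AtPrime Q),
      IsScalarTower.algebraMap_apply T' U' U, ← IsScalarTower.algebraMap_apply U' U
        (Localization.AtPrime Q)]
  -- module structures on `Y = N_Q`
  letI mV'Y : Module (Localization.AtPrime (Q.comap (algebraMap U' U)))
      (LocalizedModule Q.primeCompl N) :=
    Module.compHom (LocalizedModule Q.primeCompl N)
      (algebraMap (Localization.AtPrime (Q.comap (algebraMap U' U))) (Localization.AtPrime Q))
  haveI tV'VY : IsScalarTower (Localization.AtPrime (Q.comap (algebraMap U' U)))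
      (Localization.AtPrime Q) (LocalizedModule Q.primeCompl N) :=
    IsScalarTower.of_algebraMap_smul fun _ _ => rfl
  haveI tU'V'Y : IsScalarTower U' (Localization.AtPrime (Q.comap (algebraMap U' U)))
      (LocalizedModule Q.primeCompl N) := IsScalarTower.of_algebraMap_smul fun u y => by
    change algebraMap (Localization.AtPrime (Q.comap (algebraMap U' U))) (Localization.AtPrime Q)
      (algebraMap U' (Localization.AtPrime (Q.comap (algebraMap U' U))) u) • y = u • y
    rw [← IsScalarTower.algebraMap_apply U' (Localization.AtPrime (Q.comap (algebraMap U' U)))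
      (Localization.AtPrime Q), algebraMap_smul]
  letI mT'Y : Module T' (LocalizedModule Q.primeCompl N) :=
    Module.compHom (LocalizedModule Q.primeCompl N) (algebraMap T' (Localization.AtPrime Q))
  haveI tT'VY : IsScalarTower T' (Localization.AtPrime Q) (LocalizedModule Q.primeCompl N) :=
    IsScalarTower.of_algebraMap_smul fun _ _ => rfl
  -- `Y` is flat over `T'`
  letI mTqY : Module (Localization.AtPrime (Q.comap (algebraMap T U)))
      (LocalizedModule Q.primeCompl N) :=
    Module.compHom (LocalizedModule Q.primeCompl N)
      (Localization.localRingHom (Q.comap (algebraMap T U)) Q (algebraMap T U) rfl)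
  haveI tTTqY : IsScalarTower T (Localization.AtPrime (Q.comap (algebraMap T U)))
      (LocalizedModule Q.primeCompl N) := IsScalarTower.of_algebraMap_smul fun t y => by
    change Localization.localRingHom (Q.comap (algebraMap T U)) Q (algebraMap T U) rfl
      (algebraMap T (Localization.AtPrime (Q.comap (algebraMap T U))) t) • y = t • y
    rw [Localization.localRingHom_to_map, algebraMap_smul, algebraMap_smul]
  haveI fTqY : Module.Flat (Localization.AtPrime (Q.comap (algebraMap T U)))
      (LocalizedModule Q.primeCompl N) :=
    (Module.flat_iff_of_isLocalization (Localization.AtPrime (Q.comap (algebraMap T U)))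
      (Q.comap (algebraMap T U)).primeCompl (LocalizedModule Q.primeCompl N)).mpr inferInstance
  haveI fT'Tq : Module.Flat T' (Localization.AtPrime (Q.comap (algebraMap T U))) := by
    haveI := CPF.step_flat (E' := T') D (Q.comap (algebraMap T U)) hq
    haveI : IsLocalizedModule (Q.comap (algebraMap T U)).primeCompl
        (Algebra.linearMap T (Localization.AtPrime (Q.comap (algebraMap T U)))) :=
      (isLocalizedModule_iff_isLocalization).mpr inferInstance
    let e : LocalizedModule (Q.comap (algebraMap T U)).primeCompl T ≃ₗ[T']
        Localization.AtPrime (Q.comap (algebraMap T U)) :=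
      (IsLocalizedModule.iso (Q.comap (algebraMap T U)).primeCompl
        (Algebra.linearMap T (Localization.AtPrime (Q.comap (algebraMap T U))))).restrictScalars T'
    exact Module.Flat.of_linearEquiv e.symm
  haveI tT'TqY : IsScalarTower T' (Localization.AtPrime (Q.comap (algebraMap T U)))
      (LocalizedModule Q.primeCompl N) := IsScalarTower.of_algebraMap_smul fun t y => by
    change Localization.localRingHom (Q.comap (algebraMap T U)) Q (algebraMap T U) rfl
      (algebraMap T' (Localization.AtPrime (Q.comap (algebraMap T U))) t) • y =
      algebraMap T' (Localization.AtPrime Q) t • y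
    congr 1
    rw [IsScalarTower.algebraMap_apply T' T (Localization.AtPrime (Q.comap (algebraMap T U))),
      Localization.localRingHom_to_map, ← IsScalarTower.algebraMap_apply T' T U,
      ← IsScalarTower.algebraMap_apply T' U (Localization.AtPrime Q)]
  haveI fT'Y : Module.Flat T' (LocalizedModule Q.primeCompl N) :=
    Module.Flat.trans T' (Localization.AtPrime (Q.comap (algebraMap T U)))
      (LocalizedModule Q.primeCompl N)
  -- the comparison map
  have hX : IsBaseChange (Localization.AtPrime (Q.comap (algebraMap U' U)))
      (LocalizedModule.mkLinearMap (Q.comap (algebraMap U' U)).primeCompl N') :=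
    IsLocalizedModule.isBaseChange (Q.comap (algebraMap U' U)).primeCompl
      (Localization.AtPrime (Q.comap (algebraMap U' U)))
      (LocalizedModule.mkLinearMap (Q.comap (algebraMap U' U)).primeCompl N')
  have hY : IsBaseChange (Localization.AtPrime Q) (LocalizedModule.mkLinearMap Q.primeCompl N) :=
    IsLocalizedModule.isBaseChange Q.primeCompl (Localization.AtPrime Q)
      (LocalizedModule.mkLinearMap Q.primeCompl N)
  obtain ⟨ψ, hψ, -⟩ := exists_isBaseChange_of_square h hh
    (LocalizedModule.mkLinearMap (Q.comap (algebraMap U' U)).primeCompl N') hX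
    (LocalizedModule.mkLinearMap Q.primeCompl N) hY
  exact flat_of_isBaseChange_of_faithfullyFlat (T := T')
    (V' := Localization.AtPrime (Q.comap (algebraMap U' U))) (V := Localization.AtPrime Q) ψ hψ

end FD0

end Groth.Agent.Helper21.MCPF
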