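import Mathlib
import Groth.Agent.Lib.Helper21.MCPF2

/-!
# Critère de platitude par fibres for modules, part 3: descent of the fibre condition (helper21)

`fd_mod`: for a finite stage `(A', B', C', M')` of `(R, B, C, M)`, the fibre condition at a prime
`Q` of `C` (flatness of `(B/pB) ⊗_B M_Q` over `B/pB`) descends to the stage.
-/

set_option autoImplicit false
set_option linter.style.haveILetI false
set_option linter.unusedSectionVars false

universe u

open TensorProduct Function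

namespace Groth.Agent.Helper21.MCPF

open Groth.Agent.Helper21.CPF

section FD

variable {A' R B' B C' C : Type u} [CommRing A'] [CommRing R] [CommRing B'] [CommRing B]
  [CommRing C'] [CommRing C]
  [Algebra A' R] [Algebra A' B'] [Algebra R B] [Algebra B' B] [Algebra A' B]
  [IsScalarTower A' R B] [IsScalarTower A' B' B] [Algebra.IsPushout A' R B' B]
  [Algebra A' C'] [Algebra R C] [Algebra C' C] [Algebra A' C]
  [IsScalarTower A' R C] [IsScalarTower A' C' C] [Algebra.IsPushout A' R C' C]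
  [Algebra B' C'] [Algebra B C] [Algebra B' C] [IsScalarTower B' B C] [IsScalarTower B' C' C]
  [IsScalarTower A' B' C'] [IsScalarTower R B C]
  {M' : Type u} [AddCommGroup M'] [Module C' M'] [Module B' M'] [IsScalarTower B' C' M']
  {M : Type u} [AddCommGroup M] [Module C M] [Module B M] [IsScalarTower B C M] [Module C' M]
  [IsScalarTower C' C M]
  (h : M' →ₗ[C'] M) (hh : IsBaseChange C h)
  (Q : Ideal C) [Q.IsPrime] (p : Ideal R) [p.IsPrime]

local notation "pp" => Ideal.comap (algebraMap A' R) p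
local notation "JB'" => Ideal.map (algebraMap A' B') (Ideal.comap (algebraMap A' R) p)
local notation "JB" => Ideal.map (algebraMap R B) p
local notation "JC'" => Ideal.map (algebraMap A' C') (Ideal.comap (algebraMap A' R) p)
local notation "JC" => Ideal.map (algebraMap R C) p

include hh in
set_option maxHeartbeats 3200000 in
set_option synthInstance.maxHeartbeats 400000 in
/-- **Descent of the fibre condition to a finite stage**, for modules. -/
theorem fd_mod (hp : p = Q.comap (algebraMap R C))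
    [Module.Flat (B ⧸ JB) ((B ⧸ JB) ⊗[B] LocalizedModule Q.primeCompl M)] :
    Module.Flat (B' ⧸ JB')
      ((B' ⧸ JB') ⊗[B'] LocalizedModule (Q.comap (algebraMap C' C)).primeCompl M') := by
  -- auxiliary towers upstairs
  haveI tA'BC : IsScalarTower A' B C := IsScalarTower.of_algebraMap_eq fun a => by
    rw [IsScalarTower.algebraMap_apply A' R C, IsScalarTower.algebraMap_apply R B C,
      ← IsScalarTower.algebraMap_apply A' R B]
  haveI tA'B'C : IsScalarTower A' B' C := IsScalarTower.of_algebraMap_eq fun a => by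
    rw [IsScalarTower.algebraMap_apply A' C' C, IsScalarTower.algebraMap_apply A' B' C',
      ← IsScalarTower.algebraMap_apply B' C' C]
  -- (i-a)
  haveI ta : IsScalarTower A' (A' ⧸ pp) (R ⧸ p) := IsScalarTower.of_algebraMap_eq fun _ => rfl
  -- (i-b)
  letI ib : Algebra (B' ⧸ JB') (B ⧸ JB) :=
    Ideal.Quotient.algebraQuotientOfLEComap (map_comap_le_comap_map p)
  haveI tb : IsScalarTower B' (B' ⧸ JB') (B ⧸ JB) := IsScalarTower.of_algebraMap_eq fun _ => rfl
  -- (i-c)
  letI ic : Algebra (A' ⧸ pp) (B ⧸ JB) :=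
    Ideal.Quotient.algebraQuotientOfLEComap (comap_le_comap_map p)
  haveI tc : IsScalarTower A' (A' ⧸ pp) (B ⧸ JB) := IsScalarTower.of_algebraMap_eq fun _ => rfl
  haveI tc1 : IsScalarTower (A' ⧸ pp) (R ⧸ p) (B ⧸ JB) := quot_tower pp p JB
  haveI tc2 : IsScalarTower (A' ⧸ pp) (B' ⧸ JB') (B ⧸ JB) := quot_tower pp JB' JB
  haveI poB : Algebra.IsPushout (A' ⧸ pp) (R ⧸ p) (B' ⧸ JB') (B ⧸ JB) :=
    isPushout_quot (E' := B') (E := B) pp p
  -- (i-d)
  letI id1 : Algebra (C' ⧸ JC') (C ⧸ JC) :=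
    Ideal.Quotient.algebraQuotientOfLEComap (map_comap_le_comap_map p)
  haveI td1 : IsScalarTower C' (C' ⧸ JC') (C ⧸ JC) := IsScalarTower.of_algebraMap_eq fun _ => rfl
  letI id2 : Algebra (A' ⧸ pp) (C ⧸ JC) :=
    Ideal.Quotient.algebraQuotientOfLEComap (comap_le_comap_map p)
  haveI td2 : IsScalarTower A' (A' ⧸ pp) (C ⧸ JC) := IsScalarTower.of_algebraMap_eq fun _ => rfl
  haveI td3 : IsScalarTower (A' ⧸ pp) (R ⧸ p) (C ⧸ JC) := quot_tower pp p JC
  haveI td4 : IsScalarTower (A' ⧸ pp) (C' ⧸ JC') (C ⧸ JC) := quot_tower pp JC' JC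
  haveI poC : Algebra.IsPushout (A' ⧸ pp) (R ⧸ p) (C' ⧸ JC') (C ⧸ JC) :=
    isPushout_quot (E' := C') (E := C) pp p
  -- (i-e)
  letI ie : Algebra (B' ⧸ JB') (C' ⧸ JC') :=
    Ideal.Quotient.algebraQuotientOfLEComap (map_le_comap_map_tower pp)
  haveI te : IsScalarTower B' (B' ⧸ JB') (C' ⧸ JC') := IsScalarTower.of_algebraMap_eq fun _ => rfl
  -- (i-f)
  letI if1 : Algebra (B ⧸ JB) (C ⧸ JC) :=
    Ideal.Quotient.algebraQuotientOfLEComap (map_le_comap_map_tower p)
  haveI tf : IsScalarTower B (B ⧸ JB) (C ⧸ JC) := IsScalarTower.of_algebraMap_eq fun _ => rfl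
  -- (i-g)
  letI ig : Algebra (B' ⧸ JB') (C ⧸ JC) :=
    Ideal.Quotient.algebraQuotientOfLEComap (map_comap_le_comap_map p)
  haveI tg : IsScalarTower B' (B' ⧸ JB') (C ⧸ JC) := IsScalarTower.of_algebraMap_eq fun _ => rfl
  haveI t1 : IsScalarTower (B' ⧸ JB') (B ⧸ JB) (C ⧸ JC) := quot_tower JB' JB JC
  haveI t2 : IsScalarTower (B' ⧸ JB') (C' ⧸ JC') (C ⧸ JC) := quot_tower JB' JC' JC
  haveI t3 : IsScalarTower (A' ⧸ pp) (B ⧸ JB) (C ⧸ JC) := quot_tower pp JB JC
  -- the prime of `C/pC`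
  have hJCQ : JC ≤ Q := by
    rw [hp]
    exact Ideal.map_comap_le
  let Qb : Ideal (C ⧸ JC) := Q.map (Ideal.Quotient.mk JC)
  haveI hQbp : Qb.IsPrime :=
    Ideal.map_isPrime_of_surjective Ideal.Quotient.mk_surjective (by rw [Ideal.mk_ker]; exact hJCQ)
  have hQb : Qb.comap (Ideal.Quotient.mk JC) = Q := Ideal.comap_map_mk hJCQ
  have hQ : ∀ d : A' ⧸ pp, d ≠ 0 → algebraMap (A' ⧸ pp) (C ⧸ JC) d ∉ Qb := by
    intro d hd hmem
    obtain ⟨a, rfl⟩ := Ideal.Quotient.mk_surjective d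
    apply hd
    rw [Ideal.Quotient.eq_zero_iff_mem, Ideal.mem_comap, hp, Ideal.mem_comap,
      ← IsScalarTower.algebraMap_apply A' R C]
    have h3 : algebraMap A' C a ∈ Qb.comap (Ideal.Quotient.mk JC) := hmem
    rwa [hQb] at h3
  have hJC : JC = Ideal.map (algebraMap B C) JB := by
    rw [Ideal.map_map, ← IsScalarTower.algebraMap_eq]
  have hJC' : JC' = Ideal.map (algebraMap B' C') JB' := by
    rw [Ideal.map_map, ← IsScalarTower.algebraMap_eq]
  -- the fibre modules
  have hk' : IsBaseChange (C' ⧸ JC') (TensorProduct.mk C' (C' ⧸ JC') M' 1) :=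
    TensorProduct.isBaseChange C' M' (C' ⧸ JC')
  have hk : IsBaseChange (C ⧸ JC) (TensorProduct.mk C (C ⧸ JC) M 1) :=
    TensorProduct.isBaseChange C M (C ⧸ JC)
  obtain ⟨hN, hhN, -⟩ := exists_isBaseChange_of_square (U' := C') (U := C) (V' := C' ⧸ JC')
    (V := C ⧸ JC) h hh (TensorProduct.mk C' (C' ⧸ JC') M' 1) hk'
    (TensorProduct.mk C (C ⧸ JC) M 1) hk
  haveI h1 : Module.Flat (B ⧸ JB) (LocalizedModule Qb.primeCompl ((C ⧸ JC) ⊗[C] M)) :=
    (flat_quot_iff_mod JB JC hJC Q Qb hQb (TensorProduct.mk C (C ⧸ JC) M 1) hk).mp inferInstance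
  have h2 : Module.Flat (B' ⧸ JB')
      (LocalizedModule (Qb.comap (algebraMap (C' ⧸ JC') (C ⧸ JC))).primeCompl
        ((C' ⧸ JC') ⊗[C'] M')) :=
    fd0_mod (D' := A' ⧸ pp) (R ⧸ p) (T' := B' ⧸ JB') (T := B ⧸ JB) (U' := C' ⧸ JC')
      (U := C ⧸ JC) hN hhN Qb hQ
  have hQb' : (Qb.comap (algebraMap (C' ⧸ JC') (C ⧸ JC))).comap (Ideal.Quotient.mk JC') =
      Q.comap (algebraMap C' C) := by
    ext c'
    rw [Ideal.mem_comap, Ideal.mem_comap, Ideal.mem_comap, ← hQb, Ideal.mem_comap]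
    rfl
  exact (flat_quot_iff_mod JB' JC' hJC' (Q.comap (algebraMap C' C))
    (Qb.comap (algebraMap (C' ⧸ JC') (C ⧸ JC))) hQb' (TensorProduct.mk C' (C' ⧸ JC') M' 1)
    hk').mpr h2

end FD

end Groth.Agent.Helper21.MCPF
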