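import Mathlib
import Groth.Agent.Lib.Helper21.MCPF3
import Groth.Agent.Lib.Helper21.CPF5

/-!
# Critère de platitude par fibres for modules, part 4: the finite level and the stages (helper21)
-/

set_option autoImplicit false
set_option linter.style.haveILetI false
set_option linter.unusedSectionVars false

universe u

open TensorProduct Function

namespace Groth.Agent.Helper21.MCPF

open Groth.Agent.Helper21.CPF

section FinLevel

variable (A' : Type u) {R : Type u} (B' : Type u) {B : Type u} (C' : Type u) {C : Type u}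
  [CommRing A'] [CommRing R] [CommRing B'] [CommRing B]
  [CommRing C'] [CommRing C]
  [Algebra A' R] [Algebra A' B'] [Algebra R B] [Algebra B' B] [Algebra A' B]
  [IsScalarTower A' R B] [IsScalarTower A' B' B] [Algebra.IsPushout A' R B' B]
  [Algebra A' C'] [Algebra R C] [Algebra C' C] [Algebra A' C]
  [IsScalarTower A' R C] [IsScalarTower A' C' C] [Algebra.IsPushout A' R C' C]
  [Algebra B' C'] [Algebra B C] [Algebra B' C] [IsScalarTower B' B C] [IsScalarTower B' C' C]
  [IsScalarTower A' B' C'] [IsScalarTower R B C]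
  [IsNoetherianRing A'] [IsNoetherianRing B'] [IsNoetherianRing C']
  {M' : Type u} [AddCommGroup M'] [Module C' M'] [Module B' M'] [IsScalarTower B' C' M']
  [Module A' M'] [IsScalarTower A' C' M'] [IsScalarTower A' B' M'] [Module.Finite C' M']
  {M : Type u} [AddCommGroup M] [Module C M] [Module B M] [IsScalarTower B C M] [Module C' M]
  [IsScalarTower C' C M]
  (h : M' →ₗ[C'] M) (hh : IsBaseChange C h)
  (Q : Ideal C) [Q.IsPrime] (p : Ideal R) [p.IsPrime]

include B' hh in
set_option maxHeartbeats 1600000 in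
set_option synthInstance.maxHeartbeats 400000 in
/-- The critère de platitude par fibres for modules, given a good Noetherian stage. -/
theorem fin_level_mod (hp : p = Q.comap (algebraMap R C))
    [Module.Flat A' (LocalizedModule (Q.comap (algebraMap C' C)).primeCompl M')]
    [Module.Flat (B ⧸ p.map (algebraMap R B))
      ((B ⧸ p.map (algebraMap R B)) ⊗[B] LocalizedModule Q.primeCompl M)] :
    Module.Flat B (LocalizedModule Q.primeCompl M) := by
  haveI tA'BC : IsScalarTower A' B C := IsScalarTower.of_algebraMap_eq fun a => by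
    rw [IsScalarTower.algebraMap_apply A' R C, IsScalarTower.algebraMap_apply R B C,
      ← IsScalarTower.algebraMap_apply A' R B]
  haveI tA'B'C : IsScalarTower A' B' C := IsScalarTower.of_algebraMap_eq fun a => by
    rw [IsScalarTower.algebraMap_apply A' C' C, IsScalarTower.algebraMap_apply A' B' C',
      ← IsScalarTower.algebraMap_apply B' C' C]
  -- the fibre condition at the stage
  haveI H2 := fd_mod (A' := A') (B' := B') (B := B) (C' := C') h hh Q p hp
  -- `H1`
  have H1 : Injective (((p.comap (algebraMap A' R)).map (algebraMap A' B')).subtype.rTensor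
      (LocalizedModule (Q.comap (algebraMap C' C)).primeCompl M')) :=
    Groth.Agent.Helper1.rTensor_map_subtype_injective_of_flat (R := A') (S := B')
      (M := LocalizedModule (Q.comap (algebraMap C' C)).primeCompl M') (p.comap (algebraMap A' R))
  have hIP : ((p.comap (algebraMap A' R)).map (algebraMap A' B')).map (algebraMap B' C') ≤
      Q.comap (algebraMap C' C) := by
    rw [Ideal.map_map, ← IsScalarTower.algebraMap_eq, Ideal.map_le_iff_le_comap,
      Ideal.comap_comap, ← IsScalarTower.algebraMap_eq, hp, Ideal.comap_comap,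
      ← IsScalarTower.algebraMap_eq]
  haveI hB' : Module.Flat B' (LocalizedModule (Q.comap (algebraMap C' C)).primeCompl M') :=
    FL.flat_localizedModule_of_stratum' (R := B') (S := C') (M := M') (Q.comap (algebraMap C' C))
      ((p.comap (algebraMap A' R)).map (algebraMap A' B')) hIP
      (Q.comap (algebraMap C' C)).primeCompl le_rfl
      (LocalizedModule.mkLinearMap (Q.comap (algebraMap C' C)).primeCompl M') H1
  -- ascent
  haveI po1 : Algebra.IsPushout A' B' R B := Algebra.IsPushout.symm inferInstance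
  have po2 : Algebra.IsPushout A' C' R C := Algebra.IsPushout.symm inferInstance
  have po3 : Algebra.IsPushout B' C' B C :=
    (Algebra.IsPushout.comp_iff A' B' R (T := C') (S' := B) (T' := C)).mp po2
  haveI po4 : Algebra.IsPushout B' B C' C := po3.symm
  exact FL.flat_localizedModule_of_isBaseChange (R₀ := B') (R := B) (S₀ := C') (S := C)
    h hh Q

end FinLevel

section LB

variable {A R : Type u} (B₁ : Type u) {B C₁ C : Type u} [CommRing A] [CommRing R] [CommRing B₁]
  [CommRing B] [CommRing C₁] [CommRing C]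
  [Algebra A R] [Algebra A B₁] [Algebra R B] [Algebra B₁ B] [Algebra A B]
  [IsScalarTower A R B] [IsScalarTower A B₁ B] [Algebra.IsPushout A R B₁ B]
  [Algebra A C₁] [Algebra R C] [Algebra C₁ C] [Algebra A C]
  [IsScalarTower A R C] [IsScalarTower A C₁ C] [Algebra.IsPushout A R C₁ C]
  [Algebra B₁ C₁] [Algebra B C] [Algebra B₁ C] [IsScalarTower B₁ B C] [IsScalarTower B₁ C₁ C]
  [IsScalarTower A B₁ C₁] [IsScalarTower R B C] [IsScalarTower A B₁ C]
  [Algebra.FiniteType ℤ A] [Algebra.FiniteType A B₁] [Algebra.FiniteType A C₁]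
  {M₁ : Type u} [AddCommGroup M₁] [Module C₁ M₁] [Module A M₁] [IsScalarTower A C₁ M₁]
  [Module.Finite C₁ M₁]
  {M : Type u} [AddCommGroup M] [Module C M] [Module B M] [IsScalarTower B C M] [Module C₁ M]
  [IsScalarTower C₁ C M]

include B₁ in
set_option maxHeartbeats 1600000 in
set_option synthInstance.maxHeartbeats 400000 in
attribute [local instance] FS.stageAlgebra stageAlg Algebra.TensorProduct.rightAlgebra in
/-- The critère de platitude par fibres for modules from the data of the limit step. -/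
theorem flat_of_stage_data_mod (h : M₁ →ₗ[C₁] M) (hh : IsBaseChange C h)
    (Q : Ideal C) [Q.IsPrime] (p : Ideal A)
    (hpQ : p.map (algebraMap A C) ≤ Q)
    (T₁ : Submonoid C₁) (hT₁ : Algebra.algebraMapSubmonoid C T₁ ≤ Q.primeCompl)
    [Module.Flat (A ⧸ p) ((A ⧸ p) ⊗[A] LocalizedModule T₁ M₁)]
    (hR : Injective ((p • (⊤ : Submodule A R)).subtype.rTensor (LocalizedModule T₁ M₁)))
    (𝔭 : Ideal R) [𝔭.IsPrime] (h𝔭 : 𝔭 = Q.comap (algebraMap R C))
    [Module.Flat (B ⧸ 𝔭.map (algebraMap R B))
      ((B ⧸ 𝔭.map (algebraMap R B)) ⊗[B] LocalizedModule Q.primeCompl M)] :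
    Module.Flat B (LocalizedModule Q.primeCompl M) := by
  classical
  haveI : IsNoetherianRing A := Algebra.FiniteType.isNoetherianRing ℤ A
  obtain ⟨F, hF⟩ := FL.exists_finset_forall_flat_at A C₁ M₁ R p T₁ hR
  let R' : Subalgebra A R := Algebra.adjoin A (F : Set R)
  have hR'fg : R'.FG := Subalgebra.fg_adjoin_finset F
  haveI : Algebra.FiniteType A R' := (Subalgebra.fg_iff_finiteType R').mp hR'fg
  haveI : Algebra.FiniteType ℤ R' :=
    Algebra.FiniteType.trans (inferInstance : Algebra.FiniteType ℤ A) inferInstance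
  haveI : IsNoetherianRing R' := Algebra.FiniteType.isNoetherianRing ℤ R'
  haveI : IsNoetherianRing (R' ⊗[A] B₁) := Algebra.FiniteType.isNoetherianRing R' _
  haveI : IsNoetherianRing (R' ⊗[A] C₁) := Algebra.FiniteType.isNoetherianRing R' _
  haveI tRBC : IsScalarTower R' B C := IsScalarTower.of_algebraMap_eq fun r =>
    IsScalarTower.algebraMap_apply R B C r.1
  have hpQ' : p.map (algebraMap A (R' ⊗[A] C₁)) ≤ Q.comap (algebraMap (R' ⊗[A] C₁) C) := by
    rw [Ideal.map_le_iff_le_comap, Ideal.comap_comap,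
      ← IsScalarTower.algebraMap_eq A (R' ⊗[A] C₁) C, ← Ideal.map_le_iff_le_comap]
    exact hpQ
  have hTQ' : Algebra.algebraMapSubmonoid (R' ⊗[A] C₁) T₁ ≤
      (Q.comap (algebraMap (R' ⊗[A] C₁) C)).primeCompl := by
    rintro _ ⟨t, ht, rfl⟩ hmem
    have hmem' : algebraMap (R' ⊗[A] C₁) C (algebraMap C₁ (R' ⊗[A] C₁) t) ∈ Q := hmem
    rw [← IsScalarTower.algebraMap_apply C₁ (R' ⊗[A] C₁) C] at hmem'
    exact hT₁ ⟨t, ht, rfl⟩ hmem'
  haveI hflat := hF R' Algebra.subset_adjoin hR'fg (Q.comap (algebraMap (R' ⊗[A] C₁) C)) hpQ' hTQ'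
  letI mC'M : Module (R' ⊗[A] C₁) M := Module.compHom M (algebraMap (R' ⊗[A] C₁) C)
  haveI tC'CM : IsScalarTower (R' ⊗[A] C₁) C M := IsScalarTower.of_algebraMap_smul fun _ _ => rfl
  haveI poB : Algebra.IsPushout R' R (R' ⊗[A] B₁) B := FS.stage_isPushout A B₁ B R'
  haveI poC : Algebra.IsPushout R' R (R' ⊗[A] C₁) C := FS.stage_isPushout A C₁ C R'
  exact fin_level_mod R' (R' ⊗[A] B₁) (R' ⊗[A] C₁) (FS.stageMap A C₁ C R' h)
    (FS.stageMap_isBaseChange A C₁ C R' h hh) Q 𝔭 h𝔭

end LB

end Groth.Agent.Helper21.MCPF
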