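import Mathlib
import Groth.Agent.Lib.Helper21.MCPF5
import Groth.Agent.Lib.Helper21.CPF7

/-!
# Critère de platitude par fibres for modules, part 6: finitely presented algebras (helper21)
-/

set_option autoImplicit false
set_option linter.style.haveILetI false
set_option linter.unusedSectionVars false

universe u

open TensorProduct Function

namespace Groth.Agent.Helper21.MCPF

open Groth.Agent.Helper21.CPF

set_option maxHeartbeats 3200000 in
set_option synthInstance.maxHeartbeats 400000 in
/-- **Critère de platitude par fibres for modules**, finitely presented case: `R → B → C` with `B`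
and `C` of finite presentation over `R`, `M` a finitely presented `C`-module, `Q` a prime of `C`
over `𝔭 ⊆ R`. If `M_Q` is flat over `R` and `M_Q/𝔭M_Q` is flat over `B/𝔭B`, then `M_Q` is flat
over `B`. -/
theorem cpf_fp_mod {R B C : Type u} [CommRing R] [CommRing B] [CommRing C] [Algebra R B]
    [Algebra B C] [Algebra R C] [IsScalarTower R B C]
    [Algebra.FinitePresentation R B] [Algebra.FinitePresentation R C]
    {M : Type u} [AddCommGroup M] [Module C M] [Module B M] [IsScalarTower B C M] [Module R M]
    [IsScalarTower R C M] [Module.FinitePresentation C M]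
    (Q : Ideal C) [Q.IsPrime] [Module.Flat R (LocalizedModule Q.primeCompl M)]
    (𝔭 : Ideal R) [𝔭.IsPrime] (h𝔭 : 𝔭 = Q.comap (algebraMap R C))
    [Module.Flat (B ⧸ 𝔭.map (algebraMap R B))
      ((B ⧸ 𝔭.map (algebraMap R B)) ⊗[B] LocalizedModule Q.primeCompl M)] :
    Module.Flat B (LocalizedModule Q.primeCompl M) := by
  classical
  haveI : Algebra.FinitePresentation B C :=
    Algebra.FinitePresentation.of_restrict_scalars_finitePresentation R B C
  let PB := Algebra.Presentation.ofFinitePresentation R B
  let PC := Algebra.Presentation.ofFinitePresentation B C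
  obtain ⟨n, m, f, g, hf, hfg⟩ := Module.FinitePresentation.exists_fin' C M
  -- polynomials over `B` representing the entries of the presentation matrix
  have hv : ∀ (k : Fin m) (l : Fin n), ∃ v : MvPolynomial _ B,
      MvPolynomial.aeval PC.val v = g (Pi.single k 1) l := fun k l => by
    obtain ⟨v, hv⟩ := PC.algebraMap_surjective (g (Pi.single k 1) l)
    exact ⟨v, by rw [← hv, Algebra.Generators.algebraMap_apply]⟩
  choose v hv using hv
  -- the elements of `B` to be lifted
  let SB : Set B := PC.coeffs ∪ ⋃ k, ⋃ l, ((v k l).coeffs : Set B)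
  have hSBfin : SB.Finite := Set.Finite.union PC.finite_coeffs
    (Set.finite_iUnion fun k => Set.finite_iUnion fun l => Finset.finite_toSet _)
  have hsurj : ∀ b : SB, ∃ w : MvPolynomial _ R, MvPolynomial.aeval PB.val w = (b : B) :=
    fun b => by
      obtain ⟨w, hw⟩ := PB.algebraMap_surjective (b : B)
      exact ⟨w, by rw [← hw, Algebra.Generators.algebraMap_apply]⟩
  choose w hw using hsurj
  haveI : Finite SB := hSBfin.to_subtype
  let s : Set R := PB.coeffs ∪ ⋃ b : SB, ((w b).coeffs : Set R)
  have hsfin : s.Finite :=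
    Set.Finite.union PB.finite_coeffs (Set.finite_iUnion fun b => Finset.finite_toSet _)
  let A : Subalgebra ℤ R := Algebra.adjoin ℤ s
  haveI : PB.HasCoeffs A := ⟨fun x hx => ⟨⟨x, Algebra.subset_adjoin (Or.inl hx)⟩, rfl⟩⟩
  haveI : Algebra.FiniteType ℤ A := Algebra.FiniteType.adjoin_of_finite hsfin
  let B₁ := PB.ModelOfHasCoeffs A
  letI : Algebra B₁ B := FS.modelAlgebra PB A
  haveI : IsScalarTower A B₁ B := FS.model_isScalarTower PB A
  haveI : Algebra.IsPushout A R B₁ B := FS.model_isPushout PB A
  have hw' : ∀ b, ∃ w' : MvPolynomial _ A, MvPolynomial.map (algebraMap A R) w' = w b := by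
    intro b
    have : w b ∈ Set.range (MvPolynomial.map (algebraMap A R)) := by
      rw [MvPolynomial.mem_range_map_iff_coeffs_subset]
      intro x hx
      exact ⟨⟨x, Algebra.subset_adjoin (Or.inr (Set.mem_iUnion.mpr ⟨b, hx⟩))⟩, rfl⟩
    exact this
  choose w' hw' using hw'
  have hb₁ : ∀ b : SB, algebraMap B₁ B (Ideal.Quotient.mk _ (w' b)) = (b : B) := by
    intro b
    have h1 := hw b
    rw [← hw' b, MvPolynomial.aeval_map_algebraMap] at h1
    rw [FS.modelAlgebra_mk]
    exact h1
  letI : Algebra B₁ C := ((algebraMap B C).comp (algebraMap B₁ B)).toAlgebra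
  haveI : IsScalarTower B₁ B C := IsScalarTower.of_algebraMap_eq fun _ => rfl
  haveI : PC.HasCoeffs B₁ := ⟨fun x hx => ⟨Ideal.Quotient.mk _ (w' ⟨x, Or.inl hx⟩),
    hb₁ ⟨x, Or.inl hx⟩⟩⟩
  let C₁ := PC.ModelOfHasCoeffs B₁
  letI : Algebra C₁ C := FS.modelAlgebra PC B₁
  haveI : IsScalarTower B₁ C₁ C := FS.model_isScalarTower PC B₁
  haveI poBC : Algebra.IsPushout B₁ B C₁ C := FS.model_isPushout PC B₁
  haveI : IsScalarTower A B₁ C₁ := inferInstance
  haveI tABC : IsScalarTower A B C :=
    IsScalarTower.of_algebraMap_eq (R := A) (S := B) (A := C) fun a => by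
      rw [IsScalarTower.algebraMap_apply A R C, IsScalarTower.algebraMap_apply R B C,
        ← IsScalarTower.algebraMap_apply A R B]
  haveI tAB₁C : IsScalarTower A B₁ C :=
    IsScalarTower.of_algebraMap_eq (R := A) (S := B₁) (A := C) fun a => by
      have e1 := IsScalarTower.algebraMap_apply A B C a
      have e2 := IsScalarTower.algebraMap_apply A B₁ B a
      rw [e1, e2]
      rfl
  haveI tAC₁C : IsScalarTower A C₁ C :=
    IsScalarTower.of_algebraMap_eq (R := A) (S := C₁) (A := C) fun a => by
      have e1 := IsScalarTower.algebraMap_apply A B₁ C a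
      have e2 := IsScalarTower.algebraMap_apply A B₁ C₁ a
      have e3 := IsScalarTower.algebraMap_apply B₁ C₁ C (algebraMap A B₁ a)
      rw [e1, e2, e3]
  haveI po1 : Algebra.IsPushout A B₁ R B := Algebra.IsPushout.symm inferInstance
  have po2 : Algebra.IsPushout A C₁ R C :=
    (Algebra.IsPushout.comp_iff A B₁ R (T := C₁) (S' := B) (T' := C)).mpr poBC.symm
  haveI po3 : Algebra.IsPushout A R C₁ C := po2.symm
  haveI : Algebra.FiniteType A C₁ :=
    Algebra.FiniteType.trans (inferInstance : Algebra.FiniteType A B₁) inferInstance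
  -- the model of the module
  have hv' : ∀ k l, ∃ v' : MvPolynomial _ B₁, MvPolynomial.map (algebraMap B₁ B) v' = v k l := by
    intro k l
    have : v k l ∈ Set.range (MvPolynomial.map (algebraMap B₁ B)) := by
      rw [MvPolynomial.mem_range_map_iff_coeffs_subset]
      intro x hx
      have hxS : x ∈ SB := Or.inr (Set.mem_iUnion₂.mpr ⟨k, l, hx⟩)
      exact ⟨Ideal.Quotient.mk _ (w' ⟨x, hxS⟩), hb₁ ⟨x, hxS⟩⟩
    exact this
  choose v' hv' using hv'
  let c' : Fin m → Fin n → C₁ := fun k l => Ideal.Quotient.mk _ (v' k l)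
  letI : Module C₁ M := Module.compHom M (algebraMap C₁ C)
  haveI : IsScalarTower C₁ C M := IsScalarTower.of_algebraMap_smul fun _ _ => rfl
  have hc : ∀ k l, algebraMap C₁ C (c' k l) = g (Pi.single k 1) l := by
    intro k l
    rw [FS.modelAlgebra_mk, ← hv, ← hv', MvPolynomial.aeval_map_algebraMap]
  obtain ⟨h, hh⟩ := FS.exists_isBaseChange_cokerModel c' f g hf hfg hc
  haveI : Module.Finite C₁ (FS.CokerModel c') := Module.Finite.quotient C₁ _
  exact flat_of_model_mod A B₁ C₁ (M₁ := FS.CokerModel c') (M := M) (by exact h) (by exact hh) Q 𝔭 h𝔭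

end Groth.Agent.Helper21.MCPF
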