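import Mathlib
import Groth.Prelude.Def_FlatMod2
import Groth.Agent.Lib.Helper13.FlatOverAffine
import Groth.Agent.Lib.Helper13.FinPresAffine
import Groth.Agent.Lib.Helper21.FL9

/-!
# Flatness of a quasi-coherent module over the base at a point, in terms of sections (helper21)

* `isFlatOverAt_iff`: for affine opens `U ⊆ f⁻¹ V` and `x ∈ U`, `F` is `f`-flat at `x` iff the
  localization of `Γ(F, U)` at the prime of `x` is flat over `Γ(S, V)`.
* `isOpen_flatLocus_module`: the flat locus of a finitely presented quasi-coherent module with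
  respect to a morphism locally of finite presentation is open (EGA IV 11.3.1).
-/

set_option autoImplicit false
set_option linter.style.haveILetI false
set_option linter.unusedSectionVars false

open CategoryTheory AlgebraicGeometry Limits Opposite TopologicalSpace TensorProduct

universe u

namespace Groth.Agent.Helper21.ModFlat

open Groth.Agent.Helper13.QCoh Groth.Agent.Helper13.QCohLoc

variable {X S : Scheme.{u}} (f : X ⟶ S) (F : X.Modules) [F.IsQuasicoherent]
  {U : X.Opens} (hU : IsAffineOpen U) {V : S.Opens} (hV : IsAffineOpen V) (hUV : U ≤ f ⁻¹ᵁ V)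

include hU hV in
set_option maxHeartbeats 1600000 in
set_option synthInstance.maxHeartbeats 400000 in
theorem isFlatOverAt_iff [Algebra Γ(S, V) Γ(X, U)]
    (halg : algebraMap Γ(S, V) Γ(X, U) = (f.appLE V U hUV).hom)
    [Module Γ(S, V) Γ(F, U)] [IsScalarTower Γ(S, V) Γ(X, U) Γ(F, U)] (x : X) (hxU : x ∈ U) :
    FlatMod.IsFlatOverAt f F x ↔
      Module.Flat Γ(S, V)
        (LocalizedModule (hU.primeIdealOf ⟨x, hxU⟩).asIdeal.primeCompl Γ(F, U)) := by
  have hxV : f x ∈ V := hUV hxU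
  unfold FlatMod.IsFlatOverAt
  letI algBBp : Algebra Γ(X, U) (X.presheaf.stalk x) :=
    X.presheaf.algebra_section_stalk ⟨x, hxU⟩
  letI algAAq : Algebra Γ(S, V) (S.presheaf.stalk (f x)) :=
    S.presheaf.algebra_section_stalk ⟨f x, hxV⟩
  letI algAqBp : Algebra (S.presheaf.stalk (f x)) (X.presheaf.stalk x) :=
    (f.stalkMap x).hom.toAlgebra
  letI algABp : Algebra Γ(S, V) (X.presheaf.stalk x) :=
    ((algebraMap Γ(X, U) (X.presheaf.stalk x)).comp (algebraMap Γ(S, V) Γ(X, U))).toAlgebra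
  haveI : IsScalarTower Γ(S, V) Γ(X, U) (X.presheaf.stalk x) :=
    IsScalarTower.of_algebraMap_eq (fun _ => rfl)
  haveI : IsScalarTower Γ(S, V) (S.presheaf.stalk (f x)) (X.presheaf.stalk x) := by
    refine IsScalarTower.of_algebraMap_eq (fun r => ?_)
    change X.presheaf.germ U x hxU (algebraMap Γ(S, V) Γ(X, U) r) =
      f.stalkMap x (S.presheaf.germ V (f x) hxV r)
    rw [halg, Scheme.Hom.germ_stalkMap_apply, Scheme.Hom.appLE, CommRingCat.comp_apply,
      TopCat.Presheaf.germ_res_apply]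
  letI modBN' : Module Γ(X, U) (F.presheaf.stalk x) := modStalk F (⟨x, hxU⟩ : U)
  haveI : IsScalarTower Γ(X, U) (X.presheaf.stalk x) (F.presheaf.stalk x) :=
    isScalarTower_stalk F (⟨x, hxU⟩ : U)
  letI modAqN' : Module (S.presheaf.stalk (f x)) (F.presheaf.stalk x) :=
    Module.compHom (F.presheaf.stalk x) (f.stalkMap x).hom
  haveI : IsScalarTower (S.presheaf.stalk (f x)) (X.presheaf.stalk x) (F.presheaf.stalk x) :=
    IsScalarTower.of_algebraMap_smul (fun _ _ => rfl)
  letI modAN' : Module Γ(S, V) (F.presheaf.stalk x) :=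
    Module.compHom (F.presheaf.stalk x) (algebraMap Γ(S, V) (X.presheaf.stalk x))
  haveI : IsScalarTower Γ(S, V) (X.presheaf.stalk x) (F.presheaf.stalk x) :=
    IsScalarTower.of_algebraMap_smul (fun _ _ => rfl)
  haveI : IsScalarTower Γ(S, V) (S.presheaf.stalk (f x)) (F.presheaf.stalk x) := by
    refine IsScalarTower.of_algebraMap_smul (fun r m => ?_)
    change (f.stalkMap x).hom (algebraMap Γ(S, V) (S.presheaf.stalk (f x)) r) • m =
      algebraMap Γ(S, V) (X.presheaf.stalk x) r • m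
    rw [IsScalarTower.algebraMap_apply Γ(S, V) (S.presheaf.stalk (f x)) (X.presheaf.stalk x)]
    rfl
  haveI : IsScalarTower Γ(S, V) Γ(X, U) (F.presheaf.stalk x) := by
    refine IsScalarTower.of_algebraMap_smul (fun r m => ?_)
    change algebraMap Γ(X, U) (X.presheaf.stalk x) (algebraMap Γ(S, V) Γ(X, U) r) • m =
      algebraMap Γ(S, V) (X.presheaf.stalk x) r • m
    rfl
  haveI h2 := isLocalizedModule_germ F hU (⟨x, hxU⟩ : U)
  haveI h3 : IsLocalization.AtPrime (S.presheaf.stalk (f x))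
      (hV.primeIdealOf (⟨f x, hxV⟩ : V)).asIdeal := hV.isLocalization_stalk ⟨f x, hxV⟩
  let e : LocalizedModule (hU.primeIdealOf ⟨x, hxU⟩).asIdeal.primeCompl Γ(F, U) ≃ₗ[Γ(X, U)]
      F.presheaf.stalk x :=
    IsLocalizedModule.iso (hU.primeIdealOf ⟨x, hxU⟩).asIdeal.primeCompl
      (germLin F (⟨x, hxU⟩ : U))
  rw [Module.flat_iff_of_isLocalization (S.presheaf.stalk (f x))
    (hV.primeIdealOf (⟨f x, hxV⟩ : V)).asIdeal.primeCompl (F.presheaf.stalk x)]
  exact (Module.Flat.equiv_iff (e.restrictScalars Γ(S, V))).symm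

/-- **Openness of the flat locus of a module** (EGA IV 11.3.1). -/
theorem isOpen_flatLocus_module {X Y : Scheme.{u}} (f : X ⟶ Y) [LocallyOfFinitePresentation f]
    (F : X.Modules) [F.IsQuasicoherent]
    [hF : SheafOfModules.IsFinitePresentation (R := X.ringCatSheaf) F] :
    IsOpen {x : X | FlatMod.IsFlatOverAt f F x} := by
  rw [isOpen_iff_forall_mem_open]
  intro x hx
  obtain ⟨W, hW, hfx, _⟩ := TopologicalSpace.Opens.isBasis_iff_nbhd.mp Y.isBasis_affineOpens
    (TopologicalSpace.Opens.mem_top <| f x)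
  obtain ⟨V, hV, hxV, e⟩ := TopologicalSpace.Opens.isBasis_iff_nbhd.mp X.isBasis_affineOpens
    (show x ∈ f ⁻¹ᵁ W from hfx)
  have hφ : (f.appLE W V e).hom.FinitePresentation :=
    HasRingHomProperty.appLE @LocallyOfFinitePresentation f inferInstance ⟨W, hW⟩ ⟨V, hV⟩ e
  algebraize [(f.appLE W V e).hom]
  letI : Module Γ(Y, W) Γ(F, V) := Module.compHom Γ(F, V) (f.appLE W V e).hom
  haveI : IsScalarTower Γ(Y, W) Γ(X, V) Γ(F, V) :=
    IsScalarTower.of_algebraMap_smul (fun _ _ => rfl)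
  haveI : Module.FinitePresentation Γ(X, V) Γ(F, V) :=
    Groth.Agent.Helper13.LocFree.finitePresentation_sections_of_isFinitePresentation F hV
  have hopen := FL.isOpen_flatLocus (R := Γ(Y, W)) (S := Γ(X, V)) (M := Γ(F, V))
  have key : ∀ (y : X) (hy : y ∈ V), FlatMod.IsFlatOverAt f F y ↔
      Module.Flat Γ(Y, W)
        (LocalizedModule (IsAffineOpen.primeIdealOf hV ⟨y, hy⟩).asIdeal.primeCompl Γ(F, V)) :=
    fun y hy => isFlatOverAt_iff f F hV hW e rfl y hy
  refine ⟨(Scheme.Opens.ι V) '' ((IsAffineOpen.isoSpec hV).hom ⁻¹'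
    {q : PrimeSpectrum Γ(X, V) | Module.Flat Γ(Y, W)
      (LocalizedModule q.asIdeal.primeCompl Γ(F, V))}), ?_, ?_, ?_⟩
  · rintro _ ⟨y', hy', rfl⟩
    exact (key _ y'.2).mpr hy'
  · exact (Scheme.Opens.ι V).isOpenEmbedding.isOpenMap _
      (hopen.preimage (IsAffineOpen.isoSpec hV).hom.continuous)
  · exact ⟨⟨x, hxV⟩, (key x hxV).mp hx, rfl⟩

end Groth.Agent.Helper21.ModFlat
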