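import Mathlib
import Groth.Agent.Lib.Helper21.MCPF6
import Groth.Agent.Lib.Helper21.ModFlat1

/-!
# Critère de platitude par fibres for modules, part 7: stalks (helper21)

* `flat_quotient_stalk_iff`: flatness of `X/IX` over `L/I`, for `L` a localization of `B` and
  `I = JL`, is flatness of `(B/J) ⊗_B X` over `B/J`.
* `flat_stalk_of_fibre`: if `F` is `f`-flat at `x` and `F_x/𝔪_s F_x` is flat over
  `O_{X,x}/𝔪_s O_{X,x}`, then `F_x` is flat over `O_{X,x}` (`f` locally of finite presentation,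
  `F` quasi-coherent of finite presentation).
-/

set_option autoImplicit false
set_option linter.style.haveILetI false
set_option linter.unusedSectionVars false

universe u

open TensorProduct Function

namespace Groth.Agent.Helper21.MCPF

/-- For a localization `L` of `B`, an ideal `J` of `B` and an `L`-module `X`: `X/JX` is flat over
`L/JL` iff `(B/J) ⊗_B X` is flat over `B/J`. -/
theorem flat_quotient_stalk_iff {B L X : Type u} [CommRing B] [CommRing L] [Algebra B L]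
    (T : Submonoid B) [IsLocalization T L] (J : Ideal B) (I : Ideal L)
    (hI : I = J.map (algebraMap B L))
    [AddCommGroup X] [Module L X] [Module B X] [IsScalarTower B L X] :
    Module.Flat (L ⧸ I) (X ⧸ (I • (⊤ : Submodule L X))) ↔
      Module.Flat (B ⧸ J) ((B ⧸ J) ⊗[B] X) := by
  subst hI
  let e₁ : (L ⧸ J.map (algebraMap B L)) ⊗[L] X ≃ₗ[L ⧸ J.map (algebraMap B L)]
      X ⧸ (J.map (algebraMap B L) • (⊤ : Submodule L X)) :=
    (TensorProduct.quotTensorEquivQuotSMul X (J.map (algebraMap B L))).extendScalarsOfSurjective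
      Ideal.Quotient.mk_surjective
  haveI : Algebra.IsPushout B (B ⧸ J) L (L ⧸ J.map (algebraMap B L)) := CPF.isPushout_quotient J
  let e₂ : (L ⧸ J.map (algebraMap B L)) ⊗[L] X ≃ₗ[B ⧸ J] (B ⧸ J) ⊗[B] X :=
    Algebra.IsPushout.cancelBaseChange B (B ⧸ J) L (L ⧸ J.map (algebraMap B L)) X
  have h1 : Module.Flat (L ⧸ J.map (algebraMap B L)) ((L ⧸ J.map (algebraMap B L)) ⊗[L] X) ↔
      Module.Flat (B ⧸ J) ((L ⧸ J.map (algebraMap B L)) ⊗[L] X) :=
    Module.flat_iff_of_isLocalization (L ⧸ J.map (algebraMap B L))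
      (Algebra.algebraMapSubmonoid (B ⧸ J) T) _
  constructor
  · intro h
    haveI : Module.Flat (L ⧸ J.map (algebraMap B L)) ((L ⧸ J.map (algebraMap B L)) ⊗[L] X) :=
      Module.Flat.of_linearEquiv e₁
    haveI := h1.mp inferInstance
    exact Module.Flat.of_linearEquiv e₂.symm
  · intro h
    haveI : Module.Flat (B ⧸ J) ((L ⧸ J.map (algebraMap B L)) ⊗[L] X) :=
      Module.Flat.of_linearEquiv e₂
    haveI := h1.mpr inferInstance
    exact Module.Flat.of_linearEquiv e₁.symm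

open CategoryTheory AlgebraicGeometry Limits Opposite TopologicalSpace

open Groth.Agent.Helper13.QCoh Groth.Agent.Helper13.QCohLoc

set_option maxHeartbeats 3200000 in
set_option synthInstance.maxHeartbeats 400000 in
/-- If `F` is `f`-flat at `x` and the fibre `F_x/𝔪_s F_x` is flat over the local ring of the
fibre `O_{X,x}/𝔪_s O_{X,x}`, then `F_x` is flat over `O_{X,x}`. -/
theorem flat_stalk_of_fibre {X S : Scheme.{u}} (f : X ⟶ S) [LocallyOfFinitePresentation f]
    (F : X.Modules) [F.IsQuasicoherent]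
    [SheafOfModules.IsFinitePresentation (R := X.ringCatSheaf) F] (x : X)
    (h1 : FlatMod.IsFlatOverAt f F x)
    (h2 : Module.Flat (↑(X.presheaf.stalk x) ⧸ Ideal.map (f.stalkMap x).hom
        (IsLocalRing.maximalIdeal ↑(S.presheaf.stalk (f x))))
      (↑(F.presheaf.stalk x) ⧸ (Ideal.map (f.stalkMap x).hom
        (IsLocalRing.maximalIdeal ↑(S.presheaf.stalk (f x))) •
          (⊤ : Submodule ↑(X.presheaf.stalk x) ↑(F.presheaf.stalk x))))) :
    Module.Flat (X.presheaf.stalk x) (F.presheaf.stalk x) := by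
  obtain ⟨V, hV, hfx, _⟩ := TopologicalSpace.Opens.isBasis_iff_nbhd.mp S.isBasis_affineOpens
    (TopologicalSpace.Opens.mem_top <| f x)
  obtain ⟨U, hU, hxU, hUV⟩ := TopologicalSpace.Opens.isBasis_iff_nbhd.mp X.isBasis_affineOpens
    (show x ∈ f ⁻¹ᵁ V from hfx)
  have hφ : (f.appLE V U hUV).hom.FinitePresentation :=
    HasRingHomProperty.appLE @LocallyOfFinitePresentation f inferInstance ⟨V, hV⟩ ⟨U, hU⟩ hUV
  algebraize [(f.appLE V U hUV).hom]
  have halg : algebraMap Γ(S, V) Γ(X, U) = (f.appLE V U hUV).hom := rfl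
  letI : Module Γ(S, V) Γ(F, U) := Module.compHom Γ(F, U) (f.appLE V U hUV).hom
  haveI : IsScalarTower Γ(S, V) Γ(X, U) Γ(F, U) :=
    IsScalarTower.of_algebraMap_smul (fun _ _ => rfl)
  haveI : Module.FinitePresentation Γ(X, U) Γ(F, U) :=
    Groth.Agent.Helper13.LocFree.finitePresentation_sections_of_isFinitePresentation F hU
  have hxV : f x ∈ V := hUV hxU
  haveI hQp : (hU.primeIdealOf ⟨x, hxU⟩).asIdeal.IsPrime := (hU.primeIdealOf ⟨x, hxU⟩).isPrime
  haveI hR : Module.Flat Γ(S, V)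
      (LocalizedModule (hU.primeIdealOf ⟨x, hxU⟩).asIdeal.primeCompl Γ(F, U)) :=
    (ModFlat.isFlatOverAt_iff f F hU hV hUV halg x hxU).mp h1
  -- stalk structures
  letI algBBp : Algebra Γ(X, U) (X.presheaf.stalk x) :=
    X.presheaf.algebra_section_stalk ⟨x, hxU⟩
  letI algAAq : Algebra Γ(S, V) (S.presheaf.stalk (f x)) :=
    S.presheaf.algebra_section_stalk ⟨f x, hxV⟩
  letI modBN' : Module Γ(X, U) (F.presheaf.stalk x) := modStalk F (⟨x, hxU⟩ : U)
  haveI : IsScalarTower Γ(X, U) (X.presheaf.stalk x) (F.presheaf.stalk x) :=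
    isScalarTower_stalk F (⟨x, hxU⟩ : U)
  haveI h2' := isLocalizedModule_germ F hU (⟨x, hxU⟩ : U)
  haveI h3 : IsLocalization.AtPrime (X.presheaf.stalk x) (hU.primeIdealOf ⟨x, hxU⟩).asIdeal :=
    hU.isLocalization_stalk ⟨x, hxU⟩
  haveI h3' : IsLocalization.AtPrime (S.presheaf.stalk (f x))
      (hV.primeIdealOf (⟨f x, hxV⟩ : V)).asIdeal := hV.isLocalization_stalk ⟨f x, hxV⟩
  let e : LocalizedModule (hU.primeIdealOf ⟨x, hxU⟩).asIdeal.primeCompl Γ(F, U) ≃ₗ[Γ(X, U)]
      F.presheaf.stalk x :=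
    IsLocalizedModule.iso (hU.primeIdealOf ⟨x, hxU⟩).asIdeal.primeCompl
      (germLin F (⟨x, hxU⟩ : U))
  -- the prime of the base
  have h𝔭 : (hU.primeIdealOf ⟨x, hxU⟩).asIdeal.comap (algebraMap Γ(S, V) Γ(X, U)) =
      (hV.primeIdealOf (⟨f x, hxV⟩ : V)).asIdeal :=
    congr($(IsAffineOpen.comap_primeIdealOf_appLE V hV U hU hUV hxU).1)
  haveI : ((hU.primeIdealOf ⟨x, hxU⟩).asIdeal.comap (algebraMap Γ(S, V) Γ(X, U))).IsPrime :=
    Ideal.comap_isPrime _ _
  have hhom : (f.stalkMap x).hom.comp (algebraMap Γ(S, V) (S.presheaf.stalk (f x))) =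
      (algebraMap Γ(X, U) (X.presheaf.stalk x)).comp (algebraMap Γ(S, V) Γ(X, U)) := by
    ext r
    change f.stalkMap x (S.presheaf.germ V (f x) hxV r) =
      X.presheaf.germ U x hxU (algebraMap Γ(S, V) Γ(X, U) r)
    rw [halg, Scheme.Hom.germ_stalkMap_apply, Scheme.Hom.appLE, CommRingCat.comp_apply,
      TopCat.Presheaf.germ_res_apply]
  have hI : Ideal.map (f.stalkMap x).hom (IsLocalRing.maximalIdeal (S.presheaf.stalk (f x))) =
      (((hU.primeIdealOf ⟨x, hxU⟩).asIdeal.comap (algebraMap Γ(S, V) Γ(X, U))).map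
        (algebraMap Γ(S, V) Γ(X, U))).map (algebraMap Γ(X, U) (X.presheaf.stalk x)) := by
    rw [← IsLocalization.AtPrime.map_eq_maximalIdeal (hV.primeIdealOf ⟨f x, hxV⟩).asIdeal
      (S.presheaf.stalk (f x)), ← h𝔭, Ideal.map_map, Ideal.map_map, hhom]
  -- the fibre condition
  haveI hfib : Module.Flat
      (Γ(X, U) ⧸ ((hU.primeIdealOf ⟨x, hxU⟩).asIdeal.comap (algebraMap Γ(S, V) Γ(X, U))).map
        (algebraMap Γ(S, V) Γ(X, U)))
      ((Γ(X, U) ⧸ ((hU.primeIdealOf ⟨x, hxU⟩).asIdeal.comap (algebraMap Γ(S, V) Γ(X, U))).map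
        (algebraMap Γ(S, V) Γ(X, U))) ⊗[Γ(X, U)]
        LocalizedModule (hU.primeIdealOf ⟨x, hxU⟩).asIdeal.primeCompl Γ(F, U)) := by
    haveI h4 := (flat_quotient_stalk_iff (hU.primeIdealOf ⟨x, hxU⟩).asIdeal.primeCompl
      (((hU.primeIdealOf ⟨x, hxU⟩).asIdeal.comap (algebraMap Γ(S, V) Γ(X, U))).map
        (algebraMap Γ(S, V) Γ(X, U))) _ hI (X := F.presheaf.stalk x)).mp h2
    exact Module.Flat.of_linearEquiv (AlgebraTensorModule.congr (LinearEquiv.refl _ _) e)
  have hC : Module.Flat Γ(X, U)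
      (LocalizedModule (hU.primeIdealOf ⟨x, hxU⟩).asIdeal.primeCompl Γ(F, U)) :=
    cpf_fp_mod (R := Γ(S, V)) (B := Γ(X, U)) (C := Γ(X, U)) (M := Γ(F, U))
      (hU.primeIdealOf ⟨x, hxU⟩).asIdeal
      ((hU.primeIdealOf ⟨x, hxU⟩).asIdeal.comap (algebraMap Γ(S, V) Γ(X, U))) rfl
  haveI := hC
  haveI : Module.Flat Γ(X, U) (F.presheaf.stalk x) := Module.Flat.of_linearEquiv e.symm
  exact (Module.flat_iff_of_isLocalization (X.presheaf.stalk x)
    (hU.primeIdealOf ⟨x, hxU⟩).asIdeal.primeCompl (F.presheaf.stalk x)).mpr inferInstance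

end Groth.Agent.Helper21.MCPF
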