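import Mathlib
import Groth.Agent.Lib.Helper21.MCPF7
import Groth.Agent.Lib.Helper21.Slice2

/-!
# Slicing a flat module by a fibrewise regular element (helper21)

* `flat_polynomial_field_of_regular`, `fibre_flat_mod`: flatness of the fibre module over the
  polynomial ring.
* `slice_mod`: `R → C` of finite presentation, `M` a finitely presented `C`-module, `N = M_Q` flat
  over `R`, `h₀ ∈ Q` regular on `N/𝔭N`; then `h₀` is regular on `N` and `N/h₀N` is flat over `R`
  (EGA IV 11.3.8 for modules).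
-/

set_option autoImplicit false
set_option linter.style.haveILetI false
set_option linter.unusedSectionVars false

universe u

open TensorProduct Function Polynomial Pointwise

namespace Groth.Agent.Helper21.MCPF

/-- A module over a local ring `Λ` receiving a field `K`, on which a nonunit `h` is regular, is
flat over `K[X]` (with `X` acting as `h`). -/
theorem flat_polynomial_field_of_regular {K Λ F : Type u} [Field K] [CommRing Λ] [IsLocalRing Λ]
    [AddCommGroup F] [Module Λ F] (ψ₁ : K →+* Λ) (h : Λ) (hh : ¬ IsUnit h)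
    (hreg : IsSMulRegular F h) [Module K[X] F]
    (hsm : ∀ (P : K[X]) (x : F), P • x = (Polynomial.eval₂ ψ₁ h P) • x) :
    Module.Flat K[X] F := by
  rw [Module.Flat.flat_iff_torsion_eq_bot_of_isBezout, eq_bot_iff]
  intro e he
  obtain ⟨⟨P, hP⟩, hPe⟩ := (Submodule.mem_torsion_iff e).mp he
  have hP0 : P ≠ 0 := nonZeroDivisors.ne_zero hP
  have hPe' : (Polynomial.eval₂ ψ₁ h P) • e = 0 := by
    rw [← hsm]
    exact hPe
  obtain ⟨q, hq1, hq2⟩ := Polynomial.exists_eq_pow_rootMultiplicity_mul_and_not_dvd P hP0 0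
  simp only [map_zero, sub_zero] at hq1 hq2
  have hq0 : q.coeff 0 ≠ 0 := fun h => hq2 (Polynomial.X_dvd_iff.mpr h)
  have hψq : IsUnit (Polynomial.eval₂ ψ₁ h q) := by
    have h1 : Polynomial.eval₂ ψ₁ h q =
        Polynomial.eval₂ ψ₁ h q.divX * h + ψ₁ (q.coeff 0) := by
      conv_lhs => rw [← Polynomial.divX_mul_X_add q]
      rw [Polynomial.eval₂_add, Polynomial.eval₂_mul, Polynomial.eval₂_X, Polynomial.eval₂_C]
    have h2 : IsUnit (ψ₁ (q.coeff 0)) := (isUnit_iff_ne_zero.mpr hq0).map ψ₁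
    have h3 : IsUnit (Polynomial.eval₂ ψ₁ h q + -(Polynomial.eval₂ ψ₁ h q.divX * h)) := by
      rw [h1]
      simpa using h2
    rcases IsLocalRing.isUnit_or_isUnit_of_isUnit_add h3 with h' | h'
    · exact h'
    · exfalso
      rw [IsUnit.neg_iff] at h'
      exact hh (isUnit_of_mul_isUnit_right h')
  rw [hq1, Polynomial.eval₂_mul, Polynomial.eval₂_pow, Polynomial.eval₂_X, mul_smul] at hPe'
  have h6 : Polynomial.eval₂ ψ₁ h q • e = 0 := by
    apply hreg.pow (Polynomial.rootMultiplicity 0 P)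
    change h ^ _ • (Polynomial.eval₂ ψ₁ h q • e) = h ^ _ • (0 : F)
    rw [smul_zero]
    exact hPe'
  exact (Submodule.mem_bot _).mpr (hψq.smul_eq_zero.mp h6)

set_option maxHeartbeats 1600000 in
set_option synthInstance.maxHeartbeats 400000 in
/-- Flatness of a fibre module over `R[X]/𝔭R[X]`. -/
theorem fibre_flat_mod {R Λ F : Type u} [CommRing R] (𝔭 : Ideal R) [𝔭.IsPrime] [CommRing Λ]
    [IsLocalRing Λ] [AddCommGroup F] [Module Λ F] (θ : R →+* Λ)
    (hθ0 : ∀ r ∈ 𝔭, θ r = 0) (hθu : ∀ r, r ∉ 𝔭 → IsUnit (θ r)) (h : Λ) (hh : ¬ IsUnit h)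
    (hreg : IsSMulRegular F h) (J : Ideal R[X]) (hJ : J = 𝔭.map (Polynomial.C : R →+* R[X]))
    [Module (R[X] ⧸ J) F]
    (hsm : ∀ (b : R[X]) (x : F),
      (Ideal.Quotient.mk J b) • x = (Polynomial.eval₂ θ h b) • x) :
    Module.Flat (R[X] ⧸ J) F := by
  classical
  subst hJ
  let ψ₀ : R ⧸ 𝔭 →+* Λ := Ideal.Quotient.lift 𝔭 θ hθ0
  have hunit : ∀ y : nonZeroDivisors (R ⧸ 𝔭), IsUnit (ψ₀ y) := by
    rintro ⟨y, hy⟩
    obtain ⟨r, rfl⟩ := Ideal.Quotient.mk_surjective y
    have hr : r ∉ 𝔭 := fun hr =>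
      nonZeroDivisors.ne_zero hy (Ideal.Quotient.eq_zero_iff_mem.mpr hr)
    exact hθu r hr
  let ψ₁ : FractionRing (R ⧸ 𝔭) →+* Λ := IsLocalization.lift hunit
  have hψ₁ : ∀ y : R ⧸ 𝔭, ψ₁ (algebraMap (R ⧸ 𝔭) (FractionRing (R ⧸ 𝔭)) y) = ψ₀ y := fun y =>
    IsLocalization.lift_eq hunit y
  let ψ : (FractionRing (R ⧸ 𝔭))[X] →+* Λ := Polynomial.eval₂RingHom ψ₁ h
  have hψX : ψ X = h := Polynomial.eval₂_X _ _
  have hψC : ∀ a, ψ (Polynomial.C a) = ψ₁ a := fun a => Polynomial.eval₂_C _ _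
  letI mK : Module (FractionRing (R ⧸ 𝔭))[X] F := Module.compHom F ψ
  haveI hKflat : Module.Flat (FractionRing (R ⧸ 𝔭))[X] F :=
    flat_polynomial_field_of_regular ψ₁ h hh hreg (fun _ _ => rfl)
  let e := Ideal.polynomialQuotientEquivQuotientPolynomial 𝔭
  let φL : R[X] ⧸ 𝔭.map (Polynomial.C : R →+* R[X]) →+* (FractionRing (R ⧸ 𝔭))[X] :=
    (Polynomial.mapRingHom (algebraMap (R ⧸ 𝔭) (FractionRing (R ⧸ 𝔭)))).comp e.symm.toRingHom
  have hφL : φL.Flat :=
    RingHom.Flat.comp (RingHom.Flat.of_bijective e.symm.bijective)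
      (Slice.flat_mapRingHom_fractionRing (R ⧸ 𝔭))
  have key : ∀ b : R[X], ψ (φL (Ideal.Quotient.mk _ b)) = Polynomial.eval₂ θ h b := by
    have key' : (ψ.comp φL).comp (Ideal.Quotient.mk _) = Polynomial.eval₂RingHom θ h := by
      apply Polynomial.ringHom_ext
      · intro r
        have e1 : e.symm (Ideal.Quotient.mk _ (Polynomial.C r)) =
            Polynomial.C (Ideal.Quotient.mk 𝔭 r) := by
          rw [Ideal.polynomialQuotientEquivQuotientPolynomial_symm_mk, Polynomial.map_C]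
        change ψ (Polynomial.mapRingHom _ (e.symm (Ideal.Quotient.mk _ (Polynomial.C r)))) =
          Polynomial.eval₂ θ h (Polynomial.C r)
        rw [e1, Polynomial.coe_mapRingHom, Polynomial.map_C, hψC, hψ₁, Polynomial.eval₂_C]
        rfl
      · have e1 : e.symm (Ideal.Quotient.mk _ (X : R[X])) = X := by
          rw [Ideal.polynomialQuotientEquivQuotientPolynomial_symm_mk, Polynomial.map_X]
        change ψ (Polynomial.mapRingHom _ (e.symm (Ideal.Quotient.mk _ (X : R[X])))) =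
          Polynomial.eval₂ θ h X
        rw [e1, Polynomial.coe_mapRingHom, Polynomial.map_X, hψX, Polynomial.eval₂_X]
    exact fun b => RingHom.congr_fun key' b
  letI aDK : Algebra (R[X] ⧸ 𝔭.map (Polynomial.C : R →+* R[X])) (FractionRing (R ⧸ 𝔭))[X] :=
    φL.toAlgebra
  haveI : Module.Flat (R[X] ⧸ 𝔭.map (Polynomial.C : R →+* R[X])) (FractionRing (R ⧸ 𝔭))[X] :=
    hφL
  haveI : IsScalarTower (R[X] ⧸ 𝔭.map (Polynomial.C : R →+* R[X]))
      (FractionRing (R ⧸ 𝔭))[X] F :=
    IsScalarTower.of_algebraMap_smul fun d x => by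
      obtain ⟨b, rfl⟩ := Ideal.Quotient.mk_surjective d
      change ψ (φL (Ideal.Quotient.mk _ b)) • x = _
      rw [hsm, key]
  exact Module.Flat.trans _ (FractionRing (R ⧸ 𝔭))[X] F

section Slice

variable {R C : Type u} [CommRing R] [CommRing C] [Algebra R C] [Algebra.FinitePresentation R C]
  (Q : Ideal C) [Q.IsPrime]
  {LX : Type u} [CommRing LX] [Algebra C LX] [IsLocalization.AtPrime LX Q] [Algebra R LX]
  [IsScalarTower R C LX]
  {M : Type u} [AddCommGroup M] [Module C M] [Module R M] [IsScalarTower R C M]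
  [Module.FinitePresentation C M]
  {N : Type u} [AddCommGroup N] [Module LX N] [Module C N] [IsScalarTower C LX N] [Module R N]
  [IsScalarTower R C N] [IsScalarTower R LX N]
  (f : M →ₗ[C] N) [IsLocalizedModule Q.primeCompl f]

include f in
set_option maxHeartbeats 6400000 in
set_option synthInstance.maxHeartbeats 400000 in
/-- **Slicing a flat module by a fibrewise regular element.** -/
theorem slice_mod [Module.Flat R N] (h₀ : C) (hQ : h₀ ∈ Q)
    (hreg : ∀ n : N,
      h₀ • n ∈ ((Q.comap (algebraMap R C)).map (algebraMap R LX)) • (⊤ : Submodule LX N) →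
      n ∈ ((Q.comap (algebraMap R C)).map (algebraMap R LX)) • (⊤ : Submodule LX N)) :
    IsSMulRegular N (algebraMap C LX h₀) ∧
      Module.Flat R (QuotSMulTop (algebraMap C LX h₀) N) := by
  classical
  -- polynomial structures
  letI aBC : Algebra R[X] C := (Polynomial.aeval h₀ : R[X] →ₐ[R] C).toRingHom.toAlgebra
  haveI tRBC : IsScalarTower R R[X] C := IsScalarTower.of_algebraMap_eq fun r => by
    change algebraMap R C r = Polynomial.aeval h₀ (Polynomial.C r)
    rw [Polynomial.aeval_C]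
  have hX : algebraMap R[X] C X = h₀ := Polynomial.aeval_X h₀
  letI aBLX : Algebra R[X] LX := ((algebraMap C LX).comp (algebraMap R[X] C)).toAlgebra
  haveI tBCLX : IsScalarTower R[X] C LX := IsScalarTower.of_algebraMap_eq fun _ => rfl
  haveI tRBLX : IsScalarTower R R[X] LX := IsScalarTower.of_algebraMap_eq fun r => by
    change algebraMap R LX r = algebraMap C LX (algebraMap R[X] C (algebraMap R R[X] r))
    rw [← IsScalarTower.algebraMap_apply R R[X] C, ← IsScalarTower.algebraMap_apply R C LX]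
  letI mBM : Module R[X] M := Module.compHom M (algebraMap R[X] C)
  haveI tBCM : IsScalarTower R[X] C M := IsScalarTower.of_algebraMap_smul fun _ _ => rfl
  letI mBN : Module R[X] N := Module.compHom N (algebraMap R[X] C)
  haveI tBCN : IsScalarTower R[X] C N := IsScalarTower.of_algebraMap_smul fun _ _ => rfl
  haveI tBLN : IsScalarTower R[X] LX N := IsScalarTower.of_algebraMap_smul fun b n => by
    rw [IsScalarTower.algebraMap_apply R[X] C LX, algebraMap_smul, algebraMap_smul]
  haveI tRBN : IsScalarTower R R[X] N := IsScalarTower.of_algebraMap_smul fun r n => by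
    rw [← algebraMap_smul C (algebraMap R R[X] r) n, ← IsScalarTower.algebraMap_apply R R[X] C,
      algebraMap_smul]
  haveI hpp : ((Ideal.comap (algebraMap R C) Q)).IsPrime := Ideal.comap_isPrime _ _
  have hI : (Ideal.map (algebraMap R[X] LX) ((Ideal.map (algebraMap R R[X]) ((Ideal.comap (algebraMap R C) Q))))) = ((Ideal.comap (algebraMap R C) Q)).map (algebraMap R LX) := by
    rw [Ideal.map_map, ← IsScalarTower.algebraMap_eq]
  rw [← hI] at hreg
  -- the local ring of the fibre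
  haveI : IsLocalRing LX := IsLocalization.AtPrime.isLocalRing LX Q
  have hmemQ : ∀ c : C, algebraMap C LX c ∈ IsLocalRing.maximalIdeal LX ↔ c ∈ Q := fun c =>
    IsLocalization.AtPrime.to_map_mem_maximal_iff LX Q c
  have hIle : (Ideal.map (algebraMap R[X] LX) ((Ideal.map (algebraMap R R[X]) ((Ideal.comap (algebraMap R C) Q))))) ≤ IsLocalRing.maximalIdeal LX := by
    rw [hI, Ideal.map_le_iff_le_comap]
    intro r hr
    rw [Ideal.mem_comap, IsScalarTower.algebraMap_apply R C LX, hmemQ]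
    exact hr
  haveI : Nontrivial (LX ⧸ (Ideal.map (algebraMap R[X] LX) ((Ideal.map (algebraMap R R[X]) ((Ideal.comap (algebraMap R C) Q)))))) :=
    Ideal.Quotient.nontrivial_iff.mpr (fun h =>
      (IsLocalRing.maximalIdeal.isMaximal LX).ne_top (top_le_iff.mp (h ▸ hIle)))
  haveI : IsLocalRing (LX ⧸ (Ideal.map (algebraMap R[X] LX) ((Ideal.map (algebraMap R R[X]) ((Ideal.comap (algebraMap R C) Q)))))) :=
    IsLocalRing.of_surjective' (Ideal.Quotient.mk (Ideal.map (algebraMap R[X] LX) ((Ideal.map (algebraMap R R[X]) ((Ideal.comap (algebraMap R C) Q)))))) Ideal.Quotient.mk_surjective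
  let θ : R →+* LX ⧸ (Ideal.map (algebraMap R[X] LX) ((Ideal.map (algebraMap R R[X]) ((Ideal.comap (algebraMap R C) Q))))) := (Ideal.Quotient.mk (Ideal.map (algebraMap R[X] LX) ((Ideal.map (algebraMap R R[X]) ((Ideal.comap (algebraMap R C) Q)))))).comp (algebraMap R LX)
  have hθ0 : ∀ r ∈ (Ideal.comap (algebraMap R C) Q), θ r = 0 := fun r hr =>
    Ideal.Quotient.eq_zero_iff_mem.mpr (by rw [hI]; exact Ideal.mem_map_of_mem _ hr)
  have hθu : ∀ r, r ∉ (Ideal.comap (algebraMap R C) Q) → IsUnit (θ r) := by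
    intro r hr
    have hrQ : algebraMap R C r ∉ Q := fun h => hr h
    have h1 : IsUnit (algebraMap C LX (algebraMap R C r)) :=
      IsLocalization.map_units LX (⟨algebraMap R C r, hrQ⟩ : Q.primeCompl)
    change IsUnit (Ideal.Quotient.mk (Ideal.map (algebraMap R[X] LX) ((Ideal.map (algebraMap R R[X]) ((Ideal.comap (algebraMap R C) Q))))) (algebraMap R LX r))
    rw [IsScalarTower.algebraMap_apply R C LX]
    exact h1.map _
  let h : LX ⧸ (Ideal.map (algebraMap R[X] LX) ((Ideal.map (algebraMap R R[X]) ((Ideal.comap (algebraMap R C) Q))))) := Ideal.Quotient.mk (Ideal.map (algebraMap R[X] LX) ((Ideal.map (algebraMap R R[X]) ((Ideal.comap (algebraMap R C) Q))))) (algebraMap C LX h₀)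
  have hh : ¬ IsUnit h := by
    intro hu
    obtain ⟨b, hb⟩ := hu.exists_right_inv
    obtain ⟨b', rfl⟩ := Ideal.Quotient.mk_surjective b
    have h2 : algebraMap C LX h₀ * b' - 1 ∈ (Ideal.map (algebraMap R[X] LX) ((Ideal.map (algebraMap R R[X]) ((Ideal.comap (algebraMap R C) Q))))) := by
      rw [← Ideal.Quotient.eq_zero_iff_mem, map_sub, map_mul, map_one]
      exact sub_eq_zero.mpr hb
    have h3 : algebraMap C LX h₀ ∈ IsLocalRing.maximalIdeal LX := (hmemQ h₀).mpr hQ
    have h4 : algebraMap C LX h₀ * b' ∈ IsLocalRing.maximalIdeal LX :=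
      Ideal.mul_mem_right _ _ h3
    have h5 : (1 : LX) ∈ IsLocalRing.maximalIdeal LX := by
      have := Ideal.sub_mem _ h4 (hIle h2)
      simpa using this
    exact (IsLocalRing.maximalIdeal.isMaximal LX).ne_top ((Ideal.eq_top_iff_one _).mpr h5)
  -- regularity on the fibre module
  have hregF : IsSMulRegular ((LX ⧸ (Ideal.map (algebraMap R[X] LX) ((Ideal.map (algebraMap R R[X]) ((Ideal.comap (algebraMap R C) Q)))))) ⊗[LX] N) h := by
    let e₁ : (LX ⧸ (Ideal.map (algebraMap R[X] LX) ((Ideal.map (algebraMap R R[X]) ((Ideal.comap (algebraMap R C) Q)))))) ⊗[LX] N ≃ₗ[LX] N ⧸ ((Ideal.map (algebraMap R[X] LX) ((Ideal.map (algebraMap R R[X]) ((Ideal.comap (algebraMap R C) Q))))) • (⊤ : Submodule LX N)) :=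
      TensorProduct.quotTensorEquivQuotSMul N (Ideal.map (algebraMap R[X] LX) ((Ideal.map (algebraMap R R[X]) ((Ideal.comap (algebraMap R C) Q)))))
    have hk : ∀ z : (LX ⧸ (Ideal.map (algebraMap R[X] LX) ((Ideal.map (algebraMap R R[X]) ((Ideal.comap (algebraMap R C) Q)))))) ⊗[LX] N, h • z = 0 → z = 0 := by
      intro z hz
      obtain ⟨n, hn⟩ := Submodule.Quotient.mk_surjective _ (e₁ z)
      have h1 : e₁ (h • z) = Submodule.Quotient.mk (h₀ • n) := by
        have h0 : h • z = (algebraMap C LX h₀) • z := by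
          rw [← algebraMap_smul (LX ⧸ (Ideal.map (algebraMap R[X] LX) ((Ideal.map (algebraMap R R[X]) ((Ideal.comap (algebraMap R C) Q)))))) (algebraMap C LX h₀) z]
          rfl
        rw [h0, map_smul, ← hn, ← Submodule.Quotient.mk_smul, algebraMap_smul]
      rw [hz, map_zero] at h1
      have h2 : h₀ • n ∈ (Ideal.map (algebraMap R[X] LX) ((Ideal.map (algebraMap R R[X]) ((Ideal.comap (algebraMap R C) Q))))) • (⊤ : Submodule LX N) :=
        (Submodule.Quotient.mk_eq_zero _).mp h1.symm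
      have h3 := hreg n h2
      have h4 : e₁ z = 0 := by
        rw [← hn]
        exact (Submodule.Quotient.mk_eq_zero _).mpr h3
      exact e₁.map_eq_zero_iff.mp h4
    intro z₁ z₂ hz
    have hz' : h • z₁ = h • z₂ := hz
    have hz0 : h • (z₁ - z₂) = 0 := by
      rw [smul_sub]
      exact sub_eq_zero.mpr hz'
    exact sub_eq_zero.mp (hk _ hz0)
  -- the fibre condition
  have hΦ : ∀ b : R[X], Polynomial.eval₂ θ h b =
      Ideal.Quotient.mk (Ideal.map (algebraMap R[X] LX) ((Ideal.map (algebraMap R R[X]) ((Ideal.comap (algebraMap R C) Q))))) (algebraMap R[X] LX b) := by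
    have : Polynomial.eval₂RingHom θ h = (Ideal.Quotient.mk (Ideal.map (algebraMap R[X] LX) ((Ideal.map (algebraMap R R[X]) ((Ideal.comap (algebraMap R C) Q)))))).comp (algebraMap R[X] LX) := by
      apply Polynomial.ringHom_ext
      · intro r
        change Polynomial.eval₂ θ h (Polynomial.C r) =
          Ideal.Quotient.mk (Ideal.map (algebraMap R[X] LX) ((Ideal.map (algebraMap R R[X]) ((Ideal.comap (algebraMap R C) Q))))) (algebraMap R[X] LX (algebraMap R R[X] r))
        rw [Polynomial.eval₂_C, ← IsScalarTower.algebraMap_apply R R[X] LX]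
        rfl
      · change Polynomial.eval₂ θ h X = Ideal.Quotient.mk (Ideal.map (algebraMap R[X] LX) ((Ideal.map (algebraMap R R[X]) ((Ideal.comap (algebraMap R C) Q))))) (algebraMap R[X] LX X)
        rw [Polynomial.eval₂_X, IsScalarTower.algebraMap_apply R[X] C LX, hX]
    exact fun b => RingHom.congr_fun this b
  have hsm : ∀ (b : R[X]) (x : (LX ⧸ (Ideal.map (algebraMap R[X] LX) ((Ideal.map (algebraMap R R[X]) ((Ideal.comap (algebraMap R C) Q)))))) ⊗[LX] N),
      (Ideal.Quotient.mk (Ideal.map (algebraMap R R[X]) ((Ideal.comap (algebraMap R C) Q))) b) • x = (Polynomial.eval₂ θ h b) • x := by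
    intro b x
    rw [hΦ, ← algebraMap_smul (LX ⧸ (Ideal.map (algebraMap R[X] LX) ((Ideal.map (algebraMap R R[X]) ((Ideal.comap (algebraMap R C) Q)))))) (Ideal.Quotient.mk (Ideal.map (algebraMap R R[X]) ((Ideal.comap (algebraMap R C) Q))) b) x]
    rfl
  haveI hDF : Module.Flat (R[X] ⧸ (Ideal.map (algebraMap R R[X]) ((Ideal.comap (algebraMap R C) Q)))) ((LX ⧸ (Ideal.map (algebraMap R[X] LX) ((Ideal.map (algebraMap R R[X]) ((Ideal.comap (algebraMap R C) Q)))))) ⊗[LX] N) :=
    fibre_flat_mod ((Ideal.comap (algebraMap R C) Q)) θ hθ0 hθu h hh hregF (Ideal.map (algebraMap R R[X]) ((Ideal.comap (algebraMap R C) Q))) rfl hsm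
  haveI : Algebra.IsPushout R[X] (R[X] ⧸ (Ideal.map (algebraMap R R[X]) ((Ideal.comap (algebraMap R C) Q)))) LX (LX ⧸ (Ideal.map (algebraMap R[X] LX) ((Ideal.map (algebraMap R R[X]) ((Ideal.comap (algebraMap R C) Q)))))) := CPF.isPushout_quotient (Ideal.map (algebraMap R R[X]) ((Ideal.comap (algebraMap R C) Q)))
  let e₂ : (LX ⧸ (Ideal.map (algebraMap R[X] LX) ((Ideal.map (algebraMap R R[X]) ((Ideal.comap (algebraMap R C) Q)))))) ⊗[LX] N ≃ₗ[R[X] ⧸ (Ideal.map (algebraMap R R[X]) ((Ideal.comap (algebraMap R C) Q)))] (R[X] ⧸ (Ideal.map (algebraMap R R[X]) ((Ideal.comap (algebraMap R C) Q)))) ⊗[R[X]] N :=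
    Algebra.IsPushout.cancelBaseChange R[X] (R[X] ⧸ (Ideal.map (algebraMap R R[X]) ((Ideal.comap (algebraMap R C) Q)))) LX (LX ⧸ (Ideal.map (algebraMap R[X] LX) ((Ideal.map (algebraMap R R[X]) ((Ideal.comap (algebraMap R C) Q)))))) N
  haveI hfibN : Module.Flat (R[X] ⧸ (Ideal.map (algebraMap R R[X]) ((Ideal.comap (algebraMap R C) Q)))) ((R[X] ⧸ (Ideal.map (algebraMap R R[X]) ((Ideal.comap (algebraMap R C) Q)))) ⊗[R[X]] N) := Module.Flat.of_linearEquiv e₂.symm
  -- transport to the localized module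
  let e : LocalizedModule Q.primeCompl M ≃ₗ[C] N := IsLocalizedModule.iso Q.primeCompl f
  haveI hRloc : Module.Flat R (LocalizedModule Q.primeCompl M) :=
    Module.Flat.of_linearEquiv (e.restrictScalars R)
  haveI hfibloc : Module.Flat (R[X] ⧸ (Ideal.map (algebraMap R R[X]) ((Ideal.comap (algebraMap R C) Q)))) ((R[X] ⧸ (Ideal.map (algebraMap R R[X]) ((Ideal.comap (algebraMap R C) Q)))) ⊗[R[X]] LocalizedModule Q.primeCompl M) :=
    Module.Flat.of_linearEquiv
      (AlgebraTensorModule.congr (LinearEquiv.refl (R[X] ⧸ (Ideal.map (algebraMap R R[X]) ((Ideal.comap (algebraMap R C) Q)))) (R[X] ⧸ (Ideal.map (algebraMap R R[X]) ((Ideal.comap (algebraMap R C) Q))))) (e.restrictScalars R[X]))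
  have hBloc : Module.Flat R[X] (LocalizedModule Q.primeCompl M) :=
    cpf_fp_mod (R := R) (B := R[X]) (C := C) (M := M) Q ((Ideal.comap (algebraMap R C) Q)) rfl
  haveI := hBloc
  haveI hBN : Module.Flat R[X] N := Module.Flat.of_linearEquiv (e.restrictScalars R[X]).symm
  -- regularity
  have hXreg : IsSMulRegular N (X : R[X]) :=
    Module.Flat.isSMulRegular_of_nonZeroDivisors Polynomial.X_mem_nonzeroDivisors
  have hsmX : ∀ n : N, (X : R[X]) • n = (algebraMap C LX h₀) • n := fun n => by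
    rw [← algebraMap_smul C (X : R[X]) n, hX, algebraMap_smul]
  have hreg₀ : IsSMulRegular N (algebraMap C LX h₀) := by
    intro n₁ n₂ hn
    apply hXreg
    change (X : R[X]) • n₁ = (X : R[X]) • n₂
    rw [hsmX, hsmX]
    exact hn
  -- the quotient
  let e₃ : (R[X] ⧸ Ideal.span {(X : R[X])}) ⊗[R[X]] N ≃ₗ[R[X] ⧸ Ideal.span {(X : R[X])}]
      N ⧸ ((Ideal.span {(X : R[X])}) • (⊤ : Submodule R[X] N)) :=
    (TensorProduct.quotTensorEquivQuotSMul N (Ideal.span {(X : R[X])})).extendScalarsOfSurjective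
      Ideal.Quotient.mk_surjective
  haveI hflat₁ : Module.Flat (R[X] ⧸ Ideal.span {(X : R[X])}) (N ⧸ ((Ideal.span {(X : R[X])}) • (⊤ : Submodule R[X] N))) :=
    Module.Flat.of_linearEquiv e₃.symm
  have hbij : Function.Bijective (algebraMap R (R[X] ⧸ Ideal.span {(X : R[X])})) :=
    Slice.bijective_quotient_X R
  haveI hRD : Module.Flat R (R[X] ⧸ Ideal.span {(X : R[X])}) :=
    RingHom.flat_algebraMap_iff.mp (RingHom.Flat.of_bijective hbij)
  haveI : IsScalarTower R (R[X] ⧸ Ideal.span {(X : R[X])}) (N ⧸ ((Ideal.span {(X : R[X])}) • (⊤ : Submodule R[X] N))) :=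
    IsScalarTower.of_algebraMap_smul (R := R) (A := R[X] ⧸ Ideal.span {(X : R[X])})
      (M := N ⧸ ((Ideal.span {(X : R[X])}) • (⊤ : Submodule R[X] N))) fun r y => by
      obtain ⟨n, rfl⟩ := Submodule.Quotient.mk_surjective ((Ideal.span {(X : R[X])}) • (⊤ : Submodule R[X] N)) y
      change (Ideal.Quotient.mk (Ideal.span {(X : R[X])}) (algebraMap R R[X] r)) •
        (Submodule.Quotient.mk n : N ⧸ ((Ideal.span {(X : R[X])}) • (⊤ : Submodule R[X] N))) = r • (Submodule.Quotient.mk n : N ⧸ ((Ideal.span {(X : R[X])}) • (⊤ : Submodule R[X] N)))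
      rw [Module.Quotient.mk_smul_mk, algebraMap_smul, Submodule.Quotient.mk_smul]
  haveI hRP₁ : Module.Flat R (N ⧸ ((Ideal.span {(X : R[X])}) • (⊤ : Submodule R[X] N))) :=
    Module.Flat.trans R (R[X] ⧸ Ideal.span {(X : R[X])}) (N ⧸ ((Ideal.span {(X : R[X])}) • (⊤ : Submodule R[X] N)))
  have hEq : ((Ideal.span {(X : R[X])}) • (⊤ : Submodule R[X] N)).restrictScalars R =
      ((algebraMap C LX h₀) • (⊤ : Submodule LX N)).restrictScalars R := by
    ext n
    rw [Submodule.restrictScalars_mem, Submodule.restrictScalars_mem,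
      Submodule.ideal_span_singleton_smul, Submodule.mem_smul_pointwise_iff_exists,
      Submodule.mem_smul_pointwise_iff_exists]
    constructor
    · rintro ⟨m, -, rfl⟩
      exact ⟨m, trivial, (hsmX m).symm⟩
    · rintro ⟨m, -, rfl⟩
      exact ⟨m, trivial, hsmX m⟩
  let e₄ : (N ⧸ ((Ideal.span {(X : R[X])}) • (⊤ : Submodule R[X] N))) ≃ₗ[R] QuotSMulTop (algebraMap C LX h₀) N :=
    (Submodule.Quotient.restrictScalarsEquiv R ((Ideal.span {(X : R[X])}) • (⊤ : Submodule R[X] N))).symm ≪≫ₗ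
      Submodule.quotEquivOfEq _ _ hEq ≪≫ₗ
        Submodule.Quotient.restrictScalarsEquiv R ((algebraMap C LX h₀) • (⊤ : Submodule LX N))
  exact ⟨hreg₀, Module.Flat.of_linearEquiv e₄.symm⟩

end Slice

end Groth.Agent.Helper21.MCPF
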