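import Mathlib
import Groth.Agent.Lib.Helper21.MCPF10
import Groth.Agent.Lib.Helper21.FlatRegSeq2

/-!
# Regular sequences on the fibre of a flat module (helper21)

* `mem_smul_top_of_tmul_one_eq_zero`: for a flat module `N` over `R` and a prime `𝔭`, the kernel
  of `N → N ⊗ κ(𝔭)` is `𝔭N`.
* `regular_of_fibre`: EGA IV 11.3.8 for modules (regular sequences): a sequence in `Q` which is
  regular on the fibre of `N = M_Q` is regular on `N`, with flat quotient.
-/

set_option autoImplicit false
set_option linter.style.haveILetI false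
set_option linter.unusedSectionVars false

universe u

open TensorProduct Function Pointwise RingTheory.Sequence

namespace Groth.Agent.Helper21.MCPF

/-- For a flat `R`-module `N`, the kernel of `N → N ⊗ κ(𝔭)` is `𝔭N`. -/
theorem mem_smul_top_of_tmul_one_eq_zero {R N : Type u} [CommRing R] (𝔭 : Ideal R) [𝔭.IsPrime]
    [AddCommGroup N] [Module R N] [Module.Flat R N] (n : N)
    (hn : n ⊗ₜ[R] (1 : 𝔭.ResidueField) = 0) : n ∈ 𝔭 • (⊤ : Submodule R N) := by
  let j : (R ⧸ 𝔭) →ₗ[R] 𝔭.ResidueField :=
    (IsScalarTower.toAlgHom R (R ⧸ 𝔭) 𝔭.ResidueField).toLinearMap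
  have hj : Function.Injective j := Ideal.injective_algebraMap_quotient_residueField 𝔭
  have hinj : Function.Injective (j.lTensor N) :=
    Module.Flat.lTensor_preserves_injective_linearMap j hj
  have hj1 : j (Ideal.Quotient.mk 𝔭 1) = 1 := by
    rw [map_one]
    exact map_one (IsScalarTower.toAlgHom R (R ⧸ 𝔭) 𝔭.ResidueField)
  have h1 : j.lTensor N (n ⊗ₜ[R] (Ideal.Quotient.mk 𝔭 1)) = 0 := by
    rw [LinearMap.lTensor_tmul, hj1]
    exact hn
  have h2 : n ⊗ₜ[R] (Ideal.Quotient.mk 𝔭 1) = 0 := hinj (by rw [h1, map_zero])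
  have h3 := congrArg (TensorProduct.tensorQuotEquivQuotSMul N 𝔭) h2
  rw [map_zero, TensorProduct.tensorQuotEquivQuotSMul_tmul_mk, one_smul] at h3
  exact (Submodule.Quotient.mk_eq_zero _).mp h3

section RegSeq

variable {R C : Type u} [CommRing R] [CommRing C] [Algebra R C] [Algebra.FinitePresentation R C]
  (Q : Ideal C) [Q.IsPrime]
  {LX : Type u} [CommRing LX] [Algebra C LX] [IsLocalization.AtPrime LX Q] [Algebra R LX]
  [IsScalarTower R C LX]

/-- The kernel of `N → N ⊗_R κ(𝔭)` for an `LX`-module `N` flat over `R`, in terms of `LX`. -/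
theorem mem_map_smul_top_of_tmul_one_eq_zero
    {N : Type u} [AddCommGroup N] [Module LX N] [Module R N] [IsScalarTower R LX N]
    [Module.Flat R N] (n : N)
    (hn : n ⊗ₜ[R] (1 : (Ideal.comap (algebraMap R C) Q).ResidueField) = 0) :
    n ∈ ((Ideal.comap (algebraMap R C) Q).map (algebraMap R LX)) • (⊤ : Submodule LX N) := by
  have h1 := mem_smul_top_of_tmul_one_eq_zero (Ideal.comap (algebraMap R C) Q) n hn
  have h2 : (((Ideal.comap (algebraMap R C) Q).map (algebraMap R LX)) • (⊤ : Submodule LX N)).restrictScalars R =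
      (Ideal.comap (algebraMap R C) Q) • (⊤ : Submodule R N) := by
    rw [Ideal.smul_restrictScalars, Submodule.restrictScalars_top]
  rw [← h2] at h1
  exact h1

/-- Elements of `𝔭N` die in `N ⊗_R κ(𝔭)`. -/
theorem tmul_one_eq_zero_of_mem
    {N : Type u} [AddCommGroup N] [Module LX N] [Module R N] [IsScalarTower R LX N] (n : N)
    (hn : n ∈ ((Ideal.comap (algebraMap R C) Q).map (algebraMap R LX)) • (⊤ : Submodule LX N)) :
    n ⊗ₜ[R] (1 : (Ideal.comap (algebraMap R C) Q).ResidueField) = 0 := by
  have h2 : (((Ideal.comap (algebraMap R C) Q).map (algebraMap R LX)) • (⊤ : Submodule LX N)).restrictScalars R =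
      (Ideal.comap (algebraMap R C) Q) • (⊤ : Submodule R N) := by
    rw [Ideal.smul_restrictScalars, Submodule.restrictScalars_top]
  have h1 : n ∈ (Ideal.comap (algebraMap R C) Q) • (⊤ : Submodule R N) := by
    rw [← h2]
    exact hn
  refine Submodule.smul_induction_on h1 (fun r hr x _ => ?_) (fun x y hx hy => ?_)
  · rw [TensorProduct.smul_tmul, Algebra.smul_def, mul_one,
      Ideal.algebraMap_residueField_eq_zero.mpr hr, TensorProduct.tmul_zero]
  · rw [TensorProduct.add_tmul, hx, hy, add_zero]

set_option maxHeartbeats 6400000 in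
set_option synthInstance.maxHeartbeats 400000 in
/-- **Regular sequences on the fibre lift** (EGA IV 11.3.8 for modules). -/
theorem regular_of_fibre : ∀ (g : List C), (∀ b ∈ g, b ∈ Q) →
    ∀ {M : Type u} [AddCommGroup M] [Module C M] [Module R M] [IsScalarTower R C M]
      [Module.FinitePresentation C M]
      {N : Type u} [AddCommGroup N] [Module LX N] [Module C N] [IsScalarTower C LX N] [Module R N]
      [IsScalarTower R C N] [IsScalarTower R LX N] (f : M →ₗ[C] N)
      [IsLocalizedModule Q.primeCompl f] [Module.Flat R N],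
      IsWeaklyRegular (N ⊗[LX] (LX ⊗[R] (Ideal.comap (algebraMap R C) Q).ResidueField)) (g.map (algebraMap C LX)) →
      IsWeaklyRegular N (g.map (algebraMap C LX)) ∧
        Module.Flat R (N ⧸ (Ideal.ofList (g.map (algebraMap C LX)) • (⊤ : Submodule LX N))) := by
  intro g
  induction g with
  | nil =>
    intro _ M _ _ _ _ _ N _ _ _ _ _ _ _ f _ _ _
    refine ⟨IsWeaklyRegular.nil LX N, ?_⟩
    refine Groth.Agent.Helper21.FRS2.flat_quot_of_eq_bot (A := R) (B := LX) _ ?_
    rw [List.map_nil, Ideal.ofList_nil, Submodule.bot_smul]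
  | cons b g' ih =>
    intro hg M _ _ _ _ _ N _ _ _ _ _ _ _ f _ _ hfib
    have hb : b ∈ Q := hg b (List.mem_cons_self ..)
    have hg' : ∀ b' ∈ g', b' ∈ Q := fun b' hb' => hg b' (List.mem_cons_of_mem _ hb')
    rw [List.map_cons, isWeaklyRegular_cons_iff] at hfib
    obtain ⟨hfib1, hfib2⟩ := hfib
    -- Step A: the elementwise regularity on the fibre
    let α : N ⊗[LX] (LX ⊗[R] (Ideal.comap (algebraMap R C) Q).ResidueField) ≃ₗ[LX] N ⊗[R] (Ideal.comap (algebraMap R C) Q).ResidueField :=
      AlgebraTensorModule.cancelBaseChange R LX LX N (Ideal.comap (algebraMap R C) Q).ResidueField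
    have hfib1' : IsSMulRegular (N ⊗[R] (Ideal.comap (algebraMap R C) Q).ResidueField) (algebraMap C LX b) :=
      (α.isSMulRegular_congr (algebraMap C LX b)).mp hfib1
    have hreg : ∀ n : N,
        b • n ∈ ((Ideal.comap (algebraMap R C) Q).map (algebraMap R LX)) • (⊤ : Submodule LX N) →
        n ∈ ((Ideal.comap (algebraMap R C) Q).map (algebraMap R LX)) • (⊤ : Submodule LX N) := by
      intro n hn
      apply mem_map_smul_top_of_tmul_one_eq_zero Q
      apply hfib1'
      change (algebraMap C LX b) • (n ⊗ₜ[R] (1 : (Ideal.comap (algebraMap R C) Q).ResidueField)) =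
        (algebraMap C LX b) • (0 : N ⊗[R] (Ideal.comap (algebraMap R C) Q).ResidueField)
      rw [smul_zero, TensorProduct.smul_tmul', algebraMap_smul]
      exact tmul_one_eq_zero_of_mem Q (b • n) hn
    -- Step B: slicing
    obtain ⟨hreg₀, hflat'⟩ := slice_mod Q f b hb hreg
    -- Step C: the quotient modules
    haveI : Module.FinitePresentation C (QuotSMulTop b M) := by
      refine Module.finitePresentation_of_surjective (b • (⊤ : Submodule C M)).mkQ
        (Submodule.mkQ_surjective _) ?_
      rw [Submodule.ker_mkQ, Submodule.pointwise_smul_def]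
      exact Submodule.FG.map _ Module.Finite.fg_top
    have hloc : Submodule.localized' LX Q.primeCompl f (b • (⊤ : Submodule C M)) =
        (algebraMap C LX b) • (⊤ : Submodule LX N) := by
      rw [← Submodule.ideal_span_singleton_smul b ⊤, Submodule.localized'_smul,
        Ideal.localized'_eq_map, Submodule.localized'_top, Ideal.map_span, Set.image_singleton,
        Submodule.ideal_span_singleton_smul]
    let f' : QuotSMulTop b M →ₗ[C] QuotSMulTop (algebraMap C LX b) N :=
      ((Submodule.quotEquivOfEq _ _ hloc).restrictScalars C).toLinearMap ∘ₗ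
        Submodule.toLocalizedQuotient' LX Q.primeCompl f (b • (⊤ : Submodule C M))
    haveI : IsLocalizedModule Q.primeCompl f' :=
      IsLocalizedModule.of_linearEquiv Q.primeCompl
        (Submodule.toLocalizedQuotient' LX Q.primeCompl f (b • (⊤ : Submodule C M)))
        ((Submodule.quotEquivOfEq _ _ hloc).restrictScalars C)
    haveI := hflat'
    -- Step D: the induction hypothesis
    let β : QuotSMulTop (algebraMap C LX b) N ⊗[LX] (LX ⊗[R] (Ideal.comap (algebraMap R C) Q).ResidueField) ≃ₗ[LX]
        QuotSMulTop (algebraMap C LX b) (N ⊗[LX] (LX ⊗[R] (Ideal.comap (algebraMap R C) Q).ResidueField)) :=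
      QuotSMulTop.quotSMulTopTensorEquivQuotSMulTop (algebraMap C LX b)
        (LX ⊗[R] (Ideal.comap (algebraMap R C) Q).ResidueField) N
    have hfib2' : IsWeaklyRegular
        (QuotSMulTop (algebraMap C LX b) N ⊗[LX] (LX ⊗[R] (Ideal.comap (algebraMap R C) Q).ResidueField))
        (g'.map (algebraMap C LX)) :=
      (LinearEquiv.isWeaklyRegular_congr β _).mpr hfib2
    obtain ⟨ih1, ih2⟩ := ih hg' f' hfib2'
    -- Step E
    refine ⟨?_, ?_⟩
    · rw [List.map_cons, isWeaklyRegular_cons_iff]
      exact ⟨hreg₀, ih1⟩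
    · haveI := ih2
      rw [List.map_cons]
      exact Module.Flat.of_linearEquiv
        ((Submodule.quotOfListConsSMulTopEquivQuotSMulTopInner N (algebraMap C LX b)
          (g'.map (algebraMap C LX))).restrictScalars R)

end RegSeq

end Groth.Agent.Helper21.MCPF
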