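import Mathlib
import Groth.Agent.Lib.Helper21.MCPF11
import Groth.Agent.Lib.Helper14.FPDescend

/-!
# Essentially finitely presented local algebras: basic infrastructure (helper21)

* `atPrime_of_isLocalRing`: a local ring which is a localization of `C` is the localization of `C`
  at the contraction of its maximal ideal.
* `exists_fp_isLocalizedModule`: a finitely presented module over a localization `S⁻¹A` is the
  localization of a finitely presented `A`-module.
* `lTensor_injective_of_exact_flat`: an injective map with flat cokernel is universally injective.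
* `fiber_one_tmul_eq_zero_iff`: the kernel of `N → (κ(𝔭) ⊗ S) ⊗_S N` is `𝔭N` for `N` flat over `R`.
-/

set_option autoImplicit false
set_option linter.style.haveILetI false
set_option linter.unusedSectionVars false

universe u

open TensorProduct Function Pointwise

namespace Groth.Agent.Helper21.EssFP

/-- A local ring which is a localization of `C` is the localization of `C` at the contraction of
its maximal ideal. -/
theorem atPrime_of_isLocalRing {C S : Type*} [CommRing C] [CommRing S] [Algebra C S]
    (T : Submonoid C) [IsLocalization T S] [IsLocalRing S] (Q : Ideal C) [Q.IsPrime]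
    (hQ : Q = (IsLocalRing.maximalIdeal S).comap (algebraMap C S)) :
    IsLocalization.AtPrime S Q := by
  haveI : IsLocalization.AtPrime S (IsLocalRing.maximalIdeal S) :=
    IsLocalization.of_le_isUnit fun x hx =>
      (IsUnit.mem_submonoid_iff x).mpr (IsLocalRing.notMem_maximalIdeal.mp hx)
  subst hQ
  exact IsLocalization.isLocalization_isLocalization_atPrime_isLocalization T S
    (IsLocalRing.maximalIdeal S)

/-- A finitely presented module over a localization `S⁻¹A` is the localization of a finitely
presented `A`-module. -/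
theorem exists_fp_isLocalizedModule {A : Type u} [CommRing A] (S : Submonoid A) (R' : Type u)
    [CommRing R'] [Algebra A R'] [IsLocalization S R'] (M' : Type u) [AddCommGroup M']
    [Module R' M'] [Module A M'] [IsScalarTower A R' M'] [Module.FinitePresentation R' M'] :
    ∃ (M : Type u) (_ : AddCommGroup M) (_ : Module A M) (_ : Module.FinitePresentation A M)
      (f : M →ₗ[A] M'), IsLocalizedModule S f := by
  classical
  obtain ⟨n, K', e', hK'⟩ := Module.FinitePresentation.exists_fin R' M'
  obtain ⟨t, w, hw⟩ := Helper14.exists_span_locPi_eq S R' n hK'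
  let K₀ : Submodule A (Fin n → A) := Submodule.span A (Set.range w)
  have hfp : Module.FinitePresentation A ((Fin n → A) ⧸ K₀) := by
    refine Module.finitePresentation_of_surjective K₀.mkQ (Submodule.mkQ_surjective _) ?_
    rw [Submodule.ker_mkQ]
    exact Submodule.fg_span (Set.finite_range w)
  let ψ := K₀.toLocalizedQuotient' R' S (Helper14.locPi R' n)
  have hN : K₀.localized' R' S (Helper14.locPi R' n) = K' := by
    rw [Submodule.localized'_span, ← hw]
  let E : ((Fin n → R') ⧸ K₀.localized' R' S (Helper14.locPi R' n)) ≃ₗ[R'] M' :=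
    Submodule.quotEquivOfEq _ _ hN ≪≫ₗ e'.symm
  refine ⟨(Fin n → A) ⧸ K₀, inferInstance, inferInstance, hfp,
    (E.restrictScalars A).toLinearMap ∘ₗ ψ, ?_⟩
  exact IsLocalizedModule.of_linearEquiv S ψ (E.restrictScalars A)

/-- Auxiliary form of `lTensor_injective_of_exact_flat` with a chosen flat cover of `Q'`. -/
theorem lTensor_injective_aux {R : Type u} [CommRing R] {A B C F Q' : Type u}
    [AddCommGroup A] [AddCommGroup B] [AddCommGroup C] [AddCommGroup F] [AddCommGroup Q']
    [Module R A] [Module R B] [Module R C] [Module R F] [Module R Q']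
    (f : A →ₗ[R] B) (g : B →ₗ[R] C) (hf : Injective f) (hg : Surjective g)
    (hfg : Function.Exact f g) [Module.Flat R C] [Module.Flat R F]
    (π : F →ₗ[R] Q') (hπ : Surjective π) :
    Injective (f.lTensor Q') := by
  classical
  have hι : Injective (LinearMap.ker π).subtype := (LinearMap.ker π).subtype_injective
  have hιπ : Function.Exact (LinearMap.ker π).subtype π := LinearMap.exact_subtype_ker_map π
  rw [injective_iff_map_eq_zero]
  intro x hx
  obtain ⟨y, rfl⟩ := LinearMap.rTensor_surjective A hπ x
  have h2 : (π.rTensor B) ((f.lTensor F) y) = 0 := by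
    have : (π.rTensor B) ((f.lTensor F) y) = (f.lTensor Q') ((π.rTensor A) y) := by
      rw [← LinearMap.comp_apply, ← LinearMap.comp_apply, LinearMap.rTensor_comp_lTensor,
        LinearMap.lTensor_comp_rTensor]
    rw [this, hx]
  obtain ⟨z, hz⟩ := (rTensor_exact B hιπ hπ _).mp h2
  have h4 : ((LinearMap.ker π).subtype.rTensor C) ((g.lTensor (LinearMap.ker π)) z) = 0 := by
    have : ((LinearMap.ker π).subtype.rTensor C) ((g.lTensor (LinearMap.ker π)) z) =
        (g.lTensor F) (((LinearMap.ker π).subtype.rTensor B) z) := by
      rw [← LinearMap.comp_apply, ← LinearMap.comp_apply, LinearMap.rTensor_comp_lTensor,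
        LinearMap.lTensor_comp_rTensor]
    rw [this, hz, ← LinearMap.comp_apply, ← LinearMap.lTensor_comp,
      hfg.linearMap_comp_eq_zero, LinearMap.lTensor_zero, LinearMap.zero_apply]
  have h4' : (g.lTensor (LinearMap.ker π)) z = 0 :=
    (injective_iff_map_eq_zero _).mp
      (Module.Flat.rTensor_preserves_injective_linearMap (LinearMap.ker π).subtype hι) _ h4
  obtain ⟨w, hw⟩ := (lTensor_exact (LinearMap.ker π) hfg hg _).mp h4'
  have h6 : ((LinearMap.ker π).subtype.rTensor A) w = y := by
    apply Module.Flat.lTensor_preserves_injective_linearMap (M := F) f hf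
    have : (f.lTensor F) (((LinearMap.ker π).subtype.rTensor A) w) =
        ((LinearMap.ker π).subtype.rTensor B) ((f.lTensor (LinearMap.ker π)) w) := by
      rw [← LinearMap.comp_apply, ← LinearMap.comp_apply, LinearMap.lTensor_comp_rTensor,
        LinearMap.rTensor_comp_lTensor]
    rw [this, hw, hz]
  rw [← h6, ← LinearMap.comp_apply, ← LinearMap.rTensor_comp, hιπ.linearMap_comp_eq_zero,
    LinearMap.rTensor_zero, LinearMap.zero_apply]

/-- An injective linear map with flat cokernel is universally injective. -/
theorem lTensor_injective_of_exact_flat {R : Type u} [CommRing R] {A B C : Type u}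
    [AddCommGroup A] [AddCommGroup B] [AddCommGroup C] [Module R A] [Module R B] [Module R C]
    (f : A →ₗ[R] B) (g : B →ₗ[R] C) (hf : Injective f) (hg : Surjective g)
    (hfg : Function.Exact f g) [Module.Flat R C] (Q' : Type u) [AddCommGroup Q'] [Module R Q'] :
    Injective (f.lTensor Q') :=
  lTensor_injective_aux (F := Q' →₀ R) f g hf hg hfg (Finsupp.linearCombination R id)
    (Finsupp.linearCombination_id_surjective R Q')

/-- If `g ∘ f = id` then `Q' ⊗ f` is injective. -/
theorem lTensor_injective_of_leftInverse {R : Type*} [CommRing R] {A B : Type*}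
    [AddCommGroup A] [AddCommGroup B] [Module R A] [Module R B]
    (f : A →ₗ[R] B) (g : B →ₗ[R] A) (h : g ∘ₗ f = LinearMap.id) (Q' : Type*) [AddCommGroup Q']
    [Module R Q'] : Injective (f.lTensor Q') := by
  have : LeftInverse (g.lTensor Q') (f.lTensor Q') := fun x => by
    rw [← LinearMap.comp_apply, ← LinearMap.lTensor_comp, h, LinearMap.lTensor_id,
      LinearMap.id_apply]
  exact this.injective

/-- If `f ∘ g = id` then `Q' ⊗ f` is surjective. -/
theorem lTensor_surjective_of_rightInverse {R : Type*} [CommRing R] {A B : Type*}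
    [AddCommGroup A] [AddCommGroup B] [Module R A] [Module R B]
    (f : A →ₗ[R] B) (g : B →ₗ[R] A) (h : f ∘ₗ g = LinearMap.id) (Q' : Type*) [AddCommGroup Q']
    [Module R Q'] : Surjective (f.lTensor Q') := by
  have : RightInverse (g.lTensor Q') (f.lTensor Q') := fun x => by
    rw [← LinearMap.comp_apply, ← LinearMap.lTensor_comp, h, LinearMap.lTensor_id,
      LinearMap.id_apply]
  exact this.surjective

section Fiber

attribute [local instance] Algebra.TensorProduct.rightAlgebra

/-- For `N` an `S`-module flat over `R`, the kernel of `N → (κ(𝔭) ⊗_R S) ⊗_S N` is `𝔭N`. -/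
theorem fiber_one_tmul_eq_zero_iff {R S : Type u} [CommRing R] [CommRing S] [Algebra R S]
    (𝔭 : Ideal R) [𝔭.IsPrime] (N : Type u) [AddCommGroup N] [Module S N] [Module R N]
    [IsScalarTower R S N] [Module.Flat R N] (n : N) :
    ((1 : 𝔭.Fiber S) ⊗ₜ[S] n : (𝔭.Fiber S) ⊗[S] N) = 0 ↔
      n ∈ (𝔭.map (algebraMap R S)) • (⊤ : Submodule S N) := by
  let e := Algebra.IsPushout.cancelBaseChange R 𝔭.ResidueField S (𝔭.Fiber S) N
  have he : e ((1 : 𝔭.Fiber S) ⊗ₜ[S] n) = (1 : 𝔭.ResidueField) ⊗ₜ[R] n :=
    Algebra.IsPushout.cancelBaseChange_tmul R 𝔭.ResidueField S (𝔭.Fiber S) N n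
  have h2 : ((𝔭.map (algebraMap R S)) • (⊤ : Submodule S N)).restrictScalars R =
      𝔭 • (⊤ : Submodule R N) := by
    rw [Ideal.smul_restrictScalars, Submodule.restrictScalars_top]
  constructor
  · intro h
    have h1 : (1 : 𝔭.ResidueField) ⊗ₜ[R] n = 0 := by rw [← he, h, map_zero]
    have h3 : n ⊗ₜ[R] (1 : 𝔭.ResidueField) = 0 := by
      have := congrArg (TensorProduct.comm R 𝔭.ResidueField N) h1
      rwa [TensorProduct.comm_tmul, map_zero] at this
    have h4 := MCPF.mem_smul_top_of_tmul_one_eq_zero 𝔭 n h3
    rw [← h2] at h4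
    exact h4
  · intro h
    have h1 : n ∈ 𝔭 • (⊤ : Submodule R N) := by
      rw [← h2]
      exact h
    apply e.injective
    rw [he, map_zero]
    refine Submodule.smul_induction_on h1 (fun r hr x _ => ?_) (fun x y hx hy => ?_)
    · rw [← TensorProduct.smul_tmul, Algebra.smul_def, mul_one,
        Ideal.algebraMap_residueField_eq_zero.mpr hr, TensorProduct.zero_tmul]
    · rw [TensorProduct.tmul_add, hx, hy, add_zero]

end Fiber

end Groth.Agent.Helper21.EssFP
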