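import Mathlib
import Groth.Agent.Lib.Helper21.MCPF11

/-!
# EGA IV 11.3.8 for modules, in terms of localized modules (helper21)
-/

set_option autoImplicit false
set_option linter.style.haveILetI false
set_option linter.unusedSectionVars false

universe u

open TensorProduct Function Pointwise RingTheory.Sequence

namespace Groth.Agent.Helper21.MCPF

theorem subsingleton_tensor_of_left {R N K : Type*} [CommRing R] [AddCommGroup N] [Module R N]
    [AddCommGroup K] [Module R K] [Subsingleton N] : Subsingleton (N ⊗[R] K) := by
  refine ⟨fun x y => ?_⟩
  have h0 : ∀ z : N ⊗[R] K, z = 0 := fun z => by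
    induction z using TensorProduct.induction_on with
    | zero => rfl
    | tmul n k => rw [Subsingleton.elim n 0, TensorProduct.zero_tmul]
    | add a b ha hb => rw [ha, hb, add_zero]
  rw [h0 x, h0 y]

set_option maxHeartbeats 6400000 in
set_option synthInstance.maxHeartbeats 400000 in
/-- **EGA IV 11.3.8 for modules.** -/
theorem regular_flat_localizedModule {A B : Type u} [CommRing A] [CommRing B] [Algebra A B]
    [Algebra.FinitePresentation A B] (M : Type u) [AddCommGroup M] [Module B M] [Module A M]
    [IsScalarTower A B M]
    [Module.FinitePresentation B M] (q : Ideal B) [q.IsPrime] (g : List B) (hg : ∀ b ∈ g, b ∈ q)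
    (hflat : Module.Flat A (LocalizedModule q.primeCompl M))
    (hreg : RingTheory.Sequence.IsRegular
      (LocalizedModule q.primeCompl (M ⊗[A] (q.comap (algebraMap A B)).ResidueField)) g) :
    RingTheory.Sequence.IsRegular (LocalizedModule q.primeCompl M) g ∧
      ∀ i ≤ g.length, Module.Flat A
        (LocalizedModule q.primeCompl
          (M ⧸ (Ideal.span {b | b ∈ g.take i} • (⊤ : Submodule B M)))) := by
  classical
  haveI : IsScalarTower A B (Localization.AtPrime q) := IsScalarTower.of_algebraMap_eq' rfl
  haveI tALN : IsScalarTower A (Localization.AtPrime q) (LocalizedModule q.primeCompl M) := IsScalarTower.of_algebraMap_smul fun r n => by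
    rw [IsScalarTower.algebraMap_apply A B (Localization.AtPrime q), algebraMap_smul, algebraMap_smul]
  haveI := hflat
  let f : M →ₗ[B] (LocalizedModule q.primeCompl M) := LocalizedModule.mkLinearMap q.primeCompl M
  -- the fibre
  let ρ : LocalizedModule q.primeCompl (M ⊗[A] (Ideal.comap (algebraMap A B) q).ResidueField) ≃ₗ[B] (LocalizedModule q.primeCompl M) ⊗[A] (Ideal.comap (algebraMap A B) q).ResidueField :=
    IsLocalizedModule.iso q.primeCompl (AlgebraTensorModule.rTensor A (Ideal.comap (algebraMap A B) q).ResidueField f)
  have hw1 : IsWeaklyRegular ((LocalizedModule q.primeCompl M) ⊗[A] (Ideal.comap (algebraMap A B) q).ResidueField) g :=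
    (LinearEquiv.isWeaklyRegular_congr ρ g).mp hreg.toIsWeaklyRegular
  have hw2 : IsWeaklyRegular ((LocalizedModule q.primeCompl M) ⊗[A] (Ideal.comap (algebraMap A B) q).ResidueField) (g.map (algebraMap B (Localization.AtPrime q))) :=
    (isWeaklyRegular_map_algebraMap_iff (Localization.AtPrime q) ((LocalizedModule q.primeCompl M) ⊗[A] (Ideal.comap (algebraMap A B) q).ResidueField) g).mpr hw1
  let α : (LocalizedModule q.primeCompl M) ⊗[(Localization.AtPrime q)] ((Localization.AtPrime q) ⊗[A] (Ideal.comap (algebraMap A B) q).ResidueField) ≃ₗ[(Localization.AtPrime q)] (LocalizedModule q.primeCompl M) ⊗[A] (Ideal.comap (algebraMap A B) q).ResidueField :=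
    AlgebraTensorModule.cancelBaseChange A (Localization.AtPrime q) (Localization.AtPrime q) (LocalizedModule q.primeCompl M) (Ideal.comap (algebraMap A B) q).ResidueField
  have hw3 : IsWeaklyRegular ((LocalizedModule q.primeCompl M) ⊗[(Localization.AtPrime q)] ((Localization.AtPrime q) ⊗[A] (Ideal.comap (algebraMap A B) q).ResidueField)) (g.map (algebraMap B (Localization.AtPrime q))) :=
    (LinearEquiv.isWeaklyRegular_congr α _).mpr hw2
  -- prefixes
  have hpre : ∀ i, IsWeaklyRegular (LocalizedModule q.primeCompl M) ((g.take i).map (algebraMap B (Localization.AtPrime q))) ∧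
      Module.Flat A ((LocalizedModule q.primeCompl M) ⧸ (Ideal.ofList ((g.take i).map (algebraMap B (Localization.AtPrime q))) •
        (⊤ : Submodule (Localization.AtPrime q) (LocalizedModule q.primeCompl M)))) := by
    intro i
    have h1 : IsWeaklyRegular ((LocalizedModule q.primeCompl M) ⊗[(Localization.AtPrime q)] ((Localization.AtPrime q) ⊗[A] (Ideal.comap (algebraMap A B) q).ResidueField))
        ((g.take i).map (algebraMap B (Localization.AtPrime q)) ++ (g.drop i).map (algebraMap B (Localization.AtPrime q))) := by
      rw [← List.map_append, List.take_append_drop]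
      exact hw3
    have h2 := ((isWeaklyRegular_append_iff _ _ _).mp h1).1
    exact regular_of_fibre q (g.take i) (fun b hb => hg b (List.mem_of_mem_take hb)) f h2
  refine ⟨?_, ?_⟩
  · -- regularity
    have h1 := (hpre g.length).1
    rw [List.take_length] at h1
    have h2 : IsWeaklyRegular (LocalizedModule q.primeCompl M) g := (isWeaklyRegular_map_algebraMap_iff (Localization.AtPrime q) (LocalizedModule q.primeCompl M) g).mp h1
    refine ⟨h2, ?_⟩
    -- nontriviality
    haveI : Nontrivial (LocalizedModule q.primeCompl M) := by
      by_contra hN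
      rw [not_nontrivial_iff_subsingleton] at hN
      haveI := hN
      haveI : Subsingleton ((LocalizedModule q.primeCompl M) ⊗[A] (Ideal.comap (algebraMap A B) q).ResidueField) := subsingleton_tensor_of_left
      haveI : Subsingleton (LocalizedModule q.primeCompl (M ⊗[A] (Ideal.comap (algebraMap A B) q).ResidueField)) :=
        ρ.toEquiv.subsingleton
      exact hreg.2 (Subsingleton.elim _ _)
    haveI : Module.Finite (Localization.AtPrime q) (LocalizedModule q.primeCompl M) := Module.Finite.of_isLocalizedModule q.primeCompl f
    have h3 : IsRegular (LocalizedModule q.primeCompl M) (g.map (algebraMap B (Localization.AtPrime q))) := by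
      refine (IsLocalRing.isRegular_iff_isWeaklyRegular_of_subset_maximalIdeal ?_).mpr h1
      intro r hr
      obtain ⟨b, hb, rfl⟩ := List.mem_map.mp hr
      exact (IsLocalization.AtPrime.to_map_mem_maximal_iff (Localization.AtPrime q) q b).mpr (hg b hb)
    intro htop
    apply h3.2
    rw [← Ideal.map_ofList]
    apply Submodule.restrictScalars_injective B (Localization.AtPrime q) (LocalizedModule q.primeCompl M)
    rw [Ideal.smul_restrictScalars, Submodule.restrictScalars_top]
    exact htop
  · intro i _
    haveI := (hpre i).2
    let e : LocalizedModule q.primeCompl (M ⧸ (Ideal.ofList (g.take i) • (⊤ : Submodule B M)))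
        ≃ₗ[(Localization.AtPrime q)] (LocalizedModule q.primeCompl M) ⧸ ((Ideal.ofList (g.take i)).map (algebraMap B (Localization.AtPrime q)) •
          (⊤ : Submodule (Localization.AtPrime q) (LocalizedModule q.primeCompl M))) :=
      (localizedQuotientEquiv _ _).symm ≪≫ₗ
        Submodule.quotEquivOfEq _ _ (by rw [Submodule.localized,
          Submodule.localized'_smul, Ideal.localized'_eq_map, Submodule.localized'_top])
    haveI tALQ : IsScalarTower A (Localization.AtPrime q)
        (LocalizedModule q.primeCompl (M ⧸ (Ideal.ofList (g.take i) • (⊤ : Submodule B M)))) :=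
      IsScalarTower.of_algebraMap_smul fun r n => by
        rw [IsScalarTower.algebraMap_apply A B (Localization.AtPrime q), algebraMap_smul, algebraMap_smul]
    haveI : Module.Flat A ((LocalizedModule q.primeCompl M) ⧸ ((Ideal.ofList (g.take i)).map (algebraMap B (Localization.AtPrime q)) •
        (⊤ : Submodule (Localization.AtPrime q) (LocalizedModule q.primeCompl M)))) := by
      rw [Ideal.map_ofList]
      infer_instance
    exact Module.Flat.of_linearEquiv (e.restrictScalars A)

end Groth.Agent.Helper21.MCPF
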