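import Mathlib
import Groth.Agent.Lib.Lead.Depth16
import Groth.Agent.Lib.Helper21.KoszFun

/-!
# Depth sensitivity of the Koszul complex.
-/

set_option autoImplicit false
universe u
open CategoryTheory CategoryTheory.Limits CochainComplex HomComplex RingTheory.Sequence LocCoh
  Pointwise

namespace Groth.Agent.Helper21.KD

open Groth.Agent.Lead.Depth Groth.Agent.Helper21.KF Groth.Agent.Helper21.KH

variable {R : Type u} [CommRing R]

section LES

variable (M : Type u) [AddCommGroup M] [Module R M] (xs : List R) (y : R)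

theorem exists_shortExact (hreg : IsSMulRegular M y) :
    ∃ (z : (y • 𝟙 (CohIII.koszulCx (ModuleCat.of R M) xs)) ≫
      kMap (ModuleCat.ofHom (Submodule.mkQ (y • (⊤ : Submodule R M)))) xs = 0),
      (ShortComplex.mk _ _ z).ShortExact := by
  let g₁ : ModuleCat.of R M ⟶ ModuleCat.of R M := y • 𝟙 _
  let g₂ : ModuleCat.of R M ⟶ ModuleCat.of R (QuotSMulTop y M) :=
    ModuleCat.ofHom (Submodule.mkQ _)
  have hg₁ : ∀ x : M, g₁.hom x = y • x := fun x => rfl
  have hinj : Function.Injective g₁.hom := by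
    intro x x' h
    rw [hg₁, hg₁] at h
    exact hreg h
  have hsurj : Function.Surjective g₂.hom := Submodule.mkQ_surjective _
  have hex : Function.Exact g₁.hom g₂.hom := by
    intro x
    show Submodule.mkQ _ x = 0 ↔ _
    rw [Submodule.mkQ_apply, Submodule.Quotient.mk_eq_zero,
      Submodule.mem_smul_pointwise_iff_exists]
    constructor
    · rintro ⟨x', -, hx'⟩
      exact ⟨x', hx'⟩
    · rintro ⟨x', hx'⟩
      exact ⟨x', Submodule.mem_top, hx'⟩
  have key : ∀ (ψ : CohIII.koszulCx (ModuleCat.of R M) xs ⟶ CohIII.koszulCx (ModuleCat.of R M) xs)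
      (_ : ψ = kMap g₁ xs), ∃ (z : ψ ≫ kMap g₂ xs = 0),
        (ShortComplex.mk ψ (kMap g₂ xs) z).ShortExact := by
    intro ψ hψ
    subst hψ
    exact ⟨_, kSC_shortExact g₁ g₂ hinj hsurj hex xs⟩
  exact key (y • 𝟙 _) (kMap_smul_id (ModuleCat.of R M) y xs).symm

theorem isZero_succ_of_isZero (hy : y ∈ Ideal.span {x | x ∈ xs}) (hreg : IsSMulRegular M y)
    (j j' : ℤ) (hjj' : j + 1 = j')
    (h : IsZero ((CohIII.koszulCx (ModuleCat.of R (QuotSMulTop y M)) xs).homology j)) :
    IsZero ((CohIII.koszulCx (ModuleCat.of R M) xs).homology j') := by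
  obtain ⟨z, hS⟩ := exists_shortExact M xs y hreg
  have hex := hS.homology_exact₁ j j' hjj'
  rw [ShortComplex.moduleCat_exact_iff] at hex
  have hzero : HomologicalComplex.homologyMap
      (y • 𝟙 (CohIII.koszulCx (ModuleCat.of R M) xs)) j' = 0 := by
    rw [homologyMap_smul, HomologicalComplex.homologyMap_id]
    exact smul_homology_eq_zero _ y (main _ xs y hy) j'
  have hsub : Subsingleton
      ((CohIII.koszulCx (ModuleCat.of R (QuotSMulTop y M)) xs).homology j) :=
    ModuleCat.subsingleton_of_isZero h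
  have hgz : ∀ a : (CohIII.koszulCx (ModuleCat.of R M) xs).homology j',
      (HomologicalComplex.homologyMap
        (y • 𝟙 (CohIII.koszulCx (ModuleCat.of R M) xs)) j').hom a = 0 := by
    intro a
    rw [hzero]
    rfl
  have : Subsingleton ((CohIII.koszulCx (ModuleCat.of R M) xs).homology j') := by
    refine ⟨fun a b => ?_⟩
    obtain ⟨a₁, ha₁⟩ := hex a (hgz a)
    obtain ⟨b₁, hb₁⟩ := hex b (hgz b)
    rw [← ha₁, ← hb₁, Subsingleton.elim a₁ b₁]
  exact ModuleCat.isZero_of_subsingleton _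

theorem not_isZero_succ (hreg : IsSMulRegular M y) (j j' : ℤ) (hjj' : j + 1 = j')
    (h0 : IsZero ((CohIII.koszulCx (ModuleCat.of R M) xs).homology j))
    (h1 : ¬ IsZero ((CohIII.koszulCx (ModuleCat.of R (QuotSMulTop y M)) xs).homology j)) :
    ¬ IsZero ((CohIII.koszulCx (ModuleCat.of R M) xs).homology j') := by
  intro h2
  apply h1
  obtain ⟨z, hS⟩ := exists_shortExact M xs y hreg
  have hex := hS.homology_exact₃ j j' hjj'
  rw [ShortComplex.moduleCat_exact_iff] at hex
  have s0 : Subsingleton ((CohIII.koszulCx (ModuleCat.of R M) xs).homology j) :=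
    ModuleCat.subsingleton_of_isZero h0
  have s2 : Subsingleton ((CohIII.koszulCx (ModuleCat.of R M) xs).homology j') :=
    ModuleCat.subsingleton_of_isZero h2
  have : Subsingleton ((CohIII.koszulCx (ModuleCat.of R (QuotSMulTop y M)) xs).homology j) := by
    refine ⟨fun a b => ?_⟩
    obtain ⟨a₁, ha₁⟩ := hex a (Subsingleton.elim _ _)
    obtain ⟨b₁, hb₁⟩ := hex b (Subsingleton.elim _ _)
    rw [← ha₁, ← hb₁, Subsingleton.elim a₁ b₁]
  exact ModuleCat.isZero_of_subsingleton _

end LES

section Bot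

theorem inl_injective {F G : CochainComplex (ModuleCat.{u} R) ℤ} (φ : F ⟶ G) (i : ℤ) :
    Function.Injective ((mappingCone.inl φ).v (i + 1) i (by omega)).hom := by
  intro x x' h
  have h' := congrArg ((mappingCone.fst φ).1.v i (i + 1) rfl).hom h
  rw [comp_hom_apply (mappingCone.inl_v_fst_v φ (i + 1) i rfl),
    comp_hom_apply (mappingCone.inl_v_fst_v φ (i + 1) i rfl)] at h'
  exact h'

theorem cone_bot {F G : CochainComplex (ModuleCat.{u} R) ℤ} (φ : F ⟶ G) (i : ℤ)
    (x : F.X (i + 1)) (h1 : (φ.f (i + 1)).hom x = 0)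
    (h2 : (F.d (i + 1) (i + 1 + 1)).hom x = 0) :
    ((mappingCone φ).d i (i + 1)).hom (((mappingCone.inl φ).v (i + 1) i (by omega)).hom x) = 0 := by
  have hd := mappingCone.inl_v_d φ (i + 1) i (i + 1 + 1) (by omega) (by omega)
  rw [comp_hom_apply hd x]
  simp only [ModuleCat.hom_sub, ModuleCat.hom_comp, LinearMap.sub_apply, LinearMap.comp_apply]
  rw [h1, h2, map_zero, map_zero, sub_zero]

theorem exists_bot (M : ModuleCat.{u} R) : ∀ (xs : List R) (i : ℤ), i = -(xs.length : ℤ) →
    ∃ b : M →ₗ[R] (CohIII.koszulCx M xs).X i, Function.Injective b ∧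
      ∀ m : M, (∀ x ∈ xs, x • m = 0) → ∀ q, ((CohIII.koszulCx M xs).d i q).hom (b m) = 0
  | [], i, hi => by
    have hi0 : i = 0 := by simpa using hi
    subst hi0
    refine ⟨(HomologicalComplex.singleObjXSelf (ComplexShape.up ℤ) 0 M).inv.hom, ?_, ?_⟩
    · intro m m' h
      have h' := congrArg (HomologicalComplex.singleObjXSelf (ComplexShape.up ℤ) 0 M).hom.hom h
      exact (iso_inv_hom_apply _ m).symm.trans (h'.trans (iso_inv_hom_apply _ m'))
    · intro m _ q
      have h0 : (CohIII.koszulCx M []).d 0 q = 0 :=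
        HomologicalComplex.single_obj_d _ _ _ _ _
      rw [h0]
      rfl
  | f :: fs, i, hi => by
    obtain ⟨b, hb1, hb2⟩ := exists_bot M fs (i + 1)
      (by rw [List.length_cons] at hi; push_cast at hi; omega)
    refine ⟨((mappingCone.inl (f • 𝟙 (CohIII.koszulCx M fs))).v (i + 1) i (by omega)).hom ∘ₗ b,
      ?_, ?_⟩
    · exact (inl_injective _ i).comp hb1
    · intro m hm q
      by_cases hq : i + 1 = q
      · subst hq
        have e1 : ((f • 𝟙 (CohIII.koszulCx M fs)).f (i + 1)).hom (b m) = 0 := by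
          have : ((f • 𝟙 (CohIII.koszulCx M fs)).f (i + 1)).hom (b m) = f • b m := rfl
          rw [this, ← _root_.map_smul, hm f (by simp), map_zero]
        have e2 : ((CohIII.koszulCx M fs).d (i + 1) (i + 1 + 1)).hom (b m) = 0 :=
          hb2 m (fun x hx => hm x (List.mem_cons_of_mem _ hx)) _
        exact cone_bot (f • 𝟙 (CohIII.koszulCx M fs)) i (b m) e1 e2
      · have h0 : (CohIII.koszulCx M (f :: fs)).d i q = 0 :=
          HomologicalComplex.shape _ _ _ hq
        rw [h0]
        rfl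

theorem not_isZero_homology_of_cycle (K : CochainComplex (ModuleCat.{u} R) ℤ) (i : ℤ)
    (hprev : IsZero (K.X (i - 1))) (c : K.X i) (hc : c ≠ 0)
    (hd : (K.d i (i + 1)).hom c = 0) : ¬ IsZero (K.homology i) := by
  intro hz
  have hex : K.ExactAt i := (K.exactAt_iff_isZero_homology i).mpr hz
  rw [K.exactAt_iff' (i - 1) i (i + 1) (by simp) (by simp),
    ShortComplex.moduleCat_exact_iff] at hex
  obtain ⟨x₁, hx₁⟩ := hex c hd
  have : Subsingleton ((K.sc' (i - 1) i (i + 1)).X₁) := ModuleCat.subsingleton_of_isZero hprev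
  apply hc
  rw [← hx₁, Subsingleton.elim x₁ 0, map_zero]
  rfl

end Bot


section Depth

theorem enat_le_of_succ_le {d : ℕ∞} {r : ℕ} (h : ((r + 1 : ℕ) : ℕ∞) ≤ d + 1) : (r : ℕ∞) ≤ d := by
  induction d using ENat.recTopCoe with
  | top => exact le_top
  | coe d' =>
    norm_cast at h ⊢
    omega

theorem enat_eq_of_succ_eq {d : ℕ∞} {r : ℕ} (h : d + 1 = ((r + 1 : ℕ) : ℕ∞)) : d = r := by
  induction d using ENat.recTopCoe with
  | top =>
    rw [top_add] at h
    exact absurd h (ENat.top_ne_coe _)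
  | coe d' =>
    norm_cast at h ⊢
    omega

variable [IsNoetherianRing R]

theorem exists_regular_mem (I : Ideal R) (M : Type u) [AddCommGroup M] [Module R M]
    (hIM : I • (⊤ : Submodule R M) ≠ ⊤) (h : (1 : ℕ∞) ≤ idealDepth I M) :
    ∃ y ∈ I, IsSMulRegular M y := by
  obtain ⟨rs, hlen, hreg, hmem⟩ := exists_of_le_idealDepth I M hIM 1 (by exact_mod_cast h)
  obtain ⟨y, rfl⟩ := List.length_eq_one_iff.mp hlen
  exact ⟨y, hmem y (by simp), ((isWeaklyRegular_cons_iff M y []).mp hreg).1⟩

theorem vanish (xs : List R) : ∀ (r : ℕ) (M : Type u) [AddCommGroup M] [Module R M]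
    [Module.Finite R M], (Ideal.span {x | x ∈ xs}) • (⊤ : Submodule R M) ≠ ⊤ →
    (r : ℕ∞) ≤ idealDepth (Ideal.span {x | x ∈ xs}) M →
    ∀ j : ℤ, j < (r : ℤ) - xs.length →
      IsZero ((CohIII.koszulCx (ModuleCat.of R M) xs).homology j) := by
  intro r
  induction r with
  | zero =>
    intro M _ _ _ _ _ j hj
    exact isZero_homology_of_isZero_X _ j (isZero_X_of_lt _ xs j (by push_cast at hj; omega))
  | succ r ih =>
    intro M _ _ _ hIM h j hj
    obtain ⟨y, hyI, hyreg⟩ := exists_regular_mem _ M hIM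
      (le_trans (by exact_mod_cast (by omega : 1 ≤ r + 1)) h)
    have hadd := idealDepth_quotSMulTop_add_one _ M hIM y hyI hyreg
    have hIQ := smul_top_quotSMulTop_ne_top hyI hIM
    have h1 : (r : ℕ∞) ≤ idealDepth (Ideal.span {x | x ∈ xs}) (QuotSMulTop y M) := by
      rw [← hadd] at h
      exact enat_le_of_succ_le h
    have h2 := ih (QuotSMulTop y M) hIQ h1 (j - 1) (by push_cast at hj ⊢; omega)
    exact isZero_succ_of_isZero M xs y hyI hyreg (j - 1) j (by omega) h2

theorem base (xs : List R) (M : Type u) [AddCommGroup M] [Module R M] [Module.Finite R M]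
    (hIM : (Ideal.span {x | x ∈ xs}) • (⊤ : Submodule R M) ≠ ⊤)
    (h : idealDepth (Ideal.span {x | x ∈ xs}) M = 0) :
    ¬ IsZero ((CohIII.koszulCx (ModuleCat.of R M) xs).homology (-(xs.length : ℤ))) := by
  have hnoreg : ∀ y ∈ Ideal.span {x | x ∈ xs}, ¬ IsSMulRegular M y := by
    intro y hy hreg
    have h1 := le_idealDepth_of_isWeaklyRegular (Ideal.span {x | x ∈ xs}) M [y]
      ((isWeaklyRegular_cons_iff M y []).mpr ⟨hreg, IsWeaklyRegular.nil R _⟩)
      (by
        intro r hr
        rw [List.mem_singleton] at hr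
        rw [hr]
        exact hy)
    rw [h] at h1
    simp at h1
  obtain ⟨p, hp, hIp⟩ := exists_le_associatedPrime_of_forall_not_regular' M _ hnoreg
  obtain ⟨hprime, m, hm⟩ := (isAssociatedPrime_iff (M := M)).mp hp
  have hm0 : m ≠ 0 := by
    intro hm0
    apply hprime.ne_top
    rw [hm, hm0, Ideal.eq_top_iff_one, Submodule.mem_colon_singleton, smul_zero]
    exact Submodule.zero_mem _
  have hkill : ∀ x ∈ xs, x • m = 0 := by
    intro x hx
    have := hIp (Ideal.subset_span (show x ∈ {x | x ∈ xs} from hx))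
    rw [hm, Submodule.mem_colon_singleton, Submodule.mem_bot] at this
    exact this
  obtain ⟨b, hb1, hb2⟩ := exists_bot (ModuleCat.of R M) xs (-(xs.length : ℤ)) rfl
  refine not_isZero_homology_of_cycle _ _ (isZero_X_of_lt _ xs _ (by omega)) (b m) ?_
    (hb2 m hkill _)
  intro hbm
  apply hm0
  apply hb1
  rw [hbm, map_zero]

theorem nonvanish (xs : List R) : ∀ (r : ℕ) (M : Type u) [AddCommGroup M] [Module R M]
    [Module.Finite R M], (Ideal.span {x | x ∈ xs}) • (⊤ : Submodule R M) ≠ ⊤ →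
    idealDepth (Ideal.span {x | x ∈ xs}) M = r →
    ¬ IsZero ((CohIII.koszulCx (ModuleCat.of R M) xs).homology ((r : ℤ) - xs.length)) := by
  intro r
  induction r with
  | zero =>
    intro M _ _ _ hIM h
    have h0 : ((0 : ℕ) : ℤ) - (xs.length : ℤ) = -(xs.length : ℤ) := by simp
    rw [h0]
    exact base xs M hIM (by simpa using h)
  | succ r ih =>
    intro M _ _ _ hIM h
    obtain ⟨y, hyI, hyreg⟩ := exists_regular_mem _ M hIM
      (by rw [h]; exact_mod_cast (by omega : 1 ≤ r + 1))
    have hadd := idealDepth_quotSMulTop_add_one _ M hIM y hyI hyreg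
    have hIQ := smul_top_quotSMulTop_ne_top hyI hIM
    have h1 : idealDepth (Ideal.span {x | x ∈ xs}) (QuotSMulTop y M) = r :=
      enat_eq_of_succ_eq (hadd.trans h)
    have hnz := ih (QuotSMulTop y M) hIQ h1
    have hz : IsZero ((CohIII.koszulCx (ModuleCat.of R M) xs).homology
        ((r : ℤ) - xs.length)) :=
      vanish xs (r + 1) M hIM (by rw [h]) _ (by push_cast; omega)
    exact not_isZero_succ M xs y hyreg ((r : ℤ) - xs.length) (((r + 1 : ℕ) : ℤ) - xs.length)
      (by push_cast; ring) hz hnz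

theorem main_depth [IsLocalRing R] (M : Type u) [AddCommGroup M] [Module R M]
    [Module.Finite R M] [Nontrivial M] (xs : List R)
    (hxs : ∀ x ∈ xs, x ∈ IsLocalRing.maximalIdeal R) :
    idealDepth (Ideal.span {x | x ∈ xs}) M ≤ xs.length ∧
      (∀ p : ℕ, (p : ℕ∞) < idealDepth (Ideal.span {x | x ∈ xs}) M →
        IsZero (CohIII.koszulH xs (ModuleCat.of R M) p)) ∧
      (∀ r : ℕ, idealDepth (Ideal.span {x | x ∈ xs}) M = r →
        ¬ IsZero (CohIII.koszulH xs (ModuleCat.of R M) r)) := by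
  have hIle : Ideal.span {x | x ∈ xs} ≤ IsLocalRing.maximalIdeal R :=
    Ideal.span_le.mpr (fun x hx => hxs x hx)
  have hIM : (Ideal.span {x | x ∈ xs}) • (⊤ : Submodule R M) ≠ ⊤ := by
    intro h
    apply maximalIdeal_smul_top_ne_top (R := R) M
    exact top_le_iff.mp (h.symm.le.trans (Submodule.smul_mono_left hIle))
  refine ⟨?_, ?_, ?_⟩
  · obtain ⟨r, hr⟩ := ENat.ne_top_iff_exists.mp (idealDepth_ne_top _ M hIM)
    rw [← hr]
    by_contra hlt
    push Not at hlt
    have hlt' : xs.length < r := by exact_mod_cast hlt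
    refine nonvanish xs r M hIM hr.symm ?_
    exact isZero_homology_of_isZero_X _ _ (isZero_X_of_pos _ xs _ (by omega))
  · intro p hp
    have hp' : ((p + 1 : ℕ) : ℕ∞) ≤ idealDepth (Ideal.span {x | x ∈ xs}) M := by
      push_cast
      exact Order.add_one_le_of_lt hp
    exact vanish xs (p + 1) M hIM hp' _ (by push_cast; omega)
  · intro r hr
    exact nonvanish xs r M hIM hr

end Depth

end Groth.Agent.Helper21.KD
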