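import Mathlib
import Groth.Agent.S13711
import Groth.Agent.S0080

/-!
fpqc descent of affine and integral morphisms (helper21), via helper20's S13711.
-/

universe u

open AlgebraicGeometry CategoryTheory CategoryTheory.Limits MorphismProperty

namespace Groth.Agent.Helper21.AffDesc

theorem affine :
    MorphismProperty.DescendsAlong @IsAffineHom
      (@Surjective ⊓ @Flat ⊓ @QuasiCompact : MorphismProperty Scheme.{u}) := by
  constructor
  intro A X Y Z fst snd f g hpb hf hfst
  have hf' := hf
  obtain ⟨⟨hs, hfl⟩, hqc⟩ := hf
  haveI : Surjective f := hs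
  haveI : Flat f := hfl
  haveI : IsAffineHom fst := hfst
  have hQC : QuasiCompact g :=
    (Groth.Agent.S0079.result.{u}).of_isPullback hpb hf' (inferInstance : QuasiCompact fst)
  have hQS : QuasiSeparated g :=
    (Groth.Agent.S0080.result.{u}).of_isPullback hpb hf' (inferInstance : QuasiSeparated fst)
  rw [Groth.Agent.S13711.result g f]
  refine ⟨hQC, hQS, ?_⟩
  have e : pullback.snd g f = (hpb.flip.isoPullback).inv ≫ fst := by simp
  rw [e]
  infer_instance

theorem integral :
    MorphismProperty.DescendsAlong @IsIntegralHom
      (@Surjective ⊓ @Flat ⊓ @QuasiCompact : MorphismProperty Scheme.{u}) := by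
  constructor
  intro A X Y Z fst snd f g hpb hf hfst
  haveI : IsIntegralHom fst := hfst
  rw [IsIntegralHom.iff_universallyClosed_and_isAffineHom]
  refine ⟨?_, ?_⟩
  · exact MorphismProperty.of_isPullback_of_descendsAlong (P := @UniversallyClosed)
      (Q := (@Surjective ⊓ @Flat ⊓ @QuasiCompact : MorphismProperty Scheme.{u})) hpb hf
      (inferInstance : UniversallyClosed fst)
  · exact (affine.{u}).of_isPullback hpb hf (inferInstance : IsAffineHom fst)

end Groth.Agent.Helper21.AffDesc
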