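import Mathlib
import Groth.Prelude.Def_DescFam

/-!
# Descent data for schemes (functor-of-points form): basic API (helper21)

* `isoMk`: isomorphisms of descent data from families of isomorphisms;
* `act`: the universal action map `V_i ×_S X_j ⟶ V_j` and the formula `φ_eq`;
* `Cone`: a scheme `U` over `S` with invariant cartesian maps `V_i ⟶ U`; `Cone` ↔ effectiveness.
-/

set_option autoImplicit false
set_option backward.isDefEq.respectTransparency false
set_option backward.isDefEq.respectTransparency.types false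

open CategoryTheory CategoryTheory.Limits AlgebraicGeometry

universe w u

namespace Groth.Agent.Helper21.DescA

open Desc

variable {S : Scheme.{u}} {ι : Type w} {X : ι → Scheme.{u}} {f : ∀ i, X i ⟶ S}

theorem lifts_subsingleton {Y : Scheme.{u}} (V : Over Y) [Mono V.hom] {T : Scheme.{u}} (x : T ⟶ Y) :
    Subsingleton (Lifts V x) :=
  ⟨fun a b => Subtype.ext (by rw [← cancel_mono V.hom, a.2, b.2])⟩

/-- Build an isomorphism of descent data from a family of isomorphisms compatible with `φ`. -/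
noncomputable def isoMk (D D' : SchDDFam f) (e : ∀ i, D.obj i ≅ D'.obj i)
    (comm : ∀ ⦃T : Scheme.{u}⦄ ⦃i j : ι⦄ (x₀ : T ⟶ X i) (x₁ : T ⟶ X j) (h : x₀ ≫ f i = x₁ ≫ f j)
      (v : Lifts (D.obj i) x₀) (w : Lifts (D'.obj i) x₀), w.1 = v.1 ≫ (e i).hom.left →
      (D'.φ x₀ x₁ h w).1 = (D.φ x₀ x₁ h v).1 ≫ (e j).hom.left) : D ≅ D' where
  hom := ⟨fun i => (e i).hom, comm⟩
  inv := ⟨fun i => (e i).inv, fun T i j x₀ x₁ h v w hw => by
    have hv : v.1 = w.1 ≫ (e i).hom.left := by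
      rw [hw, Category.assoc, ← Over.comp_left, Iso.inv_hom_id, Over.id_left, Category.comp_id]
    rw [comm x₀ x₁ h w v hv, Category.assoc, ← Over.comp_left, Iso.hom_inv_id, Over.id_left,
      Category.comp_id]⟩
  hom_inv_id := SchDDFam.hom_ext (funext fun i => by
    rw [SchDDFam.comp_hom, SchDDFam.id_hom]; exact (e i).hom_inv_id)
  inv_hom_id := SchDDFam.hom_ext (funext fun i => by
    rw [SchDDFam.comp_hom, SchDDFam.id_hom]; exact (e i).inv_hom_id)

/-- If the target datum consists of monomorphisms, any family of isomorphisms over the `X i`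
is an isomorphism of descent data. -/
noncomputable def isoMkOfMono (D D' : SchDDFam f) (e : ∀ i, D.obj i ≅ D'.obj i)
    [∀ i, Mono (D'.obj i).hom] : D ≅ D' :=
  isoMk D D' e (fun T i j x₀ x₁ h v w hw => by
    rw [← cancel_mono (D'.obj j).hom, (D'.φ x₀ x₁ h w).2, Category.assoc, Over.w (e j).hom,
      (D.φ x₀ x₁ h v).2])

/-- A morphism of descent data all of whose components are isomorphisms gives an isomorphism. -/
noncomputable def isoOfHom {D D' : SchDDFam f} (a : D ⟶ D') (h : ∀ i, IsIso (a.hom i)) : D ≅ D' :=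
  isoMk D D' (fun i => asIso (a.hom i)) a.comm

theorem φ_congr (D : SchDDFam f) {T : Scheme.{u}} {i j : ι} {x₀ x₀' : T ⟶ X i}
    {x₁ x₁' : T ⟶ X j} (h : x₀ ≫ f i = x₁ ≫ f j) (h' : x₀' ≫ f i = x₁' ≫ f j) (e₀ : x₀ = x₀')
    (e₁ : x₁ = x₁') (v : Lifts (D.obj i) x₀) (v' : Lifts (D.obj i) x₀') (ev : v.1 = v'.1) :
    (D.φ x₀ x₁ h v).1 = (D.φ x₀' x₁' h' v').1 := by
  subst e₀ e₁
  have : v = v' := Subtype.ext ev
  subst this
  rfl

theorem φ_nat (D : SchDDFam f) {T T' : Scheme.{u}} (g : T' ⟶ T) {i j : ι} (x₀ : T ⟶ X i)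
    (x₁ : T ⟶ X j) (h : x₀ ≫ f i = x₁ ≫ f j) (v : Lifts (D.obj i) x₀) :
    g ≫ (D.φ x₀ x₁ h v).1 = (D.φ (g ≫ x₀) (g ≫ x₁) (by rw [Category.assoc, h, Category.assoc])
      ⟨g ≫ v.1, by rw [Category.assoc, v.2]⟩).1 :=
  (D.φ_natural g x₀ x₁ h (g ≫ x₀) (g ≫ x₁) rfl rfl _ v ⟨g ≫ v.1, _⟩ rfl).symm

theorem φ_comp_val (D : SchDDFam f) {T : Scheme.{u}} {i j k : ι} (x₀ : T ⟶ X i) (x₁ : T ⟶ X j)
    (x₂ : T ⟶ X k) (h₀₁ : x₀ ≫ f i = x₁ ≫ f j) (h₁₂ : x₁ ≫ f j = x₂ ≫ f k)
    (v : Lifts (D.obj i) x₀) (w : Lifts (D.obj j) x₁) (hw : w.1 = (D.φ x₀ x₁ h₀₁ v).1) :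
    (D.φ x₁ x₂ h₁₂ w).1 = (D.φ x₀ x₂ (h₀₁.trans h₁₂) v).1 := by
  have : w = D.φ x₀ x₁ h₀₁ v := Subtype.ext hw
  rw [this, D.φ_comp]

theorem φ_self_val (D : SchDDFam f) {T : Scheme.{u}} {i : ι} (x : T ⟶ X i)
    (v : Lifts (D.obj i) x) : (D.φ x x rfl v).1 = v.1 := by
  rw [D.φ_self]

section act

variable (D : SchDDFam f)

/-- The universal action map `V_i ×_S X_j ⟶ V_j`. -/
noncomputable def act (i j : ι) : pullback ((D.obj i).hom ≫ f i) (f j) ⟶ (D.obj j).left :=
  (D.φ (pullback.fst ((D.obj i).hom ≫ f i) (f j) ≫ (D.obj i).hom)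
    (pullback.snd ((D.obj i).hom ≫ f i) (f j))
    (by rw [Category.assoc]; exact pullback.condition) ⟨pullback.fst _ _, rfl⟩).1

@[reassoc (attr := simp)]
theorem act_hom (i j : ι) : act D i j ≫ (D.obj j).hom = pullback.snd ((D.obj i).hom ≫ f i) (f j) :=
  (D.φ (pullback.fst ((D.obj i).hom ≫ f i) (f j) ≫ (D.obj i).hom)
    (pullback.snd ((D.obj i).hom ≫ f i) (f j))
    (by rw [Category.assoc]; exact pullback.condition) ⟨pullback.fst _ _, rfl⟩).2

theorem φ_eq {T : Scheme.{u}} {i j : ι} (x₀ : T ⟶ X i) (x₁ : T ⟶ X j)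
    (h : x₀ ≫ f i = x₁ ≫ f j) (v : Lifts (D.obj i) x₀) :
    (D.φ x₀ x₁ h v).1 = pullback.lift v.1 x₁ (by rw [← Category.assoc, v.2]; exact h) ≫
      act D i j := by
  have hv : v.1 ≫ (D.obj i).hom = x₀ := v.2
  exact D.φ_natural (pullback.lift v.1 x₁ (by rw [← Category.assoc, v.2]; exact h))
    (pullback.fst ((D.obj i).hom ≫ f i) (f j) ≫ (D.obj i).hom)
    (pullback.snd ((D.obj i).hom ≫ f i) (f j))
    (by rw [Category.assoc]; exact pullback.condition) x₀ x₁
    (by rw [pullback.lift_fst_assoc, hv]) (by rw [pullback.lift_snd]) h ⟨pullback.fst _ _, rfl⟩ v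
    (by rw [pullback.lift_fst])

/-- The diagonal `V_i ⟶ V_i ×_S X_i` followed by the action is the identity. -/
theorem diag_act (i : ι) :
    pullback.lift (𝟙 (D.obj i).left) (D.obj i).hom (by rw [Category.id_comp]) ≫ act D i i = 𝟙 _ := by
  have h1 := φ_eq D (D.obj i).hom (D.obj i).hom rfl ⟨𝟙 _, Category.id_comp _⟩
  rw [← h1]
  exact φ_self_val D _ _

/-- The cocycle identity for the action maps on `(V_i ×_S X_j) ×_S X_k`. -/
theorem cocycle_act (i j k : ι) :
    pullback.lift (pullback.fst (pullback.snd ((D.obj i).hom ≫ f i) (f j) ≫ f j) (f k) ≫ act D i j)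
        (pullback.snd (pullback.snd ((D.obj i).hom ≫ f i) (f j) ≫ f j) (f k))
        (by rw [Category.assoc, act_hom_assoc]; exact pullback.condition) ≫ act D j k =
      pullback.lift (pullback.fst (pullback.snd ((D.obj i).hom ≫ f i) (f j) ≫ f j) (f k) ≫
          pullback.fst ((D.obj i).hom ≫ f i) (f j))
        (pullback.snd (pullback.snd ((D.obj i).hom ≫ f i) (f j) ≫ f j) (f k))
        (by rw [Category.assoc, pullback.condition]; exact pullback.condition) ≫ act D i k := by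
  set fst₂ := pullback.fst (pullback.snd ((D.obj i).hom ≫ f i) (f j) ≫ f j) (f k) with hfst₂
  set snd₂ := pullback.snd (pullback.snd ((D.obj i).hom ≫ f i) (f j) ≫ f j) (f k) with hsnd₂
  have hc₂ : fst₂ ≫ pullback.snd ((D.obj i).hom ≫ f i) (f j) ≫ f j = snd₂ ≫ f k :=
    pullback.condition
  have hc₁ : pullback.fst ((D.obj i).hom ≫ f i) (f j) ≫ (D.obj i).hom ≫ f i =
      pullback.snd ((D.obj i).hom ≫ f i) (f j) ≫ f j := pullback.condition
  have h01 : ((fst₂ ≫ pullback.fst ((D.obj i).hom ≫ f i) (f j)) ≫ (D.obj i).hom) ≫ f i =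
      (fst₂ ≫ pullback.snd ((D.obj i).hom ≫ f i) (f j)) ≫ f j := by
    rw [Category.assoc, Category.assoc, Category.assoc, hc₁]
  have h12 : (fst₂ ≫ pullback.snd ((D.obj i).hom ≫ f i) (f j)) ≫ f j = snd₂ ≫ f k := by
    rw [Category.assoc]; exact hc₂
  let v : Lifts (D.obj i) ((fst₂ ≫ pullback.fst ((D.obj i).hom ≫ f i) (f j)) ≫ (D.obj i).hom) :=
    ⟨fst₂ ≫ pullback.fst ((D.obj i).hom ≫ f i) (f j), rfl⟩
  have e1 : (D.φ _ _ h01 v).1 = fst₂ ≫ act D i j := by
    rw [φ_eq D _ _ h01 v]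
    congr 1
    apply pullback.hom_ext
    · rw [pullback.lift_fst]
    · rw [pullback.lift_snd]
  have e2 := φ_comp_val D _ _ snd₂ h01 h12 v ⟨fst₂ ≫ act D i j, by
    rw [Category.assoc, act_hom]⟩ e1.symm
  rw [φ_eq D _ _ h12, φ_eq D _ _ (h01.trans h12)] at e2
  exact e2

end act

/-- A cone of a descent datum: a scheme `U` over `S` with invariant maps `V_i ⟶ U` making
`V_i = X_i ×_S U`. -/
structure Cone (D : SchDDFam f) where
  /-- the descended scheme -/
  U : Over S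
  /-- the projections -/
  π : ∀ i, (D.obj i).left ⟶ U.left
  isPullback : ∀ i, IsPullback (D.obj i).hom (π i) (f i) U.hom
  inv : ∀ ⦃T : Scheme.{u}⦄ ⦃i j : ι⦄ (x₀ : T ⟶ X i) (x₁ : T ⟶ X j) (h : x₀ ≫ f i = x₁ ≫ f j)
    (v : Lifts (D.obj i) x₀), (D.φ x₀ x₁ h v).1 ≫ π j = v.1 ≫ π i

namespace Cone

variable {D : SchDDFam f} (c : Cone D)

/-- The isomorphism of descent data between `D` and the canonical datum of the cone point. -/
noncomputable def iso : D ≅ (toDDFam f).obj c.U :=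
  isoMk D ((toDDFam f).obj c.U)
    (fun i => Over.isoMk (c.isPullback i).isoPullback (by
      change (c.isPullback i).isoPullback.hom ≫ pullback.fst (f i) c.U.hom = _
      exact (c.isPullback i).isoPullback_hom_fst))
    (fun T i j x₀ x₁ h v w hw => by
      have hw' : w.1 = v.1 ≫ (c.isPullback i).isoPullback.hom := hw
      change (canMapFam f c.U x₀ x₁ h w).1 =
        (D.φ x₀ x₁ h v).1 ≫ (c.isPullback j).isoPullback.hom
      rw [canMapFam_val]
      apply pullback.hom_ext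
      · rw [pullback.lift_fst, Category.assoc, (c.isPullback j).isoPullback_hom_fst]
        exact ((D.φ x₀ x₁ h v).2).symm
      · rw [pullback.lift_snd, Category.assoc, (c.isPullback j).isoPullback_hom_snd, c.inv, hw',
          Category.assoc, (c.isPullback i).isoPullback_hom_snd])

theorem isEffective (c : Cone D) : D.IsEffective := ⟨c.U, ⟨c.iso.symm⟩⟩

end Cone

/-- An effective descent datum has a cone. -/
theorem nonempty_cone_of_isEffective {D : SchDDFam f} (hD : D.IsEffective) : Nonempty (Cone D) := by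
  obtain ⟨U, ⟨e⟩⟩ := hD
  have hinv : ∀ i, e.hom.hom i ≫ e.inv.hom i = 𝟙 _ := fun i => by
    rw [← SchDDFam.comp_hom, e.hom_inv_id, SchDDFam.id_hom]
  have hinv' : ∀ i, e.inv.hom i ≫ e.hom.hom i = 𝟙 _ := fun i => by
    rw [← SchDDFam.comp_hom, e.inv_hom_id, SchDDFam.id_hom]
  have hl : ∀ i, (e.inv.hom i).left ≫ (e.hom.hom i).left = 𝟙 _ := fun i => by
    rw [← Over.comp_left, hinv', Over.id_left]
  have hl' : ∀ i, (e.hom.hom i).left ≫ (e.inv.hom i).left = 𝟙 _ := fun i => by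
    rw [← Over.comp_left, hinv, Over.id_left]
  refine ⟨⟨U, fun i => (e.inv.hom i).left ≫ pullback.snd (f i) U.hom, fun i => ?_, ?_⟩⟩
  · have hw : (e.inv.hom i).left ≫ pullback.fst (f i) U.hom = (D.obj i).hom := Over.w (e.inv.hom i)
    refine IsPullback.of_iso_pullback ⟨?_⟩ ⟨(e.inv.hom i).left, (e.hom.hom i).left, hl i, hl' i⟩
      hw rfl
    rw [Category.assoc, ← pullback.condition, ← Category.assoc, hw]
  · intro T i j x₀ x₁ h v
    have key := e.inv.comm x₀ x₁ h v ⟨v.1 ≫ (e.inv.hom i).left, by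
      rw [Category.assoc, Over.w (e.inv.hom i)]; exact v.2⟩ rfl
    change (canMapFam f U x₀ x₁ h _).1 = _ at key
    rw [canMapFam_val] at key
    rw [← Category.assoc, ← key, pullback.lift_snd, Category.assoc]

end Groth.Agent.Helper21.DescA
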