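import Mathlib
import Groth.Agent.Lib.Helper21.DescA

/-!
# Pullback of descent data along a refinement by an fpqc covering is fully faithful (helper21)
-/

set_option autoImplicit false
set_option backward.isDefEq.respectTransparency false
set_option backward.isDefEq.respectTransparency.types false

open CategoryTheory CategoryTheory.Limits AlgebraicGeometry

universe w w' u

namespace Groth.Agent.Helper21.DescFF

open Desc Groth.Agent.Helper21.DescA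

/-- Gluing morphisms along an fpqc covering family. -/
theorem glue_fpqc {T : Scheme.{u}} {κ : Type w'} {Y : κ → Scheme.{u}} (π : ∀ k, Y k ⟶ T)
    (hπ : Presieve.ofArrows Y π ∈ Scheme.fpqcPrecoverage T) {Z : Scheme.{u}} (g : ∀ k, Y k ⟶ Z)
    (hg : ∀ (k l : κ) (T' : Scheme.{u}) (a : T' ⟶ Y k) (b : T' ⟶ Y l),
      a ≫ π k = b ≫ π l → a ≫ g k = b ≫ g l) :
    ∃! t : T ⟶ Z, ∀ k, π k ≫ t = g k := by
  have hmem : Sieve.generate (Presieve.ofArrows Y π) ∈ Scheme.fpqcTopology T :=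
    Precoverage.generate_mem_toGrothendieck hπ
  have h1 : Presieve.IsSheafFor (yoneda.obj Z) (Presieve.ofArrows Y π) :=
    (GrothendieckTopology.Subcanonical.isSheaf_of_isRepresentable
      (J := Scheme.fpqcTopology) (yoneda.obj Z)).isSheafFor _ hmem
  rw [Presieve.isSheafFor_arrows_iff] at h1
  obtain ⟨t, ht, htu⟩ := h1 g (fun k l T' a b hab => hg k l T' a b hab)
  exact ⟨t, ht, htu⟩

theorem hom_ext_fpqc {T : Scheme.{u}} {κ : Type w'} {Y : κ → Scheme.{u}} (π : ∀ k, Y k ⟶ T)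
    (hπ : Presieve.ofArrows Y π ∈ Scheme.fpqcPrecoverage T) {Z : Scheme.{u}} (t t' : T ⟶ Z)
    (h : ∀ k, π k ≫ t = π k ≫ t') : t = t' := by
  obtain ⟨s, -, hs⟩ := glue_fpqc π hπ (fun k => π k ≫ t) (fun k l T' a b hab => by
    rw [← Category.assoc, ← Category.assoc, hab])
  rw [hs t (fun _ => rfl), hs t' (fun k => (h k).symm)]

section

variable {S : Scheme.{u}} {ι : Type w} {X : ι → Scheme.{u}} {f : ∀ i, X i ⟶ S}
  {κ : Type w'} {X' : κ → Scheme.{u}} {f' : ∀ k, X' k ⟶ S} {α : κ → ι}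
  {q : ∀ k, X' k ⟶ X (α k)} (w : ∀ k, q k ≫ f (α k) = f' k ≫ 𝟙 S)

include w in
theorem hw (k : κ) : q k ≫ f (α k) = f' k := by rw [w k, Category.comp_id]

include w in
theorem h₁ {T : Scheme.{u}} {i : ι} {x₀ : T ⟶ X i} {k : κ} {x' : T ⟶ X' k}
    (hx : x₀ ≫ f i = x' ≫ f' k) : x₀ ≫ f i = (x' ≫ q k) ≫ f (α k) := by
  rw [Category.assoc, hw w, hx]

theorem pull_φ_val (D : SchDDFam f) {T : Scheme.{u}} {k l : κ} (x₀ : T ⟶ X' k) (x₁ : T ⟶ X' l)
    (h : x₀ ≫ f' k = x₁ ≫ f' l) (v : Lifts (((pullDDFam w).obj D).obj k) x₀) :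
    (((pullDDFam w).obj D).φ x₀ x₁ h v).1 =
      pullback.lift (D.φ (x₀ ≫ q k) (x₁ ≫ q l) (pull_compat w x₀ x₁ h)
        ⟨v.1 ≫ pullback.fst (D.obj (α k)).hom (q k), by
          have e : v.1 ≫ pullback.snd (D.obj (α k)).hom (q k) = x₀ := v.2
          rw [Category.assoc, pullback.condition, ← Category.assoc, e]⟩).1 x₁
        (D.φ (x₀ ≫ q k) (x₁ ≫ q l) (pull_compat w x₀ x₁ h) _).2 := rfl

variable {D₁ D₂ : SchDDFam f} (a : (pullDDFam w).obj D₁ ⟶ (pullDDFam w).obj D₂)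

theorem a_snd (k : κ) : (a.hom k).left ≫ pullback.snd (D₂.obj (α k)).hom (q k) =
    pullback.snd (D₁.obj (α k)).hom (q k) := Over.w (a.hom k)

/-- The point of `V²_{α k}` attached to a point `v` of `V¹_i` and a point `x'` of `X'_k`. -/
noncomputable def mid {T : Scheme.{u}} {i : ι} (x₀ : T ⟶ X i) (v : Lifts (D₁.obj i) x₀) (k : κ)
    (x' : T ⟶ X' k) (hx : x₀ ≫ f i = x' ≫ f' k) : Lifts (D₂.obj (α k)) (x' ≫ q k) :=
  ⟨pullback.lift (D₁.φ x₀ (x' ≫ q k) (h₁ w hx) v).1 x' (D₁.φ x₀ (x' ≫ q k) (h₁ w hx) v).2 ≫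
    (a.hom k).left ≫ pullback.fst (D₂.obj (α k)).hom (q k), by
    rw [Category.assoc, Category.assoc, pullback.condition, ← Category.assoc (a.hom k).left,
      a_snd, pullback.lift_snd_assoc]⟩

theorem mid_nat {T T' : Scheme.{u}} (g : T' ⟶ T) {i : ι} (x₀ : T ⟶ X i) (v : Lifts (D₁.obj i) x₀)
    (k : κ) (x' : T ⟶ X' k) (hx : x₀ ≫ f i = x' ≫ f' k) :
    g ≫ (mid w a x₀ v k x' hx).1 = (mid w a (g ≫ x₀) ⟨g ≫ v.1, by rw [Category.assoc, v.2]⟩ k
      (g ≫ x') (by rw [Category.assoc, hx, Category.assoc])).1 := by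
  unfold mid
  dsimp only
  rw [← Category.assoc g]
  congr 1
  apply pullback.hom_ext
  · rw [Category.assoc, pullback.lift_fst, pullback.lift_fst, φ_nat D₁ g]
    exact φ_congr D₁ _ _ rfl (Category.assoc _ _ _).symm _ _ rfl
  · rw [Category.assoc, pullback.lift_snd, pullback.lift_snd]

/-- The point of `V²_i` attached to a point `v` of `V¹_i` and an auxiliary point `x'` of `X'_k`. -/
noncomputable def G {T : Scheme.{u}} {i : ι} (x₀ : T ⟶ X i) (v : Lifts (D₁.obj i) x₀) (k : κ)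
    (x' : T ⟶ X' k) (hx : x₀ ≫ f i = x' ≫ f' k) : Lifts (D₂.obj i) x₀ :=
  D₂.φ (x' ≫ q k) x₀ (h₁ w hx).symm (mid w a x₀ v k x' hx)

theorem G_nat {T T' : Scheme.{u}} (g : T' ⟶ T) {i : ι} (x₀ : T ⟶ X i) (v : Lifts (D₁.obj i) x₀)
    (k : κ) (x' : T ⟶ X' k) (hx : x₀ ≫ f i = x' ≫ f' k) :
    g ≫ (G w a x₀ v k x' hx).1 = (G w a (g ≫ x₀) ⟨g ≫ v.1, by rw [Category.assoc, v.2]⟩ k
      (g ≫ x') (by rw [Category.assoc, hx, Category.assoc])).1 := by
  unfold G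
  rw [φ_nat D₂ g]
  exact φ_congr D₂ _ _ (Category.assoc _ _ _).symm rfl _ _ (mid_nat w a g x₀ v k x' hx)

theorem G_congr {T : Scheme.{u}} {i : ι} {x₀ x₀' : T ⟶ X i} (e₀ : x₀ = x₀') (v : Lifts (D₁.obj i) x₀)
    (v' : Lifts (D₁.obj i) x₀') (ev : v.1 = v'.1) (k : κ) {x' x'' : T ⟶ X' k} (e' : x' = x'')
    (hx : x₀ ≫ f i = x' ≫ f' k) (hx' : x₀' ≫ f i = x'' ≫ f' k) :
    (G w a x₀ v k x' hx).1 = (G w a x₀' v' k x'' hx').1 := by
  subst e₀ e'
  have : v = v' := Subtype.ext ev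
  subst this
  rfl

theorem mid_trans {T : Scheme.{u}} {i : ι} (x₀ : T ⟶ X i) (v : Lifts (D₁.obj i) x₀) (k l : κ)
    (xk : T ⟶ X' k) (xl : T ⟶ X' l) (hk : x₀ ≫ f i = xk ≫ f' k) (hl : x₀ ≫ f i = xl ≫ f' l) :
    (mid w a x₀ v l xl hl).1 = (D₂.φ (xk ≫ q k) (xl ≫ q l) ((h₁ w hk).symm.trans (h₁ w hl))
      (mid w a x₀ v k xk hk)).1 := by
  have hkl : xk ≫ f' k = xl ≫ f' l := hk.symm.trans hl
  let vv : Lifts (((pullDDFam w).obj D₁).obj k) xk :=
    ⟨pullback.lift (D₁.φ x₀ (xk ≫ q k) (h₁ w hk) v).1 xk (D₁.φ x₀ (xk ≫ q k) (h₁ w hk) v).2,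
      pullback.lift_snd _ _ _⟩
  let ww : Lifts (((pullDDFam w).obj D₂).obj k) xk :=
    ⟨vv.1 ≫ (a.hom k).left, by
      change (vv.1 ≫ (a.hom k).left) ≫ pullback.snd (D₂.obj (α k)).hom (q k) = xk
      rw [Category.assoc, a_snd]; exact vv.2⟩
  have key := a.comm xk xl hkl vv ww rfl
  rw [pull_φ_val, pull_φ_val] at key
  have key' := congrArg (fun m => m ≫ pullback.fst (D₂.obj (α l)).hom (q l)) key
  simp only [pullback.lift_fst, Category.assoc] at key'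
  -- RHS of key' : lift(...) ≫ a_l ≫ fst  where the lift's first component is u_l
  have e1 : (D₁.φ (xk ≫ q k) (xl ≫ q l) (pull_compat w xk xl hkl)
      ⟨vv.1 ≫ pullback.fst (D₁.obj (α k)).hom (q k), by
        have e : vv.1 ≫ pullback.snd (D₁.obj (α k)).hom (q k) = xk := vv.2
        rw [Category.assoc, pullback.condition, ← Category.assoc, e]⟩).1 =
      (D₁.φ x₀ (xl ≫ q l) (h₁ w hl) v).1 := by
    refine φ_comp_val D₁ x₀ (xk ≫ q k) (xl ≫ q l) (h₁ w hk) _ v _ ?_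
    exact pullback.lift_fst _ _ _
  have e2 : pullback.lift (D₁.φ (xk ≫ q k) (xl ≫ q l) (pull_compat w xk xl hkl)
      ⟨vv.1 ≫ pullback.fst (D₁.obj (α k)).hom (q k), by
        have e : vv.1 ≫ pullback.snd (D₁.obj (α k)).hom (q k) = xk := vv.2
        rw [Category.assoc, pullback.condition, ← Category.assoc, e]⟩).1 xl
      (D₁.φ (xk ≫ q k) (xl ≫ q l) (pull_compat w xk xl hkl) _).2 =
      pullback.lift (D₁.φ x₀ (xl ≫ q l) (h₁ w hl) v).1 xl
        (D₁.φ x₀ (xl ≫ q l) (h₁ w hl) v).2 := by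
    apply pullback.hom_ext
    · exact (pullback.lift_fst _ _ _).trans (e1.trans (pullback.lift_fst _ _ _).symm)
    · exact (pullback.lift_snd _ _ _).trans (pullback.lift_snd _ _ _).symm
  rw [e2] at key'
  change _ = (mid w a x₀ v l xl hl).1 at key'
  rw [← key']
  exact φ_congr D₂ _ _ rfl rfl _ _ (by
    change (vv.1 ≫ (a.hom k).left) ≫ pullback.fst (D₂.obj (α k)).hom (q k) = _
    rw [Category.assoc]; rfl)

theorem G_indep {T : Scheme.{u}} {i : ι} (x₀ : T ⟶ X i) (v : Lifts (D₁.obj i) x₀) (k l : κ)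
    (xk : T ⟶ X' k) (xl : T ⟶ X' l) (hk : x₀ ≫ f i = xk ≫ f' k) (hl : x₀ ≫ f i = xl ≫ f' l) :
    (G w a x₀ v k xk hk).1 = (G w a x₀ v l xl hl).1 := by
  unfold G
  exact (φ_comp_val D₂ (xk ≫ q k) (xl ≫ q l) x₀ ((h₁ w hk).symm.trans (h₁ w hl)) (h₁ w hl).symm
    (mid w a x₀ v k xk hk) (mid w a x₀ v l xl hl) (mid_trans w a x₀ v k l xk xl hk hl)).symm

theorem mid_congr_of {T : Scheme.{u}} {i j : ι} {x₀ : T ⟶ X i} {x₀' : T ⟶ X j}
    (v : Lifts (D₁.obj i) x₀) (v' : Lifts (D₁.obj j) x₀') (k : κ) (x' : T ⟶ X' k)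
    (hx : x₀ ≫ f i = x' ≫ f' k) (hx' : x₀' ≫ f j = x' ≫ f' k)
    (e : (D₁.φ x₀ (x' ≫ q k) (h₁ w hx) v).1 = (D₁.φ x₀' (x' ≫ q k) (h₁ w hx') v').1) :
    (mid w a x₀ v k x' hx).1 = (mid w a x₀' v' k x' hx').1 := by
  unfold mid
  dsimp only
  congr 1
  apply pullback.hom_ext
  · rw [pullback.lift_fst, pullback.lift_fst, e]
  · rw [pullback.lift_snd, pullback.lift_snd]

/-- The source datum is covered by the refinement. -/
def Covered (D₁ : SchDDFam f) (f' : ∀ k, X' k ⟶ S) : Prop :=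
  ∀ i, Presieve.ofArrows (fun k => pullback ((D₁.obj i).hom ≫ f i) (f' k))
    (fun k => pullback.fst ((D₁.obj i).hom ≫ f i) (f' k)) ∈
      Scheme.fpqcPrecoverage (D₁.obj i).left

theorem covered_pt {D₁ : SchDDFam f} (hcov : Covered D₁ f') {T : Scheme.{u}} (i : ι)
    (t : T ⟶ (D₁.obj i).left) :
    Presieve.ofArrows (fun k => pullback (t ≫ (D₁.obj i).hom ≫ f i) (f' k))
      (fun k => pullback.fst (t ≫ (D₁.obj i).hom ≫ f i) (f' k)) ∈ Scheme.fpqcPrecoverage T := by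
  refine Precoverage.mem_coverings_of_isPullback _ (hcov i) t _
    (fun k => pullback.lift (pullback.fst _ _ ≫ t) (pullback.snd _ _)
      (by rw [Category.assoc]; exact pullback.condition)) (fun k => ?_)
  refine IsPullback.of_bot ?_ (pullback.lift_fst _ _ _).symm
    (IsPullback.of_hasPullback ((D₁.obj i).hom ≫ f i) (f' k))
  rw [pullback.lift_snd]
  exact IsPullback.of_hasPullback (t ≫ (D₁.obj i).hom ≫ f i) (f' k)

variable (hcov : Covered D₁ f')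

include hcov in
theorem exists_b (i : ι) : ∃! b : (D₁.obj i).left ⟶ (D₂.obj i).left,
    ∀ k, pullback.fst ((D₁.obj i).hom ≫ f i) (f' k) ≫ b =
      (G w a (pullback.fst ((D₁.obj i).hom ≫ f i) (f' k) ≫ (D₁.obj i).hom)
        ⟨pullback.fst _ _, rfl⟩ k (pullback.snd _ _)
        (by rw [Category.assoc]; exact pullback.condition)).1 := by
  refine glue_fpqc _ (hcov i) _ (fun k l T' a' b' hab => ?_)
  have hk : (a' ≫ pullback.fst ((D₁.obj i).hom ≫ f i) (f' k) ≫ (D₁.obj i).hom) ≫ f i =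
      (a' ≫ pullback.snd ((D₁.obj i).hom ≫ f i) (f' k)) ≫ f' k := by
    simp only [Category.assoc]
    rw [pullback.condition]
  have hl : (b' ≫ pullback.fst ((D₁.obj i).hom ≫ f i) (f' l) ≫ (D₁.obj i).hom) ≫ f i =
      (b' ≫ pullback.snd ((D₁.obj i).hom ≫ f i) (f' l)) ≫ f' l := by
    simp only [Category.assoc]
    rw [pullback.condition]
  have e0 : a' ≫ pullback.fst ((D₁.obj i).hom ≫ f i) (f' k) ≫ (D₁.obj i).hom =
      b' ≫ pullback.fst ((D₁.obj i).hom ≫ f i) (f' l) ≫ (D₁.obj i).hom := by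
    rw [← Category.assoc, hab, Category.assoc]
  have hk' : (b' ≫ pullback.fst ((D₁.obj i).hom ≫ f i) (f' l) ≫ (D₁.obj i).hom) ≫ f i =
      (a' ≫ pullback.snd ((D₁.obj i).hom ≫ f i) (f' k)) ≫ f' k := by
    rw [← e0]; exact hk
  rw [G_nat w a a', G_nat w a b']
  exact (G_congr w a e0 _ ⟨b' ≫ pullback.fst _ _, by rw [Category.assoc]⟩ hab k rfl hk hk').trans
    (G_indep w a _ _ k l _ _ hk' hl)

/-- The descended morphism `V¹_i ⟶ V²_i`. -/
noncomputable def bmap (i : ι) : (D₁.obj i).left ⟶ (D₂.obj i).left :=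
  (exists_b w a hcov i).exists.choose

theorem fst_bmap (i : ι) (k : κ) : pullback.fst ((D₁.obj i).hom ≫ f i) (f' k) ≫ bmap w a hcov i =
      (G w a (pullback.fst ((D₁.obj i).hom ≫ f i) (f' k) ≫ (D₁.obj i).hom)
        ⟨pullback.fst _ _, rfl⟩ k (pullback.snd _ _)
        (by rw [Category.assoc]; exact pullback.condition)).1 :=
  (exists_b w a hcov i).exists.choose_spec k

theorem pt_bmap {T : Scheme.{u}} {i : ι} (x₀ : T ⟶ X i) (v : Lifts (D₁.obj i) x₀) (k : κ)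
    (x' : T ⟶ X' k) (hx : x₀ ≫ f i = x' ≫ f' k) :
    v.1 ≫ bmap w a hcov i = (G w a x₀ v k x' hx).1 := by
  have hv : v.1 ≫ (D₁.obj i).hom = x₀ := v.2
  have hl : v.1 ≫ (D₁.obj i).hom ≫ f i = x' ≫ f' k := by rw [← Category.assoc, hv, hx]
  have e : v.1 = pullback.lift v.1 x' hl ≫ pullback.fst ((D₁.obj i).hom ≫ f i) (f' k) :=
    (pullback.lift_fst _ _ _).symm
  conv_lhs => rw [e]
  rw [Category.assoc, fst_bmap, G_nat]
  exact G_congr w a (by rw [pullback.lift_fst_assoc, hv]) _ _ (pullback.lift_fst _ _ _) k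
    (pullback.lift_snd _ _ _) _ _

theorem bmap_hom (i : ι) : bmap w a hcov i ≫ (D₂.obj i).hom = (D₁.obj i).hom := by
  refine hom_ext_fpqc _ (hcov i) _ _ (fun k => ?_)
  rw [← Category.assoc, fst_bmap]
  exact (G w a _ _ k _ _).2

theorem comm_aux {T T' : Scheme.{u}} {i j : ι} (x₀ : T ⟶ X i) (x₁ : T ⟶ X j)
    (h : x₀ ≫ f i = x₁ ≫ f j) (v : Lifts (D₁.obj i) x₀) (ww : Lifts (D₂.obj i) x₀)
    (hww' : ww.1 = v.1 ≫ bmap w a hcov i) (k : κ) (r : T' ⟶ T) (x' : T' ⟶ X' k)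
    (hx0 : (r ≫ x₀) ≫ f i = x' ≫ f' k) :
    r ≫ (D₂.φ x₀ x₁ h ww).1 = r ≫ (D₁.φ x₀ x₁ h v).1 ≫ bmap w a hcov j := by
  have hv : v.1 ≫ (D₁.obj i).hom = x₀ := v.2
  have hx1 : (r ≫ x₁) ≫ f j = x' ≫ f' k := by
    rw [Category.assoc, ← h, ← Category.assoc]; exact hx0
  have hL1 : r ≫ ww.1 = (G w a (r ≫ x₀) ⟨r ≫ v.1, by rw [Category.assoc, hv]⟩ k x' hx0).1 := by
    rw [hww', ← Category.assoc]
    exact pt_bmap w a hcov (r ≫ x₀) ⟨r ≫ v.1, by rw [Category.assoc, hv]⟩ k x' hx0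
  have hL : r ≫ (D₂.φ x₀ x₁ h ww).1 = (D₂.φ (x' ≫ q k) (r ≫ x₁) (h₁ w hx1).symm
      (mid w a (r ≫ x₀) ⟨r ≫ v.1, by rw [Category.assoc, hv]⟩ k x' hx0)).1 := by
    rw [φ_nat D₂ r]
    exact φ_comp_val D₂ (x' ≫ q k) (r ≫ x₀) (r ≫ x₁) (h₁ w hx0).symm _
      (mid w a (r ≫ x₀) ⟨r ≫ v.1, by rw [Category.assoc, hv]⟩ k x' hx0) _ hL1
  have hR : r ≫ (D₁.φ x₀ x₁ h v).1 ≫ bmap w a hcov j = (D₂.φ (x' ≫ q k) (r ≫ x₁)
      (h₁ w hx1).symm (mid w a (r ≫ x₁) ⟨r ≫ (D₁.φ x₀ x₁ h v).1, by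
        rw [Category.assoc, (D₁.φ x₀ x₁ h v).2]⟩ k x' hx1)).1 := by
    rw [← Category.assoc]
    exact pt_bmap w a hcov (r ≫ x₁) ⟨r ≫ (D₁.φ x₀ x₁ h v).1, by
      rw [Category.assoc, (D₁.φ x₀ x₁ h v).2]⟩ k x' hx1
  rw [hL, hR]
  refine φ_congr D₂ _ _ rfl rfl _ _ (mid_congr_of w a _ _ k x' hx0 hx1 ?_)
  refine (φ_comp_val D₁ (r ≫ x₀) (r ≫ x₁) (x' ≫ q k) (by rw [Category.assoc, h, Category.assoc])
    (h₁ w hx1) ⟨r ≫ v.1, by rw [Category.assoc, hv]⟩ _ ?_).symm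
  exact φ_nat D₁ r x₀ x₁ h v

/-- The descended morphism of descent data. -/
noncomputable def bHom : D₁ ⟶ D₂ :=
  ⟨fun i => Over.homMk (bmap w a hcov i) (bmap_hom w a hcov i), fun T i j x₀ x₁ h v ww hww => by
    have hww' : ww.1 = v.1 ≫ bmap w a hcov i := hww
    change _ = _ ≫ bmap w a hcov j
    have hv : v.1 ≫ (D₁.obj i).hom = x₀ := v.2
    refine hom_ext_fpqc _ (covered_pt hcov i v.1) _ _ (fun k => ?_)
    refine comm_aux w a hcov x₀ x₁ h v ww hww' k _ (pullback.snd _ _) ?_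
    have e : pullback.fst (v.1 ≫ (D₁.obj i).hom ≫ f i) (f' k) ≫ x₀ =
        pullback.fst (v.1 ≫ (D₁.obj i).hom ≫ f i) (f' k) ≫ v.1 ≫ (D₁.obj i).hom := by rw [hv]
    rw [e]
    simpa only [Category.assoc] using
      (pullback.condition (f := v.1 ≫ (D₁.obj i).hom ≫ f i) (g := f' k))⟩

theorem map_bHom : (pullDDFam w).map (bHom w a hcov) = a := by
  apply SchDDFam.hom_ext
  funext k
  apply Over.OverMorphism.ext
  change pullback.map (D₁.obj (α k)).hom (q k) (D₂.obj (α k)).hom (q k) (bmap w a hcov (α k))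
    (𝟙 _) (𝟙 _) (by simp [bmap_hom]) (by simp) = (a.hom k).left
  apply pullback.hom_ext
  · rw [pullback.lift_fst]
    have hx : (pullback.fst (D₁.obj (α k)).hom (q k) ≫ (D₁.obj (α k)).hom) ≫ f (α k) =
        pullback.snd (D₁.obj (α k)).hom (q k) ≫ f' k := by
      rw [pullback.condition, Category.assoc, hw w]
    rw [pt_bmap w a hcov (pullback.fst (D₁.obj (α k)).hom (q k) ≫ (D₁.obj (α k)).hom)
      ⟨pullback.fst _ _, rfl⟩ k (pullback.snd _ _) hx]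
    have hm : (mid w a (pullback.fst (D₁.obj (α k)).hom (q k) ≫ (D₁.obj (α k)).hom)
        ⟨pullback.fst _ _, rfl⟩ k (pullback.snd _ _) hx).1 =
        (a.hom k).left ≫ pullback.fst (D₂.obj (α k)).hom (q k) := by
      unfold mid
      dsimp only
      have e1 : (D₁.φ (pullback.fst (D₁.obj (α k)).hom (q k) ≫ (D₁.obj (α k)).hom)
          (pullback.snd (D₁.obj (α k)).hom (q k) ≫ q k) (h₁ w hx) ⟨pullback.fst _ _, rfl⟩).1 =
          pullback.fst _ _ :=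
        (φ_congr D₁ _ rfl rfl pullback.condition.symm _ ⟨pullback.fst _ _, rfl⟩ rfl).trans
          (φ_self_val D₁ _ _)
      have e2 : pullback.lift (D₁.φ (pullback.fst (D₁.obj (α k)).hom (q k) ≫ (D₁.obj (α k)).hom)
          (pullback.snd (D₁.obj (α k)).hom (q k) ≫ q k) (h₁ w hx) ⟨pullback.fst _ _, rfl⟩).1
          (pullback.snd (D₁.obj (α k)).hom (q k)) (D₁.φ _ _ (h₁ w hx) ⟨pullback.fst _ _, rfl⟩).2 =
          𝟙 _ := by
        apply pullback.hom_ext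
        · rw [pullback.lift_fst, e1, Category.id_comp]
        · rw [pullback.lift_snd, Category.id_comp]
      rw [e2, Category.id_comp]
    unfold G
    refine (φ_congr D₂ _ rfl pullback.condition.symm rfl _
      ⟨(a.hom k).left ≫ pullback.fst (D₂.obj (α k)).hom (q k), by
        rw [Category.assoc, pullback.condition, ← Category.assoc, a_snd]
        exact pullback.condition.symm⟩ hm).trans ?_
    exact φ_self_val D₂ _ _
  · rw [pullback.lift_snd, Category.comp_id, a_snd]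

omit a in
/-- For a morphism `b` of descent data, `G` of its pullback recovers `b`. -/
theorem G_map (b : D₁ ⟶ D₂) {T : Scheme.{u}} {i : ι} (x₀ : T ⟶ X i) (v : Lifts (D₁.obj i) x₀)
    (k : κ) (x' : T ⟶ X' k) (hx : x₀ ≫ f i = x' ≫ f' k) :
    (G w ((pullDDFam w).map b) x₀ v k x' hx).1 = v.1 ≫ (b.hom i).left := by
  have hv : v.1 ≫ (D₁.obj i).hom = x₀ := v.2
  have hm : (mid w ((pullDDFam w).map b) x₀ v k x' hx).1 =
      (D₁.φ x₀ (x' ≫ q k) (h₁ w hx) v).1 ≫ (b.hom (α k)).left := by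
    unfold mid
    dsimp only
    change _ ≫ pullback.map (D₁.obj (α k)).hom (q k) (D₂.obj (α k)).hom (q k) (b.hom (α k)).left
      (𝟙 _) (𝟙 _) (by simp [Over.w]) (by simp) ≫ _ = _
    rw [pullback.lift_fst, pullback.lift_fst_assoc]
  have hb := b.comm x₀ (x' ≫ q k) (h₁ w hx) v ⟨v.1 ≫ (b.hom i).left, by
    rw [Category.assoc, Over.w (b.hom i)]; exact hv⟩ rfl
  unfold G
  refine (φ_comp_val D₂ x₀ (x' ≫ q k) x₀ (h₁ w hx) (h₁ w hx).symm ⟨v.1 ≫ (b.hom i).left, by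
    rw [Category.assoc, Over.w (b.hom i)]; exact hv⟩ _ (hm.trans hb.symm)).trans ?_
  exact φ_self_val D₂ _ _

omit a in
include hcov in
theorem map_injective (b b' : D₁ ⟶ D₂) (h : (pullDDFam w).map b = (pullDDFam w).map b') :
    b = b' := by
  apply SchDDFam.hom_ext
  funext i
  apply Over.OverMorphism.ext
  refine hom_ext_fpqc _ (hcov i) _ _ (fun k => ?_)
  have hx : (pullback.fst ((D₁.obj i).hom ≫ f i) (f' k) ≫ (D₁.obj i).hom) ≫ f i =
      pullback.snd ((D₁.obj i).hom ≫ f i) (f' k) ≫ f' k := by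
    rw [Category.assoc]; exact pullback.condition
  have e1 := G_map w b (pullback.fst ((D₁.obj i).hom ≫ f i) (f' k) ≫ (D₁.obj i).hom)
    ⟨pullback.fst _ _, rfl⟩ k (pullback.snd _ _) hx
  have e2 := G_map w b' (pullback.fst ((D₁.obj i).hom ≫ f i) (f' k) ≫ (D₁.obj i).hom)
    ⟨pullback.fst _ _, rfl⟩ k (pullback.snd _ _) hx
  rw [h] at e1
  exact e1.symm.trans e2

omit a in
include hcov in
/-- Pullback along a refinement which covers the source is bijective on morphisms. -/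
theorem map_bijective : Function.Bijective
    (fun b : D₁ ⟶ D₂ => (pullDDFam w).map b) :=
  ⟨fun b b' h => map_injective w hcov b b' h, fun a => ⟨bHom w a hcov, map_bHom w a hcov⟩⟩

omit a in
/-- Isomorphisms lift along a refinement covering both data. -/
theorem nonempty_iso_of_pull_iso (hcov₁ : Covered D₁ f') (hcov₂ : Covered D₂ f')
    (e : (pullDDFam w).obj D₁ ≅ (pullDDFam w).obj D₂) : Nonempty (D₁ ≅ D₂) := by
  obtain ⟨a, ha⟩ := (map_bijective w (D₂ := D₂) hcov₁).2 e.hom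
  obtain ⟨b, hb⟩ := (map_bijective w (D₂ := D₁) hcov₂).2 e.inv
  have ha' : (pullDDFam w).map a = e.hom := ha
  have hb' : (pullDDFam w).map b = e.inv := hb
  refine ⟨⟨a, b, ?_, ?_⟩⟩
  · apply map_injective w hcov₁
    rw [Functor.map_comp, ha', hb', e.hom_inv_id, CategoryTheory.Functor.map_id]
  · apply map_injective w hcov₂
    rw [Functor.map_comp, ha', hb', e.inv_hom_id, CategoryTheory.Functor.map_id]

end

end Groth.Agent.Helper21.DescFF
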