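import Mathlib
import Groth.Agent.Lib.Helper21.DescFF

/-!
# Cones of pulled-back descent data; effectiveness descends along refinements (helper21)
-/

set_option autoImplicit false
set_option backward.isDefEq.respectTransparency false
set_option backward.isDefEq.respectTransparency.types false

open CategoryTheory CategoryTheory.Limits AlgebraicGeometry

universe w w' u

namespace Groth.Agent.Helper21.DescR

open Desc Groth.Agent.Helper21.DescA Groth.Agent.Helper21.DescFF

variable {S : Scheme.{u}} {ι : Type w} {X : ι → Scheme.{u}} {f : ∀ i, X i ⟶ S}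

/-- The canonical cone of a canonical descent datum. -/
noncomputable def canCone (f : ∀ i, X i ⟶ S) (U : Over S) : Cone ((toDDFam f).obj U) where
  U := U
  π i := pullback.snd (f i) U.hom
  isPullback i := IsPullback.of_hasPullback (f i) U.hom
  inv T i j x₀ x₁ h v := by
    change (canMapFam f U x₀ x₁ h v).1 ≫ pullback.snd (f j) U.hom = _
    rw [canMapFam_val, pullback.lift_snd]

/-- Two descent data with cones with the same vertex are isomorphic. -/
theorem nonempty_iso_of_cones {D D' : SchDDFam f} (c : Cone D) (c' : Cone D') (h : c.U = c'.U) :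
    Nonempty (D ≅ D') := by
  obtain ⟨U, π, hp, hinv⟩ := c'
  dsimp only at h
  subst h
  exact ⟨c.iso ≪≫ (Cone.iso ⟨c.U, π, hp, hinv⟩).symm⟩

variable {κ : Type w'} {X' : κ → Scheme.{u}} {f' : ∀ k, X' k ⟶ S} {α : κ → ι}
  {q : ∀ k, X' k ⟶ X (α k)} (w : ∀ k, q k ≫ f (α k) = f' k ≫ 𝟙 S)

/-- The pullback of a cone along a refinement (over the same base) is a cone with the same vertex. -/
noncomputable def pullCone {D : SchDDFam f} (c : Cone D) : Cone ((pullDDFam w).obj D) where
  U := c.U
  π k := pullback.fst (D.obj (α k)).hom (q k) ≫ c.π (α k)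
  isPullback k := by
    have h1 : IsPullback (pullback.fst (D.obj (α k)).hom (q k))
        (pullback.snd (D.obj (α k)).hom (q k)) (D.obj (α k)).hom (q k) :=
      IsPullback.of_hasPullback _ _
    have h3 := (h1.paste_horiz (c.isPullback (α k)).flip).flip
    rw [hw w k] at h3
    exact h3
  inv T k l x₀ x₁ h v := by
    rw [pull_φ_val, pullback.lift_fst_assoc, c.inv, Category.assoc]

/-- A covering family of the base covers every descent datum. -/
theorem covered_of_mem (hf' : Presieve.ofArrows X' f' ∈ Scheme.fpqcPrecoverage S)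
    (D : SchDDFam f) : Covered D f' := fun i =>
  Precoverage.mem_coverings_of_isPullback _ hf' ((D.obj i).hom ≫ f i) _
    (fun k => pullback.snd _ _) (fun k => IsPullback.of_hasPullback _ _)

/-- **Lemma R**: effectiveness descends along a refinement which is itself a covering. -/
theorem nonempty_cone_of_pull (hf' : Presieve.ofArrows X' f' ∈ Scheme.fpqcPrecoverage S)
    (D : SchDDFam f) (c' : Cone ((pullDDFam w).obj D)) : Nonempty (Cone D) := by
  obtain ⟨e⟩ := nonempty_iso_of_cones (pullCone w (canCone f c'.U)) c' rfl
  obtain ⟨e'⟩ := nonempty_iso_of_pull_iso w (covered_of_mem hf' _) (covered_of_mem hf' D) e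
  exact nonempty_cone_of_isEffective ⟨c'.U, ⟨e'⟩⟩

theorem isEffective_of_pull (hf' : Presieve.ofArrows X' f' ∈ Scheme.fpqcPrecoverage S)
    (D : SchDDFam f) (h : ((pullDDFam w).obj D).IsEffective) : D.IsEffective := by
  obtain ⟨c'⟩ := nonempty_cone_of_isEffective h
  obtain ⟨c⟩ := nonempty_cone_of_pull w hf' D c'
  exact c.isEffective

end Groth.Agent.Helper21.DescR
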