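import Mathlib
import Groth.Agent.Lib.Helper21.DescFF

/-!
# Descent data relative to a family and relative to the coproduct of the family (helper21)
-/

set_option autoImplicit false
set_option backward.isDefEq.respectTransparency false
set_option backward.isDefEq.respectTransparency.types false
set_option linter.style.haveILetI false

open CategoryTheory CategoryTheory.Limits AlgebraicGeometry

universe v u

namespace Groth.Agent.Helper21.DescSig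

open Desc Groth.Agent.Helper21.DescA Groth.Agent.Helper21.DescFF

/-- Two morphisms which agree locally on the source are equal. -/
theorem ext_of_local {T Z : Scheme.{u}} (t t' : T ⟶ Z)
    (h : ∀ τ : T, ∃ (T' : Scheme.{u}) (c : T' ⟶ T), IsOpenImmersion c ∧ τ ∈ Set.range c.base ∧
      c ≫ t = c ≫ t') : t = t' := by
  choose T' c hc hτ hcc using h
  refine hom_ext_fpqc c ?_ t t' hcc
  apply Scheme.zariskiPrecoverage_le_fpqcPrecoverage
  rw [Scheme.ofArrows_mem_precoverage_iff]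
  exact ⟨fun τ => ⟨τ, hτ τ⟩, hc⟩

/-- A point of a coproduct factors locally through a component. -/
theorem local1 {κ : Type v} [Small.{u} κ] {Y : κ → Scheme.{u}} {T : Scheme.{u}} (z : T ⟶ ∐ Y)
    (τ : T) : ∃ (k : κ) (T' : Scheme.{u}) (c : T' ⟶ T) (y : T' ⟶ Y k),
      IsOpenImmersion c ∧ τ ∈ Set.range c.base ∧ c ≫ z = y ≫ Sigma.ι Y k := by
  obtain ⟨k, y₀, hy₀⟩ := (sigmaOpenCover Y).exists_eq (z.base τ)
  refine ⟨k, pullback z (Sigma.ι Y k), pullback.fst _ _, pullback.snd _ _, inferInstance, ?_,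
    pullback.condition⟩
  rw [Scheme.Pullback.range_fst]
  exact ⟨y₀, hy₀⟩

section

variable {S : Scheme.{u}} {σ : Type v} [Small.{u} σ] {X : σ → Scheme.{u}} (f : ∀ i, X i ⟶ S)
  (D : SchDDFam f)

/-- The coproduct of the structure morphisms. -/
noncomputable abbrev hs : (∐ fun i => (D.obj i).left) ⟶ ∐ X :=
  Limits.Sigma.map (fun i => (D.obj i).hom)

/-- The morphism from the coproduct. -/
noncomputable abbrev fs : ∐ X ⟶ S := Sigma.desc f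

/-- The charts of `(∐ V) ×_S (∐ X)`. -/
noncomputable def m (i k : σ) : pullback ((D.obj i).hom ≫ f i) (f k) ⟶
    pullback (hs f D ≫ fs f) (fs f) :=
  pullback.map ((D.obj i).hom ≫ f i) (f k) (hs f D ≫ fs f) (fs f)
    (Sigma.ι (fun i => (D.obj i).left) i) (Sigma.ι X k) (𝟙 S) (by simp) (by simp)

instance (i k : σ) : IsOpenImmersion (m f D i k) := by
  unfold m; infer_instance

@[reassoc (attr := simp)]
theorem m_fst (i k : σ) : m f D i k ≫ pullback.fst _ _ =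
    pullback.fst _ _ ≫ Sigma.ι (fun i => (D.obj i).left) i := by
  unfold m; simp

@[reassoc (attr := simp)]
theorem m_snd (i k : σ) : m f D i k ≫ pullback.snd _ _ = pullback.snd _ _ ≫ Sigma.ι X k := by
  unfold m; simp

theorem m_cover : Presieve.ofArrows (fun ik : σ × σ => pullback ((D.obj ik.1).hom ≫ f ik.1) (f ik.2))
    (fun ik => m f D ik.1 ik.2) ∈ Scheme.fpqcPrecoverage (pullback (hs f D ≫ fs f) (fs f)) := by
  apply Scheme.zariskiPrecoverage_le_fpqcPrecoverage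
  rw [Scheme.ofArrows_mem_precoverage_iff]
  refine ⟨fun z => ?_, fun ik => inferInstance⟩
  obtain ⟨i, v₀, hv₀⟩ := (sigmaOpenCover (fun i => (D.obj i).left)).exists_eq
    ((pullback.fst (hs f D ≫ fs f) (fs f)).base z)
  obtain ⟨k, x₀, hx₀⟩ := (sigmaOpenCover X).exists_eq
    ((pullback.snd (hs f D ≫ fs f) (fs f)).base z)
  refine ⟨(i, k), ?_⟩
  change z ∈ Set.range (m f D i k).base
  unfold m
  rw [Scheme.Pullback.range_map]
  exact ⟨⟨v₀, hv₀⟩, ⟨x₀, hx₀⟩⟩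

theorem exists_Act : ∃! A : pullback (hs f D ≫ fs f) (fs f) ⟶ ∐ fun i => (D.obj i).left,
    ∀ ik : σ × σ, m f D ik.1 ik.2 ≫ A =
      act D ik.1 ik.2 ≫ Sigma.ι (fun i => (D.obj i).left) ik.2 := by
  refine glue_fpqc _ (m_cover f D) _ (fun ik ik' T' a b hab => ?_)
  obtain ⟨i, k⟩ := ik
  obtain ⟨i', k'⟩ := ik'
  dsimp only at a b hab ⊢
  by_cases hi : i = i'
  · by_cases hk : k = k'
    · subst hi hk
      rw [(cancel_mono (m f D i k)).mp hab]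
    · have h1 := congrArg (fun t => t ≫ pullback.snd (hs f D ≫ fs f) (fs f)) hab
      simp only [Category.assoc, m_snd] at h1
      haveI : IsEmpty T' := isEmpty_of_commSq_sigmaι_of_ne (g := X)
        (a := a ≫ pullback.snd _ _) (b := b ≫ pullback.snd _ _)
        ⟨by simpa only [Category.assoc] using h1⟩ hk
      exact (isInitialOfIsEmpty (X := T')).hom_ext _ _
  · have h1 := congrArg (fun t => t ≫ pullback.fst (hs f D ≫ fs f) (fs f)) hab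
    simp only [Category.assoc, m_fst] at h1
    haveI : IsEmpty T' := isEmpty_of_commSq_sigmaι_of_ne (g := fun i => (D.obj i).left)
      (a := a ≫ pullback.fst _ _) (b := b ≫ pullback.fst _ _)
      ⟨by simpa only [Category.assoc] using h1⟩ hi
    exact (isInitialOfIsEmpty (X := T')).hom_ext _ _

/-- The action map `(∐ V) ×_S (∐ X) ⟶ ∐ V`. -/
noncomputable def Act : pullback (hs f D ≫ fs f) (fs f) ⟶ ∐ fun i => (D.obj i).left :=
  (exists_Act f D).exists.choose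

@[reassoc]
theorem m_Act (i k : σ) : m f D i k ≫ Act f D =
    act D i k ≫ Sigma.ι (fun i => (D.obj i).left) k :=
  (exists_Act f D).exists.choose_spec (i, k)

theorem Act_hs : Act f D ≫ hs f D = pullback.snd (hs f D ≫ fs f) (fs f) := by
  refine hom_ext_fpqc _ (m_cover f D) _ _ (fun ik => ?_)
  rw [m_Act_assoc, m_snd, Limits.Sigma.ι_map, act_hom_assoc]

theorem lift_cond {T : Scheme.{u}} {x₀ x₁ : T ⟶ ∐ X} (h : x₀ ≫ fs f = x₁ ≫ fs f)
    (v : Lifts (Over.mk (hs f D)) x₀) : v.1 ≫ hs f D ≫ fs f = x₁ ≫ fs f := by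
  have hv : v.1 ≫ hs f D = x₀ := v.2
  rw [← Category.assoc, hv, h]

/-- The gluing map of the coproduct datum. -/
noncomputable def Φ {T : Scheme.{u}} (x₀ x₁ : T ⟶ ∐ X) (h : x₀ ≫ fs f = x₁ ≫ fs f)
    (v : Lifts (Over.mk (hs f D)) x₀) : Lifts (Over.mk (hs f D)) x₁ :=
  ⟨pullback.lift v.1 x₁ (lift_cond f D h v) ≫ Act f D, by
    change (pullback.lift v.1 x₁ (lift_cond f D h v) ≫ Act f D) ≫ hs f D = x₁
    rw [Category.assoc, Act_hs, pullback.lift_snd]⟩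

theorem Φ_val {T : Scheme.{u}} (x₀ x₁ : T ⟶ ∐ X) (h : x₀ ≫ fs f = x₁ ≫ fs f)
    (v : Lifts (Over.mk (hs f D)) x₀) :
    (Φ f D x₀ x₁ h v).1 = pullback.lift v.1 x₁ (lift_cond f D h v) ≫ Act f D := rfl

theorem cond_local {T T' : Scheme.{u}} {x₀ x₁ : T ⟶ ∐ X} (h : x₀ ≫ fs f = x₁ ≫ fs f)
    (v : Lifts (Over.mk (hs f D)) x₀) (c : T' ⟶ T) {i k : σ} (v' : T' ⟶ (D.obj i).left)
    (y : T' ⟶ X k) (hv : c ≫ v.1 = v' ≫ Sigma.ι (fun i => (D.obj i).left) i)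
    (hy : c ≫ x₁ = y ≫ Sigma.ι X k) : (v' ≫ (D.obj i).hom) ≫ f i = y ≫ f k := by
  have e1 : (v' ≫ (D.obj i).hom) ≫ f i = c ≫ v.1 ≫ hs f D ≫ fs f := by
    rw [← Category.assoc c, hv]; simp
  have e2 : y ≫ f k = c ≫ x₁ ≫ fs f := by
    rw [← Category.assoc c, hy]; simp
  rw [e1, e2, lift_cond f D h v]

/-- The local formula for the gluing map. -/
theorem Φ_local {T T' : Scheme.{u}} {x₀ x₁ : T ⟶ ∐ X} (h : x₀ ≫ fs f = x₁ ≫ fs f)
    (v : Lifts (Over.mk (hs f D)) x₀) (c : T' ⟶ T) {i k : σ} (v' : T' ⟶ (D.obj i).left)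
    (y : T' ⟶ X k) (hv : c ≫ v.1 = v' ≫ Sigma.ι (fun i => (D.obj i).left) i)
    (hy : c ≫ x₁ = y ≫ Sigma.ι X k) :
    c ≫ (Φ f D x₀ x₁ h v).1 = (D.φ (v' ≫ (D.obj i).hom) y (cond_local f D h v c v' y hv hy)
      ⟨v', rfl⟩).1 ≫ Sigma.ι (fun i => (D.obj i).left) k := by
  have h' := cond_local f D h v c v' y hv hy
  have e : c ≫ pullback.lift v.1 x₁ (lift_cond f D h v) =
      pullback.lift v' y (by rw [← Category.assoc]; exact h') ≫ m f D i k := by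
    apply pullback.hom_ext
    · rw [Category.assoc, pullback.lift_fst, Category.assoc, m_fst, pullback.lift_fst_assoc, hv]
    · rw [Category.assoc, pullback.lift_snd, Category.assoc, m_snd, pullback.lift_snd_assoc, hy]
  rw [Φ_val, ← Category.assoc, e, Category.assoc, m_Act, ← Category.assoc]
  congr 1
  exact (φ_eq D (v' ≫ (D.obj i).hom) y h' ⟨v', rfl⟩).symm

theorem Φ_natural {T T' : Scheme.{u}} (g : T' ⟶ T) (x₀ x₁ : T ⟶ ∐ X)
    (h : x₀ ≫ fs f = x₁ ≫ fs f) (h' : (g ≫ x₀) ≫ fs f = (g ≫ x₁) ≫ fs f)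
    (v : Lifts (Over.mk (hs f D)) x₀) (v' : Lifts (Over.mk (hs f D)) (g ≫ x₀))
    (hv' : v'.1 = g ≫ v.1) : (Φ f D (g ≫ x₀) (g ≫ x₁) h' v').1 = g ≫ (Φ f D x₀ x₁ h v).1 := by
  rw [Φ_val, Φ_val, ← Category.assoc]
  congr 1
  apply pullback.hom_ext
  · rw [pullback.lift_fst, Category.assoc, pullback.lift_fst, hv']
  · rw [pullback.lift_snd, Category.assoc, pullback.lift_snd]

theorem Φ_self {T : Scheme.{u}} (x : T ⟶ ∐ X) (v : Lifts (Over.mk (hs f D)) x) :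
    Φ f D x x rfl v = v := by
  apply Subtype.ext
  have hv : v.1 ≫ hs f D = x := v.2
  refine ext_of_local _ _ (fun τ => ?_)
  obtain ⟨i, T', c, v', hc, hτ, e⟩ := local1 v.1 τ
  refine ⟨T', c, hc, hτ, ?_⟩
  have hy : c ≫ x = (v' ≫ (D.obj i).hom) ≫ Sigma.ι X i := by
    rw [← hv, ← Category.assoc, e, Category.assoc, Limits.Sigma.ι_map, Category.assoc]
  rw [Φ_local f D rfl v c v' (v' ≫ (D.obj i).hom) e hy, φ_self_val, e]

theorem Φ_comp {T : Scheme.{u}} (x₀ x₁ x₂ : T ⟶ ∐ X) (h₀₁ : x₀ ≫ fs f = x₁ ≫ fs f)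
    (h₁₂ : x₁ ≫ fs f = x₂ ≫ fs f) (v : Lifts (Over.mk (hs f D)) x₀) :
    Φ f D x₁ x₂ h₁₂ (Φ f D x₀ x₁ h₀₁ v) = Φ f D x₀ x₂ (h₀₁.trans h₁₂) v := by
  apply Subtype.ext
  refine ext_of_local _ _ (fun τ => ?_)
  obtain ⟨i, T₁, c₁, v', hc₁, ⟨τ₁, rfl⟩, e1⟩ := local1 v.1 τ
  obtain ⟨k, T₂, c₂, y₁, hc₂, ⟨τ₂, rfl⟩, e2⟩ := local1 (c₁ ≫ x₁) τ₁
  obtain ⟨l, T₃, c₃, y₂, hc₃, ⟨τ₃, rfl⟩, e3⟩ := local1 (c₂ ≫ c₁ ≫ x₂) τ₂
  refine ⟨T₃, c₃ ≫ c₂ ≫ c₁, inferInstance, ⟨τ₃, rfl⟩, ?_⟩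
  have ev : (c₃ ≫ c₂ ≫ c₁) ≫ v.1 = (c₃ ≫ c₂ ≫ v') ≫ Sigma.ι (fun i => (D.obj i).left) i := by
    simp only [Category.assoc]; rw [e1]
  have ey₁ : (c₃ ≫ c₂ ≫ c₁) ≫ x₁ = (c₃ ≫ y₁) ≫ Sigma.ι X k := by
    simp only [Category.assoc]; rw [← e2]
  have ey₂ : (c₃ ≫ c₂ ≫ c₁) ≫ x₂ = y₂ ≫ Sigma.ι X l := by
    simp only [Category.assoc]; rw [← e3]
  have s1 := Φ_local f D h₀₁ v (c₃ ≫ c₂ ≫ c₁) (c₃ ≫ c₂ ≫ v') (c₃ ≫ y₁) ev ey₁
  have s2 := Φ_local f D h₁₂ (Φ f D x₀ x₁ h₀₁ v) (c₃ ≫ c₂ ≫ c₁) _ y₂ s1 ey₂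
  have s3 := Φ_local f D (h₀₁.trans h₁₂) v (c₃ ≫ c₂ ≫ c₁) (c₃ ≫ c₂ ≫ v') y₂ ev ey₂
  rw [s2, s3]
  congr 1
  have H₁ := cond_local f D h₀₁ v (c₃ ≫ c₂ ≫ c₁) (c₃ ≫ c₂ ≫ v') (c₃ ≫ y₁) ev ey₁
  have H' := cond_local f D (h₀₁.trans h₁₂) v (c₃ ≫ c₂ ≫ c₁) (c₃ ≫ c₂ ≫ v') y₂ ev ey₂
  refine (φ_congr D _ (H₁.symm.trans H')
    (D.φ ((c₃ ≫ c₂ ≫ v') ≫ (D.obj i).hom) (c₃ ≫ y₁) H₁ ⟨c₃ ≫ c₂ ≫ v', rfl⟩).2 rfl _
    (D.φ ((c₃ ≫ c₂ ≫ v') ≫ (D.obj i).hom) (c₃ ≫ y₁) H₁ ⟨c₃ ≫ c₂ ≫ v', rfl⟩) rfl).trans ?_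
  exact congrArg Subtype.val (D.φ_comp _ _ _ H₁ (H₁.symm.trans H') ⟨c₃ ≫ c₂ ≫ v', rfl⟩)

/-- The descent datum relative to the coproduct attached to a descent datum relative to a
family. -/
noncomputable def sigmaDD : SchDD (Sigma.desc f) where
  obj := Over.mk (hs f D)
  φ T x₀ x₁ h :=
    { toFun := Φ f D x₀ x₁ h
      invFun := Φ f D x₁ x₀ h.symm
      left_inv := fun v => by rw [Φ_comp, Φ_self]
      right_inv := fun v => by rw [Φ_comp, Φ_self] }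
  φ_natural T T' g x₀ x₁ h h' v v' hv' := Φ_natural f D g x₀ x₁ h h' v v' hv'
  φ_self T x v := Φ_self f D x v
  φ_comp T x₀ x₁ x₂ h₀₁ h₁₂ v := Φ_comp f D x₀ x₁ x₂ h₀₁ h₁₂ v

theorem sigmaDD_φ_val {T : Scheme.{u}} (x₀ x₁ : T ⟶ ∐ X) (h : x₀ ≫ fs f = x₁ ≫ fs f)
    (v : Lifts (Over.mk (hs f D)) x₀) :
    ((sigmaDD f D).φ x₀ x₁ h v).1 = (Φ f D x₀ x₁ h v).1 := rfl

/-- The components of a coproduct of morphisms are its restrictions to the components. -/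
theorem isPullback_ι (i : σ) : IsPullback (D.obj i).hom (Sigma.ι (fun i => (D.obj i).left) i)
    (Sigma.ι X i) (hs f D) := by
  refine IsOpenImmersion.isPullback _ _ _ _ (Limits.Sigma.ι_map _ _) ?_
  apply SetLike.coe_injective
  ext z
  constructor
  · rintro ⟨x, hx⟩
    obtain ⟨k, v₀, rfl⟩ := (sigmaOpenCover (fun i => (D.obj i).left)).exists_eq z
    have e1 : (hs f D).base ((Sigma.ι (fun i => (D.obj i).left) k).base v₀) =
        (Sigma.ι X k).base ((D.obj k).hom.base v₀) := by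
      rw [← Scheme.Hom.comp_apply, ← Scheme.Hom.comp_apply, Limits.Sigma.ι_map]
    have e2 : (Sigma.ι X i).base x = (Sigma.ι X k).base ((D.obj k).hom.base v₀) := hx.trans e1
    have e3 := (sigmaι_eq_iff X i k x _).mp e2
    have hik : i = k := congrArg Sigma.fst e3
    subst hik
    exact ⟨v₀, rfl⟩
  · rintro ⟨v₀, rfl⟩
    refine ⟨(D.obj i).hom.base v₀, ?_⟩
    rw [← Scheme.Hom.comp_apply, ← Scheme.Hom.comp_apply, Limits.Sigma.ι_map]

section pull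

universe w'

variable (w : ∀ i, Sigma.ι X i ≫ Sigma.desc f = f i ≫ 𝟙 S)

theorem aux1 {T : Scheme.{u}} {i : σ} {x₀ : T ⟶ X i} (u : T ⟶ pullback (hs f D) (Sigma.ι X i))
    (hu : u ≫ pullback.snd (hs f D) (Sigma.ι X i) = x₀) :
    (u ≫ pullback.fst (hs f D) (Sigma.ι X i)) ≫ hs f D = x₀ ≫ Sigma.ι X i := by
  rw [Category.assoc, pullback.condition, ← Category.assoc, hu]

include w in
theorem aux2 {T : Scheme.{u}} {i k : σ} {x₀ : T ⟶ X i} {x₁ : T ⟶ X k}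
    (h : x₀ ≫ f i = x₁ ≫ f k) : (x₀ ≫ Sigma.ι X i) ≫ fs f = (x₁ ≫ Sigma.ι X k) ≫ fs f := by
  rw [Category.assoc, Category.assoc, w, w, Category.comp_id, Category.comp_id, h]

theorem pull_comm {T : Scheme.{u}} {i k : σ} (x₀ : T ⟶ X i) (x₁ : T ⟶ X k)
    (h : x₀ ≫ f i = x₁ ≫ f k) (v : Lifts (D.obj i) x₀)
    (u : T ⟶ pullback (hs f D) (Sigma.ι X i))
    (hu : u ≫ pullback.snd (hs f D) (Sigma.ι X i) = x₀)
    (huv : u = v.1 ≫ (isPullback_ι f D i).flip.isoPullback.hom) :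
    pullback.lift (Φ f D (x₀ ≫ Sigma.ι X i) (x₁ ≫ Sigma.ι X k) (aux2 f w h)
        ⟨u ≫ pullback.fst (hs f D) (Sigma.ι X i), aux1 f D u hu⟩).1 x₁
        (show (Φ f D (x₀ ≫ Sigma.ι X i) (x₁ ≫ Sigma.ι X k) (aux2 f w h)
          ⟨u ≫ pullback.fst (hs f D) (Sigma.ι X i), aux1 f D u hu⟩).1 ≫ hs f D =
            x₁ ≫ Sigma.ι X k from
          (Φ f D (x₀ ≫ Sigma.ι X i) (x₁ ≫ Sigma.ι X k) (aux2 f w h) _).2) =
      (D.φ x₀ x₁ h v).1 ≫ (isPullback_ι f D k).flip.isoPullback.hom := by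
  have hv : v.1 ≫ (D.obj i).hom = x₀ := v.2
  refine pullback.hom_ext (f := hs f D) (g := Sigma.ι X k) ?_ ?_
  · rw [pullback.lift_fst, Category.assoc, IsPullback.isoPullback_hom_fst]
    have e := Φ_local f D (aux2 f w h)
      ⟨u ≫ pullback.fst (hs f D) (Sigma.ι X i), aux1 f D u hu⟩ (𝟙 T) v.1 x₁
      (by
        change 𝟙 T ≫ u ≫ pullback.fst (hs f D) (Sigma.ι X i) = _
        rw [Category.id_comp, huv, Category.assoc, IsPullback.isoPullback_hom_fst])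
      (Category.id_comp _)
    rw [Category.id_comp] at e
    refine e.trans ?_
    congr 1
    exact φ_congr D _ _ hv rfl _ _ rfl
  · rw [pullback.lift_snd, Category.assoc, IsPullback.isoPullback_hom_snd]
    exact ((D.φ x₀ x₁ h v).2).symm

/-- Pulling the coproduct datum back along the coprojections recovers the original datum. -/
noncomputable def pullSigmaIso :
    D ≅ (pullDDFam (f := fun _ : PUnit.{w' + 1} => Sigma.desc f) (f' := f)
      (α := fun _ => PUnit.unit) (p := 𝟙 S) (p' := fun i => Sigma.ι X i) w).obj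
        ((SchDDFam.ofSchDD (Sigma.desc f)).obj (sigmaDD f D)) :=
  isoMk D _ (fun i => Over.isoMk (isPullback_ι f D i).flip.isoPullback
      ((isPullback_ι f D i).flip.isoPullback_hom_snd))
    (fun T i k x₀ x₁ h v w' hw' => pull_comm f D w x₀ x₁ h v w'.1 w'.2 hw')

end pull

end

end Groth.Agent.Helper21.DescSig
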