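import Mathlib
import Groth.Agent.Lib.Helper21.DescA

/-!
# fpqc covering families: topology, and descent of open immersions (helper21)
-/

set_option autoImplicit false
set_option backward.isDefEq.respectTransparency false
set_option backward.isDefEq.respectTransparency.types false

open CategoryTheory CategoryTheory.Limits AlgebraicGeometry

universe w u

namespace Groth.Agent.Helper21.DescOpen

open Desc Groth.Agent.Helper21.DescA

variable {S : Scheme.{u}} {ι : Type w} {X : ι → Scheme.{u}}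

theorem fpqc_data (f : ∀ i, X i ⟶ S) (hf : Presieve.ofArrows X f ∈ Scheme.fpqcPrecoverage S) :
    (∀ i, Flat (f i)) ∧ (∀ x : S, ∃ i, x ∈ Set.range (f i)) ∧
      QuasiCompactCover (PreZeroHypercover.mk ι X f) := by
  have h1 : Presieve.ofArrows X f ∈ Scheme.qcPrecoverage S := hf.1
  have h2 : Presieve.ofArrows X f ∈ Scheme.precoverage @Flat S := hf.2
  have h2' := (Scheme.ofArrows_mem_precoverage_iff _).mp h2
  refine ⟨h2'.2, h2'.1, ?_⟩
  exact (Scheme.presieve₀_mem_qcPrecoverage_iff (E := PreZeroHypercover.mk ι X f)).mp h1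

theorem isOpen_sigma {σ : Type*} [Small.{u} σ] (g : σ → Scheme.{u}) (A : Set ↥(∐ g))
    (h : ∀ k, IsOpen ((Sigma.ι g k).base ⁻¹' A)) : IsOpen A := by
  have : A = ⋃ k, (Sigma.ι g k).base '' ((Sigma.ι g k).base ⁻¹' A) := by
    ext z
    constructor
    · intro hz
      obtain ⟨k, y, rfl⟩ := (sigmaOpenCover g).exists_eq z
      exact Set.mem_iUnion.mpr ⟨k, y, hz, rfl⟩
    · intro hz
      obtain ⟨k, y, hy, rfl⟩ := Set.mem_iUnion.mp hz
      exact hy
  rw [this]
  exact isOpen_iUnion fun k => (Sigma.ι g k).isOpenEmbedding.isOpenMap _ (h k)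

/-- For an fpqc covering family, a subset of the base is open as soon as all its preimages are. -/
theorem isOpen_of_fpqc (f : ∀ i, X i ⟶ S) (hf : Presieve.ofArrows X f ∈ Scheme.fpqcPrecoverage S)
    (W : Set S) (hW : ∀ i, IsOpen ((f i).base ⁻¹' W)) : IsOpen W := by
  obtain ⟨hflat, hsurj, hqc⟩ := fpqc_data f hf
  rw [isOpen_iff_forall_mem_open]
  intro y hy
  obtain ⟨O, hO, hyO⟩ : ∃ O : S.Opens, IsAffineOpen O ∧ y ∈ O := by
    obtain ⟨_, ⟨O, hO, rfl⟩, hyO, -⟩ :=
      S.isBasis_affineOpens.exists_subset_of_mem_open (Set.mem_univ y) isOpen_univ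
    exact ⟨O, hO, hyO⟩
  suffices h : IsOpen (W ∩ (O : Set S)) from ⟨W ∩ O, Set.inter_subset_left, h, hy, hyO⟩
  obtain ⟨n, a, V, hV, hcov⟩ :=
    QuasiCompactCover.exists_isAffineOpen_of_isCompact (PreZeroHypercover.mk ι X f) hO.isCompact
  have hsub : ∀ k : Fin n, Set.range ((V k).ι ≫ f (a k)).base ⊆ Set.range O.ι.base := by
    intro k
    rw [Scheme.Opens.range_ι]
    rintro _ ⟨v, rfl⟩
    have : (f (a k)).base v.1 ∈ ⋃ i, (f (a i)).base '' (V i : Set (X (a i))) :=
      Set.mem_iUnion.mpr ⟨k, v.1, v.2, rfl⟩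
    rw [show (⋃ i, (f (a i)).base '' (V i : Set (X (a i)))) = (O : Set S) from hcov] at this
    simpa using this
  let gk : ∀ k : Fin n, (V k : Scheme.{u}) ⟶ (O : Scheme.{u}) := fun k =>
    IsOpenImmersion.lift O.ι ((V k).ι ≫ f (a k)) (hsub k)
  have hgk : ∀ k, gk k ≫ O.ι = (V k).ι ≫ f (a k) := fun k => IsOpenImmersion.lift_fac _ _ _
  let g : (∐ fun k : Fin n => (V k : Scheme.{u})) ⟶ (O : Scheme.{u}) := Sigma.desc gk
  have hg : ∀ k, Sigma.ι (fun k : Fin n => (V k : Scheme.{u})) k ≫ g = gk k :=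
    fun k => Sigma.ι_desc _ _
  haveI : ∀ k, Flat (gk k) := fun k => by
    haveI : Flat (gk k ≫ O.ι) := by rw [hgk]; haveI := hflat (a k); infer_instance
    exact MorphismProperty.of_postcomp (W := @Flat) (W' := @IsOpenImmersion) (gk k) O.ι
      inferInstance inferInstance
  haveI : Flat g := IsZariskiLocalAtSource.sigmaDesc (fun k => inferInstance)
  haveI : ∀ k, IsAffine ((V k : Scheme.{u})) := fun k => hV k
  haveI : IsAffine (O : Scheme.{u}) := hO
  haveI : QuasiCompact g := inferInstance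
  haveI : Surjective g := by
    refine ⟨fun z => ?_⟩
    have hz : z.1 ∈ ⋃ i, (f (a i)).base '' (V i : Set (X (a i))) := by
      rw [show (⋃ i, (f (a i)).base '' (V i : Set (X (a i)))) = (O : Set S) from hcov]; exact z.2
    obtain ⟨k, v, hv, hvz⟩ := Set.mem_iUnion.mp hz
    refine ⟨(Sigma.ι (fun k : Fin n => (V k : Scheme.{u})) k).base ⟨v, hv⟩, ?_⟩
    rw [← Scheme.Hom.comp_apply, hg]
    apply O.ι.injective
    rw [← Scheme.Hom.comp_apply, hgk]
    simpa using hvz
  have hq := Flat.isQuotientMap_of_surjective g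
  have h1 : IsOpen (O.ι.base ⁻¹' W) := by
    rw [← hq.isOpen_preimage]
    apply isOpen_sigma
    intro k
    have : (Sigma.ι (fun k : Fin n => (V k : Scheme.{u})) k).base ⁻¹' (g.base ⁻¹'
        (O.ι.base ⁻¹' W)) = (V k).ι.base ⁻¹' ((f (a k)).base ⁻¹' W) := by
      ext v
      simp only [Set.mem_preimage]
      rw [← Scheme.Hom.comp_apply, ← Scheme.Hom.comp_apply, ← Category.assoc, hg, hgk,
        Scheme.Hom.comp_apply]
    rw [this]
    exact (hW (a k)).preimage (V k).ι.continuous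
  have h2 := O.ι.isOpenEmbedding.isOpenMap _ h1
  rwa [Set.image_preimage_eq_inter_range, Scheme.Opens.range_ι] at h2

/-- Open immersions descend along fpqc covering families. -/
theorem openImm_effective (f : ∀ i, X i ⟶ S)
    (hf : Presieve.ofArrows X f ∈ Scheme.fpqcPrecoverage S)
    (D : SchDDFam f) (hD : ∀ i, IsOpenImmersion (D.obj i).hom) : D.IsEffective := by
  let W : Set S := ⋃ i, (f i).base '' Set.range (D.obj i).hom.base
  have hA : ∀ i, (f i).base ⁻¹' W = Set.range (D.obj i).hom.base := by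
    intro i
    apply Set.Subset.antisymm
    · intro x hx
      obtain ⟨j, z', ⟨z, rfl⟩, hz⟩ := Set.mem_iUnion.mp hx
      obtain ⟨t, ht1, ht2⟩ := Scheme.Pullback.exists_preimage_pullback
        (f := (D.obj j).hom ≫ f j) (g := f i) z x (by simpa using hz)
      refine ⟨(act D j i).base t, ?_⟩
      rw [← Scheme.Hom.comp_apply, act_hom, ht2]
    · rintro _ ⟨z, rfl⟩
      exact Set.mem_iUnion.mpr ⟨i, _, ⟨z, rfl⟩, rfl⟩
  have hWo : IsOpen W := isOpen_of_fpqc f hf W (fun i => by
    rw [hA]; exact (D.obj i).hom.isOpenEmbedding.isOpen_range)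
  let Wo : S.Opens := ⟨W, hWo⟩
  haveI := hD
  have hr : ∀ i, Set.range (pullback.fst (f i) Wo.ι).base = Set.range (D.obj i).hom.base := by
    intro i
    rw [Scheme.Pullback.range_fst, Scheme.Opens.range_ι]
    exact hA i
  refine ⟨Over.mk Wo.ι, ⟨?_⟩⟩
  exact isoMkOfMono _ _ (fun i => Over.isoMk
    (IsOpenImmersion.isoOfRangeEq (pullback.fst (f i) Wo.ι) (D.obj i).hom (hr i))
    (IsOpenImmersion.isoOfRangeEq_hom_fac _ _ _))

end Groth.Agent.Helper21.DescOpen
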