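import Mathlib
import Groth.Agent.Lib.Helper21.DescGlue1

/-!
# Gluing partial cones of a descent datum (helper21)
-/

set_option autoImplicit false
set_option backward.isDefEq.respectTransparency false
set_option backward.isDefEq.respectTransparency.types false
set_option linter.style.haveILetI false

open CategoryTheory CategoryTheory.Limits AlgebraicGeometry

universe u

namespace Groth.Agent.Helper21.DescGlue

open Desc Groth.Agent.Helper21.DescA Groth.Agent.Helper21.DescFF Groth.Agent.Helper21.DescOpen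

variable {S : Scheme.{u}} {ι : Type u} {X : ι → Scheme.{u}} {f : ∀ i, X i ⟶ S}

theorem comp_apply_eq {A B C B' : Scheme.{u}} {a : A ⟶ B} {b : B ⟶ C} {c : A ⟶ B'} {d : B' ⟶ C}
    (h : a ≫ b = c ≫ d) (z : A) : b.base (a.base z) = d.base (c.base z) := by
  rw [← Scheme.Hom.comp_apply, ← Scheme.Hom.comp_apply, h]

theorem comp_apply_eq' {A B C : Scheme.{u}} {a : A ⟶ B} {b : B ⟶ C} {c : A ⟶ C}
    (h : a ≫ b = c) (z : A) : b.base (a.base z) = c.base z := by
  rw [← Scheme.Hom.comp_apply, h]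

section glue

variable (hf : Presieve.ofArrows X f ∈ Scheme.fpqcPrecoverage S) (D : SchDDFam f)

/-- The index poset: families of opens which are the ranges of a partial cone. -/
abbrev JJ : Type u :=
  {Z : ∀ i, (D.obj i).left.Opens // ∃ E : PCone D, ∀ i, (E.j i).opensRange = Z i}

/-- A chosen partial cone with given ranges. -/
noncomputable def EE (Z : JJ D) : PCone D := Z.2.choose

theorem EE_range (Z : JJ D) (i : ι) : ((EE D Z).j i).opensRange = Z.1 i := Z.2.choose_spec i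

theorem EE_range' (Z : JJ D) (i : ι) :
    Set.range ((EE D Z).j i).base = (Z.1 i : Set (D.obj i).left) := by
  rw [← EE_range D Z i]; simp

theorem EE_le {Z Z' : JJ D} (h : Z ≤ Z') (i : ι) :
    Set.range ((EE D Z).j i).base ⊆ Set.range ((EE D Z').j i).base := by
  rw [EE_range', EE_range']
  exact h i

/-- The diagram of vertices. -/
noncomputable def FF : JJ D ⥤ Scheme.{u} where
  obj Z := (EE D Z).U.left
  map {Z Z'} h := PCone.tmap (EE D Z) hf (EE D Z') (EE_le D (leOfHom h))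
  map_id _ := PCone.tmap_id _ hf _
  map_comp _ _ := (PCone.tmap_comp _ hf _ _ _ _ _).symm

theorem FF_map {Z Z' : JJ D} (h : Z ⟶ Z') :
    (FF hf D).map h = PCone.tmap (EE D Z) hf (EE D Z') (EE_le D (leOfHom h)) := rfl

instance {Z Z' : JJ D} (h : Z ⟶ Z') : IsOpenImmersion ((FF hf D).map h) :=
  (PCone.tmap_props _ hf _ _).1

include hf in
theorem exists_meet (Z Z' : JJ D) : ∃ Z'' : JJ D, ∀ i, Z''.1 i = Z.1 i ⊓ Z'.1 i := by
  obtain ⟨E'', h⟩ := PCone.exists_inter (EE D Z) hf (EE D Z')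
  refine ⟨⟨fun i => Z.1 i ⊓ Z'.1 i, E'', fun i => ?_⟩, fun i => rfl⟩
  apply SetLike.coe_injective
  have := h i
  rw [EE_range', EE_range'] at this
  simpa using this

include hf in
theorem jointly_surj (E : PCone D) (x : E.U.left) : ∃ i, x ∈ Set.range (E.π i).base :=
  (fpqc_data E.π (E.cover hf)).2.1 x

instance : ((FF hf D) ⋙ Scheme.forget).IsLocallyDirected where
  cond {Z₁ Z₂ Z₃} f₁ f₂ x₁ x₂ hx := by
    have hx' : (PCone.tmap (EE D Z₁) hf (EE D Z₃) (EE_le D (leOfHom f₁))).base x₁ =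
        (PCone.tmap (EE D Z₂) hf (EE D Z₃) (EE_le D (leOfHom f₂))).base x₂ := hx
    obtain ⟨Z₀, hZ₀⟩ := exists_meet hf D Z₁ Z₂
    have le₁ : Z₀ ≤ Z₁ := fun i => by rw [hZ₀ i]; exact inf_le_left
    have le₂ : Z₀ ≤ Z₂ := fun i => by rw [hZ₀ i]; exact inf_le_right
    obtain ⟨i, z, hz⟩ := jointly_surj hf D (EE D Z₁) x₁
    -- the point `j¹ z` lies in `Z₂`
    have hsat := (PCone.tmap_props (EE D Z₂) hf (EE D Z₃) (EE_le D (leOfHom f₂))).2 i
    have h3 : (PCone.incl (EE D Z₁) (EE D Z₃) (EE_le D (leOfHom f₁)) i).base z ∈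
        ((EE D Z₃).π i).base ⁻¹' (Set.range
          (PCone.tmap (EE D Z₂) hf (EE D Z₃) (EE_le D (leOfHom f₂))).base) := by
      refine ⟨x₂, ?_⟩
      rw [← hx', ← hz]
      exact comp_apply_eq (PCone.π_tmap (EE D Z₁) hf (EE D Z₃) (EE_le D (leOfHom f₁)) i) z
    rw [hsat] at h3
    have h4 : ((EE D Z₁).j i).base z ∈ Set.range ((EE D Z₂).j i).base := by
      have e := comp_apply_eq' (PCone.incl_j (EE D Z₁) (EE D Z₃) (EE_le D (leOfHom f₁)) i) z
      rw [← e]
      exact h3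
    have h5 : ((EE D Z₁).j i).base z ∈ Set.range ((EE D Z₀).j i).base := by
      rw [EE_range', hZ₀ i, TopologicalSpace.Opens.coe_inf, ← EE_range', ← EE_range']
      exact ⟨⟨z, rfl⟩, h4⟩
    obtain ⟨z₀, hz₀⟩ := h5
    have hincl : (PCone.incl (EE D Z₀) (EE D Z₁) (EE_le D le₁) i).base z₀ = z := by
      apply ((EE D Z₁).j i).isOpenEmbedding.injective
      rw [← hz₀]
      exact comp_apply_eq' (PCone.incl_j (EE D Z₀) (EE D Z₁) (EE_le D le₁) i) z₀
    have hx₁ : (PCone.tmap (EE D Z₀) hf (EE D Z₁) (EE_le D le₁)).base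
        (((EE D Z₀).π i).base z₀) = x₁ := by
      rw [comp_apply_eq (PCone.π_tmap (EE D Z₀) hf (EE D Z₁) _ i) z₀, hincl, hz]
    refine ⟨Z₀, homOfLE le₁, homOfLE le₂, ((EE D Z₀).π i).base z₀, hx₁, ?_⟩
    change (PCone.tmap (EE D Z₀) hf (EE D Z₂) (EE_le D le₂)).base (((EE D Z₀).π i).base z₀) = x₂
    haveI := (PCone.tmap_props (EE D Z₂) hf (EE D Z₃) (EE_le D (leOfHom f₂))).1
    apply (PCone.tmap (EE D Z₂) hf (EE D Z₃) (EE_le D (leOfHom f₂))).isOpenEmbedding.injective
    have e1 := comp_apply_eq' (PCone.tmap_comp (EE D Z₀) hf (EE D Z₂) (EE D Z₃) (EE_le D le₂)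
      (EE_le D (leOfHom f₂)) (EE_le D (le₂.trans (leOfHom f₂)))) (((EE D Z₀).π i).base z₀)
    have e2 := comp_apply_eq' (PCone.tmap_comp (EE D Z₀) hf (EE D Z₁) (EE D Z₃) (EE_le D le₁)
      (EE_le D (leOfHom f₁)) (EE_le D (le₂.trans (leOfHom f₂)))) (((EE D Z₀).π i).base z₀)
    rw [e1, ← e2, hx₁, hx']

/-- The glued scheme. -/
noncomputable def glued : Scheme.{u} := colimit (FF hf D)

/-- The open immersions of the vertices into the glued scheme. -/
noncomputable def gι (Z : JJ D) : (EE D Z).U.left ⟶ glued hf D := colimit.ι (FF hf D) Z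

instance (Z : JJ D) : IsOpenImmersion (gι hf D Z) :=
  inferInstanceAs (IsOpenImmersion (colimit.ι (FF hf D) Z))

theorem map_gι {Z Z' : JJ D} (h : Z ≤ Z') :
    PCone.tmap (EE D Z) hf (EE D Z') (EE_le D h) ≫ gι hf D Z' = gι hf D Z :=
  colimit.w (FF hf D) (homOfLE h)

/-- The structure morphism of the glued scheme. -/
noncomputable def gs : glued hf D ⟶ S :=
  colimit.desc (FF hf D)
    { pt := S
      ι := { app := fun Z => (EE D Z).U.hom
             naturality := fun Z Z' h => by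
              dsimp
              rw [Category.comp_id, FF_map]
              exact PCone.tmap_hom _ hf _ _ } }

@[reassoc]
theorem gι_gs (Z : JJ D) : gι hf D Z ≫ gs hf D = (EE D Z).U.hom :=
  colimit.ι_desc _ _

section cone

variable (hcov : ∀ i (v : (D.obj i).left), ∃ E : PCone D, v ∈ Set.range (E.j i).base)

include hcov in
theorem exists_JJ (i : ι) (v : (D.obj i).left) :
    ∃ Z : JJ D, v ∈ Set.range ((EE D Z).j i).base := by
  obtain ⟨E, hE⟩ := hcov i v
  refine ⟨⟨fun i => (E.j i).opensRange, E, fun _ => rfl⟩, ?_⟩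
  rw [EE_range']
  simpa using hE

include hcov in
theorem cover_V (i : ι) :
    Presieve.ofArrows (fun Z : JJ D => (EE D Z).Y i) (fun Z => (EE D Z).j i) ∈
      Scheme.fpqcPrecoverage (D.obj i).left := by
  apply Scheme.zariskiPrecoverage_le_fpqcPrecoverage
  rw [Scheme.ofArrows_mem_precoverage_iff]
  exact ⟨fun v => exists_JJ D hcov i v, fun Z => inferInstance⟩

include hcov in
theorem exists_πV (i : ι) : ∃! p : (D.obj i).left ⟶ glued hf D,
    ∀ Z : JJ D, (EE D Z).j i ≫ p = (EE D Z).π i ≫ gι hf D Z := by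
  refine glue_fpqc _ (cover_V D hcov i) _ (fun Z Z' T a b hab => ?_)
  obtain ⟨Z'', hZ''⟩ := exists_meet hf D Z Z'
  have le₁ : Z'' ≤ Z := fun i => by rw [hZ'' i]; exact inf_le_left
  have le₂ : Z'' ≤ Z' := fun i => by rw [hZ'' i]; exact inf_le_right
  have hr : Set.range (a ≫ (EE D Z).j i).base ⊆ Set.range ((EE D Z'').j i).base := by
    rw [EE_range', hZ'' i, TopologicalSpace.Opens.coe_inf, ← EE_range', ← EE_range']
    rintro _ ⟨t, rfl⟩
    refine ⟨⟨a.base t, rfl⟩, ?_⟩
    rw [hab]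
    exact ⟨b.base t, rfl⟩
  obtain ⟨c, hc⟩ : ∃ c : T ⟶ (EE D Z'').Y i, c ≫ (EE D Z'').j i = a ≫ (EE D Z).j i :=
    ⟨IsOpenImmersion.lift ((EE D Z'').j i) (a ≫ (EE D Z).j i) hr,
      IsOpenImmersion.lift_fac _ _ _⟩
  have ha : c ≫ PCone.incl (EE D Z'') (EE D Z) (EE_le D le₁) i = a := by
    rw [← cancel_mono ((EE D Z).j i), Category.assoc, PCone.incl_j, hc]
  have hb : c ≫ PCone.incl (EE D Z'') (EE D Z') (EE_le D le₂) i = b := by
    rw [← cancel_mono ((EE D Z').j i), Category.assoc, PCone.incl_j, hc, hab]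
  calc a ≫ (EE D Z).π i ≫ gι hf D Z
      = (c ≫ PCone.incl (EE D Z'') (EE D Z) (EE_le D le₁) i) ≫ (EE D Z).π i ≫ gι hf D Z := by
        rw [ha]
    _ = c ≫ (EE D Z'').π i ≫ gι hf D Z'' := by
        rw [Category.assoc, ← PCone.π_tmap_assoc _ hf, map_gι hf D le₁]
    _ = (c ≫ PCone.incl (EE D Z'') (EE D Z') (EE_le D le₂) i) ≫ (EE D Z').π i ≫
          gι hf D Z' := by
        rw [Category.assoc, ← PCone.π_tmap_assoc _ hf, map_gι hf D le₂]
    _ = b ≫ (EE D Z').π i ≫ gι hf D Z' := by rw [hb]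

/-- The projections to the glued scheme. -/
noncomputable def πV (i : ι) : (D.obj i).left ⟶ glued hf D := (exists_πV hf D hcov i).exists.choose

@[reassoc]
theorem j_πV (i : ι) (Z : JJ D) :
    (EE D Z).j i ≫ πV hf D hcov i = (EE D Z).π i ≫ gι hf D Z :=
  (exists_πV hf D hcov i).exists.choose_spec Z

theorem πV_gs (i : ι) : πV hf D hcov i ≫ gs hf D = (D.obj i).hom ≫ f i := by
  refine hom_ext_fpqc _ (cover_V D hcov i) _ _ (fun Z => ?_)
  rw [j_πV_assoc, gι_gs, ← ((EE D Z).isPullback i).w, Category.assoc]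

/-- Saturation: the preimage of a chart of the glued scheme is the corresponding piece. -/
theorem preimage_range_gι (i : ι) (Z : JJ D) :
    (πV hf D hcov i).base ⁻¹' (Set.range (gι hf D Z).base) =
      Set.range ((EE D Z).j i).base := by
  apply Set.Subset.antisymm
  · intro v hv
    obtain ⟨x, hx⟩ := hv
    obtain ⟨Z', z', rfl⟩ := exists_JJ D hcov i v
    have e1 := comp_apply_eq (j_πV hf D hcov i Z') z'
    rw [← hx] at e1
    have e2 : (colimit.ι (FF hf D) Z).base x = (colimit.ι (FF hf D) Z').base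
        (((EE D Z').π i).base z') := e1
    obtain ⟨Z₀, g, g', y₀, hy₀, hy₀'⟩ := (Scheme.IsLocallyDirected.ι_eq_ι_iff (FF hf D)).mp e2
    have hsat := (PCone.tmap_props (EE D Z₀) hf (EE D Z') (EE_le D (leOfHom g'))).2 i
    have h3 : z' ∈ ((EE D Z').π i).base ⁻¹' (Set.range
        (PCone.tmap (EE D Z₀) hf (EE D Z') (EE_le D (leOfHom g'))).base) := ⟨y₀, hy₀'⟩
    rw [hsat] at h3
    exact EE_le D (leOfHom g) i h3
  · rintro _ ⟨y, rfl⟩
    exact ⟨((EE D Z).π i).base y, (comp_apply_eq (j_πV hf D hcov i Z) y).symm⟩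

theorem isPullback_chart (i : ι) (Z : JJ D) :
    IsPullback ((EE D Z).π i) ((EE D Z).j i) (gι hf D Z) (πV hf D hcov i) := by
  refine IsOpenImmersion.isPullback _ _ _ _ (j_πV hf D hcov i Z) ?_
  apply SetLike.coe_injective
  simpa using preimage_range_gι hf D hcov i Z

theorem isPullback_glued (i : ι) :
    IsPullback (D.obj i).hom (πV hf D hcov i) (f i) (gs hf D) := by
  refine IsPullback.flip ?_
  refine Scheme.isPullback_of_openCover _ _ _ _
    (Scheme.IsLocallyDirected.openCover (FF hf D)) (fun Z => ?_)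
  change IsPullback (pullback.snd (πV hf D hcov i) (gι hf D Z))
    (pullback.fst (πV hf D hcov i) (gι hf D Z) ≫ (D.obj i).hom) (gι hf D Z ≫ gs hf D) (f i)
  have hsq := (isPullback_chart hf D hcov i Z).flip
  refine IsPullback.of_iso ((EE D Z).isPullback i).flip hsq.isoPullback (Iso.refl _) (Iso.refl _)
    (Iso.refl _) ?_ ?_ ?_ ?_
  · simp
  · simp
  · simp [gι_gs]
  · simp

theorem inv_glued ⦃T : Scheme.{u}⦄ ⦃i k : ι⦄ (x₀ : T ⟶ X i) (x₁ : T ⟶ X k)
    (h : x₀ ≫ f i = x₁ ≫ f k) (v : Lifts (D.obj i) x₀) :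
    (D.φ x₀ x₁ h v).1 ≫ πV hf D hcov k = v.1 ≫ πV hf D hcov i := by
  have hcovT : Presieve.ofArrows (fun Z : JJ D => pullback v.1 ((EE D Z).j i))
      (fun Z => pullback.fst v.1 ((EE D Z).j i)) ∈ Scheme.fpqcPrecoverage T :=
    Precoverage.mem_coverings_of_isPullback _ (cover_V D hcov i) v.1 _
      (fun Z => pullback.snd _ _) (fun Z => IsPullback.of_hasPullback _ _)
  refine hom_ext_fpqc _ hcovT _ _ (fun Z => ?_)
  have hv : v.1 ≫ (D.obj i).hom = x₀ := v.2
  obtain ⟨y', hy1, hy2⟩ := (EE D Z).rel (pullback.fst v.1 ((EE D Z).j i) ≫ x₀)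
    (pullback.fst v.1 ((EE D Z).j i) ≫ x₁) (by rw [Category.assoc, h, Category.assoc])
    ⟨pullback.fst v.1 ((EE D Z).j i) ≫ v.1, by rw [Category.assoc, hv]⟩
    (pullback.snd v.1 ((EE D Z).j i)) pullback.condition.symm
  rw [← Category.assoc, φ_nat D _ x₀ x₁ h v, ← hy1, Category.assoc, j_πV, ← Category.assoc, hy2,
    Category.assoc, ← j_πV, ← Category.assoc, ← pullback.condition, Category.assoc]

/-- The glued cone. -/
noncomputable def gluedCone : Cone D where
  U := Over.mk (gs hf D)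
  π := πV hf D hcov
  isPullback := isPullback_glued hf D hcov
  inv := inv_glued hf D hcov

end cone

end glue

/-- **Gluing theorem**: a descent datum relative to an fpqc covering family which is covered by
partial cones is effective. -/
theorem nonempty_cone_of_pcones (hf : Presieve.ofArrows X f ∈ Scheme.fpqcPrecoverage S)
    (D : SchDDFam f)
    (hcov : ∀ i (v : (D.obj i).left), ∃ E : PCone D, v ∈ Set.range (E.j i).base) :
    Nonempty (Cone D) := ⟨gluedCone hf D hcov⟩

end Groth.Agent.Helper21.DescGlue
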