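import Mathlib
import Groth.Agent.Lib.Helper21.DescGlue2

/-!
# Effectiveness of descent data is Zariski-local on the base (helper21)
-/

set_option autoImplicit false
set_option backward.isDefEq.respectTransparency false
set_option backward.isDefEq.respectTransparency.types false
set_option linter.style.haveILetI false

open CategoryTheory CategoryTheory.Limits AlgebraicGeometry

universe u

namespace Groth.Agent.Helper21.DescZ

open Desc Groth.Agent.Helper21.DescA Groth.Agent.Helper21.DescFF Groth.Agent.Helper21.DescOpen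
  Groth.Agent.Helper21.DescGlue

variable {S : Scheme.{u}} {ι : Type u} {X : ι → Scheme.{u}} {f : ∀ i, X i ⟶ S}

/-- The base change of a descent datum along `p : S' ⟶ S`. -/
noncomputable abbrev baseChange (D : SchDDFam f) {S' : Scheme.{u}} (p : S' ⟶ S) :
    SchDDFam (fun i => pullback.snd (f i) p) :=
  (pullDDFam (f := f) (f' := fun i => pullback.snd (f i) p) (α := id) (p := p)
    (p' := fun i => pullback.fst (f i) p) (fun _ => pullback.condition)).obj D

theorem baseChange_φ_val (D : SchDDFam f) {S' : Scheme.{u}} (p : S' ⟶ S) {T : Scheme.{u}}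
    {i k : ι} (x₀ : T ⟶ pullback (f i) p) (x₁ : T ⟶ pullback (f k) p)
    (h : x₀ ≫ pullback.snd (f i) p = x₁ ≫ pullback.snd (f k) p)
    (v : Lifts ((baseChange D p).obj i) x₀) :
    ((baseChange D p).φ x₀ x₁ h v).1 =
      pullback.lift (D.φ (x₀ ≫ pullback.fst (f i) p) (x₁ ≫ pullback.fst (f k) p)
        (pull_compat (f := f) (f' := fun i => pullback.snd (f i) p) (α := id) (p := p)
          (p' := fun i => pullback.fst (f i) p) (fun _ => pullback.condition) x₀ x₁ h)
        ⟨v.1 ≫ pullback.fst (D.obj i).hom (pullback.fst (f i) p), by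
          have e : v.1 ≫ pullback.snd (D.obj i).hom (pullback.fst (f i) p) = x₀ := v.2
          rw [Category.assoc, pullback.condition, ← Category.assoc, e]⟩).1 x₁
        (D.φ _ _ _ _).2 := rfl

/-- A cone of the base change of `D` along an open immersion gives a partial cone of `D`. -/
noncomputable def pconeOfBaseChange (D : SchDDFam f) {S' : Scheme.{u}} (p : S' ⟶ S)
    [IsOpenImmersion p] (c : Cone (baseChange D p)) : PCone D where
  Y i := pullback (D.obj i).hom (pullback.fst (f i) p)
  j i := pullback.fst (D.obj i).hom (pullback.fst (f i) p)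
  hj i := inferInstance
  U := Over.mk (c.U.hom ≫ p)
  π := c.π
  isPullback i := by
    have h1 := (c.isPullback i).paste_horiz (IsPullback.of_hasPullback (f i) p)
    have e : ((baseChange D p).obj i).hom ≫ pullback.fst (f i) p =
        pullback.fst (D.obj i).hom (pullback.fst (f i) p) ≫ (D.obj i).hom :=
      pullback.condition.symm
    rw [e] at h1
    exact h1
  rel T i k x₀ x₁ h v y hy := by
    have hv : v.1 ≫ (D.obj i).hom = x₀ := v.2
    have e0 : (y ≫ pullback.snd (D.obj i).hom (pullback.fst (f i) p)) ≫ pullback.fst (f i) p =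
        x₀ := by
      rw [Category.assoc, ← pullback.condition, ← Category.assoc, hy, hv]
    have hs : x₁ ≫ f k = ((y ≫ pullback.snd (D.obj i).hom (pullback.fst (f i) p)) ≫
        pullback.snd (f i) p) ≫ p := by
      rw [Category.assoc, ← pullback.condition, ← Category.assoc, e0, h]
    have h' : (y ≫ pullback.snd (D.obj i).hom (pullback.fst (f i) p)) ≫ pullback.snd (f i) p =
        pullback.lift x₁ ((y ≫ pullback.snd (D.obj i).hom (pullback.fst (f i) p)) ≫
          pullback.snd (f i) p) hs ≫ pullback.snd (f k) p := by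
      rw [pullback.lift_snd]
    refine ⟨((baseChange D p).φ (y ≫ pullback.snd (D.obj i).hom (pullback.fst (f i) p))
      (pullback.lift x₁ _ hs) h' ⟨y, rfl⟩).1, ?_, c.inv _ _ h' ⟨y, rfl⟩⟩
    rw [baseChange_φ_val, pullback.lift_fst]
    exact φ_congr D _ _ e0 (pullback.lift_fst _ _ _) _ _ hy

theorem pconeOfBaseChange_range (D : SchDDFam f) {S' : Scheme.{u}} (p : S' ⟶ S)
    [IsOpenImmersion p] (c : Cone (baseChange D p)) (i : ι) :
    Set.range ((pconeOfBaseChange D p c).j i).base =
      ((D.obj i).hom ≫ f i).base ⁻¹' (Set.range p.base) := by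
  change Set.range (pullback.fst (D.obj i).hom (pullback.fst (f i) p)).base = _
  rw [Scheme.Pullback.range_fst, Scheme.Pullback.range_fst]
  rfl

/-- **Lemma Z**: effectiveness is local on the base for the Zariski topology. -/
theorem nonempty_cone_of_baseChange (hf : Presieve.ofArrows X f ∈ Scheme.fpqcPrecoverage S)
    (D : SchDDFam f) {A : Type*} (S' : A → Scheme.{u}) (p : ∀ a, S' a ⟶ S)
    [∀ a, IsOpenImmersion (p a)] (hp : ∀ s : S, ∃ a, s ∈ Set.range (p a).base)
    (hc : ∀ a, Nonempty (Cone (baseChange D (p a)))) : Nonempty (Cone D) := by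
  refine nonempty_cone_of_pcones hf D (fun i v => ?_)
  obtain ⟨a, ha⟩ := hp (((D.obj i).hom ≫ f i).base v)
  obtain ⟨c⟩ := hc a
  exact ⟨pconeOfBaseChange D (p a) c, by rw [pconeOfBaseChange_range]; exact ha⟩

end Groth.Agent.Helper21.DescZ
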