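import Mathlib
import Groth.Agent.Lib.Helper21.DescZ
import Groth.Agent.Lib.Helper21.DescR
import Groth.Agent.Lib.Helper21.DescSig

/-!
# fpqc descent of schemes: reduction to the affine case (helper21)
-/

set_option autoImplicit false
set_option backward.isDefEq.respectTransparency false
set_option backward.isDefEq.respectTransparency.types false
set_option linter.style.haveILetI false

open CategoryTheory CategoryTheory.Limits AlgebraicGeometry

universe u

namespace Groth.Agent.Helper21.DescMain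

open Desc Groth.Agent.Helper21.DescA Groth.Agent.Helper21.DescFF Groth.Agent.Helper21.DescOpen
  Groth.Agent.Helper21.DescGlue Groth.Agent.Helper21.DescZ Groth.Agent.Helper21.DescR
  Groth.Agent.Helper21.DescSig

variable {S : Scheme.{u}} {ι : Type u} {X : ι → Scheme.{u}}

/-- An fpqc covering family of an affine scheme has a finite refinement by affine opens of its
members which is still an fpqc covering. -/
theorem affine_refinement [IsAffine S] (f : ∀ i, X i ⟶ S)
    (hf : Presieve.ofArrows X f ∈ Scheme.fpqcPrecoverage S) :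
    ∃ (n : ℕ) (a : Fin n → ι) (V : ∀ k, (X (a k)).Opens), (∀ k, IsAffineOpen (V k)) ∧
      Presieve.ofArrows (fun k => ((V k : (X (a k)).Opens) : Scheme.{u}))
        (fun k => (V k).ι ≫ f (a k)) ∈ Scheme.fpqcPrecoverage S := by
  obtain ⟨hflat, hsurj, hqc⟩ := fpqc_data f hf
  obtain ⟨n, a, V, hV, hcov⟩ :=
    QuasiCompactCover.exists_isAffineOpen_of_isCompact (PreZeroHypercover.mk ι X f)
      (U := ⊤) (by simpa using isCompact_univ)
  have hjs : ∀ x : S, ∃ k, x ∈ Set.range ((V k).ι ≫ f (a k)).base := by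
    intro x
    have hx : x ∈ ⋃ i, (f (a i)).base '' (V i : Set (X (a i))) := by
      rw [show (⋃ i, (f (a i)).base '' (V i : Set (X (a i)))) = ((⊤ : S.Opens) : Set S) from hcov]
      trivial
    obtain ⟨k, v, hv, hvx⟩ := Set.mem_iUnion.mp hx
    have : v ∈ Set.range (V k).ι.base := by rw [Scheme.Opens.range_ι]; exact hv
    obtain ⟨v', rfl⟩ := this
    exact ⟨k, v', by rw [Scheme.Hom.comp_apply]; exact hvx⟩
  refine ⟨n, a, V, hV, ⟨?_, ?_⟩⟩
  · refine (Scheme.presieve₀_mem_qcPrecoverage_iff (E := PreZeroHypercover.mk (Fin n)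
      (fun k => ((V k : (X (a k)).Opens) : Scheme.{u})) (fun k => (V k).ι ≫ f (a k)))).mpr ?_
    refine ⟨fun {U} hU => ?_⟩
    haveI : ∀ k, IsAffine ((V k : (X (a k)).Opens) : Scheme.{u}) := fun k => hV k
    exact IsCompactOpenCovered.of_finite_of_isSpectralMap
      (fun k => ((V k).ι ≫ f (a k)).isSpectralMap) (fun x _ => hjs x) U.2 hU.isCompact
  · rw [Scheme.ofArrows_mem_precoverage_iff]
    refine ⟨hjs, fun k => ?_⟩
    haveI := hflat (a k)
    infer_instance

section main

variable (P : MorphismProperty Scheme.{u}) [P.IsStableUnderBaseChange]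
  (h2 : ∀ (m : ℕ) (Y V : Fin m → Scheme.{u}) (q : ∀ j, Y j ⟶ V j), (∀ j, P (q j)) →
    P (Limits.Sigma.map q))
  (h3 : ∀ (X S : Scheme.{u}) (p : X ⟶ S), IsAffine X → IsAffine S → Flat p → Surjective p →
    ∀ D : Desc.SchDD p, P D.obj.hom → ∃ U : Over S, Nonempty ((Desc.toDD p).obj U ≅ D))

include h2 h3 in
theorem cone_of_affine_base [IsAffine S] (f : ∀ i, X i ⟶ S)
    (hf : Presieve.ofArrows X f ∈ Scheme.fpqcPrecoverage S) (D : SchDDFam f)
    (hD : ∀ i, P (D.obj i).hom) : Nonempty (Cone D) := by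
  obtain ⟨n, a, V, hV, hg⟩ := affine_refinement f hf
  haveI : ∀ k, IsAffine ((V k : (X (a k)).Opens) : Scheme.{u}) := fun k => hV k
  have w : ∀ k, (V k).ι ≫ f (a k) = ((V k).ι ≫ f (a k)) ≫ 𝟙 S :=
    fun k => (Category.comp_id _).symm
  have hDA : ∀ k, P (((pullDDFam w).obj D).obj k).hom :=
    fun k => P.pullback_snd _ _ (hD (a k))
  obtain ⟨hflat, hsurj, -⟩ := fpqc_data _ hg
  haveI : ∀ k, Flat ((V k).ι ≫ f (a k)) := hflat
  haveI : Flat (Sigma.desc fun k => (V k).ι ≫ f (a k)) :=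
    IsZariskiLocalAtSource.sigmaDesc (fun k => inferInstance)
  haveI : Surjective (Sigma.desc fun k => (V k).ι ≫ f (a k)) := by
    refine ⟨fun x => ?_⟩
    obtain ⟨k, y, hy⟩ := hsurj x
    refine ⟨(Sigma.ι (fun k => ((V k : (X (a k)).Opens) : Scheme.{u})) k).base y, ?_⟩
    rw [← Scheme.Hom.comp_apply, Sigma.ι_desc]
    exact hy
  obtain ⟨Us, ⟨es⟩⟩ := h3 _ _ (Sigma.desc fun k => (V k).ι ≫ f (a k)) inferInstance
    inferInstance inferInstance inferInstance
    (sigmaDD (fun k => (V k).ι ≫ f (a k)) ((pullDDFam w).obj D)) (h2 n _ _ _ hDA)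
  have heff : ((SchDDFam.ofSchDD.{u} (Sigma.desc fun k => (V k).ι ≫ f (a k))).obj
      (sigmaDD (fun k => (V k).ι ≫ f (a k)) ((pullDDFam w).obj D))).IsEffective :=
    ⟨Us, ⟨(SchDDFam.ofSchDD _).mapIso es⟩⟩
  obtain ⟨cs⟩ := nonempty_cone_of_isEffective heff
  have wS : ∀ k, Sigma.ι (fun k => ((V k : (X (a k)).Opens) : Scheme.{u})) k ≫
      Sigma.desc (fun k => (V k).ι ≫ f (a k)) = ((V k).ι ≫ f (a k)) ≫ 𝟙 S :=
    fun k => (Sigma.ι_desc _ k).trans (Category.comp_id _).symm
  obtain ⟨U', ⟨e'⟩⟩ := (pullCone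
    (f := fun _ : PUnit.{u + 1} => Sigma.desc fun k => (V k).ι ≫ f (a k))
    (f' := fun k => (V k).ι ≫ f (a k)) (α := fun _ => PUnit.unit)
    (q := fun k => Sigma.ι (fun k => ((V k : (X (a k)).Opens) : Scheme.{u})) k) wS cs).isEffective
  have hA : ((pullDDFam w).obj D).IsEffective :=
    ⟨U', ⟨e' ≪≫ (pullSigmaIso _ ((pullDDFam w).obj D) wS).symm⟩⟩
  obtain ⟨cA⟩ := nonempty_cone_of_isEffective hA
  exact nonempty_cone_of_pull w hg D cA

include h2 h3 in
/-- fpqc descent for `P`-schemes reduces to the case of a flat surjection of affine schemes. -/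
theorem isEffective (f : ∀ i, X i ⟶ S)
    (hf : Presieve.ofArrows X f ∈ Scheme.fpqcPrecoverage S) (D : SchDDFam f)
    (hD : ∀ i, P (D.obj i).hom) : D.IsEffective := by
  suffices hc : Nonempty (Cone D) by
    obtain ⟨c⟩ := hc
    exact c.isEffective
  refine nonempty_cone_of_baseChange hf D (A := S.affineOpens)
    (fun W => ((W.1 : S.Opens) : Scheme.{u})) (fun W => W.1.ι) (fun s => ?_) (fun W => ?_)
  · obtain ⟨_, ⟨O, hO, rfl⟩, hsO, -⟩ :=
      S.isBasis_affineOpens.exists_subset_of_mem_open (Set.mem_univ s) isOpen_univ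
    refine ⟨⟨O, hO⟩, ?_⟩
    rw [Scheme.Opens.range_ι]
    exact hsO
  · haveI : IsAffine ((W.1 : S.Opens) : Scheme.{u}) := W.2
    refine cone_of_affine_base P h2 h3 (fun i => pullback.snd (f i) W.1.ι) ?_
      (baseChange D W.1.ι) (fun i => P.pullback_snd _ _ (hD i))
    exact Precoverage.mem_coverings_of_isPullback f hf W.1.ι _ (fun i => pullback.fst _ _)
      (fun i => (IsPullback.of_hasPullback _ _).flip)

end main

end Groth.Agent.Helper21.DescMain
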