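import Mathlib
import Groth.Agent.Lib.Helper21.DescMain

/-!
# fppf descent of schemes: reduction to the affine case (helper21)
-/

set_option autoImplicit false
set_option backward.isDefEq.respectTransparency false
set_option backward.isDefEq.respectTransparency.types false
set_option linter.style.haveILetI false

open CategoryTheory CategoryTheory.Limits AlgebraicGeometry

universe u

namespace Groth.Agent.Helper21.DescMainFP

open Desc Groth.Agent.Helper21.DescA Groth.Agent.Helper21.DescFF Groth.Agent.Helper21.DescOpen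
  Groth.Agent.Helper21.DescGlue Groth.Agent.Helper21.DescZ Groth.Agent.Helper21.DescR
  Groth.Agent.Helper21.DescSig Groth.Agent.Helper21.DescMain

variable {S : Scheme.{u}} {ι : Type u} {X : ι → Scheme.{u}}

section main

variable (P : MorphismProperty Scheme.{u}) [P.IsStableUnderBaseChange]
  (h2 : ∀ (m : ℕ) (Y V : Fin m → Scheme.{u}) (q : ∀ j, Y j ⟶ V j), (∀ j, P (q j)) →
    P (Limits.Sigma.map q))
  (h3 : ∀ (X S : Scheme.{u}) (p : X ⟶ S), IsAffine X → IsAffine S → Flat p → Surjective p →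
    LocallyOfFinitePresentation p →
    ∀ D : Desc.SchDD p, P D.obj.hom → ∃ U : Over S, Nonempty ((Desc.toDD p).obj U ≅ D))

include h2 h3 in
theorem cone_of_affine_base [IsAffine S] (f : ∀ i, X i ⟶ S)
    (hf : Presieve.ofArrows X f ∈ Scheme.fpqcPrecoverage S)
    (hfp : ∀ i, LocallyOfFinitePresentation (f i)) (D : SchDDFam f)
    (hD : ∀ i, P (D.obj i).hom) : Nonempty (Cone D) := by
  obtain ⟨n, a, V, hV, hg⟩ := affine_refinement f hf
  haveI : ∀ k, IsAffine ((V k : (X (a k)).Opens) : Scheme.{u}) := fun k => hV k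
  have w : ∀ k, (V k).ι ≫ f (a k) = ((V k).ι ≫ f (a k)) ≫ 𝟙 S :=
    fun k => (Category.comp_id _).symm
  have hDA : ∀ k, P (((pullDDFam w).obj D).obj k).hom :=
    fun k => P.pullback_snd _ _ (hD (a k))
  obtain ⟨hflat, hsurj, -⟩ := fpqc_data _ hg
  haveI : ∀ k, Flat ((V k).ι ≫ f (a k)) := hflat
  haveI : Flat (Sigma.desc fun k => (V k).ι ≫ f (a k)) :=
    IsZariskiLocalAtSource.sigmaDesc (fun k => inferInstance)
  haveI : ∀ k, LocallyOfFinitePresentation ((V k).ι ≫ f (a k)) := fun k => by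
    haveI := hfp (a k); infer_instance
  haveI : LocallyOfFinitePresentation (Sigma.desc fun k => (V k).ι ≫ f (a k)) :=
    IsZariskiLocalAtSource.sigmaDesc (fun k => inferInstance)
  haveI : Surjective (Sigma.desc fun k => (V k).ι ≫ f (a k)) := by
    refine ⟨fun x => ?_⟩
    obtain ⟨k, y, hy⟩ := hsurj x
    refine ⟨(Sigma.ι (fun k => ((V k : (X (a k)).Opens) : Scheme.{u})) k).base y, ?_⟩
    rw [← Scheme.Hom.comp_apply, Sigma.ι_desc]
    exact hy
  obtain ⟨Us, ⟨es⟩⟩ := h3 _ _ (Sigma.desc fun k => (V k).ι ≫ f (a k)) inferInstance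
    inferInstance inferInstance inferInstance inferInstance
    (sigmaDD (fun k => (V k).ι ≫ f (a k)) ((pullDDFam w).obj D)) (h2 n _ _ _ hDA)
  have heff : ((SchDDFam.ofSchDD.{u} (Sigma.desc fun k => (V k).ι ≫ f (a k))).obj
      (sigmaDD (fun k => (V k).ι ≫ f (a k)) ((pullDDFam w).obj D))).IsEffective :=
    ⟨Us, ⟨(SchDDFam.ofSchDD _).mapIso es⟩⟩
  obtain ⟨cs⟩ := nonempty_cone_of_isEffective heff
  have wS : ∀ k, Sigma.ι (fun k => ((V k : (X (a k)).Opens) : Scheme.{u})) k ≫
      Sigma.desc (fun k => (V k).ι ≫ f (a k)) = ((V k).ι ≫ f (a k)) ≫ 𝟙 S :=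
    fun k => (Sigma.ι_desc _ k).trans (Category.comp_id _).symm
  obtain ⟨U', ⟨e'⟩⟩ := (pullCone
    (f := fun _ : PUnit.{u + 1} => Sigma.desc fun k => (V k).ι ≫ f (a k))
    (f' := fun k => (V k).ι ≫ f (a k)) (α := fun _ => PUnit.unit)
    (q := fun k => Sigma.ι (fun k => ((V k : (X (a k)).Opens) : Scheme.{u})) k) wS cs).isEffective
  have hA : ((pullDDFam w).obj D).IsEffective :=
    ⟨U', ⟨e' ≪≫ (pullSigmaIso _ ((pullDDFam w).obj D) wS).symm⟩⟩
  obtain ⟨cA⟩ := nonempty_cone_of_isEffective hA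
  exact nonempty_cone_of_pull w hg D cA

include h2 h3 in
/-- fppf descent for `P`-schemes reduces to the case of a flat finitely presented surjection of
affine schemes. -/
theorem isEffective (f : ∀ i, X i ⟶ S)
    (hf : Presieve.ofArrows X f ∈ Scheme.fpqcPrecoverage S)
    (hfp : ∀ i, LocallyOfFinitePresentation (f i)) (D : SchDDFam f)
    (hD : ∀ i, P (D.obj i).hom) : D.IsEffective := by
  suffices hc : Nonempty (Cone D) by
    obtain ⟨c⟩ := hc
    exact c.isEffective
  refine nonempty_cone_of_baseChange hf D (A := S.affineOpens)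
    (fun W => ((W.1 : S.Opens) : Scheme.{u})) (fun W => W.1.ι) (fun s => ?_) (fun W => ?_)
  · obtain ⟨_, ⟨O, hO, rfl⟩, hsO, -⟩ :=
      S.isBasis_affineOpens.exists_subset_of_mem_open (Set.mem_univ s) isOpen_univ
    refine ⟨⟨O, hO⟩, ?_⟩
    rw [Scheme.Opens.range_ι]
    exact hsO
  · haveI : IsAffine ((W.1 : S.Opens) : Scheme.{u}) := W.2
    refine cone_of_affine_base P h2 h3 (fun i => pullback.snd (f i) W.1.ι) ?_
      (fun i => by haveI := hfp i; infer_instance)
      (baseChange D W.1.ι) (fun i => P.pullback_snd _ _ (hD i))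
    exact Precoverage.mem_coverings_of_isPullback f hf W.1.ι _ (fun i => pullback.fst _ _)
      (fun i => (IsPullback.of_hasPullback _ _).flip)

end main

end Groth.Agent.Helper21.DescMainFP
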