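import Mathlib

/-!
# Faithfully flat descent for algebras: the algebraic core (helper21)

`A → B` flat, `C` a `B`-algebra, `ρ : C → B ⊗[A] C` a coaction (`B`-linear, counital, coassociative).
Then for `C₀ = {c | ρ c = 1 ⊗ c}` the natural map `B ⊗[A] C₀ → C` is bijective.
-/

set_option autoImplicit false

open TensorProduct

universe u

namespace Groth.Agent.Helper21.DescAlg

variable {A B C : Type u} [CommRing A] [CommRing B] [CommRing C] [Algebra A B] [Algebra A C]
  [Algebra B C] [IsScalarTower A B C]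

/-- multiplication `B ⊗[A] C → C` -/
noncomputable def mB : B ⊗[A] C →ₗ[B] C := LinearMap.liftBaseChange B (LinearMap.id : C →ₗ[A] C)

theorem mB_tmul (b : B) (c : C) : mB (A := A) (b ⊗ₜ[A] c) = b • c := by
  simp [mB]

/-- `B ⊗[A] (B ⊗[A] C) → B ⊗[A] C` -/
noncomputable def m₂ : B ⊗[A] (B ⊗[A] C) →ₗ[B] B ⊗[A] C :=
  LinearMap.liftBaseChange B (LinearMap.id : B ⊗[A] C →ₗ[A] B ⊗[A] C)

theorem m₂_tmul (b : B) (x : B ⊗[A] C) : m₂ (A := A) (b ⊗ₜ[A] x) = b • x := by
  simp [m₂]

variable (ρ : C →ₐ[A] B ⊗[A] C)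

/-- the subalgebra of coinvariants -/
def C₀ : Subalgebra A C := AlgHom.equalizer ρ Algebra.TensorProduct.includeRight

theorem key1 (hlin : ∀ b : B, ρ (algebraMap B C b) = b ⊗ₜ[A] 1) (e : B ⊗[A] C) :
    m₂ (LinearMap.lTensor B ρ.toLinearMap e) = ρ (mB e) := by
  induction e using TensorProduct.induction_on with
  | zero => simp
  | tmul b c =>
    rw [LinearMap.lTensor_tmul, m₂_tmul, mB_tmul, AlgHom.toLinearMap_apply, Algebra.smul_def b c,
      map_mul, hlin, Algebra.smul_def, Algebra.TensorProduct.algebraMap_apply]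
    rfl
  | add x y hx hy => rw [map_add, map_add, hx, hy, map_add, map_add]

theorem key2 (e : B ⊗[A] C) :
    m₂ (LinearMap.lTensor B
      (Algebra.TensorProduct.includeRight : C →ₐ[A] B ⊗[A] C).toLinearMap e) = e := by
  induction e using TensorProduct.induction_on with
  | zero => simp
  | tmul b c =>
    rw [LinearMap.lTensor_tmul, m₂_tmul, AlgHom.toLinearMap_apply,
      Algebra.TensorProduct.includeRight_apply, TensorProduct.smul_tmul', smul_eq_mul, mul_one]
  | add x y hx hy => rw [map_add, map_add, hx, hy]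

/-- The natural `B`-linear map `B ⊗[A] C₀ → C`. -/
noncomputable def μ : B ⊗[A] (C₀ ρ) →ₗ[B] C :=
  LinearMap.liftBaseChange B ((C₀ ρ).val.toLinearMap)

theorem μ_tmul (b : B) (c : C₀ ρ) : μ ρ (b ⊗ₜ[A] c) = b • (c : C) := by
  simp [μ]

theorem μ_eq (z : B ⊗[A] (C₀ ρ)) :
    μ ρ z = mB (LinearMap.lTensor B ((C₀ ρ).val.toLinearMap) z) := by
  induction z using TensorProduct.induction_on with
  | zero => simp
  | tmul b c => rw [μ_tmul, LinearMap.lTensor_tmul, mB_tmul]; rfl
  | add x y hx hy => rw [map_add, map_add, map_add, hx, hy]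

theorem bijective [Module.Flat A B] (hlin : ∀ b : B, ρ (algebraMap B C b) = b ⊗ₜ[A] 1)
    (hcounit : ∀ c, mB (ρ c) = c)
    (hco : ∀ c, LinearMap.lTensor B ρ.toLinearMap (ρ c) =
      LinearMap.lTensor B (Algebra.TensorProduct.includeRight : C →ₐ[A] B ⊗[A] C).toLinearMap
        (ρ c)) :
    Function.Bijective (μ ρ) := by
  set incl : (C₀ ρ) →ₗ[A] C := (C₀ ρ).val.toLinearMap with hincl
  set δ : C →ₗ[A] B ⊗[A] C := ρ.toLinearMap -
    (Algebra.TensorProduct.includeRight : C →ₐ[A] B ⊗[A] C).toLinearMap with hδ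
  have hex : Function.Exact incl δ := by
    intro c
    constructor
    · intro hc
      have hc' : ρ c = Algebra.TensorProduct.includeRight c := by
        have : ρ c - Algebra.TensorProduct.includeRight c = 0 := hc
        exact sub_eq_zero.mp this
      exact ⟨⟨c, (AlgHom.mem_equalizer _ _ _).mpr hc'⟩, rfl⟩
    · rintro ⟨c₀, rfl⟩
      have : ρ (c₀ : C) = Algebra.TensorProduct.includeRight (c₀ : C) :=
        (AlgHom.mem_equalizer _ _ _).mp c₀.2
      change ρ (c₀ : C) - Algebra.TensorProduct.includeRight (c₀ : C) = 0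
      rw [this, sub_self]
  have hexB := Module.Flat.lTensor_exact B hex
  have hinj : Function.Injective (LinearMap.lTensor B incl) :=
    Module.Flat.lTensor_preserves_injective_linearMap incl Subtype.val_injective
  have hE : ∀ e : B ⊗[A] C, LinearMap.lTensor B δ e = 0 → ρ (mB e) = e := by
    intro e he
    rw [hδ, LinearMap.lTensor_sub, LinearMap.sub_apply, sub_eq_zero] at he
    rw [← key1 ρ hlin, he, key2]
  constructor
  · rw [injective_iff_map_eq_zero]
    intro z hz
    apply hinj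
    rw [map_zero]
    have h1 : LinearMap.lTensor B δ (LinearMap.lTensor B incl z) = 0 :=
      hexB.apply_apply_eq_zero z
    have h2 := hE _ h1
    rw [← μ_eq, hz, map_zero] at h2
    exact h2.symm
  · intro c
    have h1 : LinearMap.lTensor B δ (ρ c) = 0 := by
      rw [hδ, LinearMap.lTensor_sub, LinearMap.sub_apply, hco, sub_self]
    obtain ⟨z, hz⟩ := (hexB (ρ c)).mp h1
    refine ⟨z, ?_⟩
    rw [μ_eq, hz, hcounit]

theorem isPushout [Module.Flat A B] (hlin : ∀ b : B, ρ (algebraMap B C b) = b ⊗ₜ[A] 1)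
    (hcounit : ∀ c, mB (ρ c) = c)
    (hco : ∀ c, LinearMap.lTensor B ρ.toLinearMap (ρ c) =
      LinearMap.lTensor B (Algebra.TensorProduct.includeRight : C →ₐ[A] B ⊗[A] C).toLinearMap
        (ρ c)) :
    Algebra.IsPushout A B (C₀ ρ) C := by
  constructor
  refine IsBaseChange.of_equiv (LinearEquiv.ofBijective (μ ρ) (bijective ρ hlin hcounit hco))
    (fun x => ?_)
  rw [LinearEquiv.ofBijective_apply, μ_tmul, one_smul]
  rfl

end Groth.Agent.Helper21.DescAlg
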