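import Mathlib
import Groth.Agent.Lib.Helper21.DescAlg

/-!
# Flat descent for algebras, stated with abstract pushouts in `CommRingCat` (helper21)
-/

set_option autoImplicit false
set_option linter.style.haveILetI false

open CategoryTheory CategoryTheory.Limits TensorProduct

universe u

namespace Groth.Agent.Helper21.DescRing

open Groth.Agent.Helper21

theorem ring_descent {A B C R R₂ : CommRingCat.{u}} (φ : A ⟶ B) (ψ : B ⟶ C)
    (ι ρ : C ⟶ R) (j : B ⟶ R) (d : R ⟶ C)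
    (hP : IsPushout φ (φ ≫ ψ) j ι)
    (hflat : φ.hom.Flat)
    (hρj : ψ ≫ ρ = j)
    (hdι : ι ≫ d = 𝟙 C) (hdj : j ≫ d = ψ) (hdρ : ρ ≫ d = 𝟙 C)
    (ι₂ : R ⟶ R₂) (j₂ : B ⟶ R₂) (hP₂ : IsPushout φ (φ ≫ j) j₂ ι₂)
    (α β : R ⟶ R₂) (hαι : ι ≫ α = ρ ≫ ι₂) (hαj : j ≫ α = j₂) (hβι : ι ≫ β = ι ≫ ι₂)
    (hβj : j ≫ β = j₂) (hcoc : ρ ≫ α = ρ ≫ β) :
    ∃ (C₀ : CommRingCat.{u}) (a₀ : A ⟶ C₀) (i₀ : C₀ ⟶ C), a₀ ≫ i₀ = φ ≫ ψ ∧
      IsPushout φ a₀ ψ i₀ ∧ i₀ ≫ ρ = i₀ ≫ ι := by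
  letI : Algebra A B := φ.hom.toAlgebra
  letI : Algebra B C := ψ.hom.toAlgebra
  letI : Algebra A C := (φ ≫ ψ).hom.toAlgebra
  haveI : IsScalarTower A B C := IsScalarTower.of_algebraMap_eq (fun _ => rfl)
  haveI : Module.Flat A B := hflat
  have hT : IsPushout φ (φ ≫ ψ)
      (CommRingCat.ofHom (Algebra.TensorProduct.includeLeftRingHom : B →+* B ⊗[A] C))
      (CommRingCat.ofHom (Algebra.TensorProduct.includeRight : C →ₐ[A] B ⊗[A] C).toRingHom) :=
    CommRingCat.isPushout_tensorProduct A B C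
  let e : CommRingCat.of (B ⊗[A] C) ≅ R := hT.isoIsPushout _ _ hP
  have heL : CommRingCat.ofHom (Algebra.TensorProduct.includeLeftRingHom : B →+* B ⊗[A] C) ≫ e.hom
      = j := IsPushout.inl_isoIsPushout_hom _ _ hT hP
  have heR : CommRingCat.ofHom (Algebra.TensorProduct.includeRight : C →ₐ[A] B ⊗[A] C).toRingHom ≫
      e.hom = ι := IsPushout.inr_isoIsPushout_hom _ _ hT hP
  have heL' : ∀ b : B, e.hom.hom (b ⊗ₜ[A] (1 : C)) = j.hom b := fun b =>
    ConcreteCategory.congr_hom heL b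
  have heR' : ∀ c : C, e.hom.hom ((1 : B) ⊗ₜ[A] c) = ι.hom c := fun c =>
    ConcreteCategory.congr_hom heR c
  have heinv : ∀ x : B ⊗[A] C, e.inv.hom (e.hom.hom x) = x := fun x => by
    have := ConcreteCategory.congr_hom e.hom_inv_id x
    simpa using this
  have hehom : ∀ r : R, e.hom.hom (e.inv.hom r) = r := fun r => by
    have := ConcreteCategory.congr_hom e.inv_hom_id r
    simpa using this
  have hjinv : ∀ b : B, e.inv.hom (j.hom b) = b ⊗ₜ[A] (1 : C) := fun b => by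
    rw [← heL', heinv]
  have hιinv : ∀ c : C, e.inv.hom (ι.hom c) = (1 : B) ⊗ₜ[A] c := fun c => by
    rw [← heR', heinv]
  have hρj' : ∀ b : B, ρ.hom (ψ.hom b) = j.hom b := fun b => ConcreteCategory.congr_hom hρj b
  let ρ' : C →ₐ[A] B ⊗[A] C :=
    { (ρ ≫ e.inv).hom with
      commutes' := fun a => by
        change e.inv.hom (ρ.hom (ψ.hom (φ.hom a))) = _
        rw [hρj', hjinv, Algebra.TensorProduct.algebraMap_apply]
        rfl }
  have hρ' : ∀ c, ρ' c = e.inv.hom (ρ.hom c) := fun c => rfl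
  have hlin : ∀ b : B, ρ' (algebraMap B C b) = b ⊗ₜ[A] 1 := fun b => by
    change e.inv.hom (ρ.hom (ψ.hom b)) = _
    rw [hρj', hjinv]
  have hm : ∀ x : B ⊗[A] C, DescAlg.mB x = d.hom (e.hom.hom x) := by
    intro x
    induction x using TensorProduct.induction_on with
    | zero => simp
    | tmul b c =>
      rw [DescAlg.mB_tmul]
      have hbc : b ⊗ₜ[A] c = (b ⊗ₜ[A] (1 : C)) * ((1 : B) ⊗ₜ[A] c) := by simp
      rw [hbc, map_mul, map_mul, heL', heR']
      have h1 : d.hom (j.hom b) = ψ.hom b := ConcreteCategory.congr_hom hdj b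
      have h2 : d.hom (ι.hom c) = c := by simpa using ConcreteCategory.congr_hom hdι c
      rw [h1, h2, Algebra.smul_def]
      rfl
    | add x y hx hy => rw [map_add, hx, hy, map_add, map_add]
  have hcounit : ∀ c, DescAlg.mB (ρ' c) = c := fun c => by
    rw [hm, hρ', hehom]
    simpa using ConcreteCategory.congr_hom hdρ c
  -- the second pushout
  have hT₂ : IsPushout φ (CommRingCat.ofHom (algebraMap A (B ⊗[A] C)))
      (CommRingCat.ofHom (Algebra.TensorProduct.includeLeftRingHom :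
        B →+* B ⊗[A] (B ⊗[A] C)))
      (CommRingCat.ofHom (Algebra.TensorProduct.includeRight :
        (B ⊗[A] C) →ₐ[A] B ⊗[A] (B ⊗[A] C)).toRingHom) :=
    CommRingCat.isPushout_tensorProduct A B (B ⊗[A] C)
  have hP₂' : IsPushout φ (CommRingCat.ofHom (algebraMap A (B ⊗[A] C))) j₂ (e.hom ≫ ι₂) := by
    refine IsPushout.of_iso hP₂ (Iso.refl A) (Iso.refl B) e.symm (Iso.refl R₂) (by simp) ?_
      (by simp) (by simp)
    ext a
    change e.inv.hom (j.hom (φ.hom a)) = algebraMap A (B ⊗[A] C) a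
    rw [hjinv, Algebra.TensorProduct.algebraMap_apply]
    rfl
  let e₂ : CommRingCat.of (B ⊗[A] (B ⊗[A] C)) ≅ R₂ := hT₂.isoIsPushout _ _ hP₂'
  have he₂L' : ∀ b : B, e₂.hom.hom (b ⊗ₜ[A] (1 : B ⊗[A] C)) = j₂.hom b := fun b =>
    ConcreteCategory.congr_hom (IsPushout.inl_isoIsPushout_hom _ _ hT₂ hP₂') b
  have he₂R' : ∀ x : B ⊗[A] C, e₂.hom.hom ((1 : B) ⊗ₜ[A] x) = ι₂.hom (e.hom.hom x) := fun x =>
    ConcreteCategory.congr_hom (IsPushout.inr_isoIsPushout_hom _ _ hT₂ hP₂') x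
  have he₂inv : ∀ x : B ⊗[A] (B ⊗[A] C), e₂.inv.hom (e₂.hom.hom x) = x := fun x => by
    have := ConcreteCategory.congr_hom e₂.hom_inv_id x
    simpa using this
  have he₂inj : Function.Injective e₂.hom.hom := fun x y hxy => by
    rw [← he₂inv x, ← he₂inv y, hxy]
  have hαj' : ∀ b : B, α.hom (j.hom b) = j₂.hom b := fun b => ConcreteCategory.congr_hom hαj b
  have hβj' : ∀ b : B, β.hom (j.hom b) = j₂.hom b := fun b => ConcreteCategory.congr_hom hβj b
  have hαι' : ∀ c : C, α.hom (ι.hom c) = ι₂.hom (ρ.hom c) := fun c =>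
    ConcreteCategory.congr_hom hαι c
  have hβι' : ∀ c : C, β.hom (ι.hom c) = ι₂.hom (ι.hom c) := fun c =>
    ConcreteCategory.congr_hom hβι c
  have hsplit : ∀ (b : B) (c : C), e.hom.hom (b ⊗ₜ[A] c) = j.hom b * ι.hom c := fun b c => by
    have hbc : b ⊗ₜ[A] c = (b ⊗ₜ[A] (1 : C)) * ((1 : B) ⊗ₜ[A] c) := by simp
    rw [hbc, map_mul, heL', heR']
  have hsplit₂ : ∀ (b : B) (x : B ⊗[A] C), e₂.hom.hom (b ⊗ₜ[A] x) =
      j₂.hom b * ι₂.hom (e.hom.hom x) := fun b x => by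
    have hbx : b ⊗ₜ[A] x = (b ⊗ₜ[A] (1 : B ⊗[A] C)) * ((1 : B) ⊗ₜ[A] x) := by simp
    rw [hbx, map_mul, he₂L', he₂R']
  have hα : ∀ x : B ⊗[A] C, e₂.hom.hom (LinearMap.lTensor B ρ'.toLinearMap x) =
      α.hom (e.hom.hom x) := by
    intro x
    induction x using TensorProduct.induction_on with
    | zero => simp
    | tmul b c =>
      rw [LinearMap.lTensor_tmul, AlgHom.toLinearMap_apply, hsplit₂, hρ', hehom, hsplit, map_mul,
        hαj', hαι']
    | add x y hx hy => rw [map_add, map_add, hx, hy, map_add, map_add]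
  have hβ : ∀ x : B ⊗[A] C, e₂.hom.hom (LinearMap.lTensor B
      (Algebra.TensorProduct.includeRight : C →ₐ[A] B ⊗[A] C).toLinearMap x) =
      β.hom (e.hom.hom x) := by
    intro x
    induction x using TensorProduct.induction_on with
    | zero => simp
    | tmul b c =>
      rw [LinearMap.lTensor_tmul, AlgHom.toLinearMap_apply,
        Algebra.TensorProduct.includeRight_apply, hsplit₂, heR', hsplit, map_mul, hβj', hβι']
    | add x y hx hy => rw [map_add, map_add, hx, hy, map_add, map_add]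
  have hco : ∀ c, LinearMap.lTensor B ρ'.toLinearMap (ρ' c) =
      LinearMap.lTensor B (Algebra.TensorProduct.includeRight : C →ₐ[A] B ⊗[A] C).toLinearMap
        (ρ' c) := by
    intro c
    apply he₂inj
    rw [hα, hβ, hρ', hehom]
    exact ConcreteCategory.congr_hom hcoc c
  have hpush : Algebra.IsPushout A B (DescAlg.C₀ ρ') C := DescAlg.isPushout ρ' hlin hcounit hco
  refine ⟨CommRingCat.of (DescAlg.C₀ ρ'), CommRingCat.ofHom (algebraMap A (DescAlg.C₀ ρ')),
    CommRingCat.ofHom (algebraMap (DescAlg.C₀ ρ') C), ?_, ?_, ?_⟩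
  · ext a
    rfl
  · exact (CommRingCat.isPushout_iff_isPushout (R := A) (R' := B) (S := DescAlg.C₀ ρ')
      (S' := C)).mpr hpush
  · ext c₀
    have h0 : ρ' (c₀ : C) = Algebra.TensorProduct.includeRight (c₀ : C) :=
      (AlgHom.mem_equalizer _ _ _).mp c₀.2
    change ρ.hom (c₀ : C) = ι.hom (c₀ : C)
    rw [← heR', ← hehom (ρ.hom (c₀ : C))]
    exact congrArg e.hom.hom h0

end Groth.Agent.Helper21.DescRing
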