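import Mathlib
import Groth.Agent.Lib.Helper21.DescA
import Groth.Agent.Lib.Helper21.DescRing

/-!
# Effectiveness of descent data for affine schemes along a flat morphism of affine schemes (helper21)
-/

set_option autoImplicit false
set_option backward.isDefEq.respectTransparency false
set_option backward.isDefEq.respectTransparency.types false
set_option linter.style.haveILetI false

open CategoryTheory CategoryTheory.Limits AlgebraicGeometry

universe w u

namespace Groth.Agent.Helper21.DescAff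

open Desc Groth.Agent.Helper21.DescA

theorem affine_cone {X S : Scheme.{u}} (p : X ⟶ S) [IsAffine X] [IsAffine S] [Flat p]
    (D : SchDDFam (fun _ : PUnit.{w + 1} => p)) (hV : ∀ j, IsAffine (D.obj j).left) :
    Nonempty (Cone D) := by
  let j₀ : PUnit.{w + 1} := PUnit.unit
  haveI : IsAffine (D.obj j₀).left := hV j₀
  -- the schemes and maps
  let fst := pullback.fst ((D.obj j₀).hom ≫ p) p
  let snd := pullback.snd ((D.obj j₀).hom ≫ p) p
  let a := act D j₀ j₀
  have ha : a ≫ (D.obj j₀).hom = snd := act_hom D j₀ j₀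
  let δ : (D.obj j₀).left ⟶ pullback ((D.obj j₀).hom ≫ p) p :=
    pullback.lift (𝟙 (D.obj j₀).left) (D.obj j₀).hom (by rw [Category.id_comp])
  have hδa : δ ≫ a = 𝟙 _ := diag_act D j₀
  have hδf : δ ≫ fst = 𝟙 _ := pullback.lift_fst _ _ _
  have hδs : δ ≫ snd = (D.obj j₀).hom := pullback.lift_snd _ _ _
  let fst₂ := pullback.fst (snd ≫ p) p
  let snd₂ := pullback.snd (snd ≫ p) p
  let α : pullback (snd ≫ p) p ⟶ pullback ((D.obj j₀).hom ≫ p) p :=
    pullback.lift (fst₂ ≫ a) snd₂ (by rw [Category.assoc, act_hom_assoc]; exact pullback.condition)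
  let β : pullback (snd ≫ p) p ⟶ pullback ((D.obj j₀).hom ≫ p) p :=
    pullback.lift (fst₂ ≫ fst) snd₂
      (by rw [Category.assoc, pullback.condition]; exact pullback.condition)
  have hcoc : α ≫ a = β ≫ a := cocycle_act D j₀ j₀ j₀
  have hαf : α ≫ fst = fst₂ ≫ a := pullback.lift_fst _ _ _
  have hαs : α ≫ snd = snd₂ := pullback.lift_snd _ _ _
  have hβf : β ≫ fst = fst₂ ≫ fst := pullback.lift_fst _ _ _
  have hβs : β ≫ snd = snd₂ := pullback.lift_snd _ _ _
  -- pushouts of rings
  have hP : IsPushout p.appTop (p.appTop ≫ (D.obj j₀).hom.appTop) snd.appTop fst.appTop := by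
    have := (isPushout_appTop_of_isPullback
      (IsPullback.of_hasPullback ((D.obj j₀).hom ≫ p) p)).flip
    rwa [Scheme.Hom.comp_appTop] at this
  have hP₂ : IsPushout p.appTop (p.appTop ≫ snd.appTop) snd₂.appTop fst₂.appTop := by
    have := (isPushout_appTop_of_isPullback (IsPullback.of_hasPullback (snd ≫ p) p)).flip
    rwa [Scheme.Hom.comp_appTop] at this
  obtain ⟨C₀, a₀, i₀, h1, hpo, h3⟩ := DescRing.ring_descent p.appTop (D.obj j₀).hom.appTop
    fst.appTop a.appTop snd.appTop δ.appTop hP p.flat_appTop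
    (by rw [← Scheme.Hom.comp_appTop, ha])
    (by rw [← Scheme.Hom.comp_appTop, hδf, Scheme.Hom.id_appTop])
    (by rw [← Scheme.Hom.comp_appTop, hδs])
    (by rw [← Scheme.Hom.comp_appTop, hδa, Scheme.Hom.id_appTop])
    fst₂.appTop snd₂.appTop hP₂ α.appTop β.appTop
    (by rw [← Scheme.Hom.comp_appTop, ← Scheme.Hom.comp_appTop, hαf])
    (by rw [← Scheme.Hom.comp_appTop, hαs])
    (by rw [← Scheme.Hom.comp_appTop, ← Scheme.Hom.comp_appTop, hβf])
    (by rw [← Scheme.Hom.comp_appTop, hβs])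
    (by rw [← Scheme.Hom.comp_appTop, ← Scheme.Hom.comp_appTop, hcoc])
  -- the cone
  let π : (D.obj j₀).left ⟶ Spec C₀ := (D.obj j₀).left.isoSpec.hom ≫ Spec.map i₀
  have hpb : IsPullback (D.obj j₀).hom π p (Spec.map a₀ ≫ S.isoSpec.inv) := by
    refine (isPullback_SpecMap_of_isPushout _ _ _ _ hpo).of_iso (D.obj j₀).left.isoSpec.symm
      X.isoSpec.symm (Iso.refl _) S.isoSpec.symm ?_ ?_ ?_ ?_
    · exact Scheme.isoSpec_inv_naturality (D.obj j₀).hom
    · simp [π]
    · exact Scheme.isoSpec_inv_naturality p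
    · simp
  have hinv : a ≫ π = fst ≫ π := by
    simp only [π]
    rw [← Scheme.isoSpec_hom_naturality_assoc, ← Scheme.isoSpec_hom_naturality_assoc,
      ← Spec.map_comp, ← Spec.map_comp, h3]
  refine ⟨⟨Over.mk (Spec.map a₀ ≫ S.isoSpec.inv), fun _ => π, fun _ => hpb, ?_⟩⟩
  intro T i j x₀ x₁ h v
  rw [φ_eq D x₀ x₁ h v, Category.assoc]
  change _ ≫ a ≫ π = _
  rw [hinv]
  change _ ≫ fst ≫ π = _
  rw [pullback.lift_fst_assoc]

end Groth.Agent.Helper21.DescAff
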