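import Mathlib
import Groth.Agent.Lib.Helper21.DescMain
import Groth.Agent.Lib.Helper21.DescAff

/-!
# fpqc descent for affine morphisms and closed immersions (helper21)
-/

set_option autoImplicit false
set_option backward.isDefEq.respectTransparency false
set_option backward.isDefEq.respectTransparency.types false
set_option linter.style.haveILetI false

open CategoryTheory CategoryTheory.Limits AlgebraicGeometry

universe v u

namespace Groth.Agent.Helper21.DescProp

open Desc Groth.Agent.Helper21.DescA

/-- The components of a coproduct of morphisms are its restrictions to the components. -/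
theorem isPullback_sigmaMap {σ : Type v} [Small.{u} σ] {Y V : σ → Scheme.{u}}
    (q : ∀ j, Y j ⟶ V j) (i : σ) :
    IsPullback (q i) (Sigma.ι Y i) (Sigma.ι V i) (Limits.Sigma.map q) := by
  refine IsOpenImmersion.isPullback _ _ _ _ (Limits.Sigma.ι_map _ _) ?_
  apply SetLike.coe_injective
  ext z
  constructor
  · rintro ⟨x, hx⟩
    obtain ⟨k, v₀, rfl⟩ := (sigmaOpenCover Y).exists_eq z
    have e1 : (Limits.Sigma.map q).base ((Sigma.ι Y k).base v₀) =
        (Sigma.ι V k).base ((q k).base v₀) := by
      rw [← Scheme.Hom.comp_apply, ← Scheme.Hom.comp_apply, Limits.Sigma.ι_map]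
    have e2 : (Sigma.ι V i).base x = (Sigma.ι V k).base ((q k).base v₀) := hx.trans e1
    have e3 := (sigmaι_eq_iff V i k x _).mp e2
    have hik : i = k := congrArg Sigma.fst e3
    subst hik
    exact ⟨v₀, rfl⟩
  · rintro ⟨v₀, rfl⟩
    refine ⟨(q i).base v₀, ?_⟩
    rw [← Scheme.Hom.comp_apply, ← Scheme.Hom.comp_apply, Limits.Sigma.ι_map]

/-- A property of morphisms which is local on the target is stable under coproducts. -/
theorem sigmaMap_prop (P : MorphismProperty Scheme.{u}) [IsZariskiLocalAtTarget P]
    {σ : Type v} [Small.{u} σ] {Y V : σ → Scheme.{u}} (q : ∀ j, Y j ⟶ V j)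
    (hq : ∀ j, P (q j)) : P (Limits.Sigma.map q) := by
  refine IsZariskiLocalAtTarget.of_openCover (sigmaOpenCover V) (fun j => ?_)
  change P (pullback.snd (Limits.Sigma.map q) (Sigma.ι V j))
  have h := (isPullback_sigmaMap q j).flip
  have e : pullback.snd (Limits.Sigma.map q) (Sigma.ι V j) = h.isoPullback.inv ≫ q j := by
    rw [Iso.eq_inv_comp, h.isoPullback_hom_snd]
  rw [e]
  exact (P.cancel_left_of_respectsIso _ _).mpr (hq j)

/-- Effective descent of affine schemes along a flat morphism of affine schemes. -/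
theorem h3_affine (X S : Scheme.{u}) (p : X ⟶ S) (hX : IsAffine X) (hS : IsAffine S)
    (hp : Flat p) (_ : Surjective p) (D : Desc.SchDD p) (hD : IsAffineHom D.obj.hom) :
    ∃ U : Over S, Nonempty ((Desc.toDD p).obj U ≅ D) := by
  haveI := hX
  haveI := hS
  haveI := hp
  haveI := hD
  have hV : ∀ j, IsAffine (((SchDDFam.ofSchDD.{u} p).obj D).obj j).left :=
    fun _ => isAffine_of_isAffineHom D.obj.hom
  obtain ⟨c⟩ := Groth.Agent.Helper21.DescAff.affine_cone p ((SchDDFam.ofSchDD p).obj D) hV
  obtain ⟨U, ⟨e⟩⟩ := c.isEffective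
  exact ⟨U, ⟨(SchDDFam.toSchDD p).mapIso e⟩⟩

/-- fpqc descent for schemes affine over the members of the covering family. -/
theorem affine_isEffective {S : Scheme.{u}} {ι : Type u} {X : ι → Scheme.{u}} (f : ∀ i, X i ⟶ S)
    (hf : Presieve.ofArrows X f ∈ Scheme.fpqcPrecoverage S) (D : SchDDFam f)
    (hD : ∀ i, IsAffineHom (D.obj i).hom) : D.IsEffective :=
  Groth.Agent.Helper21.DescMain.isEffective (@IsAffineHom : MorphismProperty Scheme.{u})
    (fun _ _ _ q hq => sigmaMap_prop (@IsAffineHom : MorphismProperty Scheme.{u}) q hq)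
    h3_affine f hf D hD

/-- fpqc descent for closed subschemes of the members of the covering family. -/
theorem closedImm_isEffective {S : Scheme.{u}} {ι : Type u} {X : ι → Scheme.{u}}
    (f : ∀ i, X i ⟶ S) (hf : Presieve.ofArrows X f ∈ Scheme.fpqcPrecoverage S) (D : SchDDFam f)
    (hD : ∀ i, IsClosedImmersion (D.obj i).hom) : D.IsEffective :=
  Groth.Agent.Helper21.DescMain.isEffective (@IsClosedImmersion : MorphismProperty Scheme.{u})
    (fun _ _ _ q hq => sigmaMap_prop (@IsClosedImmersion : MorphismProperty Scheme.{u}) q hq)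
    (fun X S p hX hS hp hs D hD => h3_affine X S p hX hS hp hs D (by
      haveI := hD; infer_instance)) f hf D hD

end Groth.Agent.Helper21.DescProp
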