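import Mathlib
import Groth.Agent.Lib.Helper21.DescR

/-!
# The canonical descent datum functor is fully faithful for fpqc covering families (helper21)
-/

set_option autoImplicit false
set_option backward.isDefEq.respectTransparency false
set_option backward.isDefEq.respectTransparency.types false

open CategoryTheory CategoryTheory.Limits AlgebraicGeometry

universe w u

namespace Groth.Agent.Helper21.DescTo

open Desc Groth.Agent.Helper21.DescA Groth.Agent.Helper21.DescFF Groth.Agent.Helper21.DescR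

variable {S : Scheme.{u}} {ι : Type w} {X : ι → Scheme.{u}} {f : ∀ i, X i ⟶ S}

/-- The projections of a cone form an fpqc covering of the vertex. -/
theorem π_mem (hf : Presieve.ofArrows X f ∈ Scheme.fpqcPrecoverage S) {D : SchDDFam f}
    (c : Cone D) : Presieve.ofArrows (fun i => (D.obj i).left) c.π ∈
      Scheme.fpqcPrecoverage c.U.left :=
  Precoverage.mem_coverings_of_isPullback _ hf c.U.hom _ (fun i => (D.obj i).hom)
    (fun i => (c.isPullback i).flip)

/-- In a datum with a cone, the gluing bijection sends `a'` to `b'` when they agree in the vertex. -/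
theorem φ_eq_of_π {D : SchDDFam f} (c : Cone D) {T : Scheme.{u}} {i j : ι}
    (a' : T ⟶ (D.obj i).left) (b' : T ⟶ (D.obj j).left) (hab : a' ≫ c.π i = b' ≫ c.π j)
    (h : (a' ≫ (D.obj i).hom) ≫ f i = (b' ≫ (D.obj j).hom) ≫ f j) :
    (D.φ (a' ≫ (D.obj i).hom) (b' ≫ (D.obj j).hom) h ⟨a', rfl⟩).1 = b' := by
  refine (c.isPullback j).hom_ext ?_ ?_
  · exact (D.φ (a' ≫ (D.obj i).hom) (b' ≫ (D.obj j).hom) h ⟨a', rfl⟩).2
  · rw [c.inv]; exact hab

theorem cond_of_π {D : SchDDFam f} (c : Cone D) {T : Scheme.{u}} {i j : ι}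
    (a' : T ⟶ (D.obj i).left) (b' : T ⟶ (D.obj j).left) (hab : a' ≫ c.π i = b' ≫ c.π j) :
    (a' ≫ (D.obj i).hom) ≫ f i = (b' ≫ (D.obj j).hom) ≫ f j := by
  rw [Category.assoc, (c.isPullback i).w, ← Category.assoc, hab, Category.assoc,
    ← (c.isPullback j).w, Category.assoc]

/-- Morphisms of descent data with cones descend to the vertices. -/
theorem exists_coneHom (hf : Presieve.ofArrows X f ∈ Scheme.fpqcPrecoverage S)
    {D D' : SchDDFam f} (c : Cone D) (c' : Cone D') (a : D ⟶ D') :
    ∃! t : c.U.left ⟶ c'.U.left, ∀ i, c.π i ≫ t = (a.hom i).left ≫ c'.π i := by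
  refine glue_fpqc _ (π_mem hf c) _ (fun i j T' a' b' hab => ?_)
  have h := cond_of_π c a' b' hab
  have e1 := φ_eq_of_π c a' b' hab h
  have hw : (a' ≫ (a.hom i).left) ≫ (D'.obj i).hom = a' ≫ (D.obj i).hom := by
    rw [Category.assoc, Over.w (a.hom i)]
  have e2 := a.comm (a' ≫ (D.obj i).hom) (b' ≫ (D.obj j).hom) h ⟨a', rfl⟩
    ⟨a' ≫ (a.hom i).left, hw⟩ rfl
  have e3 := c'.inv (a' ≫ (D.obj i).hom) (b' ≫ (D.obj j).hom) h ⟨a' ≫ (a.hom i).left, hw⟩
  rw [e2, e1] at e3
  simpa only [Category.assoc] using e3.symm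

theorem full (hf : Presieve.ofArrows X f ∈ Scheme.fpqcPrecoverage S) : (toDDFam f).Full := by
  refine ⟨fun {U U'} a => ?_⟩
  obtain ⟨t, ht, -⟩ := exists_coneHom hf (canCone f U) (canCone f U') a
  have ht' : ∀ i, pullback.snd (f i) U.hom ≫ t = (a.hom i).left ≫ pullback.snd (f i) U'.hom := ht
  have hS : t ≫ U'.hom = U.hom := by
    refine hom_ext_fpqc _ (π_mem hf (canCone f U)) _ _ (fun i => ?_)
    change pullback.snd (f i) U.hom ≫ t ≫ U'.hom = pullback.snd (f i) U.hom ≫ U.hom
    have e : (a.hom i).left ≫ pullback.fst (f i) U'.hom = pullback.fst (f i) U.hom :=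
      Over.w (a.hom i)
    rw [← Category.assoc, ht' i, Category.assoc, ← pullback.condition, ← Category.assoc, e,
      pullback.condition]
  refine ⟨Over.homMk t hS, ?_⟩
  apply SchDDFam.hom_ext
  funext i
  apply Over.OverMorphism.ext
  change pullback.map (f i) U.hom (f i) U'.hom (𝟙 _) t (𝟙 S) (by simp) (by simp [hS]) =
    (a.hom i).left
  apply pullback.hom_ext
  · rw [pullback.lift_fst, Category.comp_id]
    exact (Over.w (a.hom i)).symm
  · rw [pullback.lift_snd]
    exact ht' i

theorem faithful (hf : Presieve.ofArrows X f ∈ Scheme.fpqcPrecoverage S) :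
    (toDDFam f).Faithful := by
  refine ⟨fun {U U'} g g' h => ?_⟩
  apply Over.OverMorphism.ext
  refine hom_ext_fpqc _ (π_mem hf (canCone f U)) _ _ (fun i => ?_)
  change pullback.snd (f i) U.hom ≫ g.left = pullback.snd (f i) U.hom ≫ g'.left
  have e1 : (((toDDFam f).map g).hom i).left ≫ pullback.snd (f i) U'.hom =
      pullback.snd (f i) U.hom ≫ g.left := by
    change pullback.map (f i) U.hom (f i) U'.hom (𝟙 _) g.left (𝟙 S) (by simp) (by simp) ≫ _ = _
    rw [pullback.lift_snd]
  have e2 : (((toDDFam f).map g').hom i).left ≫ pullback.snd (f i) U'.hom =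
      pullback.snd (f i) U.hom ≫ g'.left := by
    change pullback.map (f i) U.hom (f i) U'.hom (𝟙 _) g'.left (𝟙 S) (by simp) (by simp) ≫ _ = _
    rw [pullback.lift_snd]
  rw [← e1, ← e2, h]

end Groth.Agent.Helper21.DescTo
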