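import Mathlib
import Groth.Agent.Lib.Helper21.DescTo
import Groth.Agent.Lib.Helper21.DescOpen

/-!
# Open sub-data of effective descent data are effective (helper21)
-/

set_option autoImplicit false
set_option backward.isDefEq.respectTransparency false
set_option backward.isDefEq.respectTransparency.types false
set_option linter.style.haveILetI false

open CategoryTheory CategoryTheory.Limits AlgebraicGeometry

universe w u

namespace Groth.Agent.Helper21.DescQA

open Desc Groth.Agent.Helper21.DescA Groth.Agent.Helper21.DescFF Groth.Agent.Helper21.DescOpen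

variable {S : Scheme.{u}} {ι : Type w} {X : ι → Scheme.{u}} {f : ∀ i, X i ⟶ S}

section sub

variable (D : SchDDFam f) (Y : Over S) (j : D ⟶ (toDDFam f).obj Y)

/-- The components of a morphism to a canonical datum. -/
noncomputable abbrev jl (i : ι) : (D.obj i).left ⟶ pullback (f i) Y.hom := (j.hom i).left

theorem jl_fst (i : ι) : jl D Y j i ≫ pullback.fst (f i) Y.hom = (D.obj i).hom := Over.w (j.hom i)

/-- The projection to `Y` is invariant under the gluing bijections. -/
theorem inv_snd {T : Scheme.{u}} {i k : ι} (x₀ : T ⟶ X i) (x₁ : T ⟶ X k)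
    (h : x₀ ≫ f i = x₁ ≫ f k) (v : Lifts (D.obj i) x₀) :
    (D.φ x₀ x₁ h v).1 ≫ jl D Y j k ≫ pullback.snd (f k) Y.hom =
      v.1 ≫ jl D Y j i ≫ pullback.snd (f i) Y.hom := by
  have hv : v.1 ≫ (D.obj i).hom = x₀ := v.2
  have key := j.comm x₀ x₁ h v ⟨v.1 ≫ jl D Y j i, by
    change (v.1 ≫ jl D Y j i) ≫ pullback.fst (f i) Y.hom = x₀
    rw [Category.assoc, jl_fst]; exact hv⟩ rfl
  change (canMapFam f Y x₀ x₁ h _).1 = _ at key
  rw [canMapFam_val] at key
  rw [← Category.assoc, ← key, pullback.lift_snd, Category.assoc]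

/-- The image in `Y` of the sub-datum. -/
def W : Set Y.left := ⋃ i, (pullback.snd (f i) Y.hom).base '' Set.range (jl D Y j i).base

theorem preimage_W (i : ι) :
    (pullback.snd (f i) Y.hom).base ⁻¹' W D Y j = Set.range (jl D Y j i).base := by
  apply Set.Subset.antisymm
  · intro z hz
    obtain ⟨k, z', ⟨v, rfl⟩, hvz⟩ := Set.mem_iUnion.mp hz
    obtain ⟨t, ht1, ht2⟩ := Scheme.Pullback.exists_preimage_pullback
      (f := jl D Y j k ≫ pullback.snd (f k) Y.hom) (g := pullback.snd (f i) Y.hom) v z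
      (by rw [Scheme.Hom.comp_apply]; exact hvz)
    set fstP := pullback.fst (jl D Y j k ≫ pullback.snd (f k) Y.hom) (pullback.snd (f i) Y.hom)
      with hfstP
    set sndP := pullback.snd (jl D Y j k ≫ pullback.snd (f k) Y.hom) (pullback.snd (f i) Y.hom)
      with hsndP
    have hc : fstP ≫ jl D Y j k ≫ pullback.snd (f k) Y.hom = sndP ≫ pullback.snd (f i) Y.hom :=
      pullback.condition
    have h : (fstP ≫ (D.obj k).hom) ≫ f k = (sndP ≫ pullback.fst (f i) Y.hom) ≫ f i := by
      have e1 : (D.obj k).hom ≫ f k = (jl D Y j k ≫ pullback.snd (f k) Y.hom) ≫ Y.hom := by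
        rw [← jl_fst D Y j k, Category.assoc, pullback.condition, Category.assoc]
      calc (fstP ≫ (D.obj k).hom) ≫ f k
          = fstP ≫ (jl D Y j k ≫ pullback.snd (f k) Y.hom) ≫ Y.hom := by
            rw [Category.assoc, e1]
        _ = (sndP ≫ pullback.snd (f i) Y.hom) ≫ Y.hom := by
            rw [← Category.assoc, hc]
        _ = (sndP ≫ pullback.fst (f i) Y.hom) ≫ f i := by
            rw [Category.assoc, ← pullback.condition, Category.assoc]
    have hw : (D.φ (fstP ≫ (D.obj k).hom) (sndP ≫ pullback.fst (f i) Y.hom) h ⟨fstP, rfl⟩).1 ≫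
        jl D Y j i = sndP := by
      apply pullback.hom_ext
      · rw [Category.assoc, jl_fst]
        exact (D.φ (fstP ≫ (D.obj k).hom) (sndP ≫ pullback.fst (f i) Y.hom) h ⟨fstP, rfl⟩).2
      · rw [Category.assoc, inv_snd D Y j _ _ h ⟨fstP, rfl⟩]
        exact hc
    refine ⟨(D.φ (fstP ≫ (D.obj k).hom) (sndP ≫ pullback.fst (f i) Y.hom) h
      ⟨fstP, rfl⟩).1.base t, ?_⟩
    rw [← Scheme.Hom.comp_apply, hw]
    exact ht2
  · rintro _ ⟨v, rfl⟩
    exact Set.mem_iUnion.mpr ⟨i, _, ⟨v, rfl⟩, rfl⟩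

variable (hf : Presieve.ofArrows X f ∈ Scheme.fpqcPrecoverage S)
  (hj : ∀ i, IsOpenImmersion (j.hom i).left)

include hf hj in
theorem isOpen_W : IsOpen (W D Y j) := by
  have hcov : Presieve.ofArrows (fun i => pullback (f i) Y.hom)
      (fun i => pullback.snd (f i) Y.hom) ∈ Scheme.fpqcPrecoverage Y.left :=
    Precoverage.mem_coverings_of_isPullback f hf Y.hom _ (fun i => pullback.fst (f i) Y.hom)
      (fun i => (IsPullback.of_hasPullback (f i) Y.hom).flip)
  refine isOpen_of_fpqc _ hcov _ (fun i => ?_)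
  rw [preimage_W]
  haveI := hj i
  exact (jl D Y j i).isOpenEmbedding.isOpen_range

include hf hj in
/-- An open sub-datum of a canonical descent datum has a cone. -/
theorem cone_of_openSub : Nonempty (Cone D) := by
  let Wo : Y.left.Opens := ⟨W D Y j, isOpen_W D Y j hf hj⟩
  haveI := hj
  have hr : ∀ i, Set.range (jl D Y j i ≫ pullback.snd (f i) Y.hom).base ⊆
      Set.range Wo.ι.base := by
    intro i
    rw [Scheme.Opens.range_ι]
    rintro _ ⟨v, rfl⟩
    rw [Scheme.Hom.comp_apply]
    exact Set.mem_iUnion.mpr ⟨i, _, ⟨v, rfl⟩, rfl⟩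
  let π : ∀ i, (D.obj i).left ⟶ (Wo : Scheme.{u}) := fun i =>
    IsOpenImmersion.lift Wo.ι (jl D Y j i ≫ pullback.snd (f i) Y.hom) (hr i)
  have hπ : ∀ i, π i ≫ Wo.ι = jl D Y j i ≫ pullback.snd (f i) Y.hom :=
    fun i => IsOpenImmersion.lift_fac _ _ _
  have h1 : ∀ i, IsPullback (π i) (jl D Y j i) Wo.ι (pullback.snd (f i) Y.hom) := by
    intro i
    refine IsOpenImmersion.isPullback _ _ _ _ (hπ i).symm ?_
    apply SetLike.coe_injective
    change (pullback.snd (f i) Y.hom).base ⁻¹' (Wo.ι.opensRange : Set Y.left) =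
      Set.range (jl D Y j i).base
    rw [Scheme.Opens.opensRange_ι]
    exact preimage_W D Y j i
  refine ⟨⟨Over.mk (Wo.ι ≫ Y.hom), π, fun i => ?_, ?_⟩⟩
  · have h2 := ((h1 i).paste_vert (IsPullback.of_hasPullback (f i) Y.hom).flip).flip
    rw [jl_fst] at h2
    exact h2
  · intro T i k x₀ x₁ h v
    rw [← cancel_mono Wo.ι, Category.assoc, Category.assoc, hπ, hπ]
    exact inv_snd D Y j x₀ x₁ h v

end sub

end Groth.Agent.Helper21.DescQA
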