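import Mathlib
import Groth.Agent.Lib.Helper21.DescQA1
import Groth.Agent.Lib.Helper21.DescRing

/-!
# Effectiveness of descent data for quasi-affine schemes along a flat surjection of affine schemes
(helper21)
-/

set_option autoImplicit false
set_option backward.isDefEq.respectTransparency false
set_option backward.isDefEq.respectTransparency.types false
set_option linter.style.haveILetI false

open CategoryTheory CategoryTheory.Limits AlgebraicGeometry

universe w u

namespace Groth.Agent.Helper21.DescQA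

open Desc Groth.Agent.Helper21.DescA

/-- Flat base change for global sections of a qcqs scheme over an affine base. -/
theorem fbc {V X S : Scheme.{u}} (h : V ⟶ S) (p : X ⟶ S) [IsAffine X] [IsAffine S] [Flat p]
    [CompactSpace V] [QuasiSeparatedSpace V] :
    IsPushout p.appTop h.appTop (pullback.snd h p).appTop (pullback.fst h p).appTop := by
  have H : IsPullback (pullback.fst h p) (pullback.snd h p) h p := IsPullback.of_hasPullback h p
  have hUST : (⊤ : X.Opens) ≤ p ⁻¹ᵁ (⊤ : S.Opens) := le_rfl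
  have hUSX : (⊤ : V.Opens) ≤ h ⁻¹ᵁ (⊤ : S.Opens) := le_rfl
  have hUY : (⊤ : (pullback h p).Opens) = (pullback.fst h p) ⁻¹ᵁ (⊤ : V.Opens) ⊓
      (pullback.snd h p) ⁻¹ᵁ (⊤ : X.Opens) := by simp
  haveI := isIso_pushoutSection_of_isQuasiSeparated_of_flat_right H hUST hUSX hUY
    (isAffineOpen_top S) (isAffineOpen_top X) isCompact_univ isQuasiSeparated_univ
  have := (isIso_pushoutSection_iff H hUST hUSX hUY).mp inferInstance
  have h2 := this.flip
  have e1 : p.appLE ⊤ ⊤ hUST = p.appTop := Scheme.Hom.appLE_eq_app p (U := ⊤)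
  have e2 : h.appLE ⊤ ⊤ hUSX = h.appTop := Scheme.Hom.appLE_eq_app h (U := ⊤)
  have e3 : ∀ hh, (pullback.snd h p).appLE ⊤ ⊤ hh = (pullback.snd h p).appTop :=
    fun _ => Scheme.Hom.appLE_eq_app (pullback.snd h p) (U := ⊤)
  have e4 : ∀ hh, (pullback.fst h p).appLE ⊤ ⊤ hh = (pullback.fst h p).appTop :=
    fun _ => Scheme.Hom.appLE_eq_app (pullback.fst h p) (U := ⊤)
  rw [e1, e2, e3, e4] at h2
  exact h2

theorem qa_cone {X S : Scheme.{u}} (p : X ⟶ S) [IsAffine X] [IsAffine S] [Flat p] [Surjective p]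
    (D : SchDDFam (fun _ : PUnit.{w + 1} => p)) (hV : ∀ j, (D.obj j).left.IsQuasiAffine) :
    Nonempty (Cone D) := by
  let j₀ : PUnit.{w + 1} := PUnit.unit
  haveI : (D.obj j₀).left.IsQuasiAffine := hV j₀
  -- the schemes and maps
  let fst := pullback.fst ((D.obj j₀).hom ≫ p) p
  let snd := pullback.snd ((D.obj j₀).hom ≫ p) p
  haveI : IsAffineHom p := isAffineHom_of_isAffine p
  haveI : IsAffineHom fst :=
    MorphismProperty.pullback_fst (P := @IsAffineHom) ((D.obj j₀).hom ≫ p) p ‹IsAffineHom p›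
  haveI : (pullback ((D.obj j₀).hom ≫ p) p).IsQuasiAffine := Scheme.IsQuasiAffine.of_isAffineHom fst
  let a := act D j₀ j₀
  have ha : a ≫ (D.obj j₀).hom = snd := act_hom D j₀ j₀
  let δ : (D.obj j₀).left ⟶ pullback ((D.obj j₀).hom ≫ p) p :=
    pullback.lift (𝟙 (D.obj j₀).left) (D.obj j₀).hom (by rw [Category.id_comp])
  have hδa : δ ≫ a = 𝟙 _ := diag_act D j₀
  have hδf : δ ≫ fst = 𝟙 _ := pullback.lift_fst _ _ _
  have hδs : δ ≫ snd = (D.obj j₀).hom := pullback.lift_snd _ _ _
  let fst₂ := pullback.fst (snd ≫ p) p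
  let snd₂ := pullback.snd (snd ≫ p) p
  let α : pullback (snd ≫ p) p ⟶ pullback ((D.obj j₀).hom ≫ p) p :=
    pullback.lift (fst₂ ≫ a) snd₂ (by rw [Category.assoc, act_hom_assoc]; exact pullback.condition)
  let β : pullback (snd ≫ p) p ⟶ pullback ((D.obj j₀).hom ≫ p) p :=
    pullback.lift (fst₂ ≫ fst) snd₂
      (by rw [Category.assoc, pullback.condition]; exact pullback.condition)
  have hcoc : α ≫ a = β ≫ a := cocycle_act D j₀ j₀ j₀
  have hαf : α ≫ fst = fst₂ ≫ a := pullback.lift_fst _ _ _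
  have hαs : α ≫ snd = snd₂ := pullback.lift_snd _ _ _
  have hβf : β ≫ fst = fst₂ ≫ fst := pullback.lift_fst _ _ _
  have hβs : β ≫ snd = snd₂ := pullback.lift_snd _ _ _
  -- pushouts of rings
  have hP : IsPushout p.appTop (p.appTop ≫ (D.obj j₀).hom.appTop) snd.appTop fst.appTop := by
    have := fbc ((D.obj j₀).hom ≫ p) p
    rwa [Scheme.Hom.comp_appTop] at this
  have hP₂ : IsPushout p.appTop (p.appTop ≫ snd.appTop) snd₂.appTop fst₂.appTop := by
    have := fbc (snd ≫ p) p
    rwa [Scheme.Hom.comp_appTop] at this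
  obtain ⟨C₀, a₀, i₀, h1, hpo, h3⟩ := DescRing.ring_descent p.appTop (D.obj j₀).hom.appTop
    fst.appTop a.appTop snd.appTop δ.appTop hP p.flat_appTop
    (by rw [← Scheme.Hom.comp_appTop, ha])
    (by rw [← Scheme.Hom.comp_appTop, hδf, Scheme.Hom.id_appTop])
    (by rw [← Scheme.Hom.comp_appTop, hδs])
    (by rw [← Scheme.Hom.comp_appTop, hδa, Scheme.Hom.id_appTop])
    fst₂.appTop snd₂.appTop hP₂ α.appTop β.appTop
    (by rw [← Scheme.Hom.comp_appTop, ← Scheme.Hom.comp_appTop, hαf])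
    (by rw [← Scheme.Hom.comp_appTop, hαs])
    (by rw [← Scheme.Hom.comp_appTop, ← Scheme.Hom.comp_appTop, hβf])
    (by rw [← Scheme.Hom.comp_appTop, hβs])
    (by rw [← Scheme.Hom.comp_appTop, ← Scheme.Hom.comp_appTop, hcoc])
  -- the ambient affine scheme over `S`
  let Y : Over S := Over.mk (Spec.map a₀ ≫ S.isoSpec.inv)
  let πY : (D.obj j₀).left ⟶ Spec C₀ := (D.obj j₀).left.toSpecΓ ≫ Spec.map i₀
  have hpb : IsPullback (Spec.map (D.obj j₀).hom.appTop ≫ X.isoSpec.inv) (Spec.map i₀) p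
      (Spec.map a₀ ≫ S.isoSpec.inv) := by
    refine (isPullback_SpecMap_of_isPushout _ _ _ _ hpo).of_iso (Iso.refl _)
      X.isoSpec.symm (Iso.refl _) S.isoSpec.symm ?_ ?_ ?_ ?_
    · simp
    · simp
    · exact Scheme.isoSpec_inv_naturality p
    · simp
  have hinv : a ≫ πY = fst ≫ πY := by
    simp only [πY]
    rw [Scheme.toSpecΓ_naturality_assoc, Scheme.toSpecΓ_naturality_assoc,
      ← Spec.map_comp, ← Spec.map_comp, h3]
  have hfac : (D.obj j₀).left.toSpecΓ ≫ Spec.map (D.obj j₀).hom.appTop ≫ X.isoSpec.inv =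
      (D.obj j₀).hom := by
    rw [← Scheme.toSpecΓ_naturality_assoc]
    have : X.toSpecΓ = X.isoSpec.hom := rfl
    rw [this, Iso.hom_inv_id, Category.comp_id]
  let jl : (D.obj j₀).left ⟶ pullback p Y.hom := (D.obj j₀).left.toSpecΓ ≫ hpb.isoPullback.hom
  have e1 : hpb.isoPullback.hom ≫ pullback.fst p Y.hom =
      Spec.map (D.obj j₀).hom.appTop ≫ X.isoSpec.inv := hpb.isoPullback_hom_fst
  have e2 : hpb.isoPullback.hom ≫ pullback.snd p Y.hom = Spec.map i₀ := hpb.isoPullback_hom_snd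
  have hjl1 : jl ≫ pullback.fst p Y.hom = (D.obj j₀).hom := by
    change ((D.obj j₀).left.toSpecΓ ≫ hpb.isoPullback.hom) ≫ pullback.fst p Y.hom = _
    rw [Category.assoc, e1]
    exact hfac
  have hjl2 : jl ≫ pullback.snd p Y.hom = πY := by
    change ((D.obj j₀).left.toSpecΓ ≫ hpb.isoPullback.hom) ≫ pullback.snd p Y.hom = _
    rw [Category.assoc, e2]
  haveI : IsOpenImmersion jl := by
    simp only [jl]; infer_instance
  have hf : Presieve.ofArrows (fun _ : PUnit.{w + 1} => X) (fun _ => p) ∈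
      Scheme.fpqcPrecoverage S := by
    rw [Presieve.ofArrows_pUnit]; exact Scheme.Hom.singleton_mem_fpqcPrecoverage p
  let j : D ⟶ (toDDFam (fun _ : PUnit.{w + 1} => p)).obj Y :=
    ⟨fun _ => Over.homMk jl hjl1, fun T i k x₀ x₁ h v ww hww => by
      have hww' : ww.1 = v.1 ≫ jl := hww
      change (canMapFam (fun _ : PUnit.{w + 1} => p) Y (i := i) (j := k) x₀ x₁ h ww).1 =
        (D.φ x₀ x₁ h v).1 ≫ jl
      rw [canMapFam_val]
      apply pullback.hom_ext
      · rw [pullback.lift_fst, Category.assoc, hjl1]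
        exact ((D.φ x₀ x₁ h v).2).symm
      · rw [pullback.lift_snd, Category.assoc, hjl2, hww', Category.assoc, hjl2,
          φ_eq D x₀ x₁ h v, Category.assoc]
        change _ = _ ≫ a ≫ πY
        rw [hinv]
        change _ = _ ≫ fst ≫ πY
        rw [pullback.lift_fst_assoc]⟩
  exact cone_of_openSub D Y j hf (fun _ => by
    change IsOpenImmersion jl; infer_instance)

end Groth.Agent.Helper21.DescQA
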