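import Mathlib
import Groth.Agent.Lib.Helper21.DescQA2
import Groth.Agent.Lib.Helper21.DescProp
import Groth.Prelude.Def_Mor2

/-!
# fpqc descent for quasi-affine morphisms (helper21)
-/

set_option autoImplicit false
set_option backward.isDefEq.respectTransparency false
set_option backward.isDefEq.respectTransparency.types false
set_option linter.style.haveILetI false

open CategoryTheory CategoryTheory.Limits AlgebraicGeometry TopologicalSpace

universe u

namespace Groth.Agent.Helper21.DescQA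

open Desc Groth.Agent.Helper21.DescA

/-- A quasi-compact scheme covered by quasi-affine basic opens of global sections is
quasi-affine. -/
theorem isQuasiAffine_of_forall_exists_basicOpen (X : Scheme.{u}) [CompactSpace X]
    (H : ∀ x : X, ∃ r : Γ(X, ⊤), (X.basicOpen r : Scheme.{u}).IsQuasiAffine ∧ x ∈ X.basicOpen r) :
    X.IsQuasiAffine := by
  suffices IsOpenImmersion X.toSpecΓ by constructor
  have : QuasiSeparatedSpace X := by
    choose r hr hxr using H
    refine .of_isOpenCover (U := (X.basicOpen <| r ·))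
      (eq_top_iff.mpr fun _ _ ↦ Opens.mem_iSup.mpr ⟨_, hxr _⟩)
      (fun _ ↦ isRetrocompact_basicOpen _) (fun x ↦ ?_)
    refine (isQuasiSeparated_iff_quasiSeparatedSpace _ (X.basicOpen (r x)).2).mpr ?_
    haveI := hr x
    change QuasiSeparatedSpace ((X.basicOpen (r x) : Scheme.{u}))
    infer_instance
  refine IsZariskiLocalAtTarget.of_forall_source_exists_preimage _ fun x ↦ ?_
  obtain ⟨r, hr, hxr⟩ := H x
  refine ⟨PrimeSpectrum.basicOpen r, (X.toSpecΓ_preimage_basicOpen r).ge hxr, ?_⟩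
  suffices IsOpenImmersion ((X.basicOpen r).ι ≫ X.toSpecΓ) by
    convert! this <;> rw [Scheme.toSpecΓ_preimage_basicOpen]
  rw [← Scheme.Opens.toSpecΓ_SpecMap_presheaf_map_top]
  have := isLocalization_basicOpen_of_qcqs isCompact_univ isQuasiSeparated_univ r
  haveI : IsOpenImmersion (X.basicOpen r).toSpecΓ := by
    delta Scheme.Opens.toSpecΓ
    infer_instance
  exact MorphismProperty.comp_mem _ (X.basicOpen r).toSpecΓ _ inferInstance (.of_isLocalization r)

/-- A scheme over an affine scheme which is quasi-affine locally on the base is quasi-affine. -/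
theorem isQuasiAffine_of_local {Z T : Scheme.{u}} [IsAffine T] (h : Z ⟶ T)
    (hloc : ∀ t : T, ∃ a : Γ(T, ⊤), t ∈ T.basicOpen a ∧
      (pullback h (T.basicOpen a).ι).IsQuasiAffine) : Z.IsQuasiAffine := by
  choose a hta hqa using hloc
  -- the basic opens of `Z`
  have hq : ∀ t : T, (Z.basicOpen (h.appTop (a t)) : Scheme.{u}).IsQuasiAffine := by
    intro t
    haveI := hqa t
    let e : pullback h (T.basicOpen (a t)).ι ≅ (Z.basicOpen (h.appTop (a t)) : Scheme.{u}) :=
      pullbackRestrictIsoRestrict h (T.basicOpen (a t)) ≪≫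
        Z.isoOfEq (Scheme.preimage_basicOpen_top h (a t))
    exact Scheme.IsQuasiAffine.of_isAffineHom e.inv
  have hcs : CompactSpace Z := by
    obtain ⟨s, hs⟩ := (isCompact_univ (X := T)).elim_finite_subcover
      (fun t => ((T.basicOpen (a t) : T.Opens) : Set T)) (fun t => (T.basicOpen (a t)).2)
      (fun t _ => Set.mem_iUnion.mpr ⟨t, hta t⟩)
    refine ⟨?_⟩
    have hsub : (Set.univ : Set Z) ⊆ ⋃ t ∈ s, ((Z.basicOpen (h.appTop (a t)) : Z.Opens) : Set Z) := by
      intro z _
      obtain ⟨t, hts, hzt⟩ := Set.mem_iUnion₂.mp (hs (Set.mem_univ (h.base z)))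
      refine Set.mem_iUnion₂.mpr ⟨t, hts, ?_⟩
      rw [← Scheme.preimage_basicOpen_top h (a t)]
      exact hzt
    refine IsCompact.of_isClosed_subset ?_ isClosed_univ hsub
    exact s.finite_toSet.isCompact_biUnion (fun t _ => by
      haveI := hq t
      exact isCompact_iff_compactSpace.mpr
        (inferInstanceAs (CompactSpace ((Z.basicOpen (h.appTop (a t)) : Scheme.{u})))))
  refine isQuasiAffine_of_forall_exists_basicOpen Z (fun z => ?_)
  refine ⟨h.appTop (a (h.base z)), hq _, ?_⟩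
  rw [← Scheme.preimage_basicOpen_top h (a (h.base z))]
  exact hta (h.base z)

/-- Quasi-affine over every affine scheme mapping to the target. -/
def QA : MorphismProperty Scheme.{u} := fun _ Y f =>
  ∀ (T : Scheme.{u}) (g : T ⟶ Y), IsAffine T → (pullback f g).IsQuasiAffine

instance : (QA.{u}).IsStableUnderBaseChange where
  of_isPullback {X Y Y' S f g f' g'} sq hg := by
    intro T t hT
    have h1 := (IsPullback.of_hasPullback g' t).paste_horiz sq
    haveI := hg T (t ≫ f) hT
    exact Scheme.IsQuasiAffine.of_isAffineHom h1.isoPullback.hom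

/-- A morphism from a quasi-affine scheme to an affine scheme is in `QA`. -/
theorem QA.of_isQuasiAffine {Q V : Scheme.{u}} [Q.IsQuasiAffine] [IsAffine V] (g : Q ⟶ V) :
    QA g := by
  intro T k hT
  haveI : IsAffineHom k := isAffineHom_of_isAffine k
  haveI : IsAffineHom (pullback.fst g k) :=
    MorphismProperty.pullback_fst (P := @IsAffineHom) g k ‹IsAffineHom k›
  exact Scheme.IsQuasiAffine.of_isAffineHom (pullback.fst g k)

/-- `QA` is local on the target. -/
theorem QA.of_local {X Y : Scheme.{u}} (f : X ⟶ Y)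
    (hcov : ∀ y : Y, ∃ (V : Scheme.{u}) (i : V ⟶ Y), IsOpenImmersion i ∧ y ∈ Set.range i.base ∧
      QA (pullback.snd f i)) : QA f := by
  intro T g hT
  refine isQuasiAffine_of_local (pullback.snd f g) (fun t => ?_)
  obtain ⟨V, i, hi, hy, hQ⟩ := hcov (g.base t)
  have hopen : IsOpen (g.base ⁻¹' Set.range i.base) :=
    i.isOpenEmbedding.isOpen_range.preimage g.continuous
  obtain ⟨_, ⟨_, ⟨a, rfl⟩, rfl⟩, hta, haU⟩ := (isBasis_basicOpen T).exists_subset_of_mem_open
    (show t ∈ g.base ⁻¹' Set.range i.base from hy) hopen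
  refine ⟨a, hta, ?_⟩
  have hr : Set.range ((T.basicOpen a).ι ≫ g).base ⊆ Set.range i.base := by
    rintro _ ⟨z, rfl⟩
    rw [Scheme.Hom.comp_apply]
    exact haU z.2
  let k : (T.basicOpen a : Scheme.{u}) ⟶ V := IsOpenImmersion.lift i ((T.basicOpen a).ι ≫ g) hr
  have hk : k ≫ i = (T.basicOpen a).ι ≫ g := IsOpenImmersion.lift_fac _ _ _
  haveI : IsAffine (T.basicOpen a : Scheme.{u}) := (isAffineOpen_top T).basicOpen a
  haveI := hQ _ k inferInstance
  let e1 : pullback (pullback.snd f i) k ≅ pullback f (k ≫ i) := pullbackLeftPullbackSndIso f i k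
  let e2 : pullback (pullback.snd f g) (T.basicOpen a).ι ≅ pullback f ((T.basicOpen a).ι ≫ g) :=
    pullbackLeftPullbackSndIso f g (T.basicOpen a).ι
  let e3 : pullback f (k ≫ i) ≅ pullback f ((T.basicOpen a).ι ≫ g) :=
    pullback.congrHom rfl hk
  exact Scheme.IsQuasiAffine.of_isAffineHom (e2 ≪≫ e3.symm ≪≫ e1.symm).hom

theorem QA.of_mor2_aux {X Y : Scheme.{u}} (f : X ⟶ Y) (hf : Mor2.IsQuasiAffine f) (V : Y.Opens)
    (hV : IsAffineOpen V) : QA (pullback.snd f V.ι) := by
  haveI : IsAffine (V : Scheme.{u}) := hV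
  haveI := hf.2 V hV
  haveI : (pullback f V.ι).IsQuasiAffine :=
    Scheme.IsQuasiAffine.of_isAffineHom (pullbackRestrictIsoRestrict f V).hom
  exact QA.of_isQuasiAffine _

theorem QA.of_mor2 {X Y : Scheme.{u}} (f : X ⟶ Y) (hf : Mor2.IsQuasiAffine f) : QA f := by
  refine QA.of_local f (fun y => ?_)
  obtain ⟨_, ⟨V, hV, rfl⟩, hyV, -⟩ :=
    Y.isBasis_affineOpens.exists_subset_of_mem_open (Set.mem_univ y) isOpen_univ
  exact ⟨_, Scheme.Opens.ι V, inferInstance, by rw [Scheme.Opens.range_ι]; exact hyV,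
    QA.of_mor2_aux f hf V hV⟩

theorem QA.sigma {m : ℕ} {Y V : Fin m → Scheme.{u}} (q : ∀ j, Y j ⟶ V j) (hq : ∀ j, QA (q j)) :
    QA (Limits.Sigma.map q) := by
  refine QA.of_local _ (fun y => ?_)
  obtain ⟨j, v, hv⟩ := (sigmaOpenCover V).exists_eq y
  refine ⟨V j, Sigma.ι V j, inferInstance, ⟨v, hv⟩, ?_⟩
  have h := (Groth.Agent.Helper21.DescProp.isPullback_sigmaMap q j).flip
  have e : pullback.snd (Limits.Sigma.map q) (Sigma.ι V j) = h.isoPullback.inv ≫ q j := by
    rw [Iso.eq_inv_comp, h.isoPullback_hom_snd]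
  rw [e]
  exact ((QA.{u}).cancel_left_of_respectsIso _ _).mpr (hq j)

theorem h3_qa (X S : Scheme.{u}) (p : X ⟶ S) (hX : IsAffine X) (hS : IsAffine S)
    (hp : Flat p) (hs : Surjective p) (D : Desc.SchDD p) (hD : QA D.obj.hom) :
    ∃ U : Over S, Nonempty ((Desc.toDD p).obj U ≅ D) := by
  haveI := hX
  haveI := hS
  haveI := hp
  haveI := hs
  have hV : ∀ j, (((SchDDFam.ofSchDD.{u} p).obj D).obj j).left.IsQuasiAffine := fun _ => by
    change D.obj.left.IsQuasiAffine
    haveI := hD X (𝟙 X) inferInstance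
    exact Scheme.IsQuasiAffine.of_isAffineHom (inv (pullback.fst D.obj.hom (𝟙 X)))
  obtain ⟨c⟩ := qa_cone p ((SchDDFam.ofSchDD p).obj D) hV
  obtain ⟨U, ⟨e⟩⟩ := c.isEffective
  exact ⟨U, ⟨(SchDDFam.toSchDD p).mapIso e⟩⟩

/-- fpqc descent for schemes quasi-affine over the members of the covering family. -/
theorem qa_isEffective {S : Scheme.{u}} {ι : Type u} {X : ι → Scheme.{u}} (f : ∀ i, X i ⟶ S)
    (hf : Presieve.ofArrows X f ∈ Scheme.fpqcPrecoverage S) (D : SchDDFam f)
    (hD : ∀ i, QA (D.obj i).hom) : D.IsEffective :=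
  Groth.Agent.Helper21.DescMain.isEffective (QA.{u})
    (fun _ _ _ q hq => QA.sigma q hq) h3_qa f hf D hD

end Groth.Agent.Helper21.DescQA
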