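import Mathlib
import Groth.Agent.Lib.Helper21.DescQA3

/-!
# Quasi-finite separated morphisms are quasi-affine; descent of étale separated schemes (helper21)
-/

set_option autoImplicit false
set_option backward.isDefEq.respectTransparency false
set_option backward.isDefEq.respectTransparency.types false
set_option linter.style.haveILetI false

open CategoryTheory CategoryTheory.Limits AlgebraicGeometry TopologicalSpace MorphismProperty

universe u

namespace Groth.Agent.Helper21.DescQA

open Desc Groth.Agent.Helper21.DescA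

/-- Zariski's main theorem: a quasi-finite separated scheme over an affine scheme is quasi-affine. -/
theorem isQuasiAffine_of_zmt {Z T : Scheme.{u}} [IsAffine T] (f : Z ⟶ T) [LocallyQuasiFinite f]
    [LocallyOfFiniteType f] [IsSeparated f] [QuasiCompact f] : Z.IsQuasiAffine := by
  haveI : IsAffine f.normalization := isAffine_of_isAffineHom f.fromNormalization
  haveI : CompactSpace Z := QuasiCompact.compactSpace_of_compactSpace f
  exact Scheme.IsQuasiAffine.of_isImmersion f.toNormalization

theorem QA.of_zmt {V X : Scheme.{u}} (h : V ⟶ X) [LocallyQuasiFinite h]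
    [LocallyOfFiniteType h] [IsSeparated h] [QuasiCompact h] : QA h := by
  intro T t hT
  exact isQuasiAffine_of_zmt (pullback.snd h t)

theorem locallyQuasiFinite_of_etale {X Y : Scheme.{u}} (f : X ⟶ Y) [Etale f] :
    LocallyQuasiFinite f := by
  refine ⟨fun {U} hU {V} hV e => ?_⟩
  have h := HasRingHomProperty.appLE (P := @Etale) f inferInstance ⟨U, hU⟩ ⟨V, hV⟩ e
  letI := (f.appLE U V e).hom.toAlgebra
  haveI : Algebra.Etale Γ(Y, U) Γ(X, V) := h
  show Algebra.QuasiFinite Γ(Y, U) Γ(X, V)
  infer_instance

theorem quasiCompact_of_isPullback_surj {A X Y Z : Scheme.{u}} {fst : A ⟶ X} {snd : A ⟶ Y}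
    {f : X ⟶ Z} {g : Y ⟶ Z} (h : IsPullback fst snd f g) [Surjective f] [QuasiCompact f]
    [QuasiCompact fst] : QuasiCompact g := by
  constructor
  intro U hU hUc
  have e : g.base ⁻¹' U = snd.base '' (fst.base ⁻¹' (f.base ⁻¹' U)) := by
    ext y
    constructor
    · intro hy
      obtain ⟨x, hx⟩ := f.surjective (g.base y)
      obtain ⟨z, hz1, hz2⟩ := Scheme.Pullback.exists_preimage_pullback (f := f) (g := g) x y hx
      refine ⟨h.isoPullback.inv.base z, ?_, ?_⟩
      · have e1 : fst.base (h.isoPullback.inv.base z) = x := by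
          rw [← Scheme.Hom.comp_apply, h.isoPullback_inv_fst, hz1]
        change f.base (fst.base (h.isoPullback.inv.base z)) ∈ U
        rw [e1, hx]
        exact hy
      · rw [← Scheme.Hom.comp_apply, h.isoPullback_inv_snd, hz2]
    · rintro ⟨a, ha, rfl⟩
      have e1 : g.base (snd.base a) = f.base (fst.base a) := by
        rw [← Scheme.Hom.comp_apply, ← h.w, Scheme.Hom.comp_apply]
      change g.base (snd.base a) ∈ U
      rw [e1]
      exact ha
  rw [e]
  have h1 : IsCompact (f.base ⁻¹' U) := QuasiCompact.isCompact_preimage (f := f) U hU hUc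
  have h2 : IsCompact (fst.base ⁻¹' (f.base ⁻¹' U)) :=
    QuasiCompact.isCompact_preimage (f := fst) _ (hU.preimage f.continuous) h1
  exact h2.image snd.continuous

theorem isSeparated_eq_diagonal_universallyClosed :
    (@IsSeparated : MorphismProperty Scheme.{u}) = diagonal @UniversallyClosed := by
  ext X Y f
  constructor
  · intro h
    haveI : IsSeparated f := h
    exact (inferInstance : UniversallyClosed (pullback.diagonal f))
  · intro h
    haveI : UniversallyClosed (pullback.diagonal f) := h
    exact ⟨IsClosedImmersion.of_isPreimmersion _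
      (pullback.diagonal f).isClosedMap.isClosed_range⟩

theorem isSeparated_of_isPullback_fpqc {A X Y Z : Scheme.{u}} {fst : A ⟶ X} {snd : A ⟶ Y}
    {f : X ⟶ Z} {g : Y ⟶ Z} (h : IsPullback fst snd f g) [Surjective f] [Flat f] [QuasiCompact f]
    [IsSeparated fst] : IsSeparated g := by
  have h1 : (diagonal @UniversallyClosed) fst := by
    change UniversallyClosed (pullback.diagonal fst)
    infer_instance
  have h2 : (diagonal @UniversallyClosed) g :=
    of_isPullback_of_descendsAlong (P := diagonal @UniversallyClosed)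
      (Q := @Surjective ⊓ @Flat ⊓ @QuasiCompact) h ⟨⟨inferInstance, inferInstance⟩, inferInstance⟩ h1
  rw [← isSeparated_eq_diagonal_universallyClosed] at h2
  exact h2

/-- fpqc descent for étale, separated, quasi-compact schemes. -/
theorem etale_sep_qc_effective {S' S : Scheme.{u}} (g : S' ⟶ S) [Flat g] [Surjective g]
    [QuasiCompact g] (D : Desc.SchDD g) [QuasiCompact D.obj.hom] [IsSeparated D.obj.hom]
    [Etale D.obj.hom] :
    ∃ U : Over S, QuasiCompact U.hom ∧ IsSeparated U.hom ∧ Etale U.hom ∧
      Nonempty ((Desc.toDD g).obj U ≅ D) := by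
  have hf : Presieve.ofArrows (fun _ : PUnit.{u + 1} => S') (fun _ => g) ∈
      Scheme.fpqcPrecoverage S := by
    rw [Presieve.ofArrows_pUnit]
    exact Scheme.Hom.singleton_mem_fpqcPrecoverage g
  haveI : LocallyQuasiFinite D.obj.hom := locallyQuasiFinite_of_etale D.obj.hom
  have heff := qa_isEffective (fun _ : PUnit.{u + 1} => g) hf
    ((SchDDFam.ofSchDD g).obj D) (fun _ => QA.of_zmt D.obj.hom)
  obtain ⟨c⟩ := nonempty_cone_of_isEffective heff
  have hpb : IsPullback D.obj.hom (c.π PUnit.unit) g c.U.hom := c.isPullback PUnit.unit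
  have hQ : (@Surjective ⊓ @Flat ⊓ @QuasiCompact : MorphismProperty Scheme.{u}) g :=
    ⟨⟨inferInstance, inferInstance⟩, inferInstance⟩
  refine ⟨c.U, quasiCompact_of_isPullback_surj hpb, isSeparated_of_isPullback_fpqc hpb,
    of_isPullback_of_descendsAlong (P := @Etale)
      (Q := @Surjective ⊓ @Flat ⊓ @QuasiCompact) hpb hQ inferInstance, ?_⟩
  exact ⟨(SchDDFam.toSchDD g).mapIso c.iso.symm⟩

end Groth.Agent.Helper21.DescQA
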