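import Mathlib
import Groth.Prelude.Def_SGA1

/-!
Descent of topological properties of morphisms along universally submersive morphisms
(helper21).
-/

universe u

open AlgebraicGeometry CategoryTheory CategoryTheory.Limits MorphismProperty

namespace Groth.Agent.Helper21.SubmDesc

/-- If `P` descends along `Q` (with `Q` stable under base change), then so does
`P.universally`. -/
theorem universally_descends {C : Type*} [Category C] [HasPullbacks C]
    {P Q : MorphismProperty C} [Q.IsStableUnderBaseChange]
    (h : P.DescendsAlong Q) : (P.universally).DescendsAlong Q := by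
  constructor
  intro A X Y Z fst snd c g hpb hc hu
  intro Y' W i₁ i₂ g' hsq
  have top := IsPullback.of_hasPullback (pullback.snd c i₂) g'
  have hQ : Q (pullback.snd c i₂) := MorphismProperty.pullback_snd _ _ hc
  have h1 : IsPullback (pullback.fst (pullback.snd c i₂) g')
      (pullback.snd (pullback.snd c i₂) g' ≫ i₁) (pullback.snd c i₂ ≫ i₂) g :=
    top.paste_vert hsq
  have h2 : IsPullback (pullback.fst (pullback.snd c i₂) g')
      (pullback.snd (pullback.snd c i₂) g' ≫ i₁) (pullback.fst c i₂ ≫ c) g := by
    rw [pullback.condition]; exact h1
  have h3 := IsPullback.of_bot' h2 hpb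
  have hPW : P (pullback.fst (pullback.snd c i₂) g') := hu _ _ _ h3
  exact h.of_isPullback top hQ hPW

abbrev Q : MorphismProperty Scheme.{u} := SGA1.UnivSubmersive

instance : (Q.{u}).IsStableUnderBaseChange := by
  unfold Q SGA1.UnivSubmersive
  infer_instance

theorem quotientMap_of_Q {X Y : Scheme.{u}} (c : X ⟶ Y) (hc : Q c) :
    Topology.IsQuotientMap c.base :=
  MorphismProperty.universally_le _ _ hc

theorem openMap_descends :
    (topologically @IsOpenMap : MorphismProperty Scheme.{u}).DescendsAlong Q := by
  constructor
  intro A X Y Z fst snd c g hpb hc hfst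
  have hq := quotientMap_of_Q c hc
  intro s hs
  rw [← hq.isOpen_preimage, ← Scheme.image_preimage_eq_of_isPullback hpb.flip]
  exact hfst _ (hs.preimage snd.continuous)

theorem closedMap_descends :
    (topologically @IsClosedMap : MorphismProperty Scheme.{u}).DescendsAlong Q := by
  constructor
  intro A X Y Z fst snd c g hpb hc hfst
  have hq := quotientMap_of_Q c hc
  intro s hs
  rw [← hq.isClosed_preimage, ← Scheme.image_preimage_eq_of_isPullback hpb.flip]
  exact hfst _ (hs.preimage snd.continuous)

/-- The property of having closed range. -/
def ClosedRange : MorphismProperty Scheme.{u} := fun _ _ f => IsClosed (Set.range f.base)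

instance : (ClosedRange.{u}).RespectsIso := by
  apply RespectsIso.mk
  · intro X Y Z e f hf
    show IsClosed (Set.range (e.hom ≫ f).base)
    rw [Scheme.Hom.comp_base, TopCat.coe_comp, Set.range_comp,
      Set.range_eq_univ.mpr e.hom.surjective, Set.image_univ]
    exact hf
  · intro X Y Z e f hf
    show IsClosed (Set.range (f ≫ e.hom).base)
    rw [Scheme.Hom.comp_base, TopCat.coe_comp, Set.range_comp]
    exact e.hom.homeomorph.isClosedMap _ hf

theorem closedRange_descends : (ClosedRange.{u}).DescendsAlong Q := by
  constructor
  intro A X Y Z fst snd c g hpb hc hfst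
  have hq := quotientMap_of_Q c hc
  show IsClosed (Set.range g.base)
  have h := Scheme.image_preimage_eq_of_isPullback hpb.flip Set.univ
  rw [Set.preimage_univ, Set.image_univ, Set.image_univ] at h
  rw [← hq.isClosed_preimage, ← h]
  exact hfst

theorem isSeparated_iff_diagonal_closedRange {X Y : Scheme.{u}} (f : X ⟶ Y) :
    IsSeparated f ↔ (ClosedRange.{u}).diagonal f := by
  constructor
  · intro h
    show IsClosed (Set.range (pullback.diagonal f).base)
    exact (pullback.diagonal f).isClosedEmbedding.isClosed_range
  · intro h
    have h' : IsClosed (Set.range (pullback.diagonal f).base) := h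
    exact ⟨IsClosedImmersion.of_isPreimmersion _ h'⟩

theorem separated_descends :
    MorphismProperty.DescendsAlong (@IsSeparated : MorphismProperty Scheme.{u}) Q := by
  haveI := closedRange_descends.{u}
  have h : (ClosedRange.{u}).diagonal.DescendsAlong Q := inferInstance
  constructor
  intro A X Y Z fst snd c g hpb hc hfst
  rw [isSeparated_iff_diagonal_closedRange] at hfst ⊢
  exact h.of_isPullback hpb hc hfst

theorem universallyOpen_descends :
    MorphismProperty.DescendsAlong (@UniversallyOpen : MorphismProperty Scheme.{u}) Q := by
  rw [UniversallyOpen.eq]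
  exact universally_descends openMap_descends

theorem universallyClosed_descends :
    MorphismProperty.DescendsAlong (@UniversallyClosed : MorphismProperty Scheme.{u}) Q := by
  rw [universallyClosed_eq]
  exact universally_descends closedMap_descends

/-- The square of S2917. -/
theorem isPullback_map {S' S X Y : Scheme.{u}} (g : S' ⟶ S) (f : X ⟶ Y) (q : Y ⟶ S) :
    IsPullback (pullback.map (f ≫ q) g q g f (𝟙 S') (𝟙 S) (Category.comp_id _)
        ((Category.comp_id _).trans (Category.id_comp _).symm))
      (pullback.fst (f ≫ q) g) (pullback.fst q g) f := by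
  have hr : IsPullback (pullback.snd q g) (pullback.fst q g) g q :=
    (IsPullback.of_hasPullback q g).flip
  have ho : IsPullback (pullback.snd (f ≫ q) g) (pullback.fst (f ≫ q) g) g (f ≫ q) :=
    (IsPullback.of_hasPullback (f ≫ q) g).flip
  have e : pullback.map (f ≫ q) g q g f (𝟙 S') (𝟙 S) (Category.comp_id _)
        ((Category.comp_id _).trans (Category.id_comp _).symm) ≫ pullback.snd q g =
      pullback.snd (f ≫ q) g :=
    (pullback.lift_snd _ _ _).trans (Category.comp_id _)
  rw [← e] at ho
  exact IsPullback.of_right ho (pullback.lift_fst _ _ _) hr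

end Groth.Agent.Helper21.SubmDesc
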