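import Mathlib
import Groth.Agent.Lib.Helper21.DescProp
import Groth.Agent.Lib.Helper21.SubmDesc

/-!
# Restriction of descent data to stable opens; descent along universally injective fpqc
morphisms (helper21)
-/

set_option autoImplicit false
set_option backward.isDefEq.respectTransparency false
set_option backward.isDefEq.respectTransparency.types false
set_option linter.style.haveILetI false

open CategoryTheory CategoryTheory.Limits AlgebraicGeometry

universe w u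

namespace Groth.Agent.Helper21.DescUI

open Desc Groth.Agent.Helper21.DescA Groth.Agent.Helper21.DescGlue

section restrict

variable {S : Scheme.{u}} {ι : Type w} {X : ι → Scheme.{u}} {f : ∀ i, X i ⟶ S} (D : SchDDFam f)
  (Z : ∀ i, (D.obj i).left.Opens)
  (hZ : ∀ ⦃T : Scheme.{u}⦄ ⦃i k : ι⦄ (x₀ : T ⟶ X i) (x₁ : T ⟶ X k) (h : x₀ ≫ f i = x₁ ≫ f k)
    (v : Lifts (D.obj i) x₀), Set.range v.1.base ⊆ (Z i : Set (D.obj i).left) →
    Set.range (D.φ x₀ x₁ h v).1.base ⊆ (Z k : Set (D.obj k).left))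

/-- The point of `V i` underlying a point of the open `Z i`. -/
def up {T : Scheme.{u}} {i : ι} {x : T ⟶ X i}
    (v : Lifts (Over.mk ((Z i).ι ≫ (D.obj i).hom)) x) : Lifts (D.obj i) x :=
  ⟨v.1 ≫ (Z i).ι, by
    have e : v.1 ≫ (Z i).ι ≫ (D.obj i).hom = x := v.2
    rw [Category.assoc, e]⟩

theorem up_range {T : Scheme.{u}} {i : ι} {x : T ⟶ X i}
    (v : Lifts (Over.mk ((Z i).ι ≫ (D.obj i).hom)) x) :
    Set.range (up D Z v).1.base ⊆ (Z i : Set (D.obj i).left) := by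
  rintro _ ⟨t, rfl⟩
  have : (Z i).ι.base (v.1.base t) ∈ Set.range (Z i).ι.base := ⟨_, rfl⟩
  rw [Scheme.Opens.range_ι] at this
  exact this

include hZ in
theorem rΦ_range {T : Scheme.{u}} {i k : ι} (x₀ : T ⟶ X i) (x₁ : T ⟶ X k)
    (h : x₀ ≫ f i = x₁ ≫ f k) (v : Lifts (Over.mk ((Z i).ι ≫ (D.obj i).hom)) x₀) :
    Set.range (D.φ x₀ x₁ h (up D Z v)).1.base ⊆ Set.range (Z k).ι.base := by
  rw [Scheme.Opens.range_ι]
  exact hZ x₀ x₁ h (up D Z v) (up_range D Z v)

/-- The restricted gluing map. -/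
noncomputable def rΦ {T : Scheme.{u}} {i k : ι} (x₀ : T ⟶ X i) (x₁ : T ⟶ X k)
    (h : x₀ ≫ f i = x₁ ≫ f k) (v : Lifts (Over.mk ((Z i).ι ≫ (D.obj i).hom)) x₀) :
    Lifts (Over.mk ((Z k).ι ≫ (D.obj k).hom)) x₁ :=
  ⟨IsOpenImmersion.lift (Z k).ι (D.φ x₀ x₁ h (up D Z v)).1 (rΦ_range D Z hZ x₀ x₁ h v), by
    change IsOpenImmersion.lift (Z k).ι (D.φ x₀ x₁ h (up D Z v)).1 _ ≫ (Z k).ι ≫
      (D.obj k).hom = x₁
    rw [IsOpenImmersion.lift_fac_assoc]
    exact (D.φ x₀ x₁ h (up D Z v)).2⟩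

theorem rΦ_ι {T : Scheme.{u}} {i k : ι} (x₀ : T ⟶ X i) (x₁ : T ⟶ X k)
    (h : x₀ ≫ f i = x₁ ≫ f k) (v : Lifts (Over.mk ((Z i).ι ≫ (D.obj i).hom)) x₀) :
    (rΦ D Z hZ x₀ x₁ h v).1 ≫ (Z k).ι = (D.φ x₀ x₁ h (up D Z v)).1 :=
  IsOpenImmersion.lift_fac _ _ _

theorem rΦ_self {T : Scheme.{u}} {i : ι} (x : T ⟶ X i)
    (v : Lifts (Over.mk ((Z i).ι ≫ (D.obj i).hom)) x) : rΦ D Z hZ x x rfl v = v := by
  apply Subtype.ext
  rw [← cancel_mono (Z i).ι, rΦ_ι, φ_self_val]
  rfl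

theorem rΦ_comp {T : Scheme.{u}} {i j k : ι} (x₀ : T ⟶ X i) (x₁ : T ⟶ X j) (x₂ : T ⟶ X k)
    (h₀₁ : x₀ ≫ f i = x₁ ≫ f j) (h₁₂ : x₁ ≫ f j = x₂ ≫ f k)
    (v : Lifts (Over.mk ((Z i).ι ≫ (D.obj i).hom)) x₀) :
    rΦ D Z hZ x₁ x₂ h₁₂ (rΦ D Z hZ x₀ x₁ h₀₁ v) = rΦ D Z hZ x₀ x₂ (h₀₁.trans h₁₂) v := by
  apply Subtype.ext
  rw [← cancel_mono (Z k).ι, rΦ_ι, rΦ_ι]
  exact φ_comp_val D x₀ x₁ x₂ h₀₁ h₁₂ (up D Z v) _ (rΦ_ι D Z hZ x₀ x₁ h₀₁ v)

/-- The restriction of a descent datum to a stable family of opens. -/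
noncomputable def restrict : SchDDFam f where
  obj i := Over.mk ((Z i).ι ≫ (D.obj i).hom)
  φ T i k x₀ x₁ h :=
    { toFun := rΦ D Z hZ x₀ x₁ h
      invFun := rΦ D Z hZ x₁ x₀ h.symm
      left_inv := fun v => by rw [rΦ_comp, rΦ_self]
      right_inv := fun v => by rw [rΦ_comp, rΦ_self] }
  φ_natural T T' g i k x₀ x₁ h y₀ y₁ hy₀ hy₁ h' v v' hv' := by
    change (rΦ D Z hZ y₀ y₁ h' v').1 = g ≫ (rΦ D Z hZ x₀ x₁ h v).1
    rw [← cancel_mono (Z k).ι, Category.assoc, rΦ_ι, rΦ_ι]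
    exact D.φ_natural g x₀ x₁ h y₀ y₁ hy₀ hy₁ h' (up D Z v) (up D Z v') (by
      change v'.1 ≫ (Z i).ι = g ≫ v.1 ≫ (Z i).ι
      rw [hv', Category.assoc])
  φ_self T i x v := rΦ_self D Z hZ x v
  φ_comp T i j k x₀ x₁ x₂ h₀₁ h₁₂ v := rΦ_comp D Z hZ x₀ x₁ x₂ h₀₁ h₁₂ v

/-- The inclusion of the restricted datum. -/
noncomputable def restrictHom : restrict D Z hZ ⟶ D :=
  ⟨fun i => Over.homMk (Z i).ι rfl, fun T i k x₀ x₁ h v w hw => by
    change (D.φ x₀ x₁ h w).1 = (rΦ D Z hZ x₀ x₁ h v).1 ≫ (Z k).ι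
    rw [rΦ_ι]
    exact φ_congr D h h rfl rfl _ _ hw⟩

end restrict

section univInj

variable {S' S : Scheme.{u}} (g : S' ⟶ S)

/-- For a universally injective `g`, the gluing maps of a descent datum relative to `g` do not
move points. -/
theorem φ_apply_eq [UniversallyInjective g] (D : SchDDFam (fun _ : PUnit.{u + 1} => g))
    {T : Scheme.{u}} {i k : PUnit.{u + 1}} (x₀ x₁ : T ⟶ S') (h : x₀ ≫ g = x₁ ≫ g)
    (v : Lifts (D.obj i) x₀) (τ : T) : (D.φ x₀ x₁ h v).1.base τ = v.1.base τ := by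
  haveI : Surjective (pullback.diagonal g) := (UniversallyInjective.iff_diagonal g).mp inferInstance
  have hcs : Surjective (pullback.fst (pullback.lift x₀ x₁ h) (pullback.diagonal g)) :=
    MorphismProperty.pullback_fst _ _ inferInstance
  have hc : pullback.fst (pullback.lift x₀ x₁ h) (pullback.diagonal g) ≫ pullback.lift x₀ x₁ h =
      pullback.snd (pullback.lift x₀ x₁ h) (pullback.diagonal g) ≫ pullback.diagonal g :=
    pullback.condition
  have h0 : pullback.fst (pullback.lift x₀ x₁ h) (pullback.diagonal g) ≫ x₀ =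
      pullback.snd (pullback.lift x₀ x₁ h) (pullback.diagonal g) := by
    have := congrArg (fun t => t ≫ pullback.fst g g) hc
    simpa using this
  have h1 : pullback.fst (pullback.lift x₀ x₁ h) (pullback.diagonal g) ≫ x₁ =
      pullback.snd (pullback.lift x₀ x₁ h) (pullback.diagonal g) := by
    have := congrArg (fun t => t ≫ pullback.snd g g) hc
    simpa using this
  have key : pullback.fst (pullback.lift x₀ x₁ h) (pullback.diagonal g) ≫ (D.φ x₀ x₁ h v).1 =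
      pullback.fst (pullback.lift x₀ x₁ h) (pullback.diagonal g) ≫ v.1 := by
    rw [φ_nat D _ x₀ x₁ h v]
    exact (φ_congr D _ rfl rfl (h1.trans h0.symm) _ _ rfl).trans (φ_self_val D _ _)
  obtain ⟨τ', rfl⟩ := hcs.surj τ
  rw [← Scheme.Hom.comp_apply, ← Scheme.Hom.comp_apply, key]

theorem isSeparated_of_univInj [UniversallyInjective g] : IsSeparated g := by
  haveI : Surjective (pullback.diagonal g) := (UniversallyInjective.iff_diagonal g).mp inferInstance
  have h' : IsClosed (Set.range (pullback.diagonal g).base) := by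
    rw [(pullback.diagonal g).surjective.range_eq]
    exact isClosed_univ
  exact ⟨IsClosedImmersion.of_isPreimmersion _ h'⟩

theorem singleton_mem [Flat g] [Surjective g] [QuasiCompact g] :
    Presieve.ofArrows (fun _ : PUnit.{u + 1} => S') (fun _ => g) ∈ Scheme.fpqcPrecoverage S := by
  rw [Presieve.ofArrows_pUnit]
  exact Scheme.Hom.singleton_mem_fpqcPrecoverage g

theorem cone_of_affine_base [IsAffine S] [Flat g] [Surjective g] [QuasiCompact g]
    [UniversallyInjective g] (D : SchDDFam (fun _ : PUnit.{u + 1} => g)) : Nonempty (Cone D) := by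
  have hf := singleton_mem g
  haveI : IsSeparated g := isSeparated_of_univInj g
  refine nonempty_cone_of_pcones hf D (fun i v => ?_)
  obtain ⟨W, hW, hvW⟩ : ∃ W : (D.obj i).left.Opens, IsAffineOpen W ∧ v ∈ W := by
    obtain ⟨_, ⟨W, hW, rfl⟩, hvW, -⟩ :=
      (D.obj i).left.isBasis_affineOpens.exists_subset_of_mem_open (Set.mem_univ v) isOpen_univ
    exact ⟨W, hW, hvW⟩
  have hZ : ∀ ⦃T : Scheme.{u}⦄ ⦃i' k : PUnit.{u + 1}⦄ (x₀ : T ⟶ S') (x₁ : T ⟶ S')
      (h : x₀ ≫ g = x₁ ≫ g) (v : Lifts (D.obj i') x₀),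
      Set.range v.1.base ⊆ (W : Set (D.obj i).left) →
      Set.range (D.φ x₀ x₁ h v).1.base ⊆ (W : Set (D.obj i).left) := by
    intro T i' k x₀ x₁ h v hv
    rintro _ ⟨τ, rfl⟩
    rw [φ_apply_eq g D (k := k) x₀ x₁ h v τ]
    exact hv ⟨τ, rfl⟩
  haveI : IsAffine ((W : (D.obj i).left.Opens) : Scheme.{u}) := hW
  have haff : ∀ k, IsAffineHom ((restrict D (fun _ => W) hZ).obj k).hom := fun k => by
    change IsAffineHom (W.ι ≫ (D.obj k).hom)
    haveI : IsAffineHom ((W.ι ≫ (D.obj k).hom) ≫ g) := inferInstance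
    exact IsAffineHom.of_comp (W.ι ≫ (D.obj k).hom) g
  obtain ⟨c⟩ := nonempty_cone_of_isEffective
    (Groth.Agent.Helper21.DescProp.affine_isEffective _ hf (restrict D (fun _ => W) hZ) haff)
  refine ⟨PCone.ofSub (restrictHom D (fun _ => W) hZ)
    (fun k => inferInstanceAs (IsOpenImmersion W.ι)) c, ?_⟩
  change v ∈ Set.range W.ι.base
  rw [Scheme.Opens.range_ι]
  exact hvW

/-- Every descent datum relative to a universally injective fpqc morphism is effective. -/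
theorem cone_of_univInj [Flat g] [Surjective g] [QuasiCompact g] [UniversallyInjective g]
    (D : SchDDFam (fun _ : PUnit.{u + 1} => g)) : Nonempty (Cone D) := by
  have hf := singleton_mem g
  refine Groth.Agent.Helper21.DescZ.nonempty_cone_of_baseChange hf D (A := S.affineOpens)
    (fun W => ((W.1 : S.Opens) : Scheme.{u})) (fun W => W.1.ι) (fun s => ?_) (fun W => ?_)
  · obtain ⟨_, ⟨O, hO, rfl⟩, hsO, -⟩ :=
      S.isBasis_affineOpens.exists_subset_of_mem_open (Set.mem_univ s) isOpen_univ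
    refine ⟨⟨O, hO⟩, ?_⟩
    rw [Scheme.Opens.range_ι]
    exact hsO
  · haveI : IsAffine ((W.1 : S.Opens) : Scheme.{u}) := W.2
    haveI : Flat (pullback.snd g W.1.ι) := MorphismProperty.pullback_snd _ _ inferInstance
    haveI : Surjective (pullback.snd g W.1.ι) := MorphismProperty.pullback_snd _ _ inferInstance
    haveI : QuasiCompact (pullback.snd g W.1.ι) := MorphismProperty.pullback_snd _ _ inferInstance
    haveI : UniversallyInjective (pullback.snd g W.1.ι) :=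
      MorphismProperty.pullback_snd _ _ inferInstance
    exact cone_of_affine_base (pullback.snd g W.1.ι)
      (Groth.Agent.Helper21.DescZ.baseChange D W.1.ι)

end univInj

end Groth.Agent.Helper21.DescUI
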