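import Mathlib
import Groth.Agent.Lib.Helper21.DescQA4
import Groth.Agent.Lib.Helper21.DescMainFP
import Groth.Agent.Lib.Helper21.DescUI

/-!
# Saturation of opens under a descent datum; fppf descent for separated locally quasi-finite
schemes (helper21)
-/

set_option autoImplicit false
set_option backward.isDefEq.respectTransparency false
set_option backward.isDefEq.respectTransparency.types false
set_option linter.style.haveILetI false

open CategoryTheory CategoryTheory.Limits AlgebraicGeometry TopologicalSpace MorphismProperty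

universe w u

namespace Groth.Agent.Helper21.DescLQF

open Desc Groth.Agent.Helper21.DescA

section flip

variable {S : Scheme.{u}} {ι : Type w} {X : ι → Scheme.{u}} {f : ∀ i, X i ⟶ S} (D : SchDDFam f)

/-- The symmetry `V_i ×_S X_k ⟶ V_k ×_S X_i`, `(v, x) ↦ (φ(v)_x, p(v))`. -/
noncomputable def flip (i k : ι) :
    pullback ((D.obj i).hom ≫ f i) (f k) ⟶ pullback ((D.obj k).hom ≫ f k) (f i) :=
  pullback.lift (act D i k) (pullback.fst _ _ ≫ (D.obj i).hom) (by
    rw [act_hom_assoc, Category.assoc]; exact pullback.condition.symm)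

@[reassoc (attr := simp)]
theorem flip_fst (i k : ι) : flip D i k ≫ pullback.fst _ _ = act D i k := pullback.lift_fst _ _ _

@[reassoc (attr := simp)]
theorem flip_snd (i k : ι) :
    flip D i k ≫ pullback.snd _ _ = pullback.fst _ _ ≫ (D.obj i).hom := pullback.lift_snd _ _ _

theorem flip_act (i k : ι) : flip D i k ≫ act D k i = pullback.fst _ _ := by
  have c : (pullback.fst ((D.obj k).hom ≫ f k) (f i) ≫ (D.obj k).hom) ≫ f k =
      pullback.snd ((D.obj k).hom ≫ f k) (f i) ≫ f i := by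
    rw [Category.assoc]; exact pullback.condition
  have h1 := φ_nat D (flip D i k) (pullback.fst ((D.obj k).hom ≫ f k) (f i) ≫ (D.obj k).hom)
    (pullback.snd ((D.obj k).hom ≫ f k) (f i)) c ⟨pullback.fst _ _, rfl⟩
  have c01 : (pullback.fst ((D.obj i).hom ≫ f i) (f k) ≫ (D.obj i).hom) ≫ f i =
      pullback.snd ((D.obj i).hom ≫ f i) (f k) ≫ f k := by
    rw [Category.assoc]; exact pullback.condition
  refine h1.trans ?_
  refine (φ_congr D _ c01.symm (by rw [flip_fst_assoc, act_hom]) (flip_snd D i k) _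
    ⟨act D i k, act_hom D i k⟩ (flip_fst D i k)).trans ?_
  refine (φ_comp_val D (pullback.fst ((D.obj i).hom ≫ f i) (f k) ≫ (D.obj i).hom)
    (pullback.snd ((D.obj i).hom ≫ f i) (f k))
    (pullback.fst ((D.obj i).hom ≫ f i) (f k) ≫ (D.obj i).hom) c01 c01.symm
    ⟨pullback.fst _ _, rfl⟩ ⟨act D i k, act_hom D i k⟩ rfl).trans ?_
  exact φ_self_val D _ _

@[reassoc (attr := simp)]
theorem flip_flip (i k : ι) : flip D i k ≫ flip D k i = 𝟙 _ := by
  apply pullback.hom_ext
  · rw [Category.assoc, flip_fst, flip_act, Category.id_comp]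
  · rw [Category.assoc, flip_snd, flip_fst_assoc, act_hom, Category.id_comp]

instance (i k : ι) : IsIso (flip D i k) := ⟨flip D k i, flip_flip D i k, flip_flip D k i⟩

theorem universallyOpen_act (i k : ι) [Flat (f i)] [LocallyOfFinitePresentation (f i)] :
    UniversallyOpen (act D i k) := by
  rw [← flip_fst D i k]
  infer_instance

/-- The saturation in `V_k` of an open of `V_i`. -/
def sat (i : ι) (W₀ : (D.obj i).left.Opens) (k : ι) : Set (D.obj k).left :=
  (act D i k).base '' ((pullback.fst ((D.obj i).hom ≫ f i) (f k)).base ⁻¹' (W₀ : Set _))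

theorem isOpen_sat (i : ι) (W₀ : (D.obj i).left.Opens) (k : ι) [Flat (f i)]
    [LocallyOfFinitePresentation (f i)] : IsOpen (sat D i W₀ k) := by
  haveI := universallyOpen_act D i k
  exact (act D i k).isOpenMap _
    (W₀.2.preimage (pullback.fst ((D.obj i).hom ≫ f i) (f k)).continuous)

theorem mem_sat_self (i : ι) (W₀ : (D.obj i).left.Opens) (v : (D.obj i).left) (hv : v ∈ W₀) :
    v ∈ sat D i W₀ i := by
  refine ⟨(pullback.lift (𝟙 (D.obj i).left) (D.obj i).hom (by rw [Category.id_comp]) :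
    (D.obj i).left ⟶ pullback ((D.obj i).hom ≫ f i) (f i)).base v, ?_, ?_⟩
  · change (pullback.fst ((D.obj i).hom ≫ f i) (f i)).base _ ∈ (W₀ : Set _)
    rw [← Scheme.Hom.comp_apply, pullback.lift_fst]
    exact hv
  · rw [← Scheme.Hom.comp_apply, diag_act]
    rfl

theorem sat_stable (i : ι) (W₀ : (D.obj i).left.Opens) {T : Scheme.{u}} {k l : ι}
    (x₀ : T ⟶ X k) (x₁ : T ⟶ X l) (h : x₀ ≫ f k = x₁ ≫ f l) (v : Lifts (D.obj k) x₀) (τ : T)
    (hτ : v.1.base τ ∈ sat D i W₀ k) : (D.φ x₀ x₁ h v).1.base τ ∈ sat D i W₀ l := by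
  obtain ⟨r, hr, hrv⟩ := hτ
  have hv : v.1 ≫ (D.obj k).hom = x₀ := v.2
  obtain ⟨ρ, hρ1, hρ2⟩ := Scheme.Pullback.exists_preimage_pullback
    (f := v.1) (g := act D i k) τ r hrv.symm
  set fstP := pullback.fst v.1 (act D i k) with hfstP
  set sndP := pullback.snd v.1 (act D i k) with hsndP
  have hc : fstP ≫ v.1 = sndP ≫ act D i k := pullback.condition
  have c01 : (pullback.fst ((D.obj i).hom ≫ f i) (f k) ≫ (D.obj i).hom) ≫ f i =
      pullback.snd ((D.obj i).hom ≫ f i) (f k) ≫ f k := by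
    rw [Category.assoc]; exact pullback.condition
  -- x-coordinates
  have e₀ : fstP ≫ x₀ = sndP ≫ pullback.snd ((D.obj i).hom ≫ f i) (f k) := by
    have e : fstP ≫ v.1 ≫ (D.obj k).hom = sndP ≫ pullback.snd ((D.obj i).hom ≫ f i) (f k) := by
      rw [← Category.assoc, hc, Category.assoc, act_hom]
    rw [hv] at e
    exact e
  have h01 : (sndP ≫ pullback.fst ((D.obj i).hom ≫ f i) (f k) ≫ (D.obj i).hom) ≫ f i =
      (sndP ≫ pullback.snd ((D.obj i).hom ≫ f i) (f k)) ≫ f k := by
    rw [Category.assoc, Category.assoc, Category.assoc]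
    rw [← Category.assoc _ _ (f i), c01]
  have h12 : (sndP ≫ pullback.snd ((D.obj i).hom ≫ f i) (f k)) ≫ f k = (fstP ≫ x₁) ≫ f l := by
    rw [← e₀, Category.assoc, h, Category.assoc]
  have A := φ_nat D fstP x₀ x₁ h v
  have B := φ_nat D sndP (pullback.fst ((D.obj i).hom ≫ f i) (f k) ≫ (D.obj i).hom)
    (pullback.snd ((D.obj i).hom ≫ f i) (f k)) c01 ⟨pullback.fst _ _, rfl⟩
  have B' : sndP ≫ act D i k = (D.φ (sndP ≫ pullback.fst ((D.obj i).hom ≫ f i) (f k) ≫
      (D.obj i).hom) (sndP ≫ pullback.snd ((D.obj i).hom ≫ f i) (f k)) h01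
      ⟨sndP ≫ pullback.fst _ _, by rw [Category.assoc]⟩).1 := B
  have C := φ_comp_val D _ _ (fstP ≫ x₁) h01 h12 ⟨sndP ≫ pullback.fst _ _, by rw [Category.assoc]⟩
    ⟨sndP ≫ act D i k, by rw [Category.assoc, act_hom]⟩ B'
  have E := φ_eq D (sndP ≫ pullback.fst ((D.obj i).hom ≫ f i) (f k) ≫ (D.obj i).hom)
    (fstP ≫ x₁) (h01.trans h12) ⟨sndP ≫ pullback.fst _ _, by rw [Category.assoc]⟩
  have key : fstP ≫ (D.φ x₀ x₁ h v).1 =
      pullback.lift (sndP ≫ pullback.fst ((D.obj i).hom ≫ f i) (f k)) (fstP ≫ x₁)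
        (by rw [← Category.assoc, Category.assoc sndP]; exact h01.trans h12) ≫ act D i l := by
    refine A.trans ?_
    refine (φ_congr D _ h12 e₀ rfl _ ⟨sndP ≫ act D i k, by rw [Category.assoc, act_hom]⟩ hc).trans ?_
    exact C.trans E
  refine ⟨(pullback.lift (sndP ≫ pullback.fst ((D.obj i).hom ≫ f i) (f k)) (fstP ≫ x₁)
        (by rw [← Category.assoc, Category.assoc sndP]; exact h01.trans h12) :
      pullback v.1 (act D i k) ⟶ pullback ((D.obj i).hom ≫ f i) (f l)).base ρ, ?_, ?_⟩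
  · change (pullback.fst ((D.obj i).hom ≫ f i) (f l)).base _ ∈ (W₀ : Set _)
    rw [← Scheme.Hom.comp_apply, pullback.lift_fst, Scheme.Hom.comp_apply, hρ2]
    exact hr
  · rw [← Scheme.Hom.comp_apply, ← key, Scheme.Hom.comp_apply, hρ1]

end flip

end Groth.Agent.Helper21.DescLQF
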