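import Mathlib
import Groth.Agent.Lib.Helper21.DescLQF

/-!
# fppf descent for separated locally quasi-finite schemes (helper21)
-/

set_option autoImplicit false
set_option backward.isDefEq.respectTransparency false
set_option backward.isDefEq.respectTransparency.types false
set_option linter.style.haveILetI false

open CategoryTheory CategoryTheory.Limits AlgebraicGeometry TopologicalSpace MorphismProperty

universe u

namespace Groth.Agent.Helper21.DescLQF

open Desc Groth.Agent.Helper21.DescA Groth.Agent.Helper21.DescGlue Groth.Agent.Helper21.DescQA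

/-- The property: separated, locally quasi-finite, locally of finite type. -/
abbrev SLQF : MorphismProperty Scheme.{u} :=
  @IsSeparated ⊓ @LocallyQuasiFinite ⊓ @LocallyOfFiniteType

theorem h3_lqf (X S : Scheme.{u}) (p : X ⟶ S) (hX : IsAffine X) (hS : IsAffine S)
    (hp : Flat p) (hs : Surjective p) (hfp : LocallyOfFinitePresentation p) (D : Desc.SchDD p)
    (hD : SLQF D.obj.hom) : ∃ U : Over S, Nonempty ((Desc.toDD p).obj U ≅ D) := by
  haveI := hX
  haveI := hS
  haveI := hp
  haveI := hs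
  haveI := hfp
  obtain ⟨⟨h1, h2⟩, h3⟩ := hD
  haveI : IsSeparated D.obj.hom := h1
  haveI : LocallyQuasiFinite D.obj.hom := h2
  haveI : LocallyOfFiniteType D.obj.hom := h3
  have hf : Presieve.ofArrows (fun _ : PUnit.{u + 1} => X) (fun _ => p) ∈
      Scheme.fpqcPrecoverage S := by
    rw [Presieve.ofArrows_pUnit]; exact Scheme.Hom.singleton_mem_fpqcPrecoverage p
  let D' := (SchDDFam.ofSchDD.{u} p).obj D
  suffices hc : Nonempty (Cone D') by
    obtain ⟨c⟩ := hc
    obtain ⟨U, ⟨e⟩⟩ := c.isEffective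
    exact ⟨U, ⟨(SchDDFam.toSchDD p).mapIso e⟩⟩
  refine nonempty_cone_of_pcones hf D' (fun i v => ?_)
  obtain ⟨_, ⟨W₀, hW₀, rfl⟩, hvW, -⟩ :=
    (D'.obj i).left.isBasis_affineOpens.exists_subset_of_mem_open (Set.mem_univ v) isOpen_univ
  haveI : ∀ k : PUnit.{u + 1}, Flat ((fun _ : PUnit.{u + 1} => p) k) := fun _ => hp
  haveI : ∀ k : PUnit.{u + 1}, LocallyOfFinitePresentation ((fun _ : PUnit.{u + 1} => p) k) :=
    fun _ => hfp
  let Z : ∀ k, (D'.obj k).left.Opens := fun k => ⟨sat D' i W₀ k, isOpen_sat D' i W₀ k⟩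
  have hZ : ∀ ⦃T : Scheme.{u}⦄ ⦃k l : PUnit.{u + 1}⦄ (x₀ : T ⟶ X) (x₁ : T ⟶ X)
      (h : x₀ ≫ p = x₁ ≫ p) (w : Lifts (D'.obj k) x₀),
      Set.range w.1.base ⊆ (Z k : Set (D'.obj k).left) →
      Set.range (D'.φ x₀ x₁ h w).1.base ⊆ (Z l : Set (D'.obj l).left) := by
    intro T k l x₀ x₁ h w hw
    rintro _ ⟨τ, rfl⟩
    exact sat_stable D' i W₀ x₀ x₁ h w τ (hw ⟨τ, rfl⟩)
  have hV : ∀ k, ((Groth.Agent.Helper21.DescUI.restrict D' Z hZ).obj k).left.IsQuasiAffine := by
    intro k
    change ((Z k : (D'.obj k).left.Opens) : Scheme.{u}).IsQuasiAffine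
    haveI : IsAffineHom p := isAffineHom_of_isAffine p
    haveI : IsAffineHom (pullback.fst ((D'.obj i).hom ≫ p) p) :=
      MorphismProperty.pullback_fst (P := @IsAffineHom) ((D'.obj i).hom ≫ p) p ‹IsAffineHom p›
    have hcpt : IsCompact ((pullback.fst ((D'.obj i).hom ≫ p) p).base ⁻¹' (W₀ : Set _)) :=
      (IsAffineOpen.preimage hW₀ (pullback.fst ((D'.obj i).hom ≫ p) p)).isCompact
    haveI : CompactSpace ((Z k : (D'.obj k).left.Opens) : Scheme.{u}) :=
      isCompact_iff_compactSpace.mp (hcpt.image (act D' i k).continuous)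
    haveI : IsSeparated (D'.obj k).hom := h1
    haveI : LocallyQuasiFinite (D'.obj k).hom := h2
    haveI : LocallyOfFiniteType (D'.obj k).hom := h3
    exact isQuasiAffine_of_zmt ((Z k).ι ≫ (D'.obj k).hom)
  obtain ⟨c⟩ := qa_cone p (Groth.Agent.Helper21.DescUI.restrict D' Z hZ) hV
  refine ⟨PCone.ofSub (Groth.Agent.Helper21.DescUI.restrictHom D' Z hZ) (fun k => by
    change IsOpenImmersion (Z k).ι; infer_instance) c, ?_⟩
  change v ∈ Set.range (Z i).ι.base
  rw [Scheme.Opens.range_ι]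
  exact mem_sat_self D' i W₀ v hvW

/-- fppf descent for schemes separated and locally quasi-finite over the members of the covering
family. -/
theorem lqf_isEffective {S : Scheme.{u}} {ι : Type u} {X : ι → Scheme.{u}} (f : ∀ i, X i ⟶ S)
    (hf : Presieve.ofArrows X f ∈ Scheme.fpqcPrecoverage S)
    (hfp : ∀ i, LocallyOfFinitePresentation (f i)) (D : SchDDFam f)
    (hD : ∀ i, SLQF (D.obj i).hom) : D.IsEffective :=
  Groth.Agent.Helper21.DescMainFP.isEffective (SLQF.{u})
    (fun _ _ _ q hq => Groth.Agent.Helper21.DescProp.sigmaMap_prop (SLQF.{u}) q hq)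
    h3_lqf f hf hfp D hD

end Groth.Agent.Helper21.DescLQF
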