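import Mathlib
import Groth.Agent.Lib.Helper21.DescQA4

/-!
# Quasi-affine schemes descend along flat surjections of affine schemes (helper21)
-/

set_option autoImplicit false
set_option backward.isDefEq.respectTransparency false
set_option backward.isDefEq.respectTransparency.types false
set_option linter.style.haveILetI false

open CategoryTheory CategoryTheory.Limits AlgebraicGeometry MorphismProperty

universe u

namespace Groth.Agent.Helper21.DescQA5

open Groth.Agent.Helper21.DescQA

theorem isQuasiAffine_of_flat_surjective {Y' X' V : Scheme.{u}} (h : Y' ⟶ V) (p : X' ⟶ V)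
    [IsAffine X'] [IsAffine V] [Flat p] [Surjective p] (hq : (pullback h p).IsQuasiAffine) :
    Y'.IsQuasiAffine := by
  haveI := hq
  haveI : IsAffineHom p := isAffineHom_of_isAffine p
  have sq : IsPullback (pullback.snd h p) (pullback.fst h p) p h :=
    (IsPullback.of_hasPullback h p).flip
  haveI : QuasiCompact (pullback.snd h p) := inferInstance
  haveI : IsSeparated (pullback.snd h p) := inferInstance
  haveI : QuasiCompact h := quasiCompact_of_isPullback_surj sq
  haveI : CompactSpace Y' := QuasiCompact.compactSpace_of_compactSpace h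
  haveI : IsSeparated h := isSeparated_of_isPullback_fpqc sq
  haveI : QuasiSeparatedSpace Y' := quasiSeparatedSpace_of_quasiSeparated h
  have hpo := fbc h p
  have hb := isPullback_SpecMap_of_isPushout _ _ _ _ hpo
  -- the outer rectangle
  have hr : IsPullback X'.toSpecΓ p (Spec.map p.appTop) V.toSpecΓ :=
    IsPullback.of_horiz_isIso ⟨(Scheme.toSpecΓ_naturality p).symm⟩
  have houter := sq.paste_horiz hr
  rw [Scheme.toSpecΓ_naturality (pullback.snd h p), Scheme.toSpecΓ_naturality h] at houter
  have htop := IsPullback.of_right houter (Scheme.toSpecΓ_naturality (pullback.fst h p)).symm hb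
  -- the cover
  have hQ : (@Surjective ⊓ @Flat ⊓ @QuasiCompact : MorphismProperty Scheme.{u})
      (Spec.map (pullback.fst h p).appTop) := by
    have h0 : (@Surjective ⊓ @Flat ⊓ @QuasiCompact : MorphismProperty Scheme.{u})
        (Spec.map p.appTop) := by
      rw [← (@Surjective ⊓ @Flat ⊓ @QuasiCompact :
        MorphismProperty Scheme.{u}).arrow_mk_iso_iff (arrowIsoSpecΓOfIsAffine p)]
      exact ⟨⟨inferInstance, inferInstance⟩, inferInstance⟩
    exact MorphismProperty.of_isPullback hb h0
  haveI : IsOpenImmersion Y'.toSpecΓ :=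
    MorphismProperty.of_isPullback_of_descendsAlong (P := @IsOpenImmersion)
      (Q := (@Surjective ⊓ @Flat ⊓ @QuasiCompact : MorphismProperty Scheme.{u})) htop hQ
      (inferInstance : IsOpenImmersion (pullback h p).toSpecΓ)
  constructor


/-- Quasi-affine morphisms descend along fpqc morphisms. -/
theorem descendsAlong_quasiAffine :
    MorphismProperty.DescendsAlong (fun _ _ f => Mor2.IsQuasiAffine f : MorphismProperty Scheme.{u})
      (@Surjective ⊓ @Flat ⊓ @QuasiCompact : MorphismProperty Scheme.{u}) := by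
  refine ⟨fun {A X Y Z fst snd f g} h hf hfst => ?_⟩
  obtain ⟨⟨hs, hfl⟩, hqc⟩ := hf
  haveI : Surjective f := hs
  haveI : Flat f := hfl
  haveI : QuasiCompact f := hqc
  haveI : QuasiCompact fst := hfst.1
  refine ⟨Groth.Agent.Helper21.DescQA.quasiCompact_of_isPullback_surj h, fun V hV => ?_⟩
  haveI : IsAffine (V : Scheme.{u}) := hV
  haveI : CompactSpace (f ⁻¹ᵁ V : Scheme.{u}) :=
    isCompact_iff_compactSpace.mp (QuasiCompact.isCompact_preimage (f := f) _ V.2 hV.isCompact)
  obtain ⟨X', p₀, hsurj, hflat, hX'⟩ :=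
    Scheme.exists_hom_isAffine_of_isZariskiLocalAtSource (@Flat : MorphismProperty Scheme.{u}) (f ⁻¹ᵁ V : Scheme.{u})
  haveI := hsurj
  haveI : Flat p₀ := hflat
  haveI := hX'
  haveI : Surjective (f ∣_ V) :=
    MorphismProperty.of_isPullback (P := @Surjective) (isPullback_morphismRestrict f V).flip hs
  haveI : Flat (f ∣_ V) :=
    MorphismProperty.of_isPullback (P := @Flat) (isPullback_morphismRestrict f V).flip hfl
  let p : X' ⟶ (V : Scheme.{u}) := p₀ ≫ f ∣_ V
  haveI : Surjective p := inferInstanceAs (Surjective (p₀ ≫ f ∣_ V))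
  haveI : Flat p := inferInstanceAs (Flat (p₀ ≫ f ∣_ V))
  let x' : X' ⟶ X := p₀ ≫ (f ⁻¹ᵁ V).ι
  have hpx : p ≫ V.ι = x' ≫ f := by
    change (p₀ ≫ f ∣_ V) ≫ V.ι = (p₀ ≫ (f ⁻¹ᵁ V).ι) ≫ f
    rw [Category.assoc, Category.assoc, morphismRestrict_ι]
  -- two descriptions of `X' ×_Z Y`
  have sq1 : IsPullback (pullback.snd fst x') (pullback.fst fst x' ≫ snd) (x' ≫ f) g :=
    (IsPullback.of_hasPullback fst x').flip.paste_vert h
  have sq2 : IsPullback (pullback.snd (g ∣_ V) p) (pullback.fst (g ∣_ V) p ≫ (g ⁻¹ᵁ V).ι)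
      (p ≫ V.ι) g :=
    (IsPullback.of_hasPullback (g ∣_ V) p).flip.paste_vert (isPullback_morphismRestrict g V)
  rw [hpx] at sq2
  haveI : (pullback fst x').IsQuasiAffine :=
    Groth.Agent.Helper21.DescQA.QA.of_mor2 fst hfst X' x' inferInstance
  haveI : (pullback (g ∣_ V) p).IsQuasiAffine :=
    Scheme.IsQuasiAffine.of_isAffineHom (sq2.isoIsPullback _ _ sq1).hom
  exact Groth.Agent.Helper21.DescQA5.isQuasiAffine_of_flat_surjective (g ∣_ V) p inferInstance

end Groth.Agent.Helper21.DescQA5
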