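import Mathlib
import Groth.Agent.Lib.Helper21.MCPF6
import Groth.Agent.Lib.Helper21.CPF8

/-!
# Critère de platitude par fibres for modules, part 8: `B` only of finite type (helper21)

`cpf_ft_mod`: the critère for `R → B → C` with `B` of finite type and `C` of finite presentation,
and a finitely presented `C`-module `M`.
-/

set_option autoImplicit false
set_option linter.style.haveILetI false
set_option linter.unusedSectionVars false

universe u

open TensorProduct Function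

namespace Groth.Agent.Helper21.MCPF

open Groth.Agent.Helper21.CPF

section FT

variable {R B₁ B C : Type u} [CommRing R] [CommRing B₁] [CommRing B] [CommRing C]
  [Algebra R B₁] [Algebra R B] [Algebra B₁ B] [IsScalarTower R B₁ B]
  [Algebra B C] [Algebra R C] [IsScalarTower R B C] [Algebra B₁ C] [IsScalarTower B₁ B C]
  [IsScalarTower R B₁ C] [Algebra.FinitePresentation R B₁] [Algebra.FinitePresentation R C]
  {M : Type u} [AddCommGroup M] [Module C M] [Module B M] [IsScalarTower B C M] [Module R M]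
  [IsScalarTower R C M] [Module B₁ M] [IsScalarTower B₁ C M] [IsScalarTower B₁ B M]
  [Module.FinitePresentation C M]
  (Q : Ideal C) [Q.IsPrime] (𝔭 : Ideal R) [𝔭.IsPrime]

local notation "JB₁" => Ideal.map (algebraMap R B₁) 𝔭
local notation "JB" => Ideal.map (algebraMap R B) 𝔭
local notation "JC" => Ideal.map (algebraMap R C) 𝔭

set_option maxHeartbeats 3200000 in
set_option synthInstance.maxHeartbeats 400000 in
/-- The critère for a quotient `B` of a finitely presented `B₁` whose kernel is generically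
trivial along `𝔭`, for modules. -/
theorem cpf_ft_aux_mod (hs : Surjective (algebraMap B₁ B)) (h𝔭 : 𝔭 = Q.comap (algebraMap R C))
    (hstar : ∀ z : B₁, algebraMap B₁ B z = 0 →
      ∃ t : R, t ∉ 𝔭 ∧ algebraMap R B₁ t * z ∈ JB₁)
    [Module.Flat R (LocalizedModule Q.primeCompl M)]
    [Module.Flat (B ⧸ JB) ((B ⧸ JB) ⊗[B] LocalizedModule Q.primeCompl M)] :
    Module.Flat B (LocalizedModule Q.primeCompl M) := by
  classical
  letI i1 : Algebra (B₁ ⧸ JB₁) (B ⧸ JB) :=
    Ideal.Quotient.algebraQuotientOfLEComap (map_le_comap_map_tower 𝔭)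
  haveI t1 : IsScalarTower B₁ (B₁ ⧸ JB₁) (B ⧸ JB) := IsScalarTower.of_algebraMap_eq fun _ => rfl
  letI i2 : Algebra (B ⧸ JB) (C ⧸ JC) :=
    Ideal.Quotient.algebraQuotientOfLEComap (map_le_comap_map_tower 𝔭)
  haveI t2 : IsScalarTower B (B ⧸ JB) (C ⧸ JC) := IsScalarTower.of_algebraMap_eq fun _ => rfl
  letI i3 : Algebra (B₁ ⧸ JB₁) (C ⧸ JC) :=
    Ideal.Quotient.algebraQuotientOfLEComap (map_le_comap_map_tower 𝔭)
  haveI t3 : IsScalarTower B₁ (B₁ ⧸ JB₁) (C ⧸ JC) := IsScalarTower.of_algebraMap_eq fun _ => rfl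
  haveI t4 : IsScalarTower (B₁ ⧸ JB₁) (B ⧸ JB) (C ⧸ JC) := quot_tower JB₁ JB JC
  have hJCQ : JC ≤ Q := by
    rw [h𝔭]
    exact Ideal.map_comap_le
  let Qb : Ideal (C ⧸ JC) := Q.map (Ideal.Quotient.mk JC)
  haveI hQbp : Qb.IsPrime :=
    Ideal.map_isPrime_of_surjective Ideal.Quotient.mk_surjective (by rw [Ideal.mk_ker]; exact hJCQ)
  have hQb : Qb.comap (Ideal.Quotient.mk JC) = Q := Ideal.comap_map_mk hJCQ
  have hJC : JC = Ideal.map (algebraMap B C) JB := by
    rw [Ideal.map_map, ← IsScalarTower.algebraMap_eq]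
  have hJC₁ : JC = Ideal.map (algebraMap B₁ C) JB₁ := by
    rw [Ideal.map_map, ← IsScalarTower.algebraMap_eq]
  have hk : IsBaseChange (C ⧸ JC) (TensorProduct.mk C (C ⧸ JC) M 1) :=
    TensorProduct.isBaseChange C M (C ⧸ JC)
  haveI h1 : Module.Flat (B ⧸ JB) (LocalizedModule Qb.primeCompl ((C ⧸ JC) ⊗[C] M)) :=
    (flat_quot_iff_mod JB JC hJC Q Qb hQb (TensorProduct.mk C (C ⧸ JC) M 1) hk).mp inferInstance
  have hsT : Surjective (algebraMap (B₁ ⧸ JB₁) (B ⧸ JB)) := by
    intro y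
    obtain ⟨y, rfl⟩ := Ideal.Quotient.mk_surjective y
    obtain ⟨x, rfl⟩ := hs y
    exact ⟨Ideal.Quotient.mk _ x, rfl⟩
  let W : Submonoid (B₁ ⧸ JB₁) := Qb.primeCompl.comap (algebraMap (B₁ ⧸ JB₁) (C ⧸ JC))
  have hdiv : ∀ w ∈ W, ∀ x : LocalizedModule Qb.primeCompl ((C ⧸ JC) ⊗[C] M),
      ∃ x', w • x' = x := by
    intro w hw x
    induction x using LocalizedModule.induction_on with
    | h m s =>
      refine ⟨LocalizedModule.mk m (⟨algebraMap (B₁ ⧸ JB₁) (C ⧸ JC) w, hw⟩ * s), ?_⟩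
      rw [LocalizedModule.smul'_mk]
      have : w • m = (⟨algebraMap (B₁ ⧸ JB₁) (C ⧸ JC) w, hw⟩ : Qb.primeCompl) • m := by
        rw [← algebraMap_smul (C ⧸ JC) w m]
        rfl
      rw [this]
      exact LocalizedModule.mk_cancel_common_left _ s m
  have hker : ∀ z : B₁ ⧸ JB₁, algebraMap (B₁ ⧸ JB₁) (B ⧸ JB) z = 0 → ∃ w ∈ W, w * z = 0 := by
    intro z hz
    obtain ⟨z, rfl⟩ := Ideal.Quotient.mk_surjective z
    have hz1 : (Ideal.Quotient.mk JB (algebraMap B₁ B z) : B ⧸ JB) = 0 := hz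
    have hz' : algebraMap B₁ B z ∈ JB := Ideal.Quotient.eq_zero_iff_mem.mp hz1
    have hJB : JB = Ideal.map (algebraMap B₁ B) JB₁ := by
      rw [Ideal.map_map, ← IsScalarTower.algebraMap_eq]
    rw [hJB] at hz'
    obtain ⟨z', hz'mem, hz'eq⟩ := (Ideal.mem_map_iff_of_surjective _ hs).mp hz'
    obtain ⟨t, ht, htz⟩ := hstar (z - z') (by rw [map_sub, hz'eq, sub_self])
    refine ⟨Ideal.Quotient.mk _ (algebraMap R B₁ t), ?_, ?_⟩
    · intro hmem
      have h3 : algebraMap R C t ∈ Qb.comap (Ideal.Quotient.mk JC) := by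
        rw [Ideal.mem_comap, IsScalarTower.algebraMap_apply R B₁ C]
        exact hmem
      rw [hQb] at h3
      exact ht (by rw [h𝔭]; exact h3)
    · rw [← map_mul, Ideal.Quotient.eq_zero_iff_mem]
      have : algebraMap R B₁ t * z = algebraMap R B₁ t * (z - z') + algebraMap R B₁ t * z' := by
        ring
      rw [this]
      exact add_mem htz (Ideal.mul_mem_left _ _ hz'mem)
  haveI h2 : Module.Flat (B₁ ⧸ JB₁) (LocalizedModule Qb.primeCompl ((C ⧸ JC) ⊗[C] M)) :=
    flat_of_surjective_of_torsion_ker (T₁ := B₁ ⧸ JB₁) (T := B ⧸ JB)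
      (X := LocalizedModule Qb.primeCompl ((C ⧸ JC) ⊗[C] M)) hsT W hdiv hker
  haveI h3 : Module.Flat (B₁ ⧸ JB₁) ((B₁ ⧸ JB₁) ⊗[B₁] LocalizedModule Q.primeCompl M) :=
    (flat_quot_iff_mod JB₁ JC hJC₁ Q Qb hQb (TensorProduct.mk C (C ⧸ JC) M 1) hk).mpr h2
  haveI h4 : Module.Flat B₁ (LocalizedModule Q.primeCompl M) :=
    cpf_fp_mod (R := R) (B := B₁) (C := C) (M := M) Q 𝔭 h𝔭
  exact flat_of_surjective (B₁ := B₁) (B := B) hs

end FT

set_option maxHeartbeats 3200000 in
set_option synthInstance.maxHeartbeats 400000 in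
/-- **Critère de platitude par fibres for modules**: `R → B → C` with `B` of finite type and `C`
of finite presentation over `R`, `M` a finitely presented `C`-module, `Q` a prime of `C` over
`𝔭 ⊆ R`. If `M_Q` is flat over `R` and `M_Q/𝔭M_Q` is flat over `B/𝔭B`, then `M_Q` is flat over
`B`. -/
theorem cpf_ft_mod {R B C : Type u} [CommRing R] [CommRing B] [CommRing C] [Algebra R B]
    [Algebra B C] [Algebra R C] [IsScalarTower R B C]
    [Algebra.FiniteType R B] [Algebra.FinitePresentation R C]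
    {M : Type u} [AddCommGroup M] [Module C M] [Module B M] [IsScalarTower B C M] [Module R M]
    [IsScalarTower R C M] [Module.FinitePresentation C M]
    (Q : Ideal C) [Q.IsPrime] [Module.Flat R (LocalizedModule Q.primeCompl M)]
    (𝔭 : Ideal R) [𝔭.IsPrime] (h𝔭 : 𝔭 = Q.comap (algebraMap R C))
    [Module.Flat (B ⧸ 𝔭.map (algebraMap R B))
      ((B ⧸ 𝔭.map (algebraMap R B)) ⊗[B] LocalizedModule Q.primeCompl M)] :
    Module.Flat B (LocalizedModule Q.primeCompl M) := by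
  classical
  obtain ⟨n, π, hπ⟩ := Algebra.FiniteType.iff_quotient_mvPolynomial''.mp
    (inferInstance : Algebra.FiniteType R B)
  obtain ⟨b₁, hfg, hle, hgen⟩ := exists_fg_le_generic 𝔭 n (RingHom.ker π.toRingHom)
  haveI : Algebra.FinitePresentation R (MvPolynomial (Fin n) R ⧸ b₁) :=
    Algebra.FinitePresentation.quotient hfg
  let σ : (MvPolynomial (Fin n) R ⧸ b₁) →ₐ[R] B :=
    Ideal.Quotient.liftₐ b₁ π (fun a ha => hle ha)
  have hσ : Surjective σ := fun y => by
    obtain ⟨x, rfl⟩ := hπ y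
    exact ⟨Ideal.Quotient.mk _ x, rfl⟩
  letI : Algebra (MvPolynomial (Fin n) R ⧸ b₁) B := σ.toRingHom.toAlgebra
  haveI : IsScalarTower R (MvPolynomial (Fin n) R ⧸ b₁) B :=
    IsScalarTower.of_algebraMap_eq' σ.comp_algebraMap.symm
  letI : Algebra (MvPolynomial (Fin n) R ⧸ b₁) C :=
    ((algebraMap B C).comp (algebraMap (MvPolynomial (Fin n) R ⧸ b₁) B)).toAlgebra
  haveI : IsScalarTower (MvPolynomial (Fin n) R ⧸ b₁) B C :=
    IsScalarTower.of_algebraMap_eq fun _ => rfl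
  haveI : IsScalarTower R (MvPolynomial (Fin n) R ⧸ b₁) C :=
    IsScalarTower.of_algebraMap_eq (R := R) (S := MvPolynomial (Fin n) R ⧸ b₁) (A := C) fun r => by
      rw [IsScalarTower.algebraMap_apply R B C,
        IsScalarTower.algebraMap_apply R (MvPolynomial (Fin n) R ⧸ b₁) B]
      rfl
  letI : Module (MvPolynomial (Fin n) R ⧸ b₁) M :=
    Module.compHom M (algebraMap (MvPolynomial (Fin n) R ⧸ b₁) C)
  haveI : IsScalarTower (MvPolynomial (Fin n) R ⧸ b₁) C M :=
    IsScalarTower.of_algebraMap_smul fun _ _ => rfl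
  haveI : IsScalarTower (MvPolynomial (Fin n) R ⧸ b₁) B M :=
    IsScalarTower.of_algebraMap_smul fun z m => by
      rw [← algebraMap_smul C (algebraMap (MvPolynomial (Fin n) R ⧸ b₁) B z) m]
      rfl
  refine cpf_ft_aux_mod (B₁ := MvPolynomial (Fin n) R ⧸ b₁) (M := M) Q 𝔭 hσ h𝔭 ?_
  intro z hz
  obtain ⟨c, rfl⟩ := Ideal.Quotient.mk_surjective z
  have hc : c ∈ RingHom.ker π.toRingHom := hz
  obtain ⟨t, ht, htc⟩ := hgen c hc
  refine ⟨t, ht, ?_⟩
  have h1 : algebraMap R (MvPolynomial (Fin n) R ⧸ b₁) t * Ideal.Quotient.mk b₁ c =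
      Ideal.Quotient.mk b₁ (MvPolynomial.C t * c) := by
    rw [map_mul]
    rfl
  rw [h1]
  obtain ⟨v, hv, v', hv', hvv⟩ := Submodule.mem_sup.mp htc
  rw [← hvv, map_add, Ideal.Quotient.eq_zero_iff_mem.mpr hv, zero_add]
  have h2 : Ideal.map (algebraMap R (MvPolynomial (Fin n) R ⧸ b₁)) 𝔭 =
      Ideal.map (Ideal.Quotient.mk b₁) (Ideal.map MvPolynomial.C 𝔭) := by
    rw [Ideal.map_map]
    rfl
  rw [h2]
  exact Ideal.mem_map_of_mem _ hv'

end Groth.Agent.Helper21.MCPF
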