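import Mathlib
import Groth.Agent.Lib.Helper21.FS6

/-!
# Finite-stage flatness, part 7: faithful flatness at a finite stage (helper21)
-/

set_option autoImplicit false
set_option linter.style.haveILetI false
set_option linter.unusedSectionVars false

universe u

open TensorProduct Function

namespace Groth.Agent.Helper21.FS

section Fiber

/-- The image of `Spec` of a base change contains the preimage of the image. -/
theorem mem_range_comap_baseChange {C C' D : Type*} [CommRing C] [CommRing C'] [CommRing D]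
    [Algebra C C'] [Algebra C D] (P : PrimeSpectrum C')
    (h : PrimeSpectrum.comap (algebraMap C C') P ∈
      Set.range (PrimeSpectrum.comap (algebraMap C D))) :
    P ∈ Set.range (PrimeSpectrum.comap (algebraMap C' (C' ⊗[C] D))) := by
  refine (PrimeSpectrum.nontrivial_iff_mem_rangeComap P).mp ?_
  have h' := (PrimeSpectrum.nontrivial_iff_mem_rangeComap _).mpr h
  let p : Ideal C := P.asIdeal.under C
  let := Localization.AtPrime.algebraOfLiesOver p P.asIdeal
  let e : P.asIdeal.Fiber (C' ⊗[C] D) ≃ₐ[P.asIdeal.ResidueField]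
      P.asIdeal.ResidueField ⊗[p.ResidueField] (p.Fiber D) :=
    (Algebra.TensorProduct.cancelBaseChange _ _ _ _ _).trans
      (Algebra.TensorProduct.cancelBaseChange _ _ _ _ _).symm
  haveI : Nontrivial (p.Fiber D) := h'
  haveI : Module.Free p.ResidueField P.asIdeal.ResidueField := Module.Free.of_divisionRing _ _
  haveI : Module.FaithfullyFlat p.ResidueField P.asIdeal.ResidueField := inferInstance
  haveI : Nontrivial (P.asIdeal.ResidueField ⊗[p.ResidueField] (p.Fiber D)) :=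
    (Module.FaithfullyFlat.nontrivial_tensorProduct_iff_right _ _).mpr inferInstance
  exact e.toEquiv.nontrivial

/-- Variant for iterated base change `C' ⊗[A₁] B₁` versus `C ⊗[A₁] B₁`. -/
theorem mem_range_comap_stage (A₁ B₁ : Type*) [CommRing A₁] [CommRing B₁] [Algebra A₁ B₁]
    {C C' : Type*} [CommRing C] [CommRing C'] [Algebra A₁ C] [Algebra A₁ C'] [Algebra C C']
    [IsScalarTower A₁ C C'] (P : PrimeSpectrum C')
    (h : PrimeSpectrum.comap (algebraMap C C') P ∈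
      Set.range (PrimeSpectrum.comap (algebraMap C (C ⊗[A₁] B₁)))) :
    P ∈ Set.range (PrimeSpectrum.comap (algebraMap C' (C' ⊗[A₁] B₁))) := by
  obtain ⟨Q, hQ⟩ := mem_range_comap_baseChange P h
  let e : C' ⊗[C] (C ⊗[A₁] B₁) ≃ₐ[C'] C' ⊗[A₁] B₁ :=
    Algebra.TensorProduct.cancelBaseChange A₁ C C' C' B₁
  refine ⟨PrimeSpectrum.comap e.symm.toAlgHom.toRingHom Q, ?_⟩
  rw [← hQ, ← PrimeSpectrum.comap_comp_apply]
  congr 2

end Fiber

section FF

variable (A₁ : Type u) [CommRing A₁] [IsNoetherianRing A₁] (B₁ : Type u) [CommRing B₁]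
  [Algebra A₁ B₁] [Algebra.FinitePresentation A₁ B₁]
  (A : Type u) [CommRing A] [Algebra A₁ A] (B : Type u) [CommRing B] [Algebra A B] [Algebra A₁ B]
  [Algebra B₁ B] [IsScalarTower A₁ A B] [IsScalarTower A₁ B₁ B] [Algebra.IsPushout A₁ A B₁ B]
  [Module.FaithfullyFlat A B]

attribute [local instance] stageAlgebra Algebra.TensorProduct.rightAlgebra in
include B in
/-- **Faithful flatness at a finite stage.** -/
theorem exists_finset_forall_faithfullyFlat :
    ∃ T : Finset A, ∀ A₃ : Subalgebra A₁ A, (T : Set A) ⊆ A₃ → A₃.FG →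
      Module.FaithfullyFlat A₃ (A₃ ⊗[A₁] B₁) := by
  classical
  haveI : Module.Flat A (A ⊗[A₁] B₁) :=
    Module.Flat.of_linearEquiv (Algebra.IsPushout.equiv A₁ A B₁ B).toLinearEquiv
  obtain ⟨T₁, hT₁⟩ := exists_finset_forall_flat A₁ B₁ B₁ A
  let A₂ : Subalgebra A₁ A := Algebra.adjoin A₁ (T₁ : Set A)
  have hA₂fg : A₂.FG := Subalgebra.fg_adjoin_finset T₁
  haveI : Algebra.FiniteType A₁ A₂ := (Subalgebra.fg_iff_finiteType A₂).mp hA₂fg
  haveI : IsNoetherianRing A₂ := Algebra.FiniteType.isNoetherianRing A₁ A₂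
  haveI : Module.Flat A₂ (A₂ ⊗[A₁] B₁) := hT₁ A₂ Algebra.subset_adjoin hA₂fg
  haveI : IsScalarTower A₁ A₂ B := IsScalarTower.of_algebraMap_eq fun a => by
    rw [IsScalarTower.algebraMap_apply A₁ A B]
    rfl
  -- the image of `Spec B₂ → Spec A₂` is open
  have hopen : IsOpen (Set.range (PrimeSpectrum.comap (algebraMap A₂ (A₂ ⊗[A₁] B₁)))) :=
    PrimeSpectrum.isOpenMap_comap_of_hasGoingDown_of_finitePresentation.isOpen_range
  let J : Ideal A₂ := PrimeSpectrum.vanishingIdeal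
    (Set.range (PrimeSpectrum.comap (algebraMap A₂ (A₂ ⊗[A₁] B₁))))ᶜ
  have hJ : PrimeSpectrum.zeroLocus (J : Set A₂) =
      (Set.range (PrimeSpectrum.comap (algebraMap A₂ (A₂ ⊗[A₁] B₁))))ᶜ := by
    rw [PrimeSpectrum.zeroLocus_vanishingIdeal_eq_closure, hopen.isClosed_compl.closure_eq]
  have hJtop : J.map (algebraMap A₂ A) = ⊤ := by
    by_contra hne
    obtain ⟨𝔪, h𝔪, hle⟩ := Ideal.exists_le_maximal _ hne
    obtain ⟨𝔮, h𝔮⟩ := PrimeSpectrum.comap_surjective_of_faithfullyFlat (B := B)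
      ⟨𝔪, h𝔪.isPrime⟩
    have hmem : PrimeSpectrum.comap (algebraMap A₂ A) ⟨𝔪, h𝔪.isPrime⟩ ∈
        Set.range (PrimeSpectrum.comap (algebraMap A₂ (A₂ ⊗[A₁] B₁))) := by
      refine ⟨PrimeSpectrum.comap (algebraMap (A₂ ⊗[A₁] B₁) B) 𝔮, ?_⟩
      rw [← h𝔮, ← PrimeSpectrum.comap_comp_apply, ← PrimeSpectrum.comap_comp_apply,
        ← IsScalarTower.algebraMap_eq, ← IsScalarTower.algebraMap_eq]
    have hmem' : PrimeSpectrum.comap (algebraMap A₂ A) ⟨𝔪, h𝔪.isPrime⟩ ∈
        PrimeSpectrum.zeroLocus (J : Set A₂) := by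
      rw [PrimeSpectrum.mem_zeroLocus]
      intro x hx
      exact hle (Ideal.mem_map_of_mem _ hx)
    rw [hJ] at hmem'
    exact hmem' hmem
  -- a finite expression of `1`
  obtain ⟨r, v, hv⟩ := Submodule.fg_iff_exists_fin_generating_family.mp
    (IsNoetherian.noetherian J)
  have hvJ : ∀ i, v i ∈ J := fun i => hv ▸ Submodule.subset_span ⟨i, rfl⟩
  have h1 : (1 : A) ∈ Ideal.span (Set.range (fun i => algebraMap A₂ A (v i))) := by
    have : J.map (algebraMap A₂ A) = Ideal.span (Set.range fun i => algebraMap A₂ A (v i)) := by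
      rw [← hv]
      change Ideal.map _ (Ideal.span _) = _
      rw [Ideal.map_span, ← Set.range_comp]
      rfl
    rw [← this, hJtop]
    trivial
  obtain ⟨c, hc⟩ := Ideal.mem_span_range_iff_exists_fun.mp h1
  refine ⟨T₁ ∪ Finset.univ.image c, fun A₃ hA₃ hfg => ?_⟩
  have hT₁A₃ : (T₁ : Set A) ⊆ A₃ := fun x hx => hA₃ (by
    rw [Finset.coe_union]
    exact Or.inl hx)
  have hcA₃ : ∀ i, c i ∈ A₃ := fun i => hA₃ (by
    rw [Finset.coe_union]
    exact Or.inr (Finset.mem_coe.mpr (Finset.mem_image_of_mem _ (Finset.mem_univ i))))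
  have hle : A₂ ≤ A₃ := Algebra.adjoin_le hT₁A₃
  haveI : Module.Flat A₃ (A₃ ⊗[A₁] B₁) := hT₁ A₃ hT₁A₃ hfg
  apply Module.FaithfullyFlat.of_comap_surjective
  intro P
  letI : Algebra A₂ A₃ := (Subalgebra.inclusion hle).toAlgebra
  haveI : IsScalarTower A₁ A₂ A₃ := IsScalarTower.of_algebraMap_eq fun a => rfl
  apply mem_range_comap_stage A₁ B₁ (C := A₂) (C' := A₃) P
  by_contra hnot
  have hz : PrimeSpectrum.comap (algebraMap A₂ A₃) P ∈ PrimeSpectrum.zeroLocus (J : Set A₂) := by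
    rw [hJ]
    exact hnot
  rw [PrimeSpectrum.mem_zeroLocus] at hz
  apply P.isPrime.ne_top
  rw [Ideal.eq_top_iff_one]
  have h1' : (1 : A₃) = ∑ i, (⟨c i, hcA₃ i⟩ : A₃) * algebraMap A₂ A₃ (v i) := by
    apply Subtype.val_injective
    have : A₃.val (∑ i, (⟨c i, hcA₃ i⟩ : A₃) * algebraMap A₂ A₃ (v i)) = A₃.val 1 := by
      rw [map_sum, map_one, ← hc]
      rfl
    exact this.symm
  rw [h1']
  exact Ideal.sum_mem _ fun i _ => Ideal.mul_mem_left _ _ (hz (hvJ i))

variable [Algebra.FiniteType ℤ A₁] (R : Type u) [CommRing R] [Algebra R A]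

attribute [local instance] Algebra.TensorProduct.rightAlgebra in
include A₁ B₁ in
omit [Module.FaithfullyFlat A B] [IsNoetherianRing A₁] in
theorem exists_faithfullyFlat_model_aux (A₃ : Type u) [CommRing A₃] [Algebra A₁ A₃] [Algebra A₃ A]
    [IsScalarTower A₁ A₃ A] [Algebra.FiniteType A₁ A₃]
    [Module.FaithfullyFlat A₃ (A₃ ⊗[A₁] B₁)] :
    ∃ (A₀ B₀ : Type u) (_ : CommRing A₀) (_ : CommRing B₀) (_ : Algebra R A₀) (_ : Algebra A₀ A)
      (_ : IsScalarTower R A₀ A) (_ : Algebra A₀ B₀), Algebra.FinitePresentation R A₀ ∧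
      Algebra.FinitePresentation A₀ B₀ ∧ Module.FaithfullyFlat A₀ B₀ ∧
      Nonempty (B ≃ₐ[A] A ⊗[A₀] B₀) := by
  classical
  haveI : Algebra.FiniteType ℤ A₃ :=
    Algebra.FiniteType.trans (inferInstance : Algebra.FiniteType ℤ A₁) inferInstance
  haveI : Algebra.FinitePresentation ℤ A₃ := Algebra.FinitePresentation.of_finiteType.mp inferInstance
  let φ : R ⊗[ℤ] A₃ →ₐ[R] A := Algebra.TensorProduct.lift (Algebra.ofId R A)
    ((Algebra.ofId A₃ A).restrictScalars ℤ) (fun _ _ => Commute.all _ _)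
  letI : Algebra (R ⊗[ℤ] A₃) A := φ.toRingHom.toAlgebra
  haveI : IsScalarTower R (R ⊗[ℤ] A₃) A := ⟨fun r x y => by
    change φ (r • x) * y = r • (φ x * y)
    rw [map_smul, smul_mul_assoc]⟩
  haveI : IsScalarTower A₃ (R ⊗[ℤ] A₃) A := ⟨fun a x y => by
    change φ (a • x) * y = a • (φ x * y)
    rw [Algebra.smul_def, map_mul, mul_assoc, Algebra.smul_def]
    congr 1
    rw [Algebra.TensorProduct.right_algebraMap_apply, Algebra.TensorProduct.lift_tmul, map_one,
      one_mul]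
    rfl⟩
  refine ⟨R ⊗[ℤ] A₃, (R ⊗[ℤ] A₃) ⊗[A₃] (A₃ ⊗[A₁] B₁), inferInstance, inferInstance, inferInstance,
    inferInstance, inferInstance, inferInstance, inferInstance, inferInstance, inferInstance, ⟨?_⟩⟩
  let e1 := Algebra.TensorProduct.cancelBaseChange A₃ (R ⊗[ℤ] A₃) A A (A₃ ⊗[A₁] B₁)
  let e2 : A ⊗[A₃] (A₃ ⊗[A₁] B₁) ≃ₐ[A] A ⊗[A₁] B₁ :=
    Algebra.TensorProduct.cancelBaseChange A₁ A₃ A A B₁
  let e3 : A ⊗[A₁] B₁ ≃ₐ[A] B := Algebra.IsPushout.equiv A₁ A B₁ B
  exact ((e1.trans e2).trans e3).symm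

include A₁ B₁ in
/-- Descent of a faithfully flat finitely presented algebra to a finitely presented `R`-algebra. -/
theorem exists_faithfullyFlat_model :
    ∃ (A₀ B₀ : Type u) (_ : CommRing A₀) (_ : CommRing B₀) (_ : Algebra R A₀) (_ : Algebra A₀ A)
      (_ : IsScalarTower R A₀ A) (_ : Algebra A₀ B₀), Algebra.FinitePresentation R A₀ ∧
      Algebra.FinitePresentation A₀ B₀ ∧ Module.FaithfullyFlat A₀ B₀ ∧
      Nonempty (B ≃ₐ[A] A ⊗[A₀] B₀) := by
  classical
  obtain ⟨T, hT⟩ := exists_finset_forall_faithfullyFlat A₁ B₁ A B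
  let A₃ : Subalgebra A₁ A := Algebra.adjoin A₁ (T : Set A)
  have hA₃fg : A₃.FG := Subalgebra.fg_adjoin_finset T
  haveI : Algebra.FiniteType A₁ A₃ := (Subalgebra.fg_iff_finiteType A₃).mp hA₃fg
  haveI : Module.FaithfullyFlat A₃ (A₃ ⊗[A₁] B₁) := hT A₃ Algebra.subset_adjoin hA₃fg
  exact exists_faithfullyFlat_model_aux A₁ B₁ A B R A₃

end FF

end Groth.Agent.Helper21.FS
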