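import Mathlib

/-!
# fppf descent (on the source) of ring-hom properties of morphisms of schemes (helper21)
-/

set_option autoImplicit false
set_option linter.style.haveILetI false
set_option linter.unusedSectionVars false

universe u

open CategoryTheory CategoryTheory.Limits AlgebraicGeometry Opposite TopologicalSpace

namespace Groth.Agent.Helper21.FS

section Cover

variable {X Y : Scheme.{u}} (f : X ⟶ Y) [Surjective f] [Flat f] [LocallyOfFinitePresentation f]

/-- A quasi-compact open `V` of `Y` is covered by the images of finitely many affine opens of `X`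
mapping into `V`. -/
theorem exists_finite_affine_cover (V : Y.Opens) (hV : IsCompact (V : Set Y)) :
    ∃ (ι : Type u) (_ : Finite ι) (U : ι → X.affineOpens), (∀ i, (U i).1 ≤ f ⁻¹ᵁ V) ∧
      (V : Set Y) ⊆ ⋃ i, f '' ((U i).1 : Set X) := by
  have H : ∀ y : V, ∃ U : X.affineOpens, U.1 ≤ f ⁻¹ᵁ V ∧ (y : Y) ∈ f '' ((U.1 : X.Opens) : Set X) := by
    rintro ⟨y, hy⟩
    obtain ⟨x, rfl⟩ := f.surjective y
    obtain ⟨U, hU, hxU, hUle⟩ :=
      (Opens.isBasis_iff_nbhd.mp X.isBasis_affineOpens) (show x ∈ f ⁻¹ᵁ V from hy)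
    exact ⟨⟨U, hU⟩, hUle, x, hxU, rfl⟩
  choose U hUle hyU using H
  obtain ⟨t, ht⟩ := hV.elim_finite_subcover (fun y : V => f '' ((U y).1 : Set X))
    (fun y => f.isOpenMap _ (U y).1.2) (fun y hy => Set.mem_iUnion.mpr ⟨⟨y, hy⟩, hyU _⟩)
  refine ⟨t, inferInstance, fun i => U i.1, fun i => hUle i.1, ?_⟩
  intro y hy
  obtain ⟨i, hi⟩ := Set.mem_iUnion.mp (ht hy)
  obtain ⟨hit, hi⟩ := Set.mem_iUnion.mp hi
  exact Set.mem_iUnion.mpr ⟨⟨i, hit⟩, hi⟩

end Cover

section Key

variable {P : MorphismProperty Scheme.{u}}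
  {Q : ∀ {R S : Type u} [CommRing R] [CommRing S], (R →+* S) → Prop} [HasRingHomProperty P Q]

/-- fppf descent on the source, affine-local form. -/
theorem resLE_of_fppf_cover
    (hdesc : ∀ {R A B : Type u} [CommRing R] [CommRing A] [CommRing B] (φ : R →+* A) (ψ : A →+* B),
      Q (ψ.comp φ) → ψ.FaithfullyFlat → ψ.FinitePresentation → Q φ)
    {X Y S : Scheme.{u}} (f : X ⟶ Y) (q : Y ⟶ S) [Surjective f] [Flat f]
    [LocallyOfFinitePresentation f] (hfq : P (f ≫ q)) (W : S.Opens) (V : Y.Opens)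
    (hW : IsAffineOpen W) (hV : IsAffineOpen V) (e : V ≤ q ⁻¹ᵁ W) :
    P (q.resLE W V e) := by
  obtain ⟨ι, _, U, hUle, hcov⟩ := exists_finite_affine_cover f V hV.isCompact
  haveI : IsAffine (W : Scheme) := hW
  haveI : IsAffine (V : Scheme) := hV
  haveI : ∀ i, IsAffine ((U i).1 : Scheme) := fun i => (U i).2
  let g : ∀ i, ((U i).1 : Scheme) ⟶ (V : Scheme) := fun i => f.resLE V (U i).1 (hUle i)
  let G : (∐ fun i => ((U i).1 : Scheme)) ⟶ (V : Scheme) := Sigma.desc g
  haveI hGflat : Flat G := inferInstance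
  haveI : IsZariskiLocalAtSource @LocallyOfFinitePresentation.{u} :=
    HasRingHomProperty.instIsZariskiLocalAtSource
  haveI hGfp : LocallyOfFinitePresentation G :=
    IsZariskiLocalAtSource.sigmaDesc (P := @LocallyOfFinitePresentation)
      fun i => (inferInstance : LocallyOfFinitePresentation (f.resLE V (U i).1 (hUle i)))
  haveI hGsurj : Surjective G := by
    apply Surjective.sigmaDesc_of_union_range_eq_univ
    rw [Set.eq_univ_iff_forall]
    rintro ⟨y, hy⟩
    obtain ⟨i, hi⟩ := Set.mem_iUnion.mp (hcov hy)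
    obtain ⟨x, hx, rfl⟩ := hi
    refine Set.mem_iUnion.mpr ⟨i, ⟨x, hx⟩, ?_⟩
    apply Subtype.ext
    have h1 := Scheme.Hom.resLE_comp_ι f (hUle i)
    have h2 := congr(($h1) ⟨x, hx⟩)
    exact h2
  have hcomp : P (G ≫ q.resLE W V e) := by
    have h1 : G ≫ q.resLE W V e = Sigma.desc (fun i => (f ≫ q).resLE W (U i).1
        ((hUle i).trans ((Opens.map f.base).map (homOfLE e)).le)) := by
      apply Sigma.hom_ext
      intro i
      simp [G, g, Scheme.Hom.resLE_comp_resLE]
    rw [h1]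
    exact IsZariskiLocalAtSource.sigmaDesc fun i => IsZariskiLocalAtSource.resLE _ hfq
  rw [HasRingHomProperty.iff_of_isAffine (P := P)] at hcomp ⊢
  rw [Scheme.Hom.comp_appTop] at hcomp
  exact hdesc _ _ hcomp
    ((Flat.flat_and_surjective_iff_faithfullyFlat_of_isAffine G).mp ⟨hGflat, hGsurj⟩)
    (HasRingHomProperty.appTop (P := @LocallyOfFinitePresentation) G hGfp)

/-- fppf descent on the source. -/
theorem of_fppf_cover [P.RespectsRight @IsOpenImmersion]
    (hdesc : ∀ {R A B : Type u} [CommRing R] [CommRing A] [CommRing B] (φ : R →+* A) (ψ : A →+* B),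
      Q (ψ.comp φ) → ψ.FaithfullyFlat → ψ.FinitePresentation → Q φ)
    {X Y S : Scheme.{u}} (f : X ⟶ Y) (q : Y ⟶ S) [Surjective f] [Flat f]
    [LocallyOfFinitePresentation f] (hfq : P (f ≫ q)) : P q := by
  rw [IsZariskiLocalAtSource.iff_exists_resLE (P := P)]
  intro y
  obtain ⟨W, hW, hyW, -⟩ := Opens.isBasis_iff_nbhd.mp S.isBasis_affineOpens
    (show q y ∈ (⊤ : S.Opens) from trivial)
  obtain ⟨V, hV, hyV, hVle⟩ := Opens.isBasis_iff_nbhd.mp Y.isBasis_affineOpens
    (show y ∈ q ⁻¹ᵁ W from hyW)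
  exact ⟨W, V, hyV, hVle, resLE_of_fppf_cover hdesc f q hfq W V hW hV hVle⟩

end Key

end Groth.Agent.Helper21.FS
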