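import Mathlib

/-!
# fppf descent of finite type / finite presentation for ring maps, given a model (helper21)
-/

set_option autoImplicit false
set_option linter.style.haveILetI false
set_option linter.unusedSectionVars false

universe u

open TensorProduct Function

namespace Groth.Agent.Helper21.FS

section Desc

variable {R A B : Type u} [CommRing R] [CommRing A] [CommRing B] [Algebra R A] [Algebra A B]
  [Algebra R B] [IsScalarTower R A B]
  (A₀ B₀ : Type u) [CommRing A₀] [CommRing B₀] [Algebra R A₀] [Algebra A₀ A] [IsScalarTower R A₀ A]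
  [Algebra A₀ B₀] (e : B ≃ₐ[A] A ⊗[A₀] B₀)

/-- the map `B₀ → B` -/
noncomputable def modelToB : B₀ →+* B :=
  (e.symm : A ⊗[A₀] B₀ →+* B).comp Algebra.TensorProduct.includeRight.toRingHom

theorem modelToB_apply (b₀ : B₀) : modelToB A₀ B₀ e b₀ = e.symm (1 ⊗ₜ b₀) := rfl

theorem modelToB_comp :
    algebraMap R B = (modelToB A₀ B₀ e).comp ((algebraMap A₀ B₀).comp (algebraMap R A₀)) := by
  ext r
  simp only [RingHom.comp_apply, modelToB_apply]
  have h1 : (1 : A) ⊗ₜ[A₀] (algebraMap A₀ B₀ (algebraMap R A₀ r)) =
      algebraMap A (A ⊗[A₀] B₀) (algebraMap A₀ A (algebraMap R A₀ r)) := by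
    rw [Algebra.TensorProduct.algebraMap_apply, Algebra.algebraMap_eq_smul_one,
      Algebra.algebraMap_eq_smul_one (algebraMap R A₀ r) (A := A), Algebra.algebraMap_self,
      RingHom.id_apply, TensorProduct.smul_tmul]
  rw [h1, AlgEquiv.commutes, ← IsScalarTower.algebraMap_apply R A₀ A,
    ← IsScalarTower.algebraMap_apply R A B]

/-- the comparison `B ≃ B₀ ⊗ A` over `B₀`. -/
noncomputable def modelEquiv :
    letI := (modelToB A₀ B₀ e).toAlgebra
    B ≃ₐ[B₀] B₀ ⊗[A₀] A :=
  letI := (modelToB A₀ B₀ e).toAlgebra
  AlgEquiv.ofRingEquiv (f := (e.toRingEquiv).trans (Algebra.TensorProduct.comm A₀ A B₀).toRingEquiv)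
    (fun b₀ => by
      change (Algebra.TensorProduct.comm A₀ A B₀) (e (modelToB A₀ B₀ e b₀)) = _
      rw [modelToB_apply, AlgEquiv.apply_symm_apply, Algebra.TensorProduct.comm_tmul]
      rfl)

include e in
theorem finiteType_of_model [Algebra.FiniteType R A₀] [Algebra.FiniteType A₀ B₀]
    [Module.FaithfullyFlat A₀ B₀] [Algebra.FiniteType R B] : Algebra.FiniteType R A := by
  letI : Algebra B₀ B := (modelToB A₀ B₀ e).toAlgebra
  have hft : (modelToB A₀ B₀ e).FiniteType := by
    refine RingHom.FiniteType.of_comp_finiteType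
      (f := (algebraMap A₀ B₀).comp (algebraMap R A₀)) ?_
    rw [← modelToB_comp]
    exact RingHom.finiteType_algebraMap.mpr inferInstance
  haveI : Algebra.FiniteType B₀ B := hft
  haveI : Algebra.FiniteType B₀ (B₀ ⊗[A₀] A) :=
    Algebra.FiniteType.equiv inferInstance (modelEquiv A₀ B₀ e)
  haveI : Algebra.FiniteType A₀ A :=
    Algebra.FiniteType.of_finiteType_tensorProduct_of_faithfullyFlat B₀
  exact Algebra.FiniteType.trans (inferInstance : Algebra.FiniteType R A₀) inferInstance

include e in
theorem finitePresentation_of_model [Algebra.FinitePresentation R A₀]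
    [Algebra.FinitePresentation A₀ B₀]
    [Module.FaithfullyFlat A₀ B₀] [Algebra.FinitePresentation R B] :
    Algebra.FinitePresentation R A := by
  letI : Algebra B₀ B := (modelToB A₀ B₀ e).toAlgebra
  have hfp : (modelToB A₀ B₀ e).FinitePresentation := by
    refine RingHom.FinitePresentation.of_comp_finiteType
      ((algebraMap A₀ B₀).comp (algebraMap R A₀)) ?_ ?_
    · rw [← modelToB_comp]
      exact RingHom.finitePresentation_algebraMap.mpr inferInstance
    · exact RingHom.FiniteType.comp (RingHom.finiteType_algebraMap.mpr inferInstance)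
        (RingHom.finiteType_algebraMap.mpr inferInstance)
  haveI : Algebra.FinitePresentation B₀ B := hfp
  haveI : Algebra.FinitePresentation B₀ (B₀ ⊗[A₀] A) :=
    Algebra.FinitePresentation.equiv (modelEquiv A₀ B₀ e)
  haveI : Algebra.FinitePresentation A₀ A :=
    Algebra.FinitePresentation.of_finitePresentation_tensorProduct_of_faithfullyFlat B₀
  exact Algebra.FinitePresentation.trans R A₀ A

end Desc

end Groth.Agent.Helper21.FS
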