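import Mathlib
import Groth.Prelude.Def_SGA1

/-!
Quotients of schemes by finite groups (`SGA1.IsQuot`): the quotient map is integral, surjective,
its fibres are the orbits and the topology is the quotient topology.
-/

open AlgebraicGeometry CategoryTheory Limits

universe u

namespace Groth.Agent.Helper21.GQuot

/-- Ring-level input: invariants of a finite group acting (through an anti-homomorphism `σ`). -/
theorem ring_quot {A B : Type*} [CommRing A] [CommRing B] (φ : A →+* B)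
    {G : Type*} [Group G] [Finite G] (σ : G → (B →+* B)) (h1 : σ 1 = RingHom.id B)
    (hmul : ∀ g h, σ (g * h) = (σ h).comp (σ g))
    (hrange : ∀ b, b ∈ Set.range φ ↔ ∀ g, σ g b = b) :
    φ.IsIntegral ∧ ∀ (P Q : Ideal B) [P.IsPrime] [Q.IsPrime], P.comap φ = Q.comap φ →
      ∃ g, Q = P.comap (σ g) := by
  letI : Algebra A B := φ.toAlgebra
  letI : MulSemiringAction G B :=
    { smul := fun g b => σ g⁻¹ b
      one_smul := fun b => by show σ 1⁻¹ b = b; rw [inv_one, h1]; rfl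
      mul_smul := fun g h b => by
        show σ (g * h)⁻¹ b = σ g⁻¹ (σ h⁻¹ b)
        rw [mul_inv_rev, hmul]; rfl
      smul_zero := fun g => map_zero _
      smul_add := fun g a b => map_add _ _ _
      smul_one := fun g => map_one _
      smul_mul := fun g a b => map_mul _ _ _ }
  have hsmul : ∀ (g : G) (b : B), g • b = σ g⁻¹ b := fun _ _ => rfl
  haveI : SMulCommClass G A B := ⟨fun g a b => by
    rw [Algebra.smul_def, Algebra.smul_def, hsmul, hsmul, map_mul]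
    congr 1
    exact (hrange (φ a)).mp ⟨a, rfl⟩ g⁻¹⟩
  haveI : Algebra.IsInvariant A B G := ⟨fun b hb => by
    have : ∀ g, σ g b = b := fun g => by
      have := hb g⁻¹
      rwa [hsmul, inv_inv] at this
    exact (hrange b).mpr this⟩
  refine ⟨?_, ?_⟩
  · have := Algebra.IsInvariant.isIntegral A B G
    exact fun b => this.isIntegral b
  · intro P Q _ _ hPQ
    obtain ⟨g, hg⟩ := Algebra.IsInvariant.exists_smul_of_under_eq A B G P Q hPQ
    refine ⟨g, ?_⟩
    rw [hg]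
    ext b
    rw [Ideal.mem_pointwise_smul_iff_inv_smul_mem, hsmul, inv_inv]
    rfl

theorem appLE_congr_hom {X Y : Scheme.{u}} {a b : X ⟶ Y} (h : a = b) (U : Y.Opens) (V : X.Opens)
    (e : V ≤ a ⁻¹ᵁ U) : a.appLE U V e = b.appLE U V (h ▸ e) := by
  subst h; rfl

theorem id_appLE_self {X : Scheme.{u}} (U : X.Opens) (e : U ≤ (𝟙 X) ⁻¹ᵁ U) :
    (𝟙 X : X ⟶ X).appLE U U e = 𝟙 _ := by
  simp only [Scheme.Hom.appLE, Scheme.Hom.id_app]
  exact X.presheaf.map_id _

section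

variable {X Y : Scheme.{u}} {G : Type u} [Group G] (ρ : G →* Aut X) (p : X ⟶ Y)

theorem ring_facts [Finite G] (hp : SGA1.IsQuot ρ p) (U : Y.Opens) :
    (p.app U).hom.IsIntegral ∧ ∀ (P Q : Ideal Γ(X, p ⁻¹ᵁ U)) [P.IsPrime] [Q.IsPrime],
      P.comap (p.app U).hom = Q.comap (p.app U).hom →
      ∃ g : G, Q = P.comap ((ρ g).hom.appLE (p ⁻¹ᵁ U) (p ⁻¹ᵁ U)
        (SGA1.preimage_le_of_inv ρ p hp.inv g U)).hom := by
  refine ring_quot (p.app U).hom (fun g => ((ρ g).hom.appLE (p ⁻¹ᵁ U) (p ⁻¹ᵁ U)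
        (SGA1.preimage_le_of_inv ρ p hp.inv g U)).hom) ?_ ?_ (hp.range_iff U)
  · have h1 : (ρ 1).hom = 𝟙 X := by rw [map_one]; rfl
    show ((ρ 1).hom.appLE (p ⁻¹ᵁ U) (p ⁻¹ᵁ U) _).hom = _
    rw [appLE_congr_hom h1, id_appLE_self]
    rfl
  · intro g h
    have h1 : (ρ (g * h)).hom = (ρ h).hom ≫ (ρ g).hom := by rw [map_mul]; rfl
    show ((ρ (g * h)).hom.appLE (p ⁻¹ᵁ U) (p ⁻¹ᵁ U) _).hom =
      ((ρ h).hom.appLE (p ⁻¹ᵁ U) (p ⁻¹ᵁ U) _).hom.comp
        ((ρ g).hom.appLE (p ⁻¹ᵁ U) (p ⁻¹ᵁ U) _).hom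
    rw [appLE_congr_hom h1, ← CommRingCat.hom_comp, Scheme.Hom.appLE_comp_appLE]

theorem isIntegralHom [Finite G] (hp : SGA1.IsQuot ρ p) : IsIntegralHom p :=
  { toIsAffineHom := hp.affine
    isIntegral_app := fun U _ => (ring_facts ρ p hp U).1 }

theorem surjective [Finite G] (hp : SGA1.IsQuot ρ p) : Surjective p := by
  haveI := isIntegralHom ρ p hp
  haveI : IsSchemeTheoreticallyDominant p := by
    rw [isSchemeTheoreticallyDominant_iff]
    apply Scheme.IdealSheafData.ext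
    funext U
    rw [p.ker_apply, Scheme.IdealSheafData.ideal_bot]
    exact (RingHom.injective_iff_ker_eq_bot _).mp (hp.injective U.1)
  exact surjective_of_isDominant_of_isClosed_range p p.isClosedMap.isClosed_range

theorem isQuotientMap [Finite G] (hp : SGA1.IsQuot ρ p) : Topology.IsQuotientMap p.base := by
  haveI := isIntegralHom ρ p hp
  exact p.isClosedMap.isQuotientMap p.continuous (surjective ρ p hp).surj

theorem orbit [Finite G] (hp : SGA1.IsQuot ρ p) (x x' : X) (h : p x = p x') :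
    ∃ g : G, (ρ g).hom x = x' := by
  obtain ⟨_, ⟨V, hV, rfl⟩, hxV, -⟩ :=
    Y.isBasis_affineOpens.exists_subset_of_mem_open (Set.mem_univ (p x)) isOpen_univ
  haveI := hp.affine
  have hU : IsAffineOpen (p ⁻¹ᵁ V) := hV.preimage p
  have hx : x ∈ p ⁻¹ᵁ V := hxV
  have hx' : x' ∈ p ⁻¹ᵁ V := by
    show p x' ∈ V
    rw [← h]; exact hxV
  have e1 := IsAffineOpen.comap_primeIdealOf_appLE (f := p) V hV (p ⁻¹ᵁ V) hU le_rfl hx
  have e2 := IsAffineOpen.comap_primeIdealOf_appLE (f := p) V hV (p ⁻¹ᵁ V) hU le_rfl hx'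
  rw [p.appLE_eq_app] at e1 e2
  have e12 : hV.primeIdealOf ⟨p x, hx⟩ = hV.primeIdealOf ⟨p x', hx'⟩ := by
    congr 1
    exact Subtype.ext h
  have hPQ : (hU.primeIdealOf ⟨x, hx⟩).asIdeal.comap (p.app V).hom =
      (hU.primeIdealOf ⟨x', hx'⟩).asIdeal.comap (p.app V).hom := by
    have := e1.trans (e12.trans e2.symm)
    exact congrArg PrimeSpectrum.asIdeal this
  obtain ⟨g, hg⟩ := (ring_facts ρ p hp V).2 _ _ hPQ
  refine ⟨g, ?_⟩
  have e3 := IsAffineOpen.comap_primeIdealOf_appLE (f := (ρ g).hom) (p ⁻¹ᵁ V) hU (p ⁻¹ᵁ V) hU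
    (SGA1.preimage_le_of_inv ρ p hp.inv g V) hx
  have e4 : hU.primeIdealOf ⟨(ρ g).hom x, SGA1.preimage_le_of_inv ρ p hp.inv g V hx⟩ =
      hU.primeIdealOf ⟨x', hx'⟩ := by
    rw [← e3]
    exact PrimeSpectrum.ext hg.symm
  have e5 := congrArg hU.fromSpec e4
  rw [hU.fromSpec_primeIdealOf, hU.fromSpec_primeIdealOf] at e5
  exact e5

end

end Groth.Agent.Helper21.GQuot
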