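import Mathlib
import Groth.Agent.Lib.Helper21.GQuot

/-!
Quotients of schemes by finite groups: opens of the quotient with affine preimage are affine,
separatedness / finite type pass to the quotient.
-/

open AlgebraicGeometry CategoryTheory Limits

universe u

namespace Groth.Agent.Helper21.GQuot3

open Groth.Agent.Helper21.GQuot

theorem fromSpec_mem {X : Scheme.{u}} {U : X.Opens} (hU : IsAffineOpen U)
    (y : PrimeSpectrum Γ(X, U)) : hU.fromSpec y ∈ U := by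
  rw [← SetLike.mem_coe, ← hU.range_fromSpec]
  exact ⟨y, rfl⟩

theorem primeIdealOf_fromSpec {X : Scheme.{u}} {U : X.Opens} (hU : IsAffineOpen U)
    (y : PrimeSpectrum Γ(X, U)) : hU.primeIdealOf ⟨hU.fromSpec y, fromSpec_mem hU y⟩ = y := by
  apply hU.fromSpec.isOpenEmbedding.injective
  exact hU.fromSpec_primeIdealOf ⟨hU.fromSpec y, fromSpec_mem hU y⟩

section

variable {X Y : Scheme.{u}} {G : Type u} [Group G] (ρ : G →* Aut X) (p : X ⟶ Y)

/-- The action of `G` on the sections of `O_X` over `p⁻¹U`. -/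
noncomputable def σ (hinv : ∀ g : G, (ρ g).hom ≫ p = p) (U : Y.Opens) (g : G) :
    Γ(X, p ⁻¹ᵁ U) →+* Γ(X, p ⁻¹ᵁ U) :=
  ((ρ g).hom.appLE (p ⁻¹ᵁ U) (p ⁻¹ᵁ U) (SGA1.preimage_le_of_inv ρ p hinv g U)).hom

theorem σ_one (hinv : ∀ g : G, (ρ g).hom ≫ p = p) (U : Y.Opens) :
    σ ρ p hinv U 1 = RingHom.id _ := by
  have h1 : (ρ 1).hom = 𝟙 X := by rw [map_one]; rfl
  unfold σ
  rw [appLE_congr_hom h1, id_appLE_self]
  rfl

theorem σ_mul (hinv : ∀ g : G, (ρ g).hom ≫ p = p) (U : Y.Opens) (g h : G) :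
    σ ρ p hinv U (g * h) = (σ ρ p hinv U h).comp (σ ρ p hinv U g) := by
  have h1 : (ρ (g * h)).hom = (ρ h).hom ≫ (ρ g).hom := by rw [map_mul]; rfl
  unfold σ
  rw [appLE_congr_hom h1, ← CommRingCat.hom_comp, Scheme.Hom.appLE_comp_appLE]

theorem σ_prod [Fintype G] (hinv : ∀ g : G, (ρ g).hom ≫ p = p) (U : Y.Opens)
    (b : Γ(X, p ⁻¹ᵁ U)) (h : G) :
    σ ρ p hinv U h (∏ g : G, σ ρ p hinv U g b) = ∏ g : G, σ ρ p hinv U g b := by
  rw [map_prod]
  have : ∀ g, σ ρ p hinv U h (σ ρ p hinv U g b) = σ ρ p hinv U (g * h) b := fun g => by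
    rw [σ_mul]; rfl
  simp_rw [this]
  exact Fintype.prod_equiv (Equiv.mulRight h) _ _ (fun g => rfl)

theorem isAffineOpen_of_preimage [Finite G] (hp : SGA1.IsQuot ρ p) (U : Y.Opens)
    (hU : IsAffineOpen (p ⁻¹ᵁ U)) : IsAffineOpen U := by
  classical
  cases nonempty_fintype G
  have hsurj := (GQuot.surjective ρ p hp).surj
  have hint := (GQuot.ring_facts ρ p hp U).1
  refine isAffineOpen_of_isAffineOpen_basicOpen U {a | IsAffineOpen (Y.basicOpen a)} ?_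
    (fun a ha => ha)
  by_contra hne
  obtain ⟨m, hm, hle⟩ := Ideal.exists_le_maximal _ hne
  letI : Algebra Γ(Y, U) Γ(X, p ⁻¹ᵁ U) := (p.app U).hom.toAlgebra
  haveI : Algebra.IsIntegral Γ(Y, U) Γ(X, p ⁻¹ᵁ U) := ⟨hint⟩
  haveI := hm.isPrime
  obtain ⟨Q, -, hQ, hQm⟩ := Ideal.exists_ideal_over_prime_of_isIntegral m
    (⊥ : Ideal Γ(X, p ⁻¹ᵁ U))
    ((le_of_eq (Ideal.comap_bot_of_injective (p.app U).hom (hp.injective U))).trans bot_le)
  -- the point
  have hx : hU.fromSpec ⟨Q, hQ⟩ ∈ p ⁻¹ᵁ U := fromSpec_mem hU _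
  have hPx : hU.primeIdealOf ⟨hU.fromSpec ⟨Q, hQ⟩, hx⟩ = ⟨Q, hQ⟩ := primeIdealOf_fromSpec hU _
  generalize hU.fromSpec ⟨Q, hQ⟩ = x at hx hPx
  obtain ⟨_, ⟨W, hW, rfl⟩, hyW, hWU⟩ := Y.isBasis_affineOpens.exists_subset_of_mem_open
    (show p x ∈ (U : Set Y) from hx) U.isOpen
  have hWU' : W ≤ U := hWU
  obtain ⟨I, hI⟩ := (PrimeSpectrum.isClosed_iff_zeroLocus_ideal _).mp
    (hU.fromSpec ⁻¹ᵁ (p ⁻¹ᵁ W)).isOpen.isClosed_compl
  have hmemW : ∀ (z : X) (hz : z ∈ p ⁻¹ᵁ U), z ∈ p ⁻¹ᵁ W ↔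
      ¬ ((I : Set Γ(X, p ⁻¹ᵁ U)) ⊆ (hU.primeIdealOf ⟨z, hz⟩).asIdeal) := by
    intro z hz
    have h2 := Set.ext_iff.mp hI (hU.primeIdealOf ⟨z, hz⟩)
    constructor
    · intro hzW hsub
      have h3 := h2.mpr ((PrimeSpectrum.mem_zeroLocus _ _).mpr hsub)
      apply h3
      show hU.fromSpec (hU.primeIdealOf ⟨z, hz⟩) ∈ p ⁻¹ᵁ W
      rw [hU.fromSpec_primeIdealOf]; exact hzW
    · intro hns
      by_contra hzW
      apply hns
      apply (PrimeSpectrum.mem_zeroLocus _ _).mp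
      apply h2.mp
      intro hmem
      apply hzW
      have h4 : hU.fromSpec (hU.primeIdealOf ⟨z, hz⟩) ∈ p ⁻¹ᵁ W := hmem
      rwa [hU.fromSpec_primeIdealOf] at h4
  have hgx : ∀ g : G, (ρ g).hom x ∈ p ⁻¹ᵁ U :=
    fun g => SGA1.preimage_le_of_inv ρ p hp.inv g U hx
  have hgxW : ∀ g : G, (ρ g).hom x ∈ p ⁻¹ᵁ W := by
    intro g
    show p ((ρ g).hom x) ∈ W
    have h1 : p ((ρ g).hom x) = p x := congrArg (fun m => m.base x) (hp.inv g)
    rw [h1]; exact hyW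
  have hav : ∃ b ∈ I, ∀ g : G, b ∉ (hU.primeIdealOf ⟨(ρ g).hom x, hgx g⟩).asIdeal := by
    by_contra hcon
    push Not at hcon
    have hsub : (I : Set Γ(X, p ⁻¹ᵁ U)) ⊆ ⋃ g ∈ ((Finset.univ : Finset G) : Set G),
        ((hU.primeIdealOf ⟨(ρ g).hom x, hgx g⟩).asIdeal : Set Γ(X, p ⁻¹ᵁ U)) := by
      intro b hb
      obtain ⟨g, hg⟩ := hcon b hb
      exact Set.mem_biUnion (Finset.mem_coe.mpr (Finset.mem_univ g)) hg
    obtain ⟨g, -, hg⟩ := (Ideal.subset_union_prime (1 : G) 1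
      (fun g _ _ _ => (hU.primeIdealOf ⟨(ρ g).hom x, hgx g⟩).isPrime)).mp hsub
    exact (hmemW _ (hgx g)).mp (hgxW g) hg
  obtain ⟨b, hbI, hb⟩ := hav
  have hinv' : ∀ g, σ ρ p hp.inv U g (∏ g : G, σ ρ p hp.inv U g b) =
      ∏ g : G, σ ρ p hp.inv U g b := fun g => σ_prod ρ p hp.inv U b g
  obtain ⟨a, haa'⟩ := (hp.range_iff U _).mpr hinv'
  have ha'I : (∏ g : G, σ ρ p hp.inv U g b) ∈ I := by
    rw [← Finset.mul_prod_erase Finset.univ _ (Finset.mem_univ (1 : G)), σ_one]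
    exact I.mul_mem_right _ hbI
  have ha'x : (∏ g : G, σ ρ p hp.inv U g b) ∉ (hU.primeIdealOf ⟨x, hx⟩).asIdeal := by
    rw [(hU.primeIdealOf ⟨x, hx⟩).isPrime.prod_mem_iff]
    push Not
    intro g _
    have e3 := IsAffineOpen.comap_primeIdealOf_appLE (f := (ρ g).hom) (p ⁻¹ᵁ U) hU (p ⁻¹ᵁ U) hU
      (SGA1.preimage_le_of_inv ρ p hp.inv g U) hx
    intro hmem
    apply hb g
    rw [← e3]
    exact hmem
  have hle1 : X.basicOpen (∏ g : G, σ ρ p hp.inv U g b) ≤ p ⁻¹ᵁ W := by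
    intro z hz
    have hzU : z ∈ p ⁻¹ᵁ U := X.basicOpen_le _ hz
    rw [hmemW z hzU]
    intro hsub
    have h1 : hU.primeIdealOf ⟨z, hzU⟩ ∈
        hU.fromSpec ⁻¹ᵁ X.basicOpen (∏ g : G, σ ρ p hp.inv U g b) := by
      show hU.fromSpec (hU.primeIdealOf ⟨z, hzU⟩) ∈ X.basicOpen _
      rw [hU.fromSpec_primeIdealOf]; exact hz
    rw [hU.fromSpec_preimage_basicOpen] at h1
    exact h1 (hsub ha'I)
  have hle2 : Y.basicOpen a ≤ W := by
    intro y' hy'
    obtain ⟨z, rfl⟩ := hsurj y'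
    have h1 : z ∈ p ⁻¹ᵁ (Y.basicOpen a) := hy'
    rw [Scheme.preimage_basicOpen] at h1
    have h2 : (p.app U).hom a = ∏ g : G, σ ρ p hp.inv U g b := haa'
    rw [show (p.app U) a = (p.app U).hom a from rfl, h2] at h1
    exact hle1 h1
  have haff : IsAffineOpen (Y.basicOpen a) := by
    have h1 : Y.basicOpen (Y.presheaf.map (homOfLE hWU').op a) = Y.basicOpen a := by
      rw [Scheme.basicOpen_res]; exact inf_eq_right.mpr hle2
    rw [← h1]; exact hW.basicOpen _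
  have ham : a ∈ m := hle (Ideal.subset_span haff)
  rw [← hQm] at ham
  have h3 : (∏ g : G, σ ρ p hp.inv U g b) ∈ Q := by
    rw [← haa']; exact ham
  apply ha'x
  rw [hPx]; exact h3

end

theorem isSeparated_of_comp {X Y Z : Scheme.{u}} (p : X ⟶ Y) (q : Y ⟶ Z)
    [Surjective p] [UniversallyClosed p] [IsSeparated (p ≫ q)] : IsSeparated q := by
  refine ⟨IsClosedImmersion.of_isPreimmersion _ ?_⟩
  have hpp : UniversallyClosed (pullback.map (p ≫ q) (p ≫ q) q q p p (𝟙 Z)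
      ((Category.comp_id _).trans rfl) ((Category.comp_id _).trans rfl)) :=
    MorphismProperty.pullbackMap (P := @UniversallyClosed) (f := p ≫ q) (g := p ≫ q)
      (f' := q) (g' := q) (i₁ := p) (i₂ := p) inferInstance inferInstance rfl rfl
  have hcomm : pullback.diagonal (p ≫ q) ≫ pullback.map (p ≫ q) (p ≫ q) q q p p (𝟙 Z)
      ((Category.comp_id _).trans rfl) ((Category.comp_id _).trans rfl) =
      p ≫ pullback.diagonal q := by
    apply pullback.hom_ext <;>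
      simp only [pullback.map, pullback.lift_fst, pullback.lift_snd, pullback.diagonal_fst_assoc,
        pullback.diagonal_snd_assoc, pullback.diagonal_fst, pullback.diagonal_snd, Category.assoc,
        Category.comp_id]
  have hrange : Set.range (pullback.diagonal q).base =
      (pullback.map (p ≫ q) (p ≫ q) q q p p (𝟙 Z)
      ((Category.comp_id _).trans rfl) ((Category.comp_id _).trans rfl)).base ''
        Set.range (pullback.diagonal (p ≫ q)).base := by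
    rw [← Set.range_comp]
    have h1 : ∀ x, (pullback.map (p ≫ q) (p ≫ q) q q p p (𝟙 Z)
      ((Category.comp_id _).trans rfl) ((Category.comp_id _).trans rfl)).base
        ((pullback.diagonal (p ≫ q)).base x) = (pullback.diagonal q).base (p.base x) := by
      intro x
      have := congrArg (fun m => m.base x) hcomm
      exact this
    ext y
    constructor
    · rintro ⟨y0, rfl⟩
      obtain ⟨x, rfl⟩ := (inferInstance : Surjective p).surj y0
      exact ⟨x, h1 x⟩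
    · rintro ⟨x, rfl⟩
      exact ⟨p.base x, (h1 x).symm⟩
  rw [hrange]
  exact (Scheme.Hom.isClosedMap _) _ (pullback.diagonal (p ≫ q)).isClosedEmbedding.isClosed_range

end Groth.Agent.Helper21.GQuot3
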