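import Mathlib
import Groth.Agent.Lib.Helper21.GQuot3

/-!
Quotients of schemes by finite groups: the quotient property localises to basic opens and can be
checked on a basis.
-/

open AlgebraicGeometry CategoryTheory Limits

universe u

namespace Groth.Agent.Helper21.GQuot6

open Groth.Agent.Helper21.GQuot Groth.Agent.Helper21.GQuot3

/-- Invariants commute with localisation away from an invariant element. -/
theorem loc_invariants {B A B' A' : Type*} [CommRing B] [CommRing A] [CommRing B'] [CommRing A']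
    [Algebra B B'] [Algebra A A'] (r : B) (φ : B →+* A) [IsLocalization.Away r B']
    [IsLocalization.Away (φ r) A']
    (φ' : B' →+* A') (hφ' : φ'.comp (algebraMap B B') = (algebraMap A A').comp φ)
    {ι : Type*} [Finite ι] (σ : ι → A →+* A) (σ' : ι → A' →+* A')
    (hσ' : ∀ i, (σ' i).comp (algebraMap A A') = (algebraMap A A').comp (σ i))
    (hinj : Function.Injective φ)
    (hinv : ∀ a, (∀ i, σ i a = a) → a ∈ Set.range φ)
    (hfix : ∀ i b, σ i (φ b) = φ b) :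
    Function.Injective φ' ∧ ∀ a', (∀ i, σ' i a' = a') → a' ∈ Set.range φ' := by
  cases nonempty_fintype ι
  have hφ'a : ∀ b, φ' (algebraMap B B' b) = algebraMap A A' (φ b) :=
    fun b => congrArg (fun m => m b) hφ'
  have hσ'a : ∀ i a, σ' i (algebraMap A A' a) = algebraMap A A' (σ i a) :=
    fun i a => congrArg (fun m => m a) (hσ' i)
  have hu : IsUnit (algebraMap B B' r) := IsLocalization.Away.algebraMap_isUnit r
  have hv : IsUnit (algebraMap A A' (φ r)) := IsLocalization.Away.algebraMap_isUnit (φ r)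
  constructor
  · rw [injective_iff_map_eq_zero]
    intro b' hb'
    obtain ⟨n, b, hb⟩ := IsLocalization.Away.surj r b'
    have h1 : algebraMap A A' (φ b) = algebraMap A A' 0 := by
      rw [← hφ'a, ← hb, map_mul, hb', zero_mul, map_zero]
    obtain ⟨m, hm⟩ := IsLocalization.Away.exists_of_eq (φ r) h1
    rw [mul_zero, ← map_pow, ← map_mul] at hm
    have h2 : r ^ m * b = 0 := hinj (hm.trans (map_zero φ).symm)
    have h3 : algebraMap B B' r ^ m * algebraMap B B' b = 0 := by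
      rw [← map_pow, ← map_mul, h2, map_zero]
    have h4 : algebraMap B B' b = 0 := (hu.pow m).mul_right_eq_zero.mp h3
    rw [h4] at hb
    exact (hu.pow n).mul_left_eq_zero.mp hb
  · intro a' ha'
    obtain ⟨n, a, ha⟩ := IsLocalization.Away.surj (φ r) a'
    have h1 : ∀ i, algebraMap A A' (σ i a) = algebraMap A A' a := by
      intro i
      rw [← hσ'a, ← ha, map_mul, map_pow, hσ'a, hfix, ha' i]
    choose m hm using fun i => IsLocalization.Away.exists_of_eq (φ r) (h1 i)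
    have h2 : ∀ i, φ r ^ (∑ j, m j) * σ i a = φ r ^ (∑ j, m j) * a := by
      intro i
      have hle : m i ≤ ∑ j, m j := Finset.single_le_sum (fun _ _ => Nat.zero_le _)
        (Finset.mem_univ i)
      obtain ⟨k, hk⟩ := Nat.exists_eq_add_of_le hle
      rw [hk, pow_add, mul_comm (φ r ^ m i), mul_assoc, mul_assoc, hm i]
    have h3 : ∀ i, σ i (φ r ^ (∑ j, m j) * a) = φ r ^ (∑ j, m j) * a := by
      intro i
      rw [map_mul, map_pow, hfix, h2 i]
    obtain ⟨c, hc⟩ := hinv _ h3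
    refine ⟨IsLocalization.mk' B' c (⟨r ^ (n + ∑ j, m j), ⟨_, rfl⟩⟩ : Submonoid.powers r), ?_⟩
    have h4 : φ' (IsLocalization.mk' B' c
        (⟨r ^ (n + ∑ j, m j), ⟨_, rfl⟩⟩ : Submonoid.powers r)) *
        algebraMap A A' (φ r) ^ (n + ∑ j, m j) =
        a' * algebraMap A A' (φ r) ^ (n + ∑ j, m j) := by
      have e1 : IsLocalization.mk' B' c
          (⟨r ^ (n + ∑ j, m j), ⟨_, rfl⟩⟩ : Submonoid.powers r) *
          algebraMap B B' (r ^ (n + ∑ j, m j)) = algebraMap B B' c :=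
        IsLocalization.mk'_spec B' c _
      have e2 := congrArg φ' e1
      rw [map_mul, hφ'a, hφ'a, hc, map_pow, map_pow] at e2
      rw [e2, map_mul, map_pow, pow_add, ← ha]
      ring
    exact (hv.pow _).mul_left_injective h4

section

variable {X Y : Scheme.{u}} {G : Type u} [Group G] (ρ : G →* Aut X) (p : X ⟶ Y)
  (hinv : ∀ g : G, (ρ g).hom ≫ p = p)

/-- The quotient property over an open `U` of `Y`. -/
def QProp (U : Y.Opens) : Prop :=
  Function.Injective (p.app U).hom ∧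
    ∀ s : Γ(X, p ⁻¹ᵁ U), (∀ g : G, σ ρ p hinv U g s = s) → s ∈ Set.range (p.app U).hom

theorem σ_app (U : Y.Opens) (g : G) (t : Γ(Y, U)) :
    σ ρ p hinv U g ((p.app U).hom t) = (p.app U).hom t := by
  have h1 : p.app U ≫ (ρ g).hom.appLE (p ⁻¹ᵁ U) (p ⁻¹ᵁ U)
      (SGA1.preimage_le_of_inv ρ p hinv g U) = p.app U := by
    rw [← Scheme.Hom.comp_appLE, appLE_congr_hom (hinv g)]
    exact p.appLE_eq_app
  exact congrArg (fun m => m.hom t) h1

theorem σ_res {U U' : Y.Opens} (h : U' ≤ U) (g : G) (s : Γ(X, p ⁻¹ᵁ U)) :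
    σ ρ p hinv U' g ((X.presheaf.map (homOfLE (show p ⁻¹ᵁ U' ≤ p ⁻¹ᵁ U from
      fun x hx => h hx)).op).hom s) =
    (X.presheaf.map (homOfLE (show p ⁻¹ᵁ U' ≤ p ⁻¹ᵁ U from fun x hx => h hx)).op).hom
      (σ ρ p hinv U g s) := by
  have h1 : X.presheaf.map (homOfLE (show p ⁻¹ᵁ U' ≤ p ⁻¹ᵁ U from fun x hx => h hx)).op ≫
      (ρ g).hom.appLE (p ⁻¹ᵁ U') (p ⁻¹ᵁ U') (SGA1.preimage_le_of_inv ρ p hinv g U') =
      (ρ g).hom.appLE (p ⁻¹ᵁ U) (p ⁻¹ᵁ U) (SGA1.preimage_le_of_inv ρ p hinv g U) ≫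
      X.presheaf.map (homOfLE (show p ⁻¹ᵁ U' ≤ p ⁻¹ᵁ U from fun x hx => h hx)).op := by
    rw [Scheme.Hom.map_appLE, Scheme.Hom.appLE_map]
  exact congrArg (fun m => m.hom s) h1

theorem app_res {U U' : Y.Opens} (h : U' ≤ U) (t : Γ(Y, U)) :
    (p.app U').hom ((Y.presheaf.map (homOfLE h).op).hom t) =
    (X.presheaf.map (homOfLE (show p ⁻¹ᵁ U' ≤ p ⁻¹ᵁ U from fun x hx => h hx)).op).hom
      ((p.app U).hom t) := by
  have h1 := p.naturality (homOfLE h).op
  exact congrArg (fun m => m.hom t) h1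

/-- Injectivity on a basis gives injectivity on all opens. -/
theorem injective_of_basis (𝓑 : Set Y.Opens) (hB : TopologicalSpace.Opens.IsBasis 𝓑)
    (h𝓑 : ∀ W ∈ 𝓑, Function.Injective (p.app W).hom) (U : Y.Opens) :
    Function.Injective (p.app U).hom := by
  intro s t hst
  have hcover : U ≤ iSup (fun i : {W : Y.Opens // W ∈ 𝓑 ∧ W ≤ U} => i.1) := by
    intro x hx
    obtain ⟨W, hW, hxW, hWU⟩ := TopologicalSpace.Opens.isBasis_iff_nbhd.mp hB hx
    exact TopologicalSpace.Opens.mem_iSup.mpr ⟨⟨W, hW, hWU⟩, hxW⟩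
  refine Y.sheaf.eq_of_locally_eq' (fun i : {W : Y.Opens // W ∈ 𝓑 ∧ W ≤ U} => i.1) U
    (fun i => homOfLE i.2.2) hcover s t (fun i => ?_)
  show (Y.presheaf.map (homOfLE i.2.2).op).hom s = (Y.presheaf.map (homOfLE i.2.2).op).hom t
  apply h𝓑 i.1 i.2.1
  rw [app_res p i.2.2, app_res p i.2.2, hst]

/-- The quotient property on a basis gives it on all opens. -/
theorem qprop_of_basis (𝓑 : Set Y.Opens) (hB : TopologicalSpace.Opens.IsBasis 𝓑)
    (h𝓑 : ∀ W ∈ 𝓑, QProp ρ p hinv W) (U : Y.Opens) : QProp ρ p hinv U := by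
  have hinjall : ∀ U : Y.Opens, Function.Injective (p.app U).hom :=
    injective_of_basis p 𝓑 hB (fun W hW => (h𝓑 W hW).1)
  refine ⟨hinjall U, fun s hs => ?_⟩
  have hcover : U ≤ iSup (fun i : {W : Y.Opens // W ∈ 𝓑 ∧ W ≤ U} => i.1) := by
    intro x hx
    obtain ⟨W, hW, hxW, hWU⟩ := TopologicalSpace.Opens.isBasis_iff_nbhd.mp hB hx
    exact TopologicalSpace.Opens.mem_iSup.mpr ⟨⟨W, hW, hWU⟩, hxW⟩
  have hloc : ∀ i : {W : Y.Opens // W ∈ 𝓑 ∧ W ≤ U}, ∃ t : Γ(Y, i.1), (p.app i.1).hom t =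
      (X.presheaf.map (homOfLE (show p ⁻¹ᵁ i.1 ≤ p ⁻¹ᵁ U from fun x hx => i.2.2 hx)).op).hom s := by
    intro i
    apply (h𝓑 i.1 i.2.1).2
    intro g
    rw [σ_res ρ p hinv i.2.2, hs g]
  choose tf htf using hloc
  have compat : TopCat.Presheaf.IsCompatible Y.sheaf.1
      (fun i : {W : Y.Opens // W ∈ 𝓑 ∧ W ≤ U} => i.1) tf := by
    intro i j
    show (Y.presheaf.map (homOfLE (inf_le_left : i.1 ⊓ j.1 ≤ i.1)).op).hom (tf i) =
      (Y.presheaf.map (homOfLE (inf_le_right : i.1 ⊓ j.1 ≤ j.1)).op).hom (tf j)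
    apply hinjall (i.1 ⊓ j.1)
    rw [app_res p inf_le_left, app_res p inf_le_right, htf i, htf j]
    rw [← CommRingCat.comp_apply, ← CommRingCat.comp_apply, ← Functor.map_comp,
      ← Functor.map_comp]
    rfl
  obtain ⟨t0, ht0, -⟩ := Y.sheaf.existsUnique_gluing'
    (fun i : {W : Y.Opens // W ∈ 𝓑 ∧ W ≤ U} => i.1) U (fun i => homOfLE i.2.2) hcover tf compat
  let t : Γ(Y, U) := t0
  have ht : ∀ i : {W : Y.Opens // W ∈ 𝓑 ∧ W ≤ U},
      (Y.presheaf.map (homOfLE i.2.2).op).hom t = tf i := ht0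
  refine ⟨t, ?_⟩
  have hcover' : p ⁻¹ᵁ U ≤ iSup (fun i : {W : Y.Opens // W ∈ 𝓑 ∧ W ≤ U} => p ⁻¹ᵁ i.1) := by
    intro x hx
    obtain ⟨i, hi⟩ := TopologicalSpace.Opens.mem_iSup.mp (hcover hx)
    exact TopologicalSpace.Opens.mem_iSup.mpr ⟨i, hi⟩
  refine X.sheaf.eq_of_locally_eq' (fun i : {W : Y.Opens // W ∈ 𝓑 ∧ W ≤ U} => p ⁻¹ᵁ i.1)
    (p ⁻¹ᵁ U) (fun i => homOfLE (fun x hx => i.2.2 hx)) hcover' _ _ (fun i => ?_)
  show (X.presheaf.map (homOfLE (show p ⁻¹ᵁ i.1 ≤ p ⁻¹ᵁ U from fun x hx => i.2.2 hx)).op).hom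
      ((p.app U).hom t) =
    (X.presheaf.map (homOfLE (show p ⁻¹ᵁ i.1 ≤ p ⁻¹ᵁ U from fun x hx => i.2.2 hx)).op).hom s
  rw [← app_res p i.2.2, ht i, htf i]

/-- The quotient property localises to basic opens. -/
theorem qprop_basicOpen [Finite G] (V : Y.Opens) (hV : IsAffineOpen V)
    (hU : IsAffineOpen (p ⁻¹ᵁ V)) (hQ : QProp ρ p hinv V) (r : Γ(Y, V)) :
    QProp ρ p hinv (Y.basicOpen r) := by
  have hle : p ⁻¹ᵁ (Y.basicOpen r) ≤ p ⁻¹ᵁ V := fun x hx => Y.basicOpen_le r hx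
  have he : p ⁻¹ᵁ (Y.basicOpen r) = X.basicOpen ((p.app V).hom r) :=
    Scheme.preimage_basicOpen p r
  letI : Algebra Γ(X, p ⁻¹ᵁ V) Γ(X, p ⁻¹ᵁ (Y.basicOpen r)) :=
    (X.presheaf.map (homOfLE hle).op).hom.toAlgebra
  haveI : IsLocalization.Away ((p.app V).hom r) Γ(X, p ⁻¹ᵁ (Y.basicOpen r)) :=
    hU.isLocalization_of_eq_basicOpen ((p.app V).hom r) (homOfLE hle) he
  haveI : IsLocalization.Away r Γ(Y, Y.basicOpen r) := hV.isLocalization_basicOpen r
  refine loc_invariants r (p.app V).hom (p.app (Y.basicOpen r)).hom ?_ (σ ρ p hinv V)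
    (σ ρ p hinv (Y.basicOpen r)) ?_ hQ.1 hQ.2 (fun g b => σ_app ρ p hinv V g b)
  · apply RingHom.ext
    intro t
    exact app_res p (Y.basicOpen_le r) t
  · intro g
    apply RingHom.ext
    intro s
    exact σ_res ρ p hinv (Y.basicOpen_le r) g s

theorem isQuot_of_qprop (haff : IsAffineHom p) (h : ∀ U, QProp ρ p hinv U) : SGA1.IsQuot ρ p :=
  ⟨haff, hinv, fun U => (h U).1, fun U s =>
    ⟨fun ⟨t, ht⟩ g => by rw [← ht]; exact σ_app ρ p hinv U g t, fun hs => (h U).2 s hs⟩⟩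

theorem qprop_of_isQuot (hp : SGA1.IsQuot ρ p) (U : Y.Opens) : QProp ρ p hp.inv U :=
  ⟨hp.injective U, fun s hs => (hp.range_iff U s).mpr hs⟩

end

end Groth.Agent.Helper21.GQuot6
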