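import Mathlib
import Groth.Agent.Lib.Helper21.GQuot6

/-!
Quotients of schemes by finite groups: residue field extensions are normal and the stabilizer
surjects onto the automorphism group of the residue field extension.
-/

open AlgebraicGeometry CategoryTheory Limits

universe u

namespace Groth.Agent.Helper21.GQuot9

open Groth.Agent.Helper21.GQuot Groth.Agent.Helper21.GQuot3 Groth.Agent.Helper21.GQuot6

open scoped Pointwise

/-- Ring-level statement: normality of the residue extension and surjectivity of the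
decomposition group onto its automorphism group, phrased with ring homomorphisms only. -/
theorem ring_stab {A B K L : Type*} [CommRing A] [CommRing B] [Field K] [Field L]
    (φ : A →+* B) {G : Type*} [Group G] [Finite G] (σ : G → (B →+* B)) (h1 : σ 1 = RingHom.id B)
    (hmul : ∀ g h, σ (g * h) = (σ h).comp (σ g))
    (hrange : ∀ b, b ∈ Set.range φ ↔ ∀ g, σ g b = b)
    (a : A →+* K) (β : B →+* L) (ι : K →+* L) (hcomm : ∀ x, ι (a x) = β (φ x))
    (ha : ∀ k : K, ∃ s t : A, k = a s / a t)
    (hβ : ∀ l : L, ∃ s t : B, l = β s / β t) :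
    (letI := ι.toAlgebra; Normal K L) ∧
    ∀ τ : L ≃+* L, (∀ k, τ (ι k) = ι k) →
      ∃ g : G, (RingHom.ker β).comap (σ g) = RingHom.ker β ∧ ∀ b, τ (β b) = β (σ g b) := by
  classical
  cases nonempty_fintype G
  letI : Algebra A B := φ.toAlgebra
  letI : MulSemiringAction G B :=
    { smul := fun g b => σ g⁻¹ b
      one_smul := fun b => by show σ 1⁻¹ b = b; rw [inv_one, h1]; rfl
      mul_smul := fun g h b => by
        show σ (g * h)⁻¹ b = σ g⁻¹ (σ h⁻¹ b)
        rw [mul_inv_rev, hmul]; rfl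
      smul_zero := fun g => map_zero _
      smul_add := fun g a b => map_add _ _ _
      smul_one := fun g => map_one _
      smul_mul := fun g a b => map_mul _ _ _ }
  have hsmul : ∀ (g : G) (b : B), g • b = σ g⁻¹ b := fun _ _ => rfl
  haveI : SMulCommClass G A B := ⟨fun g a b => by
    rw [Algebra.smul_def, Algebra.smul_def, hsmul, hsmul, map_mul]
    congr 1
    exact (hrange (φ a)).mp ⟨a, rfl⟩ g⁻¹⟩
  haveI : Algebra.IsInvariant A B G := ⟨fun b hb => by
    have : ∀ g, σ g b = b := fun g => by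
      have := hb g⁻¹
      rwa [hsmul, inv_inv] at this
    exact (hrange b).mpr this⟩
  let Q : Ideal B := RingHom.ker β
  let P : Ideal A := RingHom.ker a
  haveI : Q.IsPrime := RingHom.ker_isPrime β
  haveI : P.IsPrime := RingHom.ker_isPrime a
  haveI hlo : Q.LiesOver P := ⟨by
    ext x
    rw [Ideal.under_def, Ideal.mem_comap, RingHom.mem_ker, RingHom.mem_ker]
    show a x = 0 ↔ β (φ x) = 0
    rw [← hcomm]
    exact (map_eq_zero ι).symm⟩
  letI : Algebra (A ⧸ P) K := (Ideal.Quotient.lift P a (fun x hx => hx)).toAlgebra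
  letI : Algebra (B ⧸ Q) L := (Ideal.Quotient.lift Q β (fun x hx => hx)).toAlgebra
  letI : Algebra K L := ι.toAlgebra
  letI : Algebra (A ⧸ P) L := ((algebraMap K L).comp (algebraMap (A ⧸ P) K)).toAlgebra
  haveI : IsScalarTower (A ⧸ P) K L := IsScalarTower.of_algebraMap_eq (fun x => rfl)
  haveI : IsScalarTower (A ⧸ P) (B ⧸ Q) L := IsScalarTower.of_algebraMap_eq (fun x => by
    obtain ⟨x, rfl⟩ := Ideal.Quotient.mk_surjective x
    exact hcomm x)
  haveI : FaithfulSMul (A ⧸ P) K := (faithfulSMul_iff_algebraMap_injective _ _).mpr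
    (RingHom.lift_injective_of_ker_le_ideal P (fun x hx => hx) le_rfl)
  haveI : FaithfulSMul (B ⧸ Q) L := (faithfulSMul_iff_algebraMap_injective _ _).mpr
    (RingHom.lift_injective_of_ker_le_ideal Q (fun x hx => hx) le_rfl)
  haveI : IsFractionRing (A ⧸ P) K := IsFractionRing.of_field _ _ (fun z => by
    obtain ⟨s, t, rfl⟩ := ha z
    exact ⟨Ideal.Quotient.mk P s, Ideal.Quotient.mk P t, rfl⟩)
  haveI : IsFractionRing (B ⧸ Q) L := IsFractionRing.of_field _ _ (fun z => by
    obtain ⟨s, t, rfl⟩ := hβ z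
    exact ⟨Ideal.Quotient.mk Q s, Ideal.Quotient.mk Q t, rfl⟩)
  refine ⟨?_, ?_⟩
  · -- normality
    have hgen : ∀ b : B, IsIntegral K (β b) ∧
        ((minpoly K (β b)).map (algebraMap K L)).Splits := by
      intro b
      obtain ⟨m, hm, -, hmon⟩ := Polynomial.lifts_and_natDegree_eq_and_monic
        (Algebra.IsInvariant.charpoly_mem_lifts A B G b) (MulSemiringAction.monic_charpoly G b)
      have hmKmon : (m.map a).Monic := hmon.map a
      have hmap : (m.map a).map (algebraMap K L) = (MulSemiringAction.charpoly G b).map β := by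
        rw [Polynomial.map_map, ← hm, Polynomial.map_map]
        congr 1
        exact RingHom.ext hcomm
      have hsplit : ((m.map a).map (algebraMap K L)).Splits := by
        rw [hmap]
        exact (MulSemiringAction.splits_charpoly G b).map β
      have hroot : Polynomial.aeval (β b) (m.map a) = 0 := by
        rw [Polynomial.aeval_def, ← Polynomial.eval_map, hmap, Polynomial.eval_map,
          Polynomial.eval₂_hom, MulSemiringAction.eval_charpoly, map_zero]
      have hint : IsIntegral K (β b) := ⟨m.map a, hmKmon, hroot⟩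
      have hdvd : minpoly K (β b) ∣ m.map a := minpoly.dvd K (β b) hroot
      exact ⟨hint, hsplit.of_dvd (hmKmon.map _).ne_zero (Polynomial.map_dvd _ hdvd)⟩
    have htop : IntermediateField.adjoin K (Set.range β) = ⊤ := by
      rw [eq_top_iff]
      intro x _
      obtain ⟨s, t, rfl⟩ := hβ x
      exact div_mem (IntermediateField.subset_adjoin K _ ⟨s, rfl⟩)
        (IntermediateField.subset_adjoin K _ ⟨t, rfl⟩)
    rw [normal_iff]
    intro x
    refine ⟨?_, ?_⟩
    · obtain ⟨s, t, rfl⟩ := hβ x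
      rw [div_eq_mul_inv]
      exact (hgen s).1.mul (hgen t).1.inv
    · refine IntermediateField.splits_of_mem_adjoin (F := K) (K := L) (L := L)
        (S := Set.range β) ?_ (by rw [htop]; trivial)
      rintro _ ⟨b, rfl⟩
      exact hgen b
  · intro τ hτ
    let f : L ≃ₐ[K] L := AlgEquiv.ofRingEquiv (f := τ) (fun k => hτ k)
    obtain ⟨g, hg⟩ := IsFractionRing.stabilizerHom_surjective G P Q K L f
    refine ⟨(g : G)⁻¹, ?_, ?_⟩
    · have hgQ : (g : G) • Q = Q := g.2
      ext b
      rw [Ideal.mem_comap]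
      show σ (g : G)⁻¹ b ∈ Q ↔ b ∈ Q
      rw [← hsmul]
      have h3 : (g : G) • b ∈ (g : G) • Q ↔ b ∈ Q := Ideal.smul_mem_pointwise_smul_iff
      rw [hgQ] at h3
      exact h3
    · intro b
      have h2 := IsFractionRing.stabilizerHom_apply_apply_mk G P Q K L g b
      rw [hg] at h2
      exact h2

/-- The kernel of the evaluation map at `x` on an affine open is the prime ideal of `x`. -/
theorem ker_evaluation {X : Scheme.{u}} {U : X.Opens} (hU : IsAffineOpen U) (x : X) (hx : x ∈ U) :
    RingHom.ker (X.evaluation U x hx).hom = (hU.primeIdealOf ⟨x, hx⟩).asIdeal := by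
  letI := X.presheaf.algebra_section_stalk ⟨x, hx⟩
  haveI := hU.isLocalization_stalk ⟨x, hx⟩
  ext b
  rw [RingHom.mem_ker]
  change IsLocalRing.residue (X.presheaf.stalk x) ((X.presheaf.germ U x hx).hom b) = 0 ↔ _
  rw [IsLocalRing.residue_eq_zero_iff]
  exact IsLocalization.AtPrime.to_map_mem_maximal_iff (X.presheaf.stalk x)
    (hU.primeIdealOf ⟨x, hx⟩).asIdeal b

/-- Every element of the residue field at a point of an affine open is a fraction of
evaluations of sections. -/
theorem frac_eval {X : Scheme.{u}} {V : X.Opens} (hV : IsAffineOpen V) (x : X) (hx : x ∈ V)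
    (z : X.residueField x) :
    ∃ s t : Γ(X, V), z = (X.evaluation V x hx).hom s / (X.evaluation V x hx).hom t := by
  obtain ⟨y, rfl⟩ := X.residue_surjective x z
  letI : Algebra Γ(X, V) (X.presheaf.stalk x) :=
    TopCat.Presheaf.algebra_section_stalk X.presheaf (U := V) ⟨x, hx⟩
  haveI : IsLocalization.AtPrime (X.presheaf.stalk x) (hV.primeIdealOf ⟨x, hx⟩).asIdeal :=
    hV.isLocalization_stalk ⟨x, hx⟩
  obtain ⟨⟨a, s⟩, h⟩ := IsLocalization.surj (hV.primeIdealOf ⟨x, hx⟩).asIdeal.primeCompl y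
  refine ⟨a, s.1, ?_⟩
  have hu : IsUnit (algebraMap Γ(X, V) (X.presheaf.stalk x) s.1) :=
    IsLocalization.map_units _ s
  have h2 : IsUnit ((X.residue x).hom (algebraMap Γ(X, V) (X.presheaf.stalk x) s.1)) :=
    hu.map (X.residue x).hom
  have h3 := congrArg (X.residue x).hom h
  rw [map_mul] at h3
  rw [eq_div_iff (show (X.evaluation V x hx).hom s.1 ≠ 0 from h2.ne_zero)]
  exact h3

theorem evaluation_congr {X : Scheme.{u}} (U : X.Opens) {x y : X} (h : x = y) (hx : x ∈ U) :
    X.evaluation U x hx ≫ (X.residueFieldCongr h).hom = X.evaluation U y (h ▸ hx) := by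
  subst h
  simp

theorem evaluation_map {X : Scheme.{u}} {U V : X.Opens} (h : V ≤ U) (x : X) (hx : x ∈ V) :
    X.presheaf.map (homOfLE h).op ≫ X.evaluation V x hx = X.evaluation U x (h hx) := by
  rw [← X.germ_residue, ← X.germ_residue, ← Category.assoc, TopCat.Presheaf.germ_res]

section

variable {X Y : Scheme.{u}} {G : Type u} [Group G] [Finite G] (ρ : G →* Aut X) (p : X ⟶ Y)

/-- For a quotient `p : X ⟶ Y` by a finite group, residue field extensions are normal and the
stabilizer of a point surjects onto the automorphisms of its residue field extension. -/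
theorem stab (hp : SGA1.IsQuot ρ p) (x : X) :
    (letI := (p.residueFieldMap x).hom.toAlgebra
     Normal (Y.residueField (p.base x)) (X.residueField x)) ∧
    ∀ τ : X.residueField x ≅ X.residueField x,
      p.residueFieldMap x ≫ τ.hom = p.residueFieldMap x →
      ∃ (g : G) (e : (ρ g).hom.base x = x),
        τ.hom = (X.residueFieldCongr e).inv ≫ (ρ g).hom.residueFieldMap x := by
  obtain ⟨_, ⟨V, hV, rfl⟩, hxV, -⟩ :=
    Y.isBasis_affineOpens.exists_subset_of_mem_open (Set.mem_univ (p x)) isOpen_univ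
  haveI := hp.affine
  have hU : IsAffineOpen (p ⁻¹ᵁ V) := hV.preimage p
  have hx : x ∈ p ⁻¹ᵁ V := hxV
  have hcomm : ∀ s, (p.residueFieldMap x).hom ((Y.evaluation V (p x) hxV).hom s) =
      (X.evaluation (p ⁻¹ᵁ V) x hx).hom ((p.app V).hom s) :=
    fun s => Scheme.evaluation_naturality_apply p x hxV s
  have main := ring_stab (p.app V).hom (σ ρ p hp.inv V) (σ_one ρ p hp.inv V)
    (σ_mul ρ p hp.inv V) (fun b => hp.range_iff V b) (Y.evaluation V (p x) hxV).hom
    (X.evaluation (p ⁻¹ᵁ V) x hx).hom (p.residueFieldMap x).hom hcomm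
    (frac_eval hV (p x) hxV) (frac_eval hU x hx)
  refine ⟨main.1, ?_⟩
  intro τ hτ
  obtain ⟨g, hgQ, hgτ⟩ := main.2 τ.commRingCatIsoToRingEquiv
    (fun k => congrArg (fun m => m.hom k) hτ)
  have hgx : (ρ g).hom.base x = x := by
    have e3 := IsAffineOpen.comap_primeIdealOf_appLE (f := (ρ g).hom) (p ⁻¹ᵁ V) hU (p ⁻¹ᵁ V) hU
      (SGA1.preimage_le_of_inv ρ p hp.inv g V) hx
    have e4 : hU.primeIdealOf ⟨(ρ g).hom x, SGA1.preimage_le_of_inv ρ p hp.inv g V hx⟩ =
        hU.primeIdealOf ⟨x, hx⟩ := by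
      rw [← e3]
      apply PrimeSpectrum.ext
      show Ideal.comap (σ ρ p hp.inv V g) (hU.primeIdealOf ⟨x, hx⟩).asIdeal =
        (hU.primeIdealOf ⟨x, hx⟩).asIdeal
      rw [← ker_evaluation hU x hx]
      exact hgQ
    have e5 := congrArg hU.fromSpec e4
    rw [hU.fromSpec_primeIdealOf, hU.fromSpec_primeIdealOf] at e5
    exact e5
  refine ⟨g, hgx, ?_⟩
  have hmor : X.evaluation (p ⁻¹ᵁ V) x hx ≫ (X.residueFieldCongr hgx).inv ≫
      (ρ g).hom.residueFieldMap x =
      (ρ g).hom.appLE (p ⁻¹ᵁ V) (p ⁻¹ᵁ V) (SGA1.preimage_le_of_inv ρ p hp.inv g V) ≫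
        X.evaluation (p ⁻¹ᵁ V) x hx := by
    rw [Scheme.residueFieldCongr_inv, ← Category.assoc, evaluation_congr (p ⁻¹ᵁ V) hgx.symm hx,
      Scheme.evaluation_naturality, Scheme.Hom.appLE, Category.assoc, evaluation_map]
  have key : ∀ b, τ.hom.hom ((X.evaluation (p ⁻¹ᵁ V) x hx).hom b) =
      ((X.residueFieldCongr hgx).inv ≫ (ρ g).hom.residueFieldMap x).hom
        ((X.evaluation (p ⁻¹ᵁ V) x hx).hom b) := by
    intro b
    have h1 := congrArg (fun m => m.hom b) hmor
    exact (hgτ b).trans h1.symm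
  apply CommRingCat.hom_ext
  apply RingHom.ext
  intro z
  obtain ⟨s, t, rfl⟩ := frac_eval hU x hx z
  rw [map_div₀, map_div₀, key s, key t]

end

end Groth.Agent.Helper21.GQuot9
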