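import Mathlib
import Groth.Agent.Lib.Helper21.GQuot9

/-!
Rigidity of morphisms into unramified separated schemes, and automorphisms of an étale
quotient by a finite group.
-/

open AlgebraicGeometry CategoryTheory Limits

universe u

namespace Groth.Agent.Helper21.GQuot10

open Groth.Agent.Helper21.GQuot Groth.Agent.Helper21.GQuot9

set_option backward.isDefEq.respectTransparency false in
/-- The equalizer of two morphisms into an unramified scheme (over a base) is an open
immersion. -/
theorem isOpenImmersion_equalizer_ι_left {S : Scheme.{u}} {X Y : Over S}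
    [FormallyUnramified Y.hom] [LocallyOfFiniteType Y.hom]
    (f g : X ⟶ Y) : IsOpenImmersion (equalizer.ι f g).left := by
  refine MorphismProperty.of_isPullback (P := @IsOpenImmersion)
    ((Limits.isPullback_equalizer_prod f g).map (Over.forget _)).flip ?_
  rw [← MorphismProperty.cancel_right_of_respectsIso @IsOpenImmersion _
    (Over.prodLeftIsoPullback Y Y).hom]
  convert! (inferInstance : IsOpenImmersion (pullback.diagonal Y.hom))
  ext1 <;> simp [← Over.comp_left]

set_option backward.isDefEq.respectTransparency false in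
/-- Rigidity: two morphisms from a connected scheme into a separated unramified `Z`-scheme which
agree on a nonempty scheme are equal. -/
theorem rigidity {T X Z : Scheme.{u}} [PreconnectedSpace T] {f g : T ⟶ X} (s : X ⟶ Z)
    [IsSeparated s] [FormallyUnramified s] [LocallyOfFiniteType s] (h : f ≫ s = g ≫ s)
    {W : Scheme.{u}} [Nonempty W] (ι : W ⟶ T) (hι : ι ≫ f = ι ≫ g) : f = g := by
  let X' : Over Z := Over.mk (f ≫ s)
  let Y' : Over Z := Over.mk s
  let U' : Over Z := Over.mk (ι ≫ f ≫ s)
  let f' : X' ⟶ Y' := Over.homMk f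
  let g' : X' ⟶ Y' := Over.homMk g
  let ι' : U' ⟶ X' := Over.homMk ι
  have : IsSeparated Y'.hom := ‹_›
  have : FormallyUnramified Y'.hom := ‹_›
  have : LocallyOfFiniteType Y'.hom := ‹_›
  haveI : IsClosedImmersion (equalizer.ι f' g').left := inferInstance
  haveI : IsOpenImmersion (equalizer.ι f' g').left := isOpenImmersion_equalizer_ι_left f' g'
  have hclopen : IsClopen (Set.range (equalizer.ι f' g').left.base) :=
    ⟨(equalizer.ι f' g').left.isClosedEmbedding.isClosed_range,
      (equalizer.ι f' g').left.isOpenEmbedding.isOpen_range⟩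
  have hne : (Set.range (equalizer.ι f' g').left.base).Nonempty := by
    obtain ⟨w⟩ := ‹Nonempty W›
    have hl : ι' ≫ f' = ι' ≫ g' := by ext1; exact hι
    refine ⟨ι.base w, (equalizer.lift ι' hl).left.base w, ?_⟩
    have h2 : (equalizer.lift ι' hl).left ≫ (equalizer.ι f' g').left = ι := by
      rw [← Over.comp_left, equalizer.lift_ι]
      rfl
    rw [← h2]
    rfl
  have huniv : Set.range (equalizer.ι f' g').left.base = Set.univ :=
    IsClopen.eq_univ (α := T) hclopen hne
  haveI : IsIso (equalizer.ι f' g').left :=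
    isIso_of_isOpenImmersion_of_opensRange_eq_top _ (TopologicalSpace.Opens.ext huniv)
  rw [← cancel_epi (equalizer.ι f' g').left]
  exact congr($(equalizer.condition f' g').left)

theorem resMap_fix {X Y : Scheme.{u}} (f : X ⟶ X) (p q : X ⟶ Y) (hq : f ≫ p = q) (x x' : X)
    (e : f.base x = x') :
    p.residueFieldMap x' ≫ (X.residueFieldCongr e).inv ≫ f.residueFieldMap x =
      (Y.residueFieldCongr (show p.base x' = q.base x by rw [← hq, ← e]; rfl)).hom ≫
        q.residueFieldMap x := by
  subst hq
  subst e
  simp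

theorem fromSpec_fix {X : Scheme.{u}} (f : X ⟶ X) (x x' : X) (e : f.base x = x') :
    Spec.map ((X.residueFieldCongr e).inv ≫ f.residueFieldMap x) ≫ X.fromSpecResidueField x' =
      X.fromSpecResidueField x ≫ f := by
  subst e
  simp

section

variable {X Y : Scheme.{u}} {G : Type u} [Group G] [Finite G] (ρ : G →* Aut X) (p : X ⟶ Y)

theorem aut_of_etale (hp : SGA1.IsQuot ρ p) [IsSeparated p] [FormallyUnramified p]
    [LocallyOfFiniteType p] [ConnectedSpace X] (hfaith : Function.Injective ρ) :
    (∀ (W : Scheme.{u}) [Nonempty W] (ξ : W ⟶ X) (g : G), ξ ≫ (ρ g).hom = ξ → g = 1) ∧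
    ∀ u : Aut X, u.hom ≫ p = p → ∃! g : G, ρ g = u := by
  constructor
  · intro W _ ξ g hg
    have h1 : (ρ g).hom = 𝟙 X := by
      refine rigidity p ?_ ξ ?_
      · rw [hp.inv g, Category.id_comp]
      · rw [hg, Category.comp_id]
    apply hfaith
    rw [map_one]
    exact Aut.ext h1
  · intro u hu
    obtain ⟨x⟩ := (inferInstance : Nonempty X)
    have hpx : p.base (u.hom.base x) = p.base x := by
      rw [← Scheme.Hom.comp_apply, hu]
    obtain ⟨g₁, hg₁⟩ := orbit ρ p hp x (u.hom.base x) hpx.symm
    -- v = u followed by g₁⁻¹ fixes x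
    let v : X ⟶ X := u.hom ≫ (ρ g₁).inv
    have hvp : v ≫ p = p := by
      have h2 : (ρ g₁).inv ≫ p = p := by
        rw [Iso.inv_comp_eq, hp.inv g₁]
      rw [Category.assoc, h2, hu]
    have hvx : v.base x = x := by
      show ((ρ g₁).inv.base (u.hom.base x)) = x
      rw [← hg₁, ← Scheme.Hom.comp_apply, Iso.hom_inv_id]
      rfl
    haveI : IsIso v := inferInstance
    let τ : X.residueField x ≅ X.residueField x :=
      (X.residueFieldCongr hvx).symm ≪≫ asIso (v.residueFieldMap x)
    have hτ : p.residueFieldMap x ≫ τ.hom = p.residueFieldMap x := by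
      have h3 := resMap_fix v p p hvp x x hvx
      have hτ' : τ.hom = (X.residueFieldCongr hvx).inv ≫ v.residueFieldMap x := rfl
      rw [hτ', h3]
      simp
    obtain ⟨g₂, e₂, hg₂⟩ := (stab ρ p hp x).2 τ hτ
    have h4 : X.fromSpecResidueField x ≫ v = X.fromSpecResidueField x ≫ (ρ g₂).hom := by
      rw [← fromSpec_fix v x x hvx, ← fromSpec_fix (ρ g₂).hom x x e₂]
      congr 2
    have h5 : v = (ρ g₂).hom := by
      refine rigidity p ?_ (X.fromSpecResidueField x) h4
      rw [hvp, hp.inv g₂]
    have h6 : u.hom = (ρ g₂).hom ≫ (ρ g₁).hom := by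
      rw [← h5, Category.assoc, Iso.inv_hom_id, Category.comp_id]
    refine ⟨g₁ * g₂, ?_, ?_⟩
    · apply Aut.ext
      rw [h6, map_mul]
      rfl
    · intro g' hg'
      apply hfaith
      rw [hg']
      apply Aut.ext
      rw [h6, map_mul]
      rfl

end

end Groth.Agent.Helper21.GQuot10
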