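import Mathlib
import Groth.Agent.Lib.Helper21.CPF11

/-!
# Deformation of flatness along a thickening of the base (helper21)

* `isIso_residueFieldMap`, `exists_fromSpecResidueField_fac`: residue fields along a morphism which
  is surjective on stalks.
* `flat_fiberMap_of_flat`: the morphism of fibres of `X' ⟶ Y'` over a point of `S ⊆ S'` is flat if
  the base change `X ⟶ Y` is.
* `flat_iff_of_thickening`: EGA IV 11.3.11-type statement: `X' → Y'` over `S'` with `X'/S'` flat
  l.f.p., `Y'/S'` l.f.t.; then `f'` flat iff its base change along a thickening `S → S'` is flat.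
-/

set_option autoImplicit false
set_option linter.style.haveILetI false

universe u

open CategoryTheory Limits AlgebraicGeometry

namespace Groth.Agent.Helper21.Thick

/-- The residue field map of a morphism which is surjective on stalks is an isomorphism. -/
theorem isIso_residueFieldMap {S S' : Scheme.{u}} (i : S ⟶ S') [SurjectiveOnStalks i] (s : S) :
    IsIso (i.residueFieldMap s) := by
  rw [ConcreteCategory.isIso_iff_bijective]
  refine ⟨(i.residueFieldMap s).hom.injective, ?_⟩
  intro z
  obtain ⟨r, rfl⟩ := IsLocalRing.residue_surjective z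
  obtain ⟨r', rfl⟩ := i.stalkMap_surjective s r
  exact ⟨IsLocalRing.residue _ r', rfl⟩

/-- The spectrum of the residue field of a point in the image of a morphism surjective on stalks
factors through the morphism. -/
theorem exists_fromSpecResidueField_fac {S S' : Scheme.{u}} (i : S ⟶ S') [SurjectiveOnStalks i]
    (s : S) : ∃ τ : Spec (S'.residueField (i s)) ⟶ S, τ ≫ i = S'.fromSpecResidueField (i s) := by
  haveI := isIso_residueFieldMap i s
  refine ⟨Spec.map (inv (i.residueFieldMap s)) ≫ S.fromSpecResidueField s, ?_⟩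
  rw [Category.assoc, ← Scheme.Hom.SpecMap_residueFieldMap_fromSpecResidueField,
    ← Spec.map_comp_assoc, IsIso.hom_inv_id, Spec.map_id, Category.id_comp]

/-- The morphism of fibres over a point of `S` of `X' ⟶ Y'` over `S'` is flat when the base
change `X ⟶ Y` to `S` is flat. -/
theorem flat_fiberMap_of_flat {X X' Y Y' S S' : Scheme.{u}} (iX : X ⟶ X') (iY : Y ⟶ Y')
    (iS : S ⟶ S') (f : X ⟶ Y) (f' : X' ⟶ Y') (g : Y ⟶ S) (g' : Y' ⟶ S') [SurjectiveOnStalks iS]
    (hsq : IsPullback iX f f' iY) (hcY : IsPullback iY g g' iS) [Flat f] (s : S)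
    (φ : (f' ≫ g').fiber (iS s) ⟶ g'.fiber (iS s))
    (hφ1 : φ ≫ g'.fiberι (iS s) = (f' ≫ g').fiberι (iS s) ≫ f')
    (hφ2 : φ ≫ g'.fiberToSpecResidueField (iS s) = (f' ≫ g').fiberToSpecResidueField (iS s)) :
    Flat φ := by
  obtain ⟨τ, hτ⟩ := exists_fromSpecResidueField_fac iS s
  have h1 : IsPullback φ ((f' ≫ g').fiberι (iS s)) (g'.fiberι (iS s)) f' := by
    refine IsPullback.of_right (h₁₂ := g'.fiberToSpecResidueField (iS s))
      (v₁₃ := S'.fromSpecResidueField (iS s)) (h₂₂ := g') ?_ hφ1
      (IsPullback.of_hasPullback g' (S'.fromSpecResidueField (iS s))).flip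
    rw [hφ2]
    exact (IsPullback.of_hasPullback (f' ≫ g') (S'.fromSpecResidueField (iS s))).flip
  let j : g'.fiber (iS s) ⟶ Y := hcY.lift (g'.fiberι (iS s))
    (g'.fiberToSpecResidueField (iS s) ≫ τ) (by
      rw [Category.assoc, hτ]
      exact g'.fiber_fac (iS s))
  have hj : j ≫ iY = g'.fiberι (iS s) := hcY.lift_fst _ _ _
  have h1' : IsPullback φ ((f' ≫ g').fiberι (iS s)) (j ≫ iY) f' := by
    rw [hj]
    exact h1
  have h2 := IsPullback.of_bot' h1' hsq.flip
  exact MorphismProperty.of_isPullback (P := @Flat) h2.flip inferInstance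

/-- Deformation of flatness along a thickening of the base. -/
theorem flat_iff_of_thickening {X X' Y Y' S S' : Scheme.{u}} (iX : X ⟶ X') (iY : Y ⟶ Y')
    (iS : S ⟶ S') (f : X ⟶ Y) (f' : X' ⟶ Y') (g : Y ⟶ S) (g' : Y' ⟶ S')
    [SurjectiveOnStalks iS] (hS2 : Function.Surjective iS)
    (hcX : IsPullback iX (f ≫ g) (f' ≫ g') iS) (hcY : IsPullback iY g g' iS)
    (w : iX ≫ f' = f ≫ iY) [Flat (f' ≫ g')] [LocallyOfFinitePresentation (f' ≫ g')]
    [LocallyOfFiniteType g'] : Flat f ↔ Flat f' := by
  have hsq : IsPullback iX f f' iY := (IsPullback.of_right hcX.flip w.symm hcY.flip).flip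
  constructor
  · intro hf
    rw [Flat.iff_flat_stalkMap]
    intro x'
    obtain ⟨s, hs⟩ := hS2 (g' (f' x'))
    let φ : ∀ s' : S', (f' ≫ g').fiber s' ⟶ g'.fiber s' := fun s' =>
      pullback.lift ((f' ≫ g').fiberι s' ≫ f') ((f' ≫ g').fiberToSpecResidueField s')
        (by rw [Category.assoc]; exact (f' ≫ g').fiber_fac s')
    have hφ1 : ∀ s', φ s' ≫ g'.fiberι s' = (f' ≫ g').fiberι s' ≫ f' :=
      fun s' => pullback.lift_fst _ _ _
    have hφ2 : ∀ s', φ s' ≫ g'.fiberToSpecResidueField s' =
        (f' ≫ g').fiberToSpecResidueField s' := fun s' => pullback.lift_snd _ _ _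
    have hflat : Flat (φ (g' (f' x'))) := by
      rw [← hs]
      exact flat_fiberMap_of_flat iX iY iS f f' g g' hsq hcY s (φ (iS s)) (hφ1 _) (hφ2 _)
    have key := (CPF.critere_fibres f' g' φ hφ1).1 x'
    exact (key.mp ⟨Flat.stalkMap (f' ≫ g') x', Flat.stalkMap (φ (g' (f' x'))) _⟩).2
  · intro hf'
    exact MorphismProperty.of_isPullback (P := @Flat) hsq hf'

end Groth.Agent.Helper21.Thick
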