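import Mathlib
import Groth.Agent.Lib.Helper21.Thick1
import Groth.Agent.Lib.Helper16.Sch.ThickUnram

/-!
# Deformation of étale / smooth / open immersion / isomorphism along a thickening (helper21)

Setting: `X' ⟶ Y' ⟶ S'` with `X'/S'` flat and locally of finite presentation, `Y'/S'` locally of
finite type, `S ⟶ S'` a thickening (surjective closed immersion) and `X ⟶ Y ⟶ S` the base change.
-/

set_option autoImplicit false
set_option linter.style.haveILetI false

universe u

open CategoryTheory Limits AlgebraicGeometry Groth.Agent.Helper16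

namespace Groth.Agent.Helper21.Thick

variable {X X' Y Y' S S' : Scheme.{u}} (iX : X ⟶ X') (iY : Y ⟶ Y') (iS : S ⟶ S')
    (f : X ⟶ Y) (f' : X' ⟶ Y') (g : Y ⟶ S) (g' : Y' ⟶ S')

include g g' iS in
/-- The left square is a pullback. -/
theorem isPullback_left (hcX : IsPullback iX (f ≫ g) (f' ≫ g') iS) (hcY : IsPullback iY g g' iS)
    (w : iX ≫ f' = f ≫ iY) : IsPullback iX f f' iY :=
  (IsPullback.of_right hcX.flip w.symm hcY.flip).flip

/-- If `f` is a monomorphism, the diagonal of `f'` is surjective. -/
theorem surjective_diagonal_of_mono (hsq : IsPullback iX f f' iY) [Surjective iY] [Mono f] :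
    Surjective (pullback.diagonal f') := by
  constructor
  intro w'
  let π' : pullback f' f' ⟶ Y' := pullback.fst f' f' ≫ f'
  haveI : Surjective (pullback.fst π' iY) :=
    MorphismProperty.of_isPullback (P := @Surjective) (IsPullback.of_hasPullback π' iY).flip
      inferInstance
  obtain ⟨w, rfl⟩ := (pullback.fst π' iY).surjective w'
  let a := pullback.fst π' iY
  let b := pullback.snd π' iY
  have hab : a ≫ π' = b ≫ iY := pullback.condition
  have h1 : (a ≫ pullback.fst f' f') ≫ f' = b ≫ iY := by
    rw [Category.assoc]
    exact hab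
  have h2 : (a ≫ pullback.snd f' f') ≫ f' = b ≫ iY := by
    rw [Category.assoc, ← pullback.condition]
    exact hab
  let q1 : pullback π' iY ⟶ X := hsq.lift (a ≫ pullback.fst f' f') b h1
  let q2 : pullback π' iY ⟶ X := hsq.lift (a ≫ pullback.snd f' f') b h2
  have hq : q1 = q2 := by
    rw [← cancel_mono f]
    exact (hsq.lift_snd _ _ h1).trans (hsq.lift_snd _ _ h2).symm
  have hp : a ≫ pullback.fst f' f' = a ≫ pullback.snd f' f' := by
    rw [← hsq.lift_fst _ _ h1, ← hsq.lift_fst _ _ h2]
    exact congrArg (· ≫ iX) hq
  have ha : a = (a ≫ pullback.fst f' f') ≫ pullback.diagonal f' := by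
    apply pullback.hom_ext
    · rw [Category.assoc, pullback.diagonal_fst, Category.comp_id]
    · rw [Category.assoc, pullback.diagonal_snd, Category.comp_id]
      exact hp.symm
  refine ⟨(a ≫ pullback.fst f' f') w, ?_⟩
  rw [← Scheme.Hom.comp_apply, ← ha]

variable [IsClosedImmersion iS] [Surjective iS] [Flat (f' ≫ g')]
  [LocallyOfFinitePresentation (f' ≫ g')] [LocallyOfFiniteType g']

include g g' iS in
theorem etale_iff_of_thickening (hcX : IsPullback iX (f ≫ g) (f' ≫ g') iS)
    (hcY : IsPullback iY g g' iS) (w : iX ≫ f' = f ≫ iY) : Etale f ↔ Etale f' := by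
  have hsq := isPullback_left iX iY iS f f' g g' hcX hcY w
  constructor
  · intro hf
    haveI : IsClosedImmersion iY := MorphismProperty.of_isPullback hcY.flip inferInstance
    haveI : Surjective iY := MorphismProperty.of_isPullback hcY.flip inferInstance
    haveI : LocallyOfFinitePresentation f' :=
      Groth.Agent.Helper7.locallyOfFinitePresentation_of_comp f' g' inferInstance inferInstance
    obtain ⟨hfl, hunr, -⟩ := Etale.iff_flat_and_formallyUnramified.mp hf
    haveI := hunr
    haveI : Flat f' :=
      (flat_iff_of_thickening iX iY iS f f' g g' iS.surjective hcX hcY w).mp hfl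
    haveI : FormallyUnramified f' := ThickUnram.formallyUnramified_of_thickening_bc hsq
    exact Etale.of_formallyUnramified_of_flat f'
  · intro hf'
    exact MorphismProperty.of_isPullback (P := @Etale) hsq hf'

include g g' iS in
theorem smooth_iff_of_thickening (hcX : IsPullback iX (f ≫ g) (f' ≫ g') iS)
    (hcY : IsPullback iY g g' iS) (w : iX ≫ f' = f ≫ iY) : Smooth f ↔ Smooth f' := by
  have hsq := isPullback_left iX iY iS f f' g g' hcX hcY w
  constructor
  · intro hf
    haveI := hf
    haveI : IsClosedImmersion iY := MorphismProperty.of_isPullback hcY.flip inferInstance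
    haveI : Surjective iY := MorphismProperty.of_isPullback hcY.flip inferInstance
    haveI : LocallyOfFinitePresentation f' :=
      Groth.Agent.Helper7.locallyOfFinitePresentation_of_comp f' g' inferInstance inferInstance
    haveI : Flat f' :=
      (flat_iff_of_thickening iX iY iS f f' g g' iS.surjective hcX hcY w).mp inferInstance
    refine Smooth.of_smooth_fiberToSpecResidueField f' fun y' => ?_
    obtain ⟨y, rfl⟩ := iY.surjective y'
    obtain ⟨τ, hτ⟩ := exists_fromSpecResidueField_fac iY y
    have s : IsPullback (pullback.fst f' (Y'.fromSpecResidueField (iY y)))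
        (pullback.snd f' (Y'.fromSpecResidueField (iY y))) f' (τ ≫ iY) := by
      rw [hτ]
      exact IsPullback.of_hasPullback _ _
    have h2 := IsPullback.of_right' s hsq
    exact MorphismProperty.of_isPullback (P := @Smooth) h2 inferInstance
  · intro hf'
    exact MorphismProperty.of_isPullback (P := @Smooth) hsq hf'

include g g' iS in
theorem isOpenImmersion_iff_of_thickening (hcX : IsPullback iX (f ≫ g) (f' ≫ g') iS)
    (hcY : IsPullback iY g g' iS) (w : iX ≫ f' = f ≫ iY) :
    IsOpenImmersion f ↔ IsOpenImmersion f' := by
  have hsq := isPullback_left iX iY iS f f' g g' hcX hcY w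
  constructor
  · intro hf
    haveI := hf
    haveI : IsClosedImmersion iY := MorphismProperty.of_isPullback hcY.flip inferInstance
    haveI : Surjective iY := MorphismProperty.of_isPullback hcY.flip inferInstance
    haveI : LocallyOfFinitePresentation f' :=
      Groth.Agent.Helper7.locallyOfFinitePresentation_of_comp f' g' inferInstance inferInstance
    haveI : Flat f' :=
      (flat_iff_of_thickening iX iY iS f f' g g' iS.surjective hcX hcY w).mp inferInstance
    haveI : FormallyUnramified f' := ThickUnram.formallyUnramified_of_thickening_bc hsq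
    haveI : Surjective (pullback.diagonal f') := surjective_diagonal_of_mono iX iY f f' hsq
    haveI : IsIso (pullback.diagonal f') :=
      (isIso_iff_isOpenImmersion_and_surjective _).mpr ⟨inferInstance, inferInstance⟩
    haveI : Mono f' := (pullback.isIso_diagonal_iff f').mp inferInstance
    exact IsOpenImmersion.of_flat_of_mono f'
  · intro hf'
    exact MorphismProperty.of_isPullback (P := @IsOpenImmersion) hsq hf'

include g g' iS in
theorem isIso_iff_of_thickening (hcX : IsPullback iX (f ≫ g) (f' ≫ g') iS)
    (hcY : IsPullback iY g g' iS) (w : iX ≫ f' = f ≫ iY) : IsIso f ↔ IsIso f' := by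
  have hsq := isPullback_left iX iY iS f f' g g' hcX hcY w
  constructor
  · intro hf
    haveI := hf
    haveI : Surjective iY := MorphismProperty.of_isPullback hcY.flip inferInstance
    have h1 : IsOpenImmersion f' :=
      (isOpenImmersion_iff_of_thickening iX iY iS f f' g g' hcX hcY w).mp inferInstance
    have h2 : Surjective f' := by
      constructor
      intro y'
      obtain ⟨y, rfl⟩ := iY.surjective y'
      obtain ⟨x, rfl⟩ := f.surjective y
      refine ⟨iX x, ?_⟩
      rw [← Scheme.Hom.comp_apply, w, Scheme.Hom.comp_apply]
    exact (isIso_iff_isOpenImmersion_and_surjective f').mpr ⟨h1, h2⟩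
  · intro hf'
    exact (MorphismProperty.isomorphisms Scheme).of_isPullback hsq hf'

end Groth.Agent.Helper21.Thick
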