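import Mathlib

/-!
# Spreading out algebra maps into a localization (helper21)

* `awayLift`: the `R`-algebra map `C₀[1/t] → D` when `t` becomes a unit in `D`.
* `exists_factor_away`: if `B` is a finitely presented `R`-algebra and `χ : B → T⁻¹C₀` an
  `R`-algebra map into a localization, then `χ` factors through `C₀[1/t]` for some `t ∈ T`.
-/

set_option autoImplicit false
set_option linter.style.haveILetI false
set_option linter.unusedSectionVars false

universe u

open Function

namespace Groth.Agent.Helper21.EssFP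

section AwayLift

variable {R C₀ D : Type*} [CommRing R] [CommRing C₀] [CommRing D] [Algebra R C₀] [Algebra C₀ D]
  [Algebra R D] [IsScalarTower R C₀ D]

/-- The `R`-algebra map `C₀[1/t] → D` when `t` becomes a unit in `D`. -/
noncomputable def awayLift (t : C₀) (ht : IsUnit (algebraMap C₀ D t)) :
    Localization.Away t →ₐ[R] D :=
  IsLocalization.liftAlgHom (M := Submonoid.powers t) (f := IsScalarTower.toAlgHom R C₀ D)
    (fun y => by
      obtain ⟨k, hk⟩ := (Submonoid.mem_powers_iff _ _).mp y.2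
      change IsUnit (algebraMap C₀ D (y : C₀))
      rw [← hk, map_pow]
      exact ht.pow k)

theorem awayLift_algebraMap (t : C₀) (ht : IsUnit (algebraMap C₀ D t)) (c : C₀) :
    awayLift (R := R) t ht (algebraMap C₀ (Localization.Away t) c) = algebraMap C₀ D c := by
  unfold awayLift
  rw [IsLocalization.liftAlgHom_apply, IsLocalization.lift_eq]
  rfl

end AwayLift

/-- An element of a localization `A₁ = M₁⁻¹C₀` which dies in a further localization `S' = T⁻¹C₀`
is killed by an element of `T`. -/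
theorem exists_mul_eq_zero_of_map_eq_zero {C₀ A₁ S' : Type*} [CommRing C₀] [CommRing A₁]
    [CommRing S'] [Algebra C₀ A₁] [Algebra C₀ S'] (M₁ : Submonoid C₀) [IsLocalization M₁ A₁]
    (T : Submonoid C₀) [IsLocalization T S'] (lam₁ : A₁ →+* S')
    (hlam : ∀ c, lam₁ (algebraMap C₀ A₁ c) = algebraMap C₀ S' c) (z : A₁) (hz : lam₁ z = 0) :
    ∃ v ∈ T, algebraMap C₀ A₁ v * z = 0 := by
  obtain ⟨⟨c, m⟩, hcm⟩ := IsLocalization.surj M₁ z
  have hcm' : z * algebraMap C₀ A₁ (m : C₀) = algebraMap C₀ A₁ c := hcm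
  have h1 : algebraMap C₀ S' c = 0 := by
    rw [← hlam, ← hcm', map_mul, hz, zero_mul]
  obtain ⟨v, hv⟩ := (IsLocalization.map_eq_zero_iff T S' c).mp h1
  refine ⟨v, v.2, ?_⟩
  have hu : IsUnit (algebraMap C₀ A₁ (m : C₀)) := IsLocalization.map_units A₁ m
  have h2 : (algebraMap C₀ A₁ v * z) * algebraMap C₀ A₁ (m : C₀) = 0 := by
    rw [mul_assoc, hcm', ← map_mul, hv, map_zero]
  exact (hu.mul_left_eq_zero).mp h2

set_option maxHeartbeats 1600000 in
/-- **Spreading out**: an algebra map from a finitely presented algebra into a localization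
`T⁻¹C₀` factors through `C₀[1/t]` for some `t ∈ T`. -/
theorem exists_factor_away {R B C₀ S' : Type u} [CommRing R] [CommRing B] [CommRing C₀]
    [CommRing S'] [Algebra R B] [Algebra R C₀] [Algebra C₀ S'] [Algebra R S']
    [IsScalarTower R C₀ S'] [Algebra.FinitePresentation R B] (T : Submonoid C₀)
    [IsLocalization T S'] (χ : B →ₐ[R] S') :
    ∃ t ∈ T, ∃ (χ' : B →ₐ[R] Localization.Away t) (lam : Localization.Away t →ₐ[R] S'),
      (∀ c, lam (algebraMap C₀ (Localization.Away t) c) = algebraMap C₀ S' c) ∧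
      ∀ b, lam (χ' b) = χ b := by
  classical
  obtain ⟨n, f, hf, hker⟩ :=
    (inferInstance : Algebra.FinitePresentation R B).out
  obtain ⟨G, hG⟩ := hker
  -- common denominator
  obtain ⟨b, hb⟩ := IsLocalization.exist_integer_multiples_of_finite T
    (fun i : Fin n => χ (f (MvPolynomial.X i)))
  have hb' : ∀ i : Fin n, ∃ a : C₀,
      algebraMap C₀ S' a = algebraMap C₀ S' (b : C₀) * χ (f (MvPolynomial.X i)) := fun i => by
    obtain ⟨a, ha⟩ := RingHom.mem_rangeS.mp (hb i)
    exact ⟨a, by rw [ha, Algebra.smul_def]⟩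
  choose a ha using hb'
  have hbS' : IsUnit (algebraMap C₀ S' (b : C₀)) := IsLocalization.map_units S' b
  -- first localization
  let lam₁ : Localization.Away (b : C₀) →ₐ[R] S' := awayLift (R := R) (b : C₀) hbS'
  have hlam₁ : ∀ c, lam₁ (algebraMap C₀ (Localization.Away (b : C₀)) c) = algebraMap C₀ S' c :=
    awayLift_algebraMap (R := R) (b : C₀) hbS'
  let y : Fin n → Localization.Away (b : C₀) := fun i =>
    IsLocalization.mk' (Localization.Away (b : C₀)) (a i)
      (⟨(b : C₀), Submonoid.mem_powers _⟩ : Submonoid.powers (b : C₀))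
  have hy : ∀ i, lam₁ (y i) = χ (f (MvPolynomial.X i)) := fun i => by
    have h1 : y i * algebraMap C₀ (Localization.Away (b : C₀)) (b : C₀) =
        algebraMap C₀ (Localization.Away (b : C₀)) (a i) :=
      IsLocalization.mk'_spec (Localization.Away (b : C₀)) (a i)
        (⟨(b : C₀), Submonoid.mem_powers _⟩ : Submonoid.powers (b : C₀))
    have h2 := congrArg lam₁ h1
    rw [map_mul, hlam₁, hlam₁, ha i, mul_comm] at h2
    exact hbS'.mul_left_cancel h2
  let g₁ : MvPolynomial (Fin n) R →ₐ[R] Localization.Away (b : C₀) := MvPolynomial.aeval y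
  have hg₁ : ∀ p, lam₁ (g₁ p) = χ (f p) := by
    have : lam₁.comp g₁ = χ.comp f := by
      apply MvPolynomial.algHom_ext
      intro i
      rw [AlgHom.comp_apply, AlgHom.comp_apply]
      change lam₁ (MvPolynomial.aeval y (MvPolynomial.X i)) = _
      rw [MvPolynomial.aeval_X, hy]
    intro p
    exact AlgHom.congr_fun this p
  -- kill the relations
  have hex : ∀ r, r ∈ G → ∃ v, v ∈ T ∧
      algebraMap C₀ (Localization.Away (b : C₀)) v * g₁ r = 0 := by
    intro r hr
    have hr' : r ∈ RingHom.ker f.toRingHom := by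
      rw [← hG]
      exact Ideal.subset_span hr
    have hfr : f r = 0 := hr'
    obtain ⟨v, hvT, hv⟩ := exists_mul_eq_zero_of_map_eq_zero (Submonoid.powers (b : C₀)) T
      (lam₁ : Localization.Away (b : C₀) →+* S') hlam₁ (g₁ r)
      (by change lam₁ (g₁ r) = 0; rw [hg₁, hfr, map_zero])
    exact ⟨v, hvT, hv⟩
  choose! v hvT hv using hex
  have hvv : (∏ r ∈ G, v r) ∈ T := Submonoid.prod_mem T hvT
  refine ⟨(b : C₀) * ∏ r ∈ G, v r, T.mul_mem b.2 hvv, ?_⟩
  have hunit : IsUnit (algebraMap C₀ (Localization.Away ((b : C₀) * ∏ r ∈ G, v r))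
      ((b : C₀) * ∏ r ∈ G, v r)) := IsLocalization.Away.algebraMap_isUnit _
  have hub : IsUnit (algebraMap C₀ (Localization.Away ((b : C₀) * ∏ r ∈ G, v r)) (b : C₀)) := by
    rw [map_mul] at hunit
    exact isUnit_of_mul_isUnit_left hunit
  have huvv : IsUnit (algebraMap C₀ (Localization.Away ((b : C₀) * ∏ r ∈ G, v r))
      (∏ r ∈ G, v r)) := by
    rw [map_mul] at hunit
    exact isUnit_of_mul_isUnit_right hunit
  have huv : ∀ r ∈ G, IsUnit (algebraMap C₀ (Localization.Away ((b : C₀) * ∏ r ∈ G, v r))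
      (v r)) := by
    intro r hr
    have e : (∏ r ∈ G, v r) = v r * ∏ x ∈ G.erase r, v x := (Finset.mul_prod_erase G v hr).symm
    have h1 : IsUnit (algebraMap C₀ (Localization.Away ((b : C₀) * ∏ r ∈ G, v r)) (v r) *
        algebraMap C₀ (Localization.Away ((b : C₀) * ∏ r ∈ G, v r)) (∏ x ∈ G.erase r, v x)) := by
      rw [← map_mul, ← e]
      exact huvv
    exact isUnit_of_mul_isUnit_left h1
  let mu : Localization.Away (b : C₀) →ₐ[R] Localization.Away ((b : C₀) * ∏ r ∈ G, v r) :=
    awayLift (R := R) (b : C₀) hub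
  have hmu : ∀ c, mu (algebraMap C₀ (Localization.Away (b : C₀)) c) =
      algebraMap C₀ (Localization.Away ((b : C₀) * ∏ r ∈ G, v r)) c :=
    awayLift_algebraMap (R := R) (b : C₀) hub
  have htS' : IsUnit (algebraMap C₀ S' ((b : C₀) * ∏ r ∈ G, v r)) :=
    IsLocalization.map_units S' (⟨_, T.mul_mem b.2 hvv⟩ : T)
  let lam : Localization.Away ((b : C₀) * ∏ r ∈ G, v r) →ₐ[R] S' :=
    awayLift (R := R) ((b : C₀) * ∏ r ∈ G, v r) htS'
  have hlam : ∀ c, lam (algebraMap C₀ (Localization.Away ((b : C₀) * ∏ r ∈ G, v r)) c) =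
      algebraMap C₀ S' c :=
    awayLift_algebraMap (R := R) ((b : C₀) * ∏ r ∈ G, v r) htS'
  have hker : RingHom.ker f.toRingHom ≤ RingHom.ker (mu.comp g₁).toRingHom := by
    rw [← hG, Ideal.span_le]
    intro r hr
    change (mu.comp g₁) r = 0
    rw [AlgHom.comp_apply]
    have h1 : algebraMap C₀ (Localization.Away ((b : C₀) * ∏ r ∈ G, v r)) (v r) * mu (g₁ r) = 0 := by
      rw [← hmu, ← map_mul, hv r hr, map_zero]
    exact ((huv r hr).mul_right_eq_zero).mp h1
  have hlm : ∀ z, lam (mu z) = lam₁ z := by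
    have : (lam.comp mu) = lam₁ := by
      apply IsLocalization.algHom_ext (Submonoid.powers (b : C₀))
      ext c
      change lam (mu (algebraMap C₀ (Localization.Away (b : C₀)) c)) =
        lam₁ (algebraMap C₀ (Localization.Away (b : C₀)) c)
      rw [hmu, hlam, hlam₁]
    intro z
    exact AlgHom.congr_fun this z
  refine ⟨AlgHom.liftOfSurjective f hf (mu.comp g₁) hker, lam, hlam, ?_⟩
  intro x
  obtain ⟨p, rfl⟩ := hf x
  rw [AlgHom.liftOfSurjective_apply, AlgHom.comp_apply, hlm, hg₁]

end Groth.Agent.Helper21.EssFP
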