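import Mathlib
import Groth.Agent.Lib.Lead.Depth13

/-!
# The acyclicity lemma (Peskine–Szpiro) for complexes of finite free modules over a regular
local ring with finite length cohomology.
-/

set_option autoImplicit false
universe u v w
open CategoryTheory CategoryTheory.Limits RingTheory.Sequence LocCoh IsLocalRing

namespace Groth.Agent.Helper21.AC

open Groth.Agent.Lead.Depth

section A
variable {R : Type u} [CommRing R] [IsLocalRing R] [IsNoetherianRing R]

/-- A finite length module injecting into a finite module of positive depth is zero. -/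
theorem subsingleton_of_isFiniteLength_of_depth_pos (N : Type v) [AddCommGroup N] [Module R N]
    (hN : IsFiniteLength R N) (C : Type w) [AddCommGroup C] [Module R C] [Module.Finite R C]
    (f : N →ₗ[R] C) (hf : Function.Injective f) (hC : (1 : ℕ∞) ≤ LocCoh.depth R C) :
    Subsingleton N := by
  rcases subsingleton_or_nontrivial C with hs | hnt
  · exact hf.subsingleton
  · obtain ⟨rs, hlen, hreg, hmem⟩ := exists_of_le_idealDepth (maximalIdeal R) C
      (maximalIdeal_smul_top_ne_top C) 1 (by exact_mod_cast hC)
    obtain ⟨x, rfl⟩ : ∃ x, rs = [x] := List.length_eq_one_iff.mp hlen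
    have hx : x ∈ maximalIdeal R := hmem x (by simp)
    have hxreg : IsSMulRegular C x := by
      rw [isWeaklyRegular_cons_iff] at hreg
      exact hreg.1
    obtain ⟨hnoeth, hart⟩ := isFiniteLength_iff_isNoetherian_isArtinian.mp hN
    have hinj : Function.Injective (LinearMap.lsmul R N x) := by
      intro a b hab
      apply hf
      apply hxreg
      show x • f a = x • f b
      rw [← map_smul, ← map_smul]
      exact congrArg f hab
    have hsurj : Function.Surjective (LinearMap.lsmul R N x) :=
      IsArtinian.surjective_of_injective_endomorphism _ hinj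
    have htop : (⊤ : Submodule R N) = ⊥ := by
      apply Submodule.eq_bot_of_le_smul_of_le_jacobson_bot (maximalIdeal R) ⊤
      · exact IsNoetherian.noetherian _
      · intro y _
        obtain ⟨z, rfl⟩ := hsurj y
        exact Submodule.smul_mem_smul hx Submodule.mem_top
      · exact IsLocalRing.maximalIdeal_le_jacobson _
    exact (Submodule.subsingleton_iff R).mp (subsingleton_of_bot_eq_top htop.symm)

end A

section B
variable {R : Type u} [CommRing R] (M : CochainComplex (ModuleCat.{u} R) ℕ)

theorem fromOpcycles_injective_of_isZero (i : ℕ) (h : IsZero (M.homology i)) :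
    Function.Injective (M.fromOpcycles i (i + 1)).hom := by
  have hex : (ShortComplex.mk (M.homologyι i) (M.fromOpcycles i (i + 1)) (by simp)).Exact :=
    ShortComplex.exact_of_f_is_kernel _ (M.homologyIsKernel i (i + 1) (by simp))
  rw [ShortComplex.moduleCat_exact_iff] at hex
  have hsub : Subsingleton (M.homology i) := ModuleCat.subsingleton_of_isZero h
  rw [injective_iff_map_eq_zero]
  intro y hy
  obtain ⟨z, rfl⟩ := hex y hy
  rw [Subsingleton.elim z 0, map_zero]

theorem pOpcycles_surjective (i : ℕ) : Function.Surjective (M.pOpcycles i).hom :=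
  (ModuleCat.epi_iff_surjective _).mp inferInstance

theorem homologyι_injective (i : ℕ) : Function.Injective (M.homologyι i).hom :=
  (ModuleCat.mono_iff_injective _).mp inferInstance

theorem fromOpcycles_pOpcycles_apply (i j : ℕ) (x : M.X i) :
    (M.fromOpcycles i j).hom ((M.pOpcycles i).hom x) = (M.d i j).hom x := by
  have := M.p_fromOpcycles i j
  exact congrArg (fun φ => φ.hom x) this

theorem exact_fromOpcycles_pOpcycles (i : ℕ) :
    Function.Exact (M.fromOpcycles i (i + 1)).hom (M.pOpcycles (i + 1)).hom := by
  have hex : (ShortComplex.mk (M.d i (i + 1)) (M.pOpcycles (i + 1)) (by simp)).Exact :=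
    ShortComplex.exact_of_g_is_cokernel _ (M.opcyclesIsCokernel i (i + 1) (by simp))
  rw [ShortComplex.moduleCat_exact_iff] at hex
  intro y
  constructor
  · intro hy
    obtain ⟨x, hx⟩ := hex y hy
    refine ⟨(M.pOpcycles i).hom x, ?_⟩
    rw [fromOpcycles_pOpcycles_apply]
    exact hx
  · rintro ⟨c, rfl⟩
    obtain ⟨x, rfl⟩ := pOpcycles_surjective M i c
    rw [fromOpcycles_pOpcycles_apply]
    have := M.d_pOpcycles i (i + 1)
    exact congrArg (fun φ => φ.hom x) this

/-- The acyclicity lemma: depth of the opcycles. -/
theorem depth_opcycles [IsRegularLocalRing R] (g : ℕ) (hg : ringKrullDim R = g)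
    (hfree : ∀ i, Module.Free R (M.X i) ∧ Module.Finite R (M.X i))
    (hfl : ∀ i, IsFiniteLength R (M.homology i)) :
    ∀ i, i ≤ g → ((g - i : ℕ) : ℕ∞) ≤ LocCoh.depth R (M.opcycles i) := by
  have hfin : ∀ i, Module.Finite R (M.opcycles i) := by
    intro i
    have := (hfree i).2
    exact Module.Finite.of_surjective (M.pOpcycles i).hom (pOpcycles_surjective M i)
  have hX : ∀ j, (g : ℕ∞) ≤ LocCoh.depth R (M.X j) := by
    intro j
    have := (hfree j).1
    have := (hfree j).2
    rcases subsingleton_or_nontrivial (M.X j) with hs | hnt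
    · rw [depth_eq_top_of_subsingleton]
      exact le_top
    · rw [depth_free, depth_eq_of_isRegularLocalRing hg]
  have hzero : ∀ i, (1 : ℕ∞) ≤ LocCoh.depth R (M.opcycles i) → IsZero (M.homology i) := by
    intro i h1
    have := hfin i
    have : Subsingleton (M.homology i) :=
      subsingleton_of_isFiniteLength_of_depth_pos _ (hfl i) (M.opcycles i) (M.homologyι i).hom
        (homologyι_injective M i) h1
    exact ModuleCat.isZero_of_subsingleton _
  intro i
  induction i with
  | zero =>
    intro _
    have hiso : IsIso (M.pOpcycles 0) :=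
      M.isIso_pOpcycles 0 0 (by simp) (M.shape _ _ (by simp))
    have e : M.X 0 ≃ₗ[R] M.opcycles 0 := (asIso (M.pOpcycles 0)).toLinearEquiv
    rw [← depth_congr e, Nat.sub_zero]
    exact hX 0
  | succ i ih =>
    intro hi1
    have ih' := ih (by omega)
    have h1 : (1 : ℕ∞) ≤ LocCoh.depth R (M.opcycles i) := by
      refine le_trans ?_ ih'
      exact_mod_cast (by omega : 1 ≤ g - i)
    have hz := hzero i h1
    have := hfin i
    have := hfin (i + 1)
    have := (hfree (i + 1)).2
    have hdl := (idealDepth_shortExact (maximalIdeal R) (M.opcycles i) (M.X (i + 1))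
      (M.opcycles (i + 1)) (M.fromOpcycles i (i + 1)).hom (M.pOpcycles (i + 1)).hom
      (fromOpcycles_injective_of_isZero M i hz) (pOpcycles_surjective M (i + 1))
      (exact_fromOpcycles_pOpcycles M i)).2.1
    refine le_trans (le_min ?_ ?_) hdl
    · refine le_trans ?_ (hX (i + 1))
      exact_mod_cast (by omega : g - (i + 1) ≤ g)
    · have hc : ((g - (i + 1) : ℕ) : ℕ∞) = ((g - i : ℕ) : ℕ∞) - 1 := by
        rw [show g - (i + 1) = (g - i) - 1 by omega, ENat.natCast_sub, Nat.cast_one]
      rw [hc]
      exact tsub_le_tsub_right ih' 1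

theorem acyclicity [IsRegularLocalRing R] (g : ℕ) (hg : ringKrullDim R = g)
    (hfree : ∀ i, Module.Free R (M.X i) ∧ Module.Finite R (M.X i))
    (hfl : ∀ i, IsFiniteLength R (M.homology i)) (i : ℕ) (hi : i < g) :
    IsZero (M.homology i) := by
  have hfin : Module.Finite R (M.opcycles i) := by
    have := (hfree i).2
    exact Module.Finite.of_surjective (M.pOpcycles i).hom (pOpcycles_surjective M i)
  have h1 : (1 : ℕ∞) ≤ LocCoh.depth R (M.opcycles i) := by
    refine le_trans ?_ (depth_opcycles M g hg hfree hfl i hi.le)
    exact_mod_cast (by omega : 1 ≤ g - i)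
  have : Subsingleton (M.homology i) :=
    subsingleton_of_isFiniteLength_of_depth_pos _ (hfl i) (M.opcycles i) (M.homologyι i).hom
      (homologyι_injective M i) h1
  exact ModuleCat.isZero_of_subsingleton _

end B

end Groth.Agent.Helper21.AC
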