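import Mathlib

/-! Étaleness of `A[X]/(f)` for monic `f` in terms of `f'` being a unit in `A[X]/(f)`. -/

namespace Groth.Agent.Helper21.ARE

universe u
open Polynomial

/-- If `A[X]/(f)` is formally unramified over `A`, then `f'` is a unit in `A[X]/(f)`. -/
theorem isUnit_mk_derivative {A : Type u} [CommRing A] (f : A[X])
    [Algebra.FormallyUnramified A (AdjoinRoot f)] :
    IsUnit (AdjoinRoot.mk f (derivative f)) := by
  rw [← Ideal.span_singleton_eq_top]
  set J : Ideal (AdjoinRoot f) := Ideal.span {AdjoinRoot.mk f (derivative f)} with hJ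
  let q : AdjoinRoot f →ₐ[A] (AdjoinRoot f ⧸ J) := Ideal.Quotient.mkₐ A J
  let ι : (AdjoinRoot f ⧸ J) →ₐ[A] DualNumber (AdjoinRoot f ⧸ J) :=
    TrivSqZeroExt.inlAlgHom A (AdjoinRoot f ⧸ J) (AdjoinRoot f ⧸ J)
  let φ₀ : AdjoinRoot f →ₐ[A] DualNumber (AdjoinRoot f ⧸ J) := ι.comp q
  let c : DualNumber (AdjoinRoot f ⧸ J) := φ₀ (AdjoinRoot.root f)
  let ε : DualNumber (AdjoinRoot f ⧸ J) := DualNumber.eps
  have hε : ε ^ 2 = 0 := by rw [pow_two]; exact DualNumber.eps_mul_eps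
  have hc0 : aeval c f = 0 := by
    have h1 : aeval c f = φ₀ (aeval (AdjoinRoot.root f) f) :=
      Polynomial.aeval_algHom_apply φ₀ _ _
    rw [h1, AdjoinRoot.aeval_eq, AdjoinRoot.mk_self, map_zero]
  have hc1 : aeval c (derivative f) = 0 := by
    have h1 : aeval c (derivative f) = φ₀ (aeval (AdjoinRoot.root f) (derivative f)) :=
      Polynomial.aeval_algHom_apply φ₀ _ _
    rw [h1, AdjoinRoot.aeval_eq]
    have h2 : q (AdjoinRoot.mk f (derivative f)) = 0 :=
      Ideal.Quotient.eq_zero_iff_mem.mpr (Ideal.subset_span rfl)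
    show ι (q _) = 0
    rw [h2, map_zero]
  have h0 : eval₂ (Algebra.ofId A (DualNumber (AdjoinRoot f ⧸ J)) : A →+* _) (c + ε) f = 0 := by
    have h1 : eval₂ (Algebra.ofId A (DualNumber (AdjoinRoot f ⧸ J)) : A →+* _) (c + ε) f
        = aeval (c + ε) f := rfl
    rw [h1, Polynomial.aeval_add_of_sq_eq_zero _ _ _ hε, hc0, hc1, zero_mul, add_zero]
  let φ₁ : AdjoinRoot f →ₐ[A] DualNumber (AdjoinRoot f ⧸ J) :=
    AdjoinRoot.liftAlgHom f (Algebra.ofId A _) (c + ε) h0
  let I : Ideal (DualNumber (AdjoinRoot f ⧸ J)) := Ideal.span {ε}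
  have hI : I ^ 2 = ⊥ := by
    rw [Ideal.span_singleton_pow, hε, Ideal.span_singleton_eq_bot]
  have heq : (Ideal.Quotient.mkₐ A I).comp φ₁ = (Ideal.Quotient.mkₐ A I).comp φ₀ := by
    apply AdjoinRoot.algHom_ext
    rw [AlgHom.comp_apply, AlgHom.comp_apply, AdjoinRoot.liftAlgHom_root]
    show Ideal.Quotient.mk I (c + ε) = Ideal.Quotient.mk I c
    rw [Ideal.Quotient.eq, add_sub_cancel_left]
    exact Ideal.subset_span rfl
  have h3 : φ₁ = φ₀ := Algebra.FormallyUnramified.comp_injective I hI heq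
  have h4 : c + ε = c := by
    have := DFunLike.congr_fun h3 (AdjoinRoot.root f)
    rwa [AdjoinRoot.liftAlgHom_root] at this
  have h5 : ε = 0 := by simpa using h4
  have h6 : (1 : AdjoinRoot f ⧸ J) = 0 := by
    have := congrArg TrivSqZeroExt.snd h5
    simpa [ε] using this
  rw [Ideal.eq_top_iff_one]
  exact Ideal.Quotient.eq_zero_iff_mem.mp (by rw [map_one]; exact h6)

/-- If `f` is monic and `f'` is a unit in `A[X]/(f)`, then `A[X]/(f)` is étale over `A`. -/
theorem etale_of_isUnit {A : Type u} [CommRing A] (f : A[X]) (hf : f.Monic)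
    (h : IsUnit (AdjoinRoot.mk f (derivative f))) : Algebra.Etale A (AdjoinRoot f) := by
  obtain ⟨u, hu⟩ := h.exists_right_inv
  obtain ⟨p₁, rfl⟩ := AdjoinRoot.mk_surjective u
  rw [← map_mul, ← map_one (AdjoinRoot.mk f), AdjoinRoot.mk_eq_mk] at hu
  obtain ⟨q, hq⟩ := hu
  let P : StandardEtalePair A :=
    ⟨f, hf, 1, ⟨p₁, -q, 0, by rw [pow_zero]; linear_combination hq⟩⟩
  have H : Submonoid.powers (AdjoinRoot.mk P.f P.g) ≤ IsUnit.submonoid (AdjoinRoot P.f) := by
    rintro x ⟨k, rfl⟩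
    have h1 : AdjoinRoot.mk P.f P.g = 1 := map_one _
    show IsUnit ((AdjoinRoot.mk P.f P.g) ^ k)
    rw [h1, one_pow]; exact isUnit_one
  let e₁ := P.equivAwayAdjoinRoot
  let e₂ : AdjoinRoot P.f ≃ₐ[A] Localization.Away (AdjoinRoot.mk P.f P.g) :=
    (IsLocalization.atUnits (AdjoinRoot P.f) (Submonoid.powers (AdjoinRoot.mk P.f P.g))
      H).restrictScalars A
  exact Algebra.Etale.of_equiv (e₁.trans e₂.symm)

/-- For monic `f`, `A[X]/(f)` is étale over `A` iff `f'` is a unit in `A[X]/(f)`. -/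
theorem etale_iff_isUnit {A : Type u} [CommRing A] (f : A[X]) (hf : f.Monic) :
    Algebra.Etale A (AdjoinRoot f) ↔ IsUnit (AdjoinRoot.mk f (derivative f)) :=
  ⟨fun _ => isUnit_mk_derivative f, etale_of_isUnit f hf⟩

/-- For monic `f` of positive degree, an element of `A` is a unit iff it is a unit in `A[X]/(f)`. -/
theorem isUnit_of_isUnit_algebraMap {A : Type u} [CommRing A] (f : A[X]) (hf : f.Monic)
    (hd : f.natDegree ≠ 0) (x : A) (hx : IsUnit (algebraMap A (AdjoinRoot f) x)) : IsUnit x := by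
  have h1 := hx.map (Algebra.norm A)
  rw [Algebra.norm_algebraMap_of_basis (AdjoinRoot.powerBasis' hf).basis x, Fintype.card_fin] at h1
  exact (isUnit_pow_iff (by simpa using hd)).mp h1

end Groth.Agent.Helper21.ARE
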