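import Mathlib
import Groth.Prelude.Def_AlgSpSub
import Groth.Agent.Lib.Helper21.SchDensePre
import Groth.Agent.Lib.Helper17.AE2

/-!
# Schematic density of an open subspace can be tested on any étale chart
-/

set_option autoImplicit false
set_option linter.style.haveILetI false
set_option linter.unusedSectionVars false

open CategoryTheory AlgebraicGeometry Limits Opposite TopologicalSpace

universe u

namespace Groth.Agent.Helper21.AlgSpDense

open AlgSp

variable {S : Scheme.{u}}

/-- descent of schematic density along flat surjective morphisms -/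
theorem descent {X' X : Scheme.{u}} (f : X' ⟶ X) [Flat f] [Surjective f] (U : X.Opens)
    (h : CInt.IsSchematicallyDense (f ⁻¹ᵁ U)) : CInt.IsSchematicallyDense U := by
  intro W₀
  rw [injective_iff_map_eq_zero]
  intro t ht
  apply Groth.Agent.Helper17.AE2.app_injective_of_flat_surjective f W₀
  rw [map_zero]
  apply h (f ⁻¹ᵁ W₀)
  rw [map_zero]
  have hnat := f.naturality (homOfLE (inf_le_left : W₀ ⊓ U ≤ W₀)).op
  have h1 := congrArg (fun φ => φ.hom t) hnat
  simp only [CommRingCat.hom_comp, RingHom.comp_apply] at h1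
  rw [ht, map_zero] at h1
  exact h1.symm

/-- a `T`-point of the chart `V` factors through the open `W` iff its image in `F` lifts to `G` -/
theorem factors_iff {F G : Sp S} (j : G ⟶ F) (V : Over S) (φ : (yon S).obj V ⟶ F)
    (W : V.left.Opens) (fst : (yon S).obj (Over.mk (W.ι ≫ V.hom)) ⟶ G)
    (sq : IsPullback fst ((yon S).map (Over.homMk W.ι rfl : Over.mk (W.ι ≫ V.hom) ⟶ V)) j φ)
    (T : Over S) (t : T ⟶ V) :
    (∃ b : (yon S).obj T ⟶ G, b ≫ j = (yon S).map t ≫ φ) ↔
      Set.range t.left.base ⊆ (W : Set V.left) := by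
  constructor
  · rintro ⟨b, hb⟩
    have hl : sq.lift b ((yon S).map t) hb ≫ (yon S).map (Over.homMk W.ι rfl) = (yon S).map t :=
      sq.lift_snd _ _ _
    obtain ⟨t', ht'⟩ := (yon S).map_surjective (sq.lift b ((yon S).map t) hb)
    rw [← ht', ← Functor.map_comp] at hl
    have h2 := (yon S).map_injective hl
    rw [← h2]
    rintro _ ⟨x, rfl⟩
    have : (t' ≫ (Over.homMk W.ι rfl : Over.mk (W.ι ≫ V.hom) ⟶ V)).left = t'.left ≫ W.ι := rfl
    rw [this, Scheme.Hom.comp_base, TopCat.comp_app]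
    exact (t'.left.base x).2
  · intro h
    have hr : Set.range t.left ⊆ Set.range W.ι := by
      rw [Scheme.Opens.range_ι]; exact h
    let t'l : T.left ⟶ (W : Scheme.{u}) := IsOpenImmersion.lift W.ι t.left hr
    have ht'l : t'l ≫ W.ι = t.left := IsOpenImmersion.lift_fac _ _ _
    let t' : T ⟶ Over.mk (W.ι ≫ V.hom) := Over.homMk t'l (by
      show t'l ≫ W.ι ≫ V.hom = T.hom
      rw [← Category.assoc, ht'l, Over.w])
    have ht' : t' ≫ (Over.homMk W.ι rfl : Over.mk (W.ι ≫ V.hom) ⟶ V) = t := by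
      ext1
      exact ht'l
    refine ⟨(yon S).map t' ≫ fst, ?_⟩
    rw [Category.assoc, sq.w, ← Category.assoc, ← Functor.map_comp, ht']

theorem main {F G : Sp S} (j : G ⟶ F) (hj : AlgSp.IsSchDense j) (V : Over S)
    (φ : (yon S).obj V ⟶ F) (hφ : RepWith @Etale φ) (W : V.left.Opens)
    (fst : (yon S).obj (Over.mk (W.ι ≫ V.hom)) ⟶ G)
    (sq : IsPullback fst ((yon S).map (Over.homMk W.ι rfl : Over.mk (W.ι ≫ V.hom) ⟶ V)) j φ) :
    CInt.IsSchematicallyDense W := by
  obtain ⟨-, V₁, φ₁, W₁, fst₁, hφ₁e, hφ₁s, sq₁, hW₁⟩ := hj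
  let P : Over S := hφ₁e.rep.pullback φ
  let a : P ⟶ V₁ := hφ₁e.rep.fst' φ
  let b : P ⟶ V := hφ₁e.rep.snd φ
  have hsq : IsPullback ((yon S).map a) ((yon S).map b) φ₁ φ := hφ₁e.rep.isPullback' φ
  have hbe : Etale b.left := hφ₁e.property φ _ _ hsq
  have hbs : Surjective b.left := hφ₁s.property φ _ _ hsq
  have hae : Etale a.left := hφ.property φ₁ _ _ hsq.flip
  -- the two preimages agree
  have key : ∀ (T : Over S) (t : T ⟶ P),
      Set.range (t ≫ a).left.base ⊆ (W₁ : Set V₁.left) ↔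
        Set.range (t ≫ b).left.base ⊆ (W : Set V.left) := by
    intro T t
    rw [← factors_iff j V₁ φ₁ W₁ fst₁ sq₁ T (t ≫ a), ← factors_iff j V φ W fst sq T (t ≫ b)]
    have : (yon S).map (t ≫ a) ≫ φ₁ = (yon S).map (t ≫ b) ≫ φ := by
      rw [Functor.map_comp, Functor.map_comp, Category.assoc, Category.assoc, hsq.w]
    rw [this]
  have hO : a.left ⁻¹ᵁ W₁ = b.left ⁻¹ᵁ W := by
    apply le_antisymm
    · intro x hx
      let O : P.left.Opens := a.left ⁻¹ᵁ W₁
      let T : Over S := Over.mk (O.ι ≫ P.hom)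
      let t : T ⟶ P := Over.homMk O.ι rfl
      have h1 : Set.range (t ≫ a).left.base ⊆ (W₁ : Set V₁.left) := by
        rintro _ ⟨y, rfl⟩
        exact y.2
      have h2 := (key T t).mp h1
      exact h2 ⟨⟨x, hx⟩, rfl⟩
    · intro x hx
      let O : P.left.Opens := b.left ⁻¹ᵁ W
      let T : Over S := Over.mk (O.ι ≫ P.hom)
      let t : T ⟶ P := Over.homMk O.ι rfl
      have h1 : Set.range (t ≫ b).left.base ⊆ (W : Set V.left) := by
        rintro _ ⟨y, rfl⟩
        exact y.2
      have h2 := (key T t).mpr h1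
      exact h2 ⟨⟨x, hx⟩, rfl⟩
  have hd : CInt.IsSchematicallyDense (a.left ⁻¹ᵁ W₁) := SchDensePre.main a.left W₁ hW₁
  rw [hO] at hd
  exact descent b.left W hd

end Groth.Agent.Helper21.AlgSpDense
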