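import Mathlib
import Groth.Prelude
import Groth.Agent.Lib.Helper21.AlgSpDense
import Groth.Agent.Lib.Helper15.IdealEt5
import Groth.Agent.Lib.Helper15.AlgSpCD6

/-!
# Schematic density of an open subspace and injectivity of `O_X ⟶ j_* O_U`
-/

set_option autoImplicit false
set_option backward.isDefEq.respectTransparency false
set_option linter.style.haveILetI false
set_option linter.unusedSectionVars false
universe u
open CategoryTheory CategoryTheory.Limits AlgebraicGeometry MorphismProperty Opposite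
open AlgSp

namespace Groth.Agent.Helper21.AlgSpMono

section Sch

theorem injective_appTop_of_isSchematicallyDense {A B : Scheme.{u}} (g : A ⟶ B) [IsOpenImmersion g]
    (h : CInt.IsSchematicallyDense g.opensRange) : Function.Injective g.appTop.hom := by
  rw [injective_iff_map_eq_zero]
  intro s hs
  apply h ⊤
  rw [map_zero]
  have hle : (⊤ ⊓ g.opensRange : B.Opens) ≤ g ''ᵁ ⊤ := by
    rw [Scheme.Hom.image_top_eq_opensRange]; exact inf_le_right
  have h1 : (B.presheaf.map (homOfLE (inf_le_left : (⊤ ⊓ g.opensRange : B.Opens) ≤ ⊤)).op).hom s =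
      (B.presheaf.map (homOfLE hle).op).hom ((B.presheaf.map (homOfLE (le_top : g ''ᵁ ⊤ ≤ ⊤)).op).hom s) := by
    rw [← CommRingCat.comp_apply, ← Functor.map_comp]
    rfl
  rw [h1]
  have h2 : (B.presheaf.map (homOfLE (le_top : g ''ᵁ ⊤ ≤ ⊤)).op).hom s = 0 := by
    have hinj : Function.Injective (g.appIso ⊤).hom.hom :=
      (ConcreteCategory.bijective_of_isIso (g.appIso ⊤).hom).1
    apply hinj
    rw [map_zero, Scheme.Hom.appIso_hom', ← CommRingCat.comp_apply, Scheme.Hom.map_appLE]
    have e : g.appLE ⊤ ⊤ (by simp) = g.appTop := Scheme.Hom.appLE_eq_app g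
    exact (congrArg (fun φ => φ.hom s) e).trans hs
  rw [h2, map_zero]

theorem isSchematicallyDense_of_forall {B : Scheme.{u}} (W : B.Opens)
    (h : ∀ V' : B.Opens, ∃ (A' : Scheme.{u}) (k : A' ⟶ V'.toScheme),
      Set.range k ⊆ V'.ι ⁻¹' (W : Set B) ∧ Function.Injective k.appTop.hom) :
    CInt.IsSchematicallyDense W := by
  intro V'
  obtain ⟨A', k, hk, hinj⟩ := h V'
  rw [injective_iff_map_eq_zero]
  intro s hs
  have hr : ∀ a : A', (k ≫ V'.ι) a ∈ (V' ⊓ W : B.Opens) := by
    intro a
    refine ⟨?_, ?_⟩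
    · rw [Scheme.Hom.comp_apply]; exact (k a).2
    · rw [Scheme.Hom.comp_apply]; exact hk ⟨a, rfl⟩
  have hle1 : (⊤ : A'.Opens) ≤ (k ≫ V'.ι) ⁻¹ᵁ (V' ⊓ W) := fun a _ => hr a
  have hle2 : (⊤ : A'.Opens) ≤ (k ≫ V'.ι) ⁻¹ᵁ V' := fun a _ => (hr a).1
  have h1 : ((k ≫ V'.ι).appLE V' ⊤ hle2).hom s = 0 := by
    have := Scheme.Hom.map_appLE (k ≫ V'.ι) hle1 (homOfLE (inf_le_left : V' ⊓ W ≤ V')).op
    rw [← this, CommRingCat.comp_apply, hs, map_zero]
  rw [Scheme.Hom.comp_appLE] at h1
  have hle3 : (⊤ : A'.Opens) ≤ k ⁻¹ᵁ (V'.ι ⁻¹ᵁ V') := by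
    rw [Scheme.Opens.ι_preimage_self]; exact le_top
  have h2 : k.appLE (V'.ι ⁻¹ᵁ V') ⊤ hle3 =
      V'.toScheme.presheaf.map (eqToHom (Scheme.Opens.ι_preimage_self V').symm).op ≫ k.appTop := by
    have e : k.appLE ⊤ ⊤ (by simp) = k.appTop := Scheme.Hom.appLE_eq_app k
    rw [← e, Scheme.Hom.map_appLE]
  rw [h2, CommRingCat.comp_apply, CommRingCat.comp_apply] at h1
  have h3 := hinj (h1.trans (map_zero _).symm)
  have hiso1 : Function.Injective
      (V'.toScheme.presheaf.map (eqToHom (Scheme.Opens.ι_preimage_self V').symm).op).hom :=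
    (ConcreteCategory.bijective_of_isIso _).1
  have h4 := hiso1 (h3.trans (map_zero _).symm)
  have : IsIso (V'.ι.app V') := Scheme.Hom.isIso_app V'.ι V' (by simp)
  have hiso2 : Function.Injective (V'.ι.app V').hom :=
    (ConcreteCategory.bijective_of_isIso _).1
  exact hiso2 (h4.trans (map_zero _).symm)

end Sch

variable {S : Scheme.{u}} {X Y : Sp S} {f : X ⟶ Y}

theorem mono_bcRingHom_iff (hf : Representable f) :
    Mono (bcRingHom hf) ↔
      ∀ E : EtOver Y, Function.Injective (EtOver.bcπ hf E).left.appTop.hom := by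
  constructor
  · intro h E
    have h1 : Mono ((sheafToPresheaf _ _).map (bcRingHom hf)) := inferInstance
    have h2 : Mono (((sheafToPresheaf _ _).map (bcRingHom hf)).app (op E)) := inferInstance
    have h3 : Function.Injective ((bcRingHom hf).hom.app (op E)).hom :=
      (ConcreteCategory.mono_iff_injective_of_preservesPullback _).1 h2
    intro a b hab
    have := @h3 (ULift.up a) (ULift.up b) (by
      rw [Groth.Agent.Helper15.IdealEt.bcRingHom_app_apply,
        Groth.Agent.Helper15.IdealEt.bcRingHom_app_apply]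
      exact congrArg ULift.up hab)
    exact congrArg ULift.down this
  · intro h
    have : ∀ E : (EtOver Y)ᵒᵖ, Mono ((bcRingHom hf).hom.app E) := by
      intro E
      apply ConcreteCategory.mono_of_injective
      intro a b hab
      have h1 := Groth.Agent.Helper15.IdealEt.bcRingHom_app_apply hf E.unop a
      have h2 := Groth.Agent.Helper15.IdealEt.bcRingHom_app_apply hf E.unop b
      have h3 : (ULift.up ((EtOver.bcπ hf E.unop).left.appTop.hom (ULift.down a)) :
        ULift.{u + 1} Γ((EtOver.bcObj hf E.unop).obj.left.left, ⊤)) =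
        ULift.up ((EtOver.bcπ hf E.unop).left.appTop.hom (ULift.down b)) := by
        rw [← h1, ← h2]; exact hab
      have h4 := h E.unop (congrArg ULift.down h3)
      exact ULift.ext _ _ h4
    have : Mono (bcRingHom hf).hom := NatTrans.mono_of_mono_app _
    exact Sheaf.Hom.mono_of_presheaf_mono _ _ _

/-- replace an open immersion into a chart by the inclusion of its range -/
theorem exists_sq_opensRange {F G : Sp S} (j : G ⟶ F) {V GV : Over S} (φ : (yon S).obj V ⟶ F)
    (jV : GV ⟶ V) [IsOpenImmersion jV.left]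
    (fstV : (yon S).obj GV ⟶ G) (sq : IsPullback fstV ((yon S).map jV) j φ) :
    ∃ fst : (yon S).obj (Over.mk (jV.left.opensRange.ι ≫ V.hom)) ⟶ G,
      IsPullback fst ((yon S).map (Over.homMk jV.left.opensRange.ι rfl :
        Over.mk (jV.left.opensRange.ι ≫ V.hom) ⟶ V)) j φ := by
  let W := jV.left.opensRange
  let WO : Over S := Over.mk (W.ι ≫ V.hom)
  let ιW : WO ⟶ V := Over.homMk W.ι rfl
  let e : WO ⟶ GV := Over.homMk jV.left.isoOpensRange.inv (by
    change jV.left.isoOpensRange.inv ≫ GV.hom = W.ι ≫ V.hom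
    rw [← Over.w jV, ← Category.assoc, Scheme.Hom.isoOpensRange_inv_comp])
  have he : e ≫ jV = ιW := by
    ext1
    exact jV.left.isoOpensRange_inv_comp
  haveI : IsIso ((Over.forget S).map e) := (inferInstance : IsIso jV.left.isoOpensRange.inv)
  haveI : IsIso e := isIso_of_reflects_iso e (Over.forget S)
  have sq1 : IsPullback ((yon S).map e) ((yon S).map ιW) ((yon S).map jV) (𝟙 _) :=
    IsPullback.of_horiz_isIso ⟨by rw [Category.comp_id, ← Functor.map_comp, he]⟩
  have sq2 := sq1.paste_horiz sq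
  rw [Category.id_comp] at sq2
  exact ⟨(yon S).map e ≫ fstV, sq2⟩

theorem injective_of_isSchDense (hf : RepWith @IsOpenImmersion f) (h : IsSchDense f)
    (E : EtOver Y) : Function.Injective (EtOver.bcπ hf.1 E).left.appTop.hom := by
  haveI : IsOpenImmersion (EtOver.bcπ hf.1 E).left := hf.property_snd E.obj.hom
  apply injective_appTop_of_isSchematicallyDense
  obtain ⟨fst, sq⟩ := exists_sq_opensRange f E.obj.hom (EtOver.bcπ hf.1 E)
    (EtOver.bcObj hf.1 E).obj.hom (EtOver.isPullback_bcObj hf.1 E)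
  exact Groth.Agent.Helper21.AlgSpDense.main f h E.obj.left E.obj.hom E.property _ fst sq

theorem isSchDense_of_injective (hY : IsAlgSpace Y) (hf : RepWith @IsOpenImmersion f)
    (h : ∀ E : EtOver Y, Function.Injective (EtOver.bcπ hf.1 E).left.appTop.hom) :
    IsSchDense f := by
  obtain ⟨V, φ, hφe, hφs⟩ := hY.atlas
  let E₀ : EtOver Y := EtOver.mk φ hφe
  haveI : IsOpenImmersion (EtOver.bcπ hf.1 E₀).left := hf.property_snd φ
  refine Groth.Agent.Helper15.isSchDense_of_chart f hf φ hφe hφs (EtOver.bcπ hf.1 E₀)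
    (EtOver.bcObj hf.1 E₀).obj.hom (EtOver.isPullback_bcObj hf.1 E₀) ?_
  apply isSchematicallyDense_of_forall
  intro V'
  let jV' : Over.mk (V'.ι ≫ V.hom) ⟶ V := Over.homMk V'.ι rfl
  have hE' : RepWith @Etale ((yon S).map jV' ≫ φ) :=
    (RepWith @Etale).comp_mem _ _
      ((repWith_yon_map_iff _ jV').2 (show Etale V'.ι from inferInstance)) hφe
  let E' : EtOver Y := EtOver.mk _ hE'
  let g : E' ⟶ E₀ := EtOver.homMk jV' rfl
  refine ⟨(EtOver.bcObj hf.1 E').obj.left.left, (EtOver.bcπ hf.1 E').left, ?_, h E'⟩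
  rintro _ ⟨a, rfl⟩
  have hpb := EtOver.isPullback_bcMap_left hf.1 g
  refine ⟨(EtOver.bcMap hf.1 g).hom.left.left a, ?_⟩
  have := congrArg (fun k => k a) hpb.w
  simp only [Scheme.Hom.comp_apply] at this
  exact this

theorem main (hY : IsAlgSpace Y) (hf : RepWith @IsOpenImmersion f) :
    IsSchDense f ↔ Mono (bcRingHom hf.1) := by
  rw [mono_bcRingHom_iff]
  exact ⟨injective_of_isSchDense hf, isSchDense_of_injective hY hf⟩

end Groth.Agent.Helper21.AlgSpMono
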