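import Mathlib
import Groth.Prelude
import Groth.Agent.Lib.Helper21.AlgSpMono

/-!
# The intersection of two scheme theoretically dense open subspaces is scheme theoretically dense
-/

set_option autoImplicit false
set_option backward.isDefEq.respectTransparency false
set_option linter.style.haveILetI false
set_option linter.unusedSectionVars false
universe u
open CategoryTheory CategoryTheory.Limits AlgebraicGeometry MorphismProperty Opposite
open AlgSp

namespace Groth.Agent.Helper21.AlgSpInter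

open Groth.Agent.Helper21.AlgSpDense Groth.Agent.Helper21.AlgSpMono

theorem isSchematicallyDense_inf {B : Scheme.{u}} (W₁ W₂ : B.Opens)
    (h₁ : CInt.IsSchematicallyDense W₁) (h₂ : CInt.IsSchematicallyDense W₂) :
    CInt.IsSchematicallyDense (W₁ ⊓ W₂) := by
  intro V
  have hle : (V ⊓ W₁) ⊓ W₂ ≤ V ⊓ (W₁ ⊓ W₂) := by
    rw [inf_assoc]
  have e : B.presheaf.map (homOfLE (inf_le_left : V ⊓ W₁ ≤ V)).op ≫
      B.presheaf.map (homOfLE (inf_le_left : (V ⊓ W₁) ⊓ W₂ ≤ V ⊓ W₁)).op =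
      B.presheaf.map (homOfLE (inf_le_left : V ⊓ (W₁ ⊓ W₂) ≤ V)).op ≫
        B.presheaf.map (homOfLE hle).op := by
    rw [← Functor.map_comp, ← Functor.map_comp]
    rfl
  have hinj : Function.Injective (B.presheaf.map (homOfLE (inf_le_left : V ⊓ W₁ ≤ V)).op ≫
      B.presheaf.map (homOfLE (inf_le_left : (V ⊓ W₁) ⊓ W₂ ≤ V ⊓ W₁)).op).hom := by
    rw [CommRingCat.hom_comp, RingHom.coe_comp]
    exact (h₂ (V ⊓ W₁)).comp (h₁ V)
  rw [e, CommRingCat.hom_comp, RingHom.coe_comp] at hinj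
  exact hinj.of_comp

variable {S : Scheme.{u}}

theorem opens_eq_inf {U V X P : Sp S} (jU : U ⟶ X) (jV : V ⟶ X) (fst : P ⟶ U) (snd : P ⟶ V)
    (sq : IsPullback fst snd jU jV) (E : Over S) (φ : (yon S).obj E ⟶ X)
    (Wf WU WV : E.left.Opens)
    (fstf : (yon S).obj (Over.mk (Wf.ι ≫ E.hom)) ⟶ P)
    (sqf : IsPullback fstf ((yon S).map (Over.homMk Wf.ι rfl : Over.mk (Wf.ι ≫ E.hom) ⟶ E))
      (fst ≫ jU) φ)
    (fstU : (yon S).obj (Over.mk (WU.ι ≫ E.hom)) ⟶ U)
    (sqU : IsPullback fstU ((yon S).map (Over.homMk WU.ι rfl : Over.mk (WU.ι ≫ E.hom) ⟶ E)) jU φ)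
    (fstV : (yon S).obj (Over.mk (WV.ι ≫ E.hom)) ⟶ V)
    (sqV : IsPullback fstV ((yon S).map (Over.homMk WV.ι rfl : Over.mk (WV.ι ≫ E.hom) ⟶ E)) jV φ) :
    Wf = WU ⊓ WV := by
  apply le_antisymm
  · let T : Over S := Over.mk (Wf.ι ≫ E.hom)
    let t : T ⟶ E := Over.homMk Wf.ι rfl
    have h1 : Set.range t.left.base ⊆ (WU : Set E.left) :=
      (factors_iff jU E φ WU fstU sqU T t).1
        ⟨fstf ≫ fst, by rw [Category.assoc]; exact sqf.w⟩
    have h2 : Set.range t.left.base ⊆ (WV : Set E.left) :=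
      (factors_iff jV E φ WV fstV sqV T t).1
        ⟨fstf ≫ snd, by rw [Category.assoc, ← sq.w]; exact sqf.w⟩
    intro x hx
    have hx' : x ∈ Set.range t.left.base := by
      change x ∈ Set.range Wf.ι
      rw [Scheme.Opens.range_ι]; exact hx
    exact ⟨h1 hx', h2 hx'⟩
  · let T : Over S := Over.mk ((WU ⊓ WV).ι ≫ E.hom)
    let t : T ⟶ E := Over.homMk (WU ⊓ WV).ι rfl
    have hr : Set.range t.left.base = ((WU ⊓ WV : E.left.Opens) : Set E.left) := by
      change Set.range (WU ⊓ WV).ι = _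
      rw [Scheme.Opens.range_ι]
    obtain ⟨bU, hbU⟩ := (factors_iff jU E φ WU fstU sqU T t).2
      (by rw [hr]; exact fun x hx => hx.1)
    obtain ⟨bV, hbV⟩ := (factors_iff jV E φ WV fstV sqV T t).2
      (by rw [hr]; exact fun x hx => hx.2)
    have h3 := (factors_iff (fst ≫ jU) E φ Wf fstf sqf T t).1
      ⟨sq.lift bU bV (hbU.trans hbV.symm), by rw [← Category.assoc, sq.lift_fst]; exact hbU⟩
    rw [hr] at h3
    exact h3

theorem main {U V X P : Sp S} (hX : IsAlgSpace X) (jU : U ⟶ X) (jV : V ⟶ X)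
    (hU : IsSchDense jU) (hV : IsSchDense jV) (fst : P ⟶ U) (snd : P ⟶ V)
    (sq : IsPullback fst snd jU jV) : IsSchDense (fst ≫ jU) := by
  have hfst : RepWith @IsOpenImmersion fst :=
    MorphismProperty.of_isPullback sq.flip hV.1
  have hf : RepWith @IsOpenImmersion (fst ≫ jU) :=
    (RepWith @IsOpenImmersion).comp_mem _ _ hfst hU.1
  refine isSchDense_of_injective hX hf (fun E => ?_)
  haveI : IsOpenImmersion (EtOver.bcπ hf.1 E).left := hf.property_snd E.obj.hom
  haveI : IsOpenImmersion (EtOver.bcπ hU.1.1 E).left := hU.1.property_snd E.obj.hom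
  haveI : IsOpenImmersion (EtOver.bcπ hV.1.1 E).left := hV.1.property_snd E.obj.hom
  apply injective_appTop_of_isSchematicallyDense
  obtain ⟨fstf, sqf⟩ := exists_sq_opensRange (fst ≫ jU) E.obj.hom (EtOver.bcπ hf.1 E)
    (EtOver.bcObj hf.1 E).obj.hom (EtOver.isPullback_bcObj hf.1 E)
  obtain ⟨fstU, sqU⟩ := exists_sq_opensRange jU E.obj.hom (EtOver.bcπ hU.1.1 E)
    (EtOver.bcObj hU.1.1 E).obj.hom (EtOver.isPullback_bcObj hU.1.1 E)
  obtain ⟨fstV, sqV⟩ := exists_sq_opensRange jV E.obj.hom (EtOver.bcπ hV.1.1 E)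
    (EtOver.bcObj hV.1.1 E).obj.hom (EtOver.isPullback_bcObj hV.1.1 E)
  have dU := AlgSpDense.main jU hU E.obj.left E.obj.hom E.property _ fstU sqU
  have dV := AlgSpDense.main jV hV E.obj.left E.obj.hom E.property _ fstV sqV
  rw [opens_eq_inf jU jV fst snd sq E.obj.left E.obj.hom _ _ _ fstf sqf fstU sqU fstV sqV]
  exact isSchematicallyDense_inf _ _ dU dV

end Groth.Agent.Helper21.AlgSpInter
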