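import Mathlib
import Groth.Agent.Lib.Helper11.UHRing

/-!
Residue degree bounds for finite morphisms (helper21).
-/

universe u

open AlgebraicGeometry CategoryTheory

namespace Groth.Agent.Helper21.ResDeg

/-- Ring-level: a finite extension `A → B` generated by `s`, mapping compatibly to a field
extension `K → L` such that every element of `L` is a fraction of images of `B`:
`L` is spanned over `K` by the images of `s`. -/
theorem span_eq_top {K L A B : Type*} [Field K] [Field L] [Algebra K L] [CommRing A]
    [CommRing B] [Algebra A B]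
    (φ : A →+* K) (φ' : B →+* L) (hc : ∀ a, φ' (algebraMap A B a) = algebraMap K L (φ a))
    (s : Finset B) (hs : Submodule.span A (s : Set B) = ⊤)
    (hfrac : ∀ z : L, ∃ a b : B, φ' b ≠ 0 ∧ z * φ' b = φ' a) :
    Submodule.span K (φ' '' (s : Set B)) = ⊤ := by
  set W := Submodule.span K (φ' '' (s : Set B)) with hW
  have h1 : ∀ b : B, φ' b ∈ W := by
    intro b
    have hb : b ∈ Submodule.span A (s : Set B) := hs ▸ Submodule.mem_top
    induction hb using Submodule.span_induction with
    | mem x hx => exact Submodule.subset_span ⟨x, hx, rfl⟩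
    | zero => simp
    | add x y _ _ hx hy => rw [map_add]; exact W.add_mem hx hy
    | smul a x _ hx =>
      rw [Algebra.smul_def, map_mul, hc, ← Algebra.smul_def]
      exact W.smul_mem _ hx
  have h2 : ∀ x ∈ W, ∀ y ∈ W, x * y ∈ W := by
    intro x hx y hy
    induction hx using Submodule.span_induction with
    | mem x hx =>
      obtain ⟨b, hb, rfl⟩ := hx
      induction hy using Submodule.span_induction with
      | mem y hy => obtain ⟨c, hc', rfl⟩ := hy; rw [← map_mul]; exact h1 _
      | zero => simp
      | add y z _ _ hy hz => rw [mul_add]; exact W.add_mem hy hz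
      | smul k y _ hy => rw [mul_smul_comm]; exact W.smul_mem _ hy
    | zero => simp
    | add x z _ _ hx hz => rw [add_mul]; exact W.add_mem hx hz
    | smul k x _ hx => rw [smul_mul_assoc]; exact W.smul_mem _ hx
  have h3 : ∀ w ∈ W, w ≠ 0 → w⁻¹ ∈ W := by
    intro w hw hw0
    haveI : FiniteDimensional K W :=
      FiniteDimensional.span_of_finite K (s.finite_toSet.image φ')
    let f : W →ₗ[K] W :=
      (LinearMap.mulLeft K w).restrict (p := W) (q := W) (fun x hx => h2 w hw x hx)
    have hinj : Function.Injective f := by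
      intro x y hxy
      have h := congrArg Subtype.val hxy
      have h' : w * (x : L) = w * (y : L) := h
      exact Subtype.ext (mul_left_cancel₀ hw0 h')
    have hsurj := LinearMap.injective_iff_surjective.mp hinj
    obtain ⟨v, hv⟩ := hsurj ⟨1, by simpa using h1 1⟩
    have h : w * (v : L) = 1 := congrArg Subtype.val hv
    have : (v : L) = w⁻¹ := eq_inv_of_mul_eq_one_right h
    rw [← this]
    exact v.2
  rw [Submodule.eq_top_iff']
  intro z
  obtain ⟨a, b, hb, hz⟩ := hfrac z
  have : z = φ' a * (φ' b)⁻¹ := by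
    rw [← hz, mul_assoc, mul_inv_cancel₀ hb, mul_one]
  rw [this]
  exact h2 _ (h1 a) _ (h3 _ (h1 b) hb)

theorem finrank_le {K L A B : Type*} [Field K] [Field L] [Algebra K L] [CommRing A]
    [CommRing B] [Algebra A B]
    (φ : A →+* K) (φ' : B →+* L) (hc : ∀ a, φ' (algebraMap A B a) = algebraMap K L (φ a))
    (s : Finset B) (hs : Submodule.span A (s : Set B) = ⊤)
    (hfrac : ∀ z : L, ∃ a b : B, φ' b ≠ 0 ∧ z * φ' b = φ' a) :
    Module.Finite K L ∧ Module.finrank K L ≤ s.card := by
  classical
  have h := span_eq_top φ φ' hc s hs hfrac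
  have h' : Submodule.span K ((s.image φ' : Finset L) : Set L) = ⊤ := by
    rw [Finset.coe_image]; exact h
  refine ⟨⟨⟨s.image φ', h'⟩⟩, ?_⟩
  calc Module.finrank K L = Module.finrank K (⊤ : Submodule K L) := (finrank_top K L).symm
    _ = Module.finrank K (Submodule.span K ((s.image φ' : Finset L) : Set L)) := by rw [h']
    _ ≤ (s.image φ').card := finrank_span_finset_le_card _
    _ ≤ s.card := Finset.card_image_le

/-- Every element of the residue field at a point of an affine open is a fraction of
evaluations of sections. -/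
theorem frac_repr {X : Scheme.{u}} {V : X.Opens} (hV : IsAffineOpen V) (x : X) (hx : x ∈ V)
    (z : X.residueField x) :
    ∃ a b : Γ(X, V), (X.evaluation V x hx).hom b ≠ 0 ∧
      z * (X.evaluation V x hx).hom b = (X.evaluation V x hx).hom a := by
  obtain ⟨y, rfl⟩ := X.residue_surjective x z
  letI : Algebra Γ(X, V) (X.presheaf.stalk x) :=
    TopCat.Presheaf.algebra_section_stalk X.presheaf (U := V) ⟨x, hx⟩
  haveI : IsLocalization.AtPrime (X.presheaf.stalk x) (hV.primeIdealOf ⟨x, hx⟩).asIdeal :=
    hV.isLocalization_stalk ⟨x, hx⟩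
  obtain ⟨⟨a, s⟩, h⟩ := IsLocalization.surj (hV.primeIdealOf ⟨x, hx⟩).asIdeal.primeCompl y
  refine ⟨a, s.1, ?_, ?_⟩
  · have hu : IsUnit (algebraMap Γ(X, V) (X.presheaf.stalk x) s.1) :=
      IsLocalization.map_units _ s
    have h2 : IsUnit ((X.residue x).hom (algebraMap Γ(X, V) (X.presheaf.stalk x) s.1)) :=
      hu.map (X.residue x).hom
    exact h2.ne_zero
  · have h2 := congrArg (X.residue x).hom h
    rw [map_mul] at h2
    exact h2

/-- Uniform bound of residue degrees over an affine open. -/
theorem bound_on_affine {T' T : Scheme.{u}} (p : T' ⟶ T) [IsFinite p] (U : T.Opens)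
    (hU : IsAffineOpen U) :
    ∃ n : ℕ, ∀ t' : T', p t' ∈ U →
      @Module.Finite (T.residueField (p t')) (T'.residueField t') _ _
          (p.residueFieldMap t').hom.toAlgebra.toModule ∧
      @Module.finrank (T.residueField (p t')) (T'.residueField t') _ _
          (p.residueFieldMap t').hom.toAlgebra.toModule ≤ n := by
  have hfin := IsFinite.finite_app p U hU
  letI alg := (p.app U).hom.toAlgebra
  have hfin' : Module.Finite Γ(T, U) Γ(T', p ⁻¹ᵁ U) := hfin
  obtain ⟨s, hs⟩ := hfin'.fg_top
  refine ⟨s.card, fun t' ht' => ?_⟩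
  letI := (p.residueFieldMap t').hom.toAlgebra
  have hV : IsAffineOpen (p ⁻¹ᵁ U) := hU.preimage p
  exact finrank_le (T.evaluation U (p t') ht').hom (T'.evaluation (p ⁻¹ᵁ U) t' ht').hom
    (fun a => (Scheme.evaluation_naturality_apply p t' ht' a).symm) s hs
    (frac_repr hV t' ht')

/-- Uniform bound of residue degrees of a finite morphism to a quasi-compact scheme. -/
theorem bound {T' T : Scheme.{u}} (p : T' ⟶ T) [IsFinite p] [CompactSpace T] :
    ∃ n : ℕ, ∀ t' : T',
      @Module.Finite (T.residueField (p t')) (T'.residueField t') _ _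
          (p.residueFieldMap t').hom.toAlgebra.toModule ∧
      @Module.finrank (T.residueField (p t')) (T'.residueField t') _ _
          (p.residueFieldMap t').hom.toAlgebra.toModule ≤ n := by
  classical
  have key : ∀ t : T, ∃ U : T.Opens, t ∈ U ∧ ∃ n : ℕ, ∀ t' : T', p t' ∈ U →
      @Module.Finite (T.residueField (p t')) (T'.residueField t') _ _
          (p.residueFieldMap t').hom.toAlgebra.toModule ∧
      @Module.finrank (T.residueField (p t')) (T'.residueField t') _ _
          (p.residueFieldMap t').hom.toAlgebra.toModule ≤ n := by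
    intro t
    obtain ⟨_, ⟨U, hU, rfl⟩, htU, -⟩ :=
      T.isBasis_affineOpens.exists_subset_of_mem_open (Set.mem_univ t) isOpen_univ
    exact ⟨U, htU, bound_on_affine p U hU⟩
  choose U hU n hn using key
  obtain ⟨S, -, hS⟩ := isCompact_univ.elim_nhds_subcover (fun t => (U t : Set T))
    (fun t _ => (U t).2.mem_nhds (hU t))
  refine ⟨S.sup n, fun t' => ?_⟩
  have hmem : p t' ∈ ⋃ x ∈ S, (U x : Set T) := hS (Set.mem_univ _)
  simp only [Set.mem_iUnion] at hmem
  obtain ⟨x, hxS, hx⟩ := hmem
  obtain ⟨h1, h2⟩ := hn x t' hx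
  exact ⟨h1, h2.trans (Finset.le_sup hxS)⟩

end Groth.Agent.Helper21.ResDeg
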