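import Mathlib
import Groth.Prelude.Def_HTop2
import Groth.Agent.Lib.Helper11.UnivHomeo

/-!
Factorization of morphisms out of a universal homeomorphism `ν : T' ⟶ T` through finite
universal homeomorphisms, via scheme-theoretic images and equalizers.
-/

open AlgebraicGeometry CategoryTheory Limits

universe u

namespace Groth.Agent.Helper21.SImg

open Groth.Agent.Helper11.UH

/-- If `h ≫ π` is a universal homeomorphism and `h` is surjective, then `π` is a universal
homeomorphism. -/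
theorem uh_of_comp_surjective {A B C : Scheme.{u}} (h : A ⟶ B) (π : B ⟶ C)
    [Surjective h] (hν : FlatMor.IsUnivHomeo (h ≫ π)) : FlatMor.IsUnivHomeo π := by
  rw [isUnivHomeo_iff] at hν ⊢
  obtain ⟨h1, h2, h3⟩ := hν
  refine ⟨UniversallyClosed.of_comp_surjective h π, ?_, ?_⟩
  · rw [UniversallyInjective.iff_diagonal] at h2 ⊢
    have hm : Surjective (pullback.map (h ≫ π) (h ≫ π) π π h h (𝟙 C)
        ((Category.comp_id _).trans rfl) ((Category.comp_id _).trans rfl)) :=
      MorphismProperty.pullbackMap (P := @Surjective) (f := h ≫ π) (g := h ≫ π) (f' := π) (g' := π)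
        (i₁ := h) (i₂ := h) inferInstance inferInstance rfl rfl
    have e : h ≫ pullback.diagonal π = pullback.diagonal (h ≫ π) ≫
        pullback.map (h ≫ π) (h ≫ π) π π h h (𝟙 C)
          ((Category.comp_id _).trans rfl) ((Category.comp_id _).trans rfl) := by
      apply pullback.hom_ext
      · rw [Category.assoc, pullback.diagonal_fst, Category.assoc, pullback.lift_fst,
          ← Category.assoc, pullback.diagonal_fst, Category.comp_id, Category.id_comp]
      · rw [Category.assoc, pullback.diagonal_snd, Category.assoc, pullback.lift_snd,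
          ← Category.assoc, pullback.diagonal_snd, Category.comp_id, Category.id_comp]
    have : Surjective (h ≫ pullback.diagonal π) := by rw [e]; infer_instance
    exact Surjective.of_comp h _
  · exact Surjective.of_comp h π

/-- If `h ≫ π` induces isomorphisms on residue fields and `h` is surjective, then so does `π`. -/
theorem rfi_of_comp_surjective {A B C : Scheme.{u}} (h : A ⟶ B) (π : B ⟶ C)
    [Surjective h] (hν : HTop.ResidueFieldsIso (h ≫ π)) : HTop.ResidueFieldsIso π := by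
  intro y
  obtain ⟨x, rfl⟩ := h.surjective y
  have h1 : IsIso ((h ≫ π).residueFieldMap x) := hν x
  rw [Scheme.residueFieldMap_comp] at h1
  have hb : Function.Bijective (h.residueFieldMap x).hom := by
    refine ⟨(h.residueFieldMap x).hom.injective, ?_⟩
    have := (ConcreteCategory.isIso_iff_bijective _).mp h1
    intro z
    obtain ⟨w, hw⟩ := this.2 z
    exact ⟨(π.residueFieldMap (h x)).hom w, hw⟩
  have : IsIso (h.residueFieldMap x) := (ConcreteCategory.isIso_iff_bijective _).mpr hb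
  exact @IsIso.of_isIso_comp_right _ _ _ _ _ _ (h.residueFieldMap x) this h1

theorem isHomeomorph_of_uh {X Y : Scheme.{u}} (f : X ⟶ Y) (h : FlatMor.IsUnivHomeo f) :
    IsHomeomorph f :=
  h (𝟙 _) (𝟙 _) f IsPullback.of_id_snd

/-- A universal homeomorphism that is locally of finite type is finite. -/
theorem isFinite_of_uh {X Y : Scheme.{u}} (π : X ⟶ Y) [LocallyOfFiniteType π]
    (hUH : FlatMor.IsUnivHomeo π) : IsFinite π := by
  have hhomeo : IsHomeomorph π := isHomeomorph_of_uh π hUH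
  have : IsAffineHom π := isAffineHom_of_isInducing π hhomeo.isInducing
    (by rw [hhomeo.surjective.range_eq]; exact isClosed_univ)
  have : UniversallyClosed π := ((isUnivHomeo_iff π).mp hUH).1
  have : IsIntegralHom π :=
    (IsIntegralHom.iff_universallyClosed_and_isAffineHom).mpr ⟨inferInstance, inferInstance⟩
  exact (IsFinite.iff_isIntegralHom_and_locallyOfFiniteType π).mpr ⟨inferInstance, inferInstance⟩

/-- Factorization through the scheme-theoretic image. -/
theorem exists_factor {S X T T' : Scheme.{u}} [X.IsSeparated] (fX : X ⟶ S)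
    [LocallyOfFiniteType fX] (fT : T ⟶ S)
    (ν : T' ⟶ T) (hν : FlatMor.IsUnivHomeo ν) (g : T' ⟶ X) (hg : g ≫ fX = ν ≫ fT) :
    ∃ (T₁ : Scheme.{u}) (π : T₁ ⟶ T) (_ : IsFinite π) (_ : FlatMor.IsUnivHomeo π) (g₁ : T₁ ⟶ X)
        (h : T' ⟶ T₁), Surjective h ∧ h ≫ π = ν ∧ g₁ ≫ fX = π ≫ fT ∧ h ≫ g₁ = g := by
  obtain ⟨hν1, hν2, hν3⟩ := (isUnivHomeo_iff ν).mp hν
  let k : T' ⟶ pullback fX fT := pullback.lift g ν hg
  have hk2 : k ≫ pullback.snd fX fT = ν := pullback.lift_snd _ _ _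
  have hk1 : k ≫ pullback.fst fX fT = g := pullback.lift_fst _ _ _
  have : IsSeparated fX := inferInstance
  have : IsSeparated (pullback.snd fX fT) := inferInstance
  have : UniversallyClosed (k ≫ pullback.snd fX fT) := by rw [hk2]; exact hν1
  have : UniversallyClosed k := UniversallyClosed.of_comp_of_isSeparated k (pullback.snd fX fT)
  have : QuasiCompact k := inferInstance
  have hhι : k.toImage ≫ k.imageι = k := k.toImage_imageι
  have : UniversallyClosed k.toImage := inferInstance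
  have : IsDominant k.toImage := inferInstance
  have : Surjective k.toImage :=
    surjective_of_isDominant_of_isClosed_range k.toImage (k.toImage.isClosedMap.isClosed_range)
  have hπ : k.toImage ≫ (k.imageι ≫ pullback.snd fX fT) = ν := by
    rw [← Category.assoc, hhι, hk2]
  have hUH : FlatMor.IsUnivHomeo (k.imageι ≫ pullback.snd fX fT) :=
    uh_of_comp_surjective k.toImage _ (by rw [hπ]; exact hν)
  have : LocallyOfFiniteType (pullback.snd fX fT) := inferInstance
  have : LocallyOfFiniteType k.imageι := inferInstance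
  have : LocallyOfFiniteType (k.imageι ≫ pullback.snd fX fT) := inferInstance
  have hfin : IsFinite (k.imageι ≫ pullback.snd fX fT) := isFinite_of_uh _ hUH
  refine ⟨k.image, k.imageι ≫ pullback.snd fX fT, hfin, hUH, k.imageι ≫ pullback.fst fX fT,
    k.toImage, inferInstance, hπ, ?_, ?_⟩
  · simp only [Category.assoc, pullback.condition]
  · rw [← Category.assoc, hhι, hk1]

/-- Two factorizations are dominated by a third one (equalizer in the fibre product). -/
theorem exists_dominate {X T T' T₁ T₂ : Scheme.{u}} [X.IsSeparated] (ν : T' ⟶ T)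
    (hν : FlatMor.IsUnivHomeo ν)
    (π₁ : T₁ ⟶ T) (π₂ : T₂ ⟶ T) [IsFinite π₁] [IsFinite π₂]
    (u1 : FlatMor.IsUnivHomeo π₁) (u2 : FlatMor.IsUnivHomeo π₂)
    (g₁ : T₁ ⟶ X) (g₂ : T₂ ⟶ X) (h₁ : T' ⟶ T₁) (h₂ : T' ⟶ T₂)
    (e1 : h₁ ≫ π₁ = ν) (e2 : h₂ ≫ π₂ = ν) (e : h₁ ≫ g₁ = h₂ ≫ g₂) :
    ∃ (T₃ : Scheme.{u}) (π₃ : T₃ ⟶ T) (_ : IsFinite π₃) (_ : FlatMor.IsUnivHomeo π₃)
      (a₁ : T₃ ⟶ T₁) (a₂ : T₃ ⟶ T₂) (h₃ : T' ⟶ T₃), Surjective h₃ ∧ h₃ ≫ π₃ = ν ∧
        a₁ ≫ π₁ = π₃ ∧ a₂ ≫ π₂ = π₃ ∧ a₁ ≫ g₁ = a₂ ≫ g₂ := by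
  obtain ⟨hν1, hν2, hν3⟩ := (isUnivHomeo_iff ν).mp hν
  obtain ⟨a1, a2, a3⟩ := (isUnivHomeo_iff π₁).mp u1
  obtain ⟨b1, b2, b3⟩ := (isUnivHomeo_iff π₂).mp u2
  let k : T' ⟶ pullback π₁ π₂ := pullback.lift h₁ h₂ (by rw [e1, e2])
  have hk1 : k ≫ pullback.fst π₁ π₂ = h₁ := pullback.lift_fst _ _ _
  have hk2 : k ≫ pullback.snd π₁ π₂ = h₂ := pullback.lift_snd _ _ _
  have hkc : k ≫ (pullback.fst π₁ π₂ ≫ g₁) = k ≫ (pullback.snd π₁ π₂ ≫ g₂) := by
    rw [← Category.assoc, ← Category.assoc, hk1, hk2, e]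
  let h₃ : T' ⟶ equalizer (pullback.fst π₁ π₂ ≫ g₁) (pullback.snd π₁ π₂ ≫ g₂) :=
    equalizer.lift k hkc
  have hh3 : h₃ ≫ equalizer.ι (pullback.fst π₁ π₂ ≫ g₁) (pullback.snd π₁ π₂ ≫ g₂) = k :=
    equalizer.lift_ι _ _
  have hh : h₃ ≫ (equalizer.ι (pullback.fst π₁ π₂ ≫ g₁) (pullback.snd π₁ π₂ ≫ g₂) ≫
      pullback.fst π₁ π₂ ≫ π₁) = ν := by
    rw [← Category.assoc, hh3, ← Category.assoc, hk1, e1]
  have : IsFinite (pullback.fst π₁ π₂) := inferInstance
  have : IsClosedImmersion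
      (equalizer.ι (pullback.fst π₁ π₂ ≫ g₁) (pullback.snd π₁ π₂ ≫ g₂)) := inferInstance
  have : IsFinite (equalizer.ι (pullback.fst π₁ π₂ ≫ g₁) (pullback.snd π₁ π₂ ≫ g₂)) :=
    inferInstance
  have hfin : IsFinite (equalizer.ι (pullback.fst π₁ π₂ ≫ g₁) (pullback.snd π₁ π₂ ≫ g₂) ≫
      pullback.fst π₁ π₂ ≫ π₁) := inferInstance
  have : UniversallyInjective (pullback.fst π₁ π₂) :=
    MorphismProperty.pullback_fst (P := @UniversallyInjective) _ _ b2
  have hinj : Function.Injective (equalizer.ι (pullback.fst π₁ π₂ ≫ g₁) (pullback.snd π₁ π₂ ≫ g₂) ≫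
      pullback.fst π₁ π₂ ≫ π₁) := by
    intro x y hxy
    simp only [Scheme.Hom.comp_apply] at hxy
    exact (equalizer.ι (pullback.fst π₁ π₂ ≫ g₁)
      (pullback.snd π₁ π₂ ≫ g₂)).isClosedEmbedding.injective
      ((pullback.fst π₁ π₂).injective (π₁.injective hxy))
  have : Surjective h₃ := ⟨fun z => by
    obtain ⟨t, ht⟩ := ν.surjective ((equalizer.ι (pullback.fst π₁ π₂ ≫ g₁)
      (pullback.snd π₁ π₂ ≫ g₂) ≫ pullback.fst π₁ π₂ ≫ π₁) z)
    refine ⟨t, hinj ?_⟩
    rw [← Scheme.Hom.comp_apply, hh, ht]⟩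
  have hUH : FlatMor.IsUnivHomeo (equalizer.ι (pullback.fst π₁ π₂ ≫ g₁)
      (pullback.snd π₁ π₂ ≫ g₂) ≫ pullback.fst π₁ π₂ ≫ π₁) :=
    uh_of_comp_surjective h₃ _ (by rw [hh]; exact hν)
  refine ⟨_, _, hfin, hUH, equalizer.ι _ _ ≫ pullback.fst π₁ π₂,
    equalizer.ι _ _ ≫ pullback.snd π₁ π₂, h₃, inferInstance, hh, ?_, ?_, ?_⟩
  · simp only [Category.assoc]
  · simp only [Category.assoc, pullback.condition]
  · simpa only [Category.assoc] using
      equalizer.condition (pullback.fst π₁ π₂ ≫ g₁) (pullback.snd π₁ π₂ ≫ g₂)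

end Groth.Agent.Helper21.SImg
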