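import Mathlib
import Groth.Agent.S9821
import Groth.Agent.Lib.Helper21.SchImg
import Groth.Agent.Lib.Helper21.ResDeg

/-!
A universally closed, universally injective, birational morphism from an integral scheme to a
normal integral scheme is an isomorphism (helper21).
-/

universe u

open AlgebraicGeometry CategoryTheory CategoryTheory.Limits

namespace Groth.Agent.Helper21.BirIso

/-- Ring-level core. -/
theorem bijective_core {A B K L : Type*} [CommRing A] [IsDomain A] [IsIntegrallyClosed A]
    [CommRing B] [Field K] [Field L] [Algebra A K] [IsFractionRing A K]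
    (φ : A →+* B) (hφ : φ.IsIntegral) (evU : B →+* L) (hevU : Function.Injective evU)
    (ρ : K →+* L) (hρ : Function.Surjective ρ)
    (hc : ∀ a, ρ (algebraMap A K a) = evU (φ a)) : Function.Bijective φ := by
  have hρi : Function.Injective ρ := ρ.injective
  have hevV : Function.Injective (algebraMap A K) := IsFractionRing.injective A K
  constructor
  · intro a a' h
    apply hevV
    apply hρi
    rw [hc, hc, h]
  · intro b
    obtain ⟨y, hy⟩ := hρ (evU b)
    obtain ⟨p, hp, hpb⟩ := hφ b
    have hint : IsIntegral A y := by
      refine ⟨p, hp, ?_⟩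
      apply hρi
      rw [map_zero, Polynomial.hom_eval₂, hy]
      have h1 : ρ.comp (algebraMap A K) = evU.comp φ := RingHom.ext hc
      rw [h1, ← Polynomial.hom_eval₂, hpb, map_zero]
    obtain ⟨a, ha⟩ := IsIntegrallyClosed.algebraMap_eq_of_integral hint
    refine ⟨a, ?_⟩
    apply hevU
    rw [← hc, ha, hy]

/-- Evaluation at the generic point is injective on sections of an integral scheme. -/
theorem evaluation_injective {X : Scheme.{u}} [IsIntegral X] (W : X.Opens) (x : X)
    (hx : x ∈ W) (hgen : closure ({x} : Set X) = Set.univ) :
    Function.Injective (X.evaluation W x hx).hom := by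
  rw [injective_iff_map_eq_zero]
  intro a ha
  have h1 : x ∉ X.basicOpen a := (X.evaluation_eq_zero_iff_notMem_basicOpen x hx a).mp ha
  have h2 : X.basicOpen a = ⊥ := by
    by_contra hne
    have hne' : ((X.basicOpen a : X.Opens) : Set X).Nonempty := by
      rw [Set.nonempty_iff_ne_empty]
      intro he
      apply hne
      ext y
      simp only [TopologicalSpace.Opens.coe_bot]
      exact Set.ext_iff.mp he y
    obtain ⟨y, hy⟩ := hne'
    have hy' : y ∈ closure ({x} : Set X) := by rw [hgen]; trivial
    have := (mem_closure_iff.mp hy') _ (X.basicOpen a).2 hy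
    obtain ⟨z, hz1, hz2⟩ := this
    rw [Set.mem_singleton_iff] at hz2
    subst hz2
    exact h1 hz1
  exact (basicOpen_eq_bot_iff a).mp h2

theorem main {U V : Scheme.{u}} [AlgebraicGeometry.IsIntegral U] [AlgebraicGeometry.IsIntegral V]
    (hN : Pi1.IsNormalScheme V) (h : U ⟶ V) [UniversallyClosed h]
    [UniversallyInjective h] (hgen : h.base (genericPoint U) = genericPoint V)
    (hbir : Function.Bijective (h.residueFieldMap (genericPoint U)).hom) :
    IsIso h := by
  have hgU : closure ({genericPoint U} : Set U) = Set.univ := (genericPoint_spec U).def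
  have hgV : closure ({h.base (genericPoint U)} : Set V) = Set.univ := by
    rw [hgen]; exact (genericPoint_spec V).def
  -- surjective
  haveI : IsDominant h := by
    constructor
    rw [DenseRange, dense_iff_closure_eq, ← Set.univ_subset_iff, ← hgV]
    exact closure_mono (Set.singleton_subset_iff.mpr ⟨_, rfl⟩)
  haveI : Surjective h :=
    surjective_of_isDominant_of_isClosed_range h h.isClosedMap.isClosed_range
  have hUH : FlatMor.IsUnivHomeo h := by
    rw [Groth.Agent.Helper11.UH.isUnivHomeo_iff]
    exact ⟨inferInstance, inferInstance, inferInstance⟩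
  have hhomeo : IsHomeomorph h.base := Groth.Agent.Helper21.SImg.isHomeomorph_of_uh h hUH
  haveI : IsAffineHom h :=
    isAffineHom_of_isInducing h hhomeo.isInducing hhomeo.isClosedEmbedding.isClosed_range
  haveI : IsIntegralHom h := by
    rw [IsIntegralHom.iff_universallyClosed_and_isAffineHom]
    exact ⟨inferInstance, inferInstance⟩
  -- bijectivity on affine opens
  have key : ∀ W : V.Opens, IsAffineOpen W → Function.Bijective (h.app W).hom := by
    intro W hW
    by_cases hne : Nonempty W
    · have hxW : h.base (genericPoint U) ∈ W := by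
        obtain ⟨⟨y, hy⟩⟩ := hne
        have hy' : y ∈ closure ({h.base (genericPoint U)} : Set V) := by rw [hgV]; trivial
        obtain ⟨z, hz1, hz2⟩ := (mem_closure_iff.mp hy') _ W.2 hy
        rw [Set.mem_singleton_iff] at hz2
        rw [← hz2]; exact hz1
      haveI : IsIntegrallyClosed Γ(V, W) := Groth.Agent.S9821.affine_of_normal V hN W hW
      have hevV := evaluation_injective W (h.base (genericPoint U)) hxW hgV
      have hevU := evaluation_injective (h ⁻¹ᵁ W) (genericPoint U) hxW hgU
      letI : Algebra Γ(V, W) (V.residueField (h.base (genericPoint U))) :=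
        (V.evaluation W (h.base (genericPoint U)) hxW).hom.toAlgebra
      haveI : FaithfulSMul Γ(V, W) (V.residueField (h.base (genericPoint U))) :=
        (faithfulSMul_iff_algebraMap_injective _ _).mpr hevV
      haveI : IsFractionRing Γ(V, W) (V.residueField (h.base (genericPoint U))) := by
        apply IsFractionRing.of_field
        intro z
        obtain ⟨a, b, hb, hz⟩ := Groth.Agent.Helper21.ResDeg.frac_repr hW _ hxW z
        exact ⟨a, b, (eq_div_iff hb).mpr hz⟩
      exact bijective_core (h.app W).hom (IsIntegralHom.isIntegral_app h W hW)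
        (U.evaluation (h ⁻¹ᵁ W) (genericPoint U) hxW).hom hevU
        (h.residueFieldMap (genericPoint U)).hom hbir.2
        (fun a => Scheme.evaluation_naturality_apply h (genericPoint U) hxW a)
    · have hW0 : W = ⊥ := by
        ext y
        simp only [TopologicalSpace.Opens.coe_bot, Set.mem_empty_iff_false, iff_false]
        intro hy
        exact hne ⟨⟨y, hy⟩⟩
      subst hW0
      haveI : Subsingleton Γ(V, (⊥ : V.Opens)) := inferInstance
      haveI : Subsingleton Γ(U, h ⁻¹ᵁ (⊥ : V.Opens)) := by
        have : h ⁻¹ᵁ (⊥ : V.Opens) = ⊥ := rfl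
        rw [this]; infer_instance
      exact ⟨fun a b _ => Subsingleton.elim _ _, fun b => ⟨0, Subsingleton.elim _ _⟩⟩
  have hiso : (MorphismProperty.isomorphisms Scheme.{u}) h := by
    rw [HasAffineProperty.eq_targetAffineLocally (P := MorphismProperty.isomorphisms Scheme.{u})]
    intro W
    refine ⟨W.2.preimage h, ?_⟩
    rw [morphismRestrict_appTop]
    have h1 : IsIso (h.app (W.1.ι ''ᵁ ⊤)) := by
      rw [ConcreteCategory.isIso_iff_bijective]
      apply key
      have : W.1.ι ''ᵁ ⊤ = W.1 := by simp
      rw [this]; exact W.2
    have h2 : ∀ {X : Scheme.{u}} {A B : X.Opens} (e : A = B),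
        IsIso (X.presheaf.map (eqToHom e).op) := by
      intro X A B e
      subst e
      simp only [eqToHom_refl, op_id, CategoryTheory.Functor.map_id]
      infer_instance
    exact IsIso.comp_isIso' h1 (h2 _)
  exact hiso

end Groth.Agent.Helper21.BirIso
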