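import Mathlib

/-!
# Powers of the ideal `I' A[X] + (X)` of a polynomial ring, coefficientwise

For an ideal `I'` of `A` and `a : A` we describe the ideal `𝔮ⁿ` of `A[X]`, `𝔮 = I' A[X] + (X)`,
by conditions on coefficients, and study the `A`-modules `E n = A[X] / 𝔮ⁿ` together with
multiplication by `X - a`, evaluation at `a` and the coefficient maps.
-/

set_option autoImplicit false

namespace Groth.Agent.Helper21.PPW

open Polynomial

universe u

noncomputable section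

variable {A : Type u} [CommRing A] (I' : Ideal A) (a : A)

/-- the ideal of polynomials whose `k`-th coefficient lies in `I' ^ (n - k)`. -/
def W (n : ℕ) : Ideal A[X] where
  carrier := {p | ∀ k, p.coeff k ∈ I' ^ (n - k)}
  add_mem' := by
    intro p q hp hq k
    rw [coeff_add]
    exact Ideal.add_mem _ (hp k) (hq k)
  zero_mem' := by
    intro k
    rw [coeff_zero]
    exact Ideal.zero_mem _
  smul_mem' := by
    intro f p hp k
    rw [smul_eq_mul, coeff_mul]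
    refine Ideal.sum_mem _ (fun x hx => ?_)
    have hx' : x.1 + x.2 = k := Finset.HasAntidiagonal.mem_antidiagonal.1 hx
    exact Ideal.mul_mem_left _ _ (Ideal.pow_le_pow_right (by omega) (hp x.2))

theorem mem_W {n : ℕ} {p : A[X]} : p ∈ W I' n ↔ ∀ k, p.coeff k ∈ I' ^ (n - k) := Iff.rfl

theorem W_anti {m n : ℕ} (h : m ≤ n) : W I' n ≤ W I' m :=
  fun _ hp k => Ideal.pow_le_pow_right (by omega) (hp k)

theorem W_zero : W I' 0 = ⊤ := by
  rw [eq_top_iff]
  intro p _ k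
  rw [Nat.zero_sub, pow_zero, Ideal.one_eq_top]
  exact Submodule.mem_top

theorem mul_X_mem {n : ℕ} {p : A[X]} (hp : p ∈ W I' n) : p * X ∈ W I' (n + 1) := by
  intro k
  cases k with
  | zero =>
    rw [coeff_mul_X_zero]
    exact Ideal.zero_mem _
  | succ k =>
    rw [coeff_mul_X, Nat.add_sub_add_right]
    exact hp k

theorem mul_mem_of_map_C {n : ℕ} {p s : A[X]} (hp : p ∈ W I' n)
    (hs : s ∈ I'.map (C : A →+* A[X])) : p * s ∈ W I' (n + 1) := by
  rw [Ideal.mem_map_C_iff] at hs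
  intro k
  rw [coeff_mul]
  refine Ideal.sum_mem _ (fun x hx => ?_)
  have hx' : x.1 + x.2 = k := Finset.HasAntidiagonal.mem_antidiagonal.1 hx
  have h1 : p.coeff x.1 * s.coeff x.2 ∈ I' ^ (n - x.1) * I' :=
    Ideal.mul_mem_mul (hp x.1) (hs x.2)
  rw [← pow_succ] at h1
  exact Ideal.pow_le_pow_right (by omega) h1

/-- the ideal `𝔮 = I' A[X] + (X)`. -/
def q : Ideal A[X] := I'.map (C : A →+* A[X]) ⊔ Ideal.span {X}

theorem q_pow_le_W (n : ℕ) : (q I') ^ n ≤ W I' n := by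
  induction n with
  | zero =>
    rw [W_zero]
    exact le_top
  | succ n ih =>
    rw [pow_succ, Ideal.mul_le]
    intro r hr s hs
    obtain ⟨s₁, hs₁, s₂, hs₂, rfl⟩ := Submodule.mem_sup.1 hs
    rw [mul_add]
    refine Ideal.add_mem _ (mul_mem_of_map_C I' (ih hr) hs₁) ?_
    obtain ⟨g, rfl⟩ := Ideal.mem_span_singleton'.1 hs₂
    rw [← mul_assoc]
    exact mul_X_mem I' (Ideal.mul_mem_right _ _ (ih hr))

theorem W_le_q_pow (n : ℕ) : W I' n ≤ (q I') ^ n := by
  intro p hp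
  have hsum := p.as_sum_range_C_mul_X_pow
  rw [hsum]
  refine Ideal.sum_mem _ (fun i _ => ?_)
  have hX : (X : A[X]) ^ i ∈ (q I') ^ i :=
    Ideal.pow_mem_pow (Ideal.mem_sup_right (Ideal.mem_span_singleton_self X)) i
  by_cases hi : i ≤ n
  · have hC : C (p.coeff i) ∈ (q I') ^ (n - i) := by
      have h1 : C (p.coeff i) ∈ (I' ^ (n - i)).map (C : A →+* A[X]) :=
        Ideal.mem_map_of_mem _ (hp i)
      rw [Ideal.map_pow] at h1
      exact Ideal.pow_right_mono le_sup_left _ h1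
    have h2 := Ideal.mul_mem_mul hC hX
    rwa [← pow_add, Nat.sub_add_cancel hi] at h2
  · exact Ideal.mul_mem_left _ _ (Ideal.pow_le_pow_right (by omega) hX)

theorem W_eq_q_pow (n : ℕ) : W I' n = (q I') ^ n :=
  le_antisymm (W_le_q_pow I' n) (q_pow_le_W I' n)

theorem map_eval_q : (q I').map (evalRingHom a) = I' ⊔ Ideal.span {a} := by
  unfold q
  rw [Ideal.map_sup, Ideal.map_map, Ideal.map_span, Set.image_singleton]
  have h1 : (evalRingHom a).comp (C : A →+* A[X]) = RingHom.id A := by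
    ext r
    simp
  rw [h1, Ideal.map_id, coe_evalRingHom, eval_X]

theorem eval_mem {n : ℕ} {p : A[X]} (hp : p ∈ W I' n) :
    p.eval a ∈ (I' ⊔ Ideal.span {a}) ^ n := by
  rw [W_eq_q_pow] at hp
  have h := Ideal.mem_map_of_mem (evalRingHom a) hp
  rw [Ideal.map_pow, map_eval_q, coe_evalRingHom] at h
  exact h

theorem exists_mem_eval_eq {n : ℕ} {r : A} (hr : r ∈ (I' ⊔ Ideal.span {a}) ^ n) :
    ∃ p ∈ W I' n, p.eval a = r := by
  rw [← map_eval_q I' a, ← Ideal.map_pow] at hr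
  have hsurj : Function.Surjective (evalRingHom a) := fun r => ⟨C r, by simp⟩
  obtain ⟨p, hp, hpr⟩ := (Ideal.mem_map_iff_of_surjective (evalRingHom a) hsurj).1 hr
  refine ⟨p, ?_, ?_⟩
  · rw [W_eq_q_pow]
    exact hp
  · rw [← hpr, coe_evalRingHom]

theorem exists_AR [IsNoetherianRing A] :
    ∃ c : ℕ, ∀ (n : ℕ) (p : A[X]), (X - C a) * p ∈ W I' n → p ∈ W I' (n - c) := by
  obtain ⟨k, hk⟩ := Ideal.exists_pow_inf_eq_pow_smul (q I')
    (Ideal.span {X - C a} : Submodule A[X] A[X])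
  refine ⟨k, fun n p hp => ?_⟩
  by_cases hn : k ≤ n
  · have h1 : (X - C a) * p ∈
        ((q I') ^ n • ⊤ ⊓ (Ideal.span {X - C a}) : Submodule A[X] A[X]) := by
      refine ⟨?_, ?_⟩
      · rw [smul_eq_mul, Ideal.mul_top, ← W_eq_q_pow]
        exact hp
      · exact Ideal.mul_mem_right _ _ (Ideal.mem_span_singleton_self _)
    rw [hk n hn] at h1
    have h2 : (X - C a) * p ∈ (q I') ^ (n - k) * Ideal.span {X - C a} :=
      Submodule.smul_mono le_rfl inf_le_right h1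
    obtain ⟨z, hz, hzp⟩ := Ideal.mem_mul_span_singleton.1 h2
    have hreg := (monic_X_sub_C a).isRegular
    have hzeq : z = p := by
      apply hreg.right
      show z * (X - C a) = p * (X - C a)
      rw [hzp, mul_comm]
    rw [W_eq_q_pow, ← hzeq]
    exact hz
  · have h0 : n - k = 0 := by omega
    rw [h0, W_zero]
    exact Submodule.mem_top

theorem monomial_mem {n k : ℕ} {b : A} (hb : b ∈ I' ^ (n - k)) : monomial k b ∈ W I' n := by
  intro j
  rw [coeff_monomial]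
  split_ifs with h
  · rw [← h]
    exact hb
  · exact Ideal.zero_mem _

theorem sub_sum_monomial_mem (n : ℕ) (p : A[X]) :
    p - ∑ k ∈ Finset.range n, monomial k (p.coeff k) ∈ W I' n := by
  intro j
  rw [coeff_sub, finset_sum_coeff]
  simp only [coeff_monomial]
  by_cases hj : j < n
  · rw [Finset.sum_eq_single j]
    · rw [if_pos rfl, sub_self]
      exact Ideal.zero_mem _
    · intro b _ hb
      exact if_neg hb
    · intro h
      exact absurd (Finset.mem_range.2 hj) h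
  · have h0 : n - j = 0 := by omega
    rw [h0, pow_zero, Ideal.one_eq_top]
    exact Submodule.mem_top

/-! ### the modules `E n` -/

/-- the `A`-submodule underlying `W n`. -/
def WA (n : ℕ) : Submodule A A[X] := (W I' n).restrictScalars A

theorem mem_WA {n : ℕ} {p : A[X]} : p ∈ WA I' n ↔ p ∈ W I' n := Iff.rfl

theorem WA_anti {m n : ℕ} (h : m ≤ n) : WA I' n ≤ WA I' m := fun _ hp => W_anti I' h hp

/-- `E n = A[X] / 𝔮ⁿ` as an `A`-module. -/
abbrev E (n : ℕ) : Type u := A[X] ⧸ WA I' n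

/-- the transition maps. -/
def tr {n m : ℕ} (h : m ≤ n) : E I' n →ₗ[A] E I' m := Submodule.factor (WA_anti I' h)

theorem tr_mk {n m : ℕ} (h : m ≤ n) (p : A[X]) :
    tr I' h ((WA I' n).mkQ p) = (WA I' m).mkQ p := rfl

theorem tr_tr {n l m : ℕ} (h₁ : l ≤ n) (h₂ : m ≤ l) (x : E I' n) :
    tr I' h₂ (tr I' h₁ x) = tr I' (h₂.trans h₁) x := by
  obtain ⟨p, rfl⟩ := (WA I' n).mkQ_surjective x
  rfl

/-- multiplication by `X - C a` on `E n`. -/
def φ (n : ℕ) : E I' n →ₗ[A] E I' n :=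
  (WA I' n).mapQ (WA I' n) (LinearMap.mulLeft A (X - C a))
    (fun _ hp => Ideal.mul_mem_left _ _ hp)

theorem φ_mk (n : ℕ) (p : A[X]) :
    φ I' a n ((WA I' n).mkQ p) = (WA I' n).mkQ ((X - C a) * p) := rfl

/-- evaluation at `a`. -/
def ev (n : ℕ) : E I' n →ₗ[A] A ⧸ (I' ⊔ Ideal.span {a}) ^ n :=
  (WA I' n).mapQ ((I' ⊔ Ideal.span {a}) ^ n) (leval a) (fun _ hp => eval_mem I' a hp)

theorem ev_mk (n : ℕ) (p : A[X]) :
    ev I' a n ((WA I' n).mkQ p) = Submodule.Quotient.mk (p.eval a) := rfl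

theorem tr_φ {n m : ℕ} (h : m ≤ n) (x : E I' n) :
    tr I' h (φ I' a n x) = φ I' a m (tr I' h x) := by
  obtain ⟨p, rfl⟩ := (WA I' n).mkQ_surjective x
  rfl

theorem ev_tr {n m : ℕ} (h : m ≤ n)
    (h' : (I' ⊔ Ideal.span {a}) ^ n ≤ (I' ⊔ Ideal.span {a}) ^ m) (x : E I' n) :
    ev I' a m (tr I' h x) = Submodule.factor h' (ev I' a n x) := by
  obtain ⟨p, rfl⟩ := (WA I' n).mkQ_surjective x
  rfl

theorem ev_φ (n : ℕ) (x : E I' n) : ev I' a n (φ I' a n x) = 0 := by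
  obtain ⟨p, rfl⟩ := (WA I' n).mkQ_surjective x
  rw [φ_mk, ev_mk, eval_mul, eval_sub, eval_X, eval_C, sub_self, zero_mul]
  rfl

theorem ev_surjective (n : ℕ) : Function.Surjective (ev I' a n) := by
  intro y
  obtain ⟨r, rfl⟩ := Submodule.Quotient.mk_surjective _ y
  refine ⟨(WA I' n).mkQ (C r), ?_⟩
  rw [ev_mk, eval_C]

theorem ker_ev_le (n : ℕ) : LinearMap.ker (ev I' a n) ≤ LinearMap.range (φ I' a n) := by
  intro x hx
  obtain ⟨p, rfl⟩ := (WA I' n).mkQ_surjective x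
  rw [LinearMap.mem_ker, ev_mk, Submodule.Quotient.mk_eq_zero] at hx
  obtain ⟨q₀, hq₀, hq₀e⟩ := exists_mem_eval_eq I' a hx
  have hroot : (p - q₀).IsRoot a := by
    rw [IsRoot.def, eval_sub, hq₀e, sub_self]
  have hdiv : (X - C a) * ((p - q₀) /ₘ (X - C a)) = p - q₀ :=
    mul_divByMonic_eq_iff_isRoot.2 hroot
  refine ⟨(WA I' n).mkQ ((p - q₀) /ₘ (X - C a)), ?_⟩
  rw [φ_mk, hdiv, Submodule.mkQ_apply, Submodule.mkQ_apply, Submodule.Quotient.eq]
  have h3 : p - q₀ - p = -q₀ := by ring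
  rw [h3]
  exact (WA I' n).neg_mem hq₀

theorem tr_eq_zero_of_φ_eq_zero {c : ℕ}
    (hc : ∀ (n : ℕ) (p : A[X]), (X - C a) * p ∈ W I' n → p ∈ W I' (n - c))
    {n m : ℕ} (h : m ≤ n) (hmn : m + c ≤ n) (x : E I' n) (hx : φ I' a n x = 0) :
    tr I' h x = 0 := by
  obtain ⟨p, rfl⟩ := (WA I' n).mkQ_surjective x
  rw [φ_mk, Submodule.mkQ_apply, Submodule.Quotient.mk_eq_zero] at hx
  rw [tr_mk, Submodule.mkQ_apply, Submodule.Quotient.mk_eq_zero]
  exact W_anti I' (by omega) (hc n p hx)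

/-- inclusion of the `k`-th coefficient. -/
def ι (n k : ℕ) : (A ⧸ I' ^ (n - k)) →ₗ[A] E I' n :=
  (I' ^ (n - k)).mapQ (WA I' n) (monomial k) (fun _ hb => monomial_mem I' hb)

/-- the `k`-th coefficient. -/
def π (n k : ℕ) : E I' n →ₗ[A] (A ⧸ I' ^ (n - k)) :=
  (WA I' n).mapQ (I' ^ (n - k)) (lcoeff A k) (fun _ hp => hp k)

theorem sum_ι_π (n : ℕ) :
    ∑ k ∈ Finset.range n, (ι I' n k) ∘ₗ (π I' n k) = LinearMap.id := by
  refine Submodule.linearMap_qext _ (LinearMap.ext fun p => ?_)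
  rw [LinearMap.comp_apply, LinearMap.comp_apply, LinearMap.sum_apply, LinearMap.id_apply]
  have h1 : ∀ k, ((ι I' n k) ∘ₗ (π I' n k)) ((WA I' n).mkQ p) =
      (WA I' n).mkQ (monomial k (p.coeff k)) := fun k => rfl
  simp only [h1]
  rw [← map_sum, Submodule.mkQ_apply, Submodule.mkQ_apply, eq_comm, Submodule.Quotient.eq]
  exact sub_sum_monomial_mem I' n p

theorem tr_ι {n m : ℕ} (h : m ≤ n) (k : ℕ) (h' : I' ^ (n - k) ≤ I' ^ (m - k)) :
    (tr I' h) ∘ₗ (ι I' n k) = (ι I' m k) ∘ₗ (Submodule.factor h') := by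
  refine Submodule.linearMap_qext _ (LinearMap.ext fun b => ?_)
  rfl

theorem tr_ι_eq_zero {n m : ℕ} (h : m ≤ n) (k : ℕ) (hk : m ≤ k) :
    (tr I' h) ∘ₗ (ι I' n k) = 0 := by
  refine Submodule.linearMap_qext _ (LinearMap.ext fun b => ?_)
  have h1 : ((tr I' h) ∘ₗ (ι I' n k)) ((I' ^ (n - k)).mkQ b) = (WA I' m).mkQ (monomial k b) := rfl
  rw [LinearMap.comp_apply, h1, LinearMap.comp_apply, LinearMap.zero_apply,
    Submodule.mkQ_apply, Submodule.Quotient.mk_eq_zero]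
  apply monomial_mem
  have h0 : m - k = 0 := by omega
  rw [h0, pow_zero, Ideal.one_eq_top]
  exact Submodule.mem_top

end

end Groth.Agent.Helper21.PPW
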