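import Mathlib
import Groth.Agent.Lib.Helper6.TorNat

/-!
# Natural symmetry of Tor: `Tor_i(M, N) ≅ Tor_i(N, M)` as bifunctors

`Sym R i` packages pointwise isomorphisms `Tor_i(M,N) ≅ Tor_i(N,M)` natural in both variables.
`nonempty_sym` constructs them for all `i` (dimension shifting via the functorial presentation
`0 → Om M → Fr M → M → 0` of `Helper6.TorNat`).
-/

set_option autoImplicit false

open CategoryTheory Limits MonoidalCategory

namespace Groth.Agent.Helper21.TNS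

open Groth.Agent.Helper18.TorLib Groth.Agent.Helper6.TorNat TensorProduct

universe u

section linalg

variable {R : Type*} [CommRing R]

/-- injections `a, b` and maps `p, q` from a common source with `range a = range p`,
`range b = range q` and `ker p = ker q` induce an isomorphism. -/
theorem corr_iso {X Y A B P : Type*} [AddCommGroup X] [Module R X] [AddCommGroup Y] [Module R Y]
    [AddCommGroup A] [Module R A] [AddCommGroup B] [Module R B] [AddCommGroup P] [Module R P]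
    (a : X →ₗ[R] A) (b : Y →ₗ[R] B) (p : P →ₗ[R] A) (q : P →ₗ[R] B)
    (ha : Function.Injective a) (hb : Function.Injective b)
    (hap : ∀ z, (∃ x, a x = z) ↔ (∃ w, p w = z))
    (hbq : ∀ z, (∃ y, b y = z) ↔ (∃ w, q w = z))
    (hk : ∀ w, p w = 0 ↔ q w = 0) :
    ∃ e : X ≃ₗ[R] Y, ∀ x w, a x = p w → b (e x) = q w := by
  have hp_mem : ∀ w, p w ∈ LinearMap.range a := fun w => (hap (p w)).2 ⟨w, rfl⟩
  have hq_mem : ∀ w, q w ∈ LinearMap.range b := fun w => (hbq (q w)).2 ⟨w, rfl⟩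
  let p' : P →ₗ[R] X :=
    (LinearEquiv.ofInjective a ha).symm.toLinearMap ∘ₗ (p.codRestrict _ hp_mem)
  let q' : P →ₗ[R] Y :=
    (LinearEquiv.ofInjective b hb).symm.toLinearMap ∘ₗ (q.codRestrict _ hq_mem)
  have hp' : ∀ w, a (p' w) = p w := by
    intro w
    have h1 : (LinearEquiv.ofInjective a ha) (p' w) = p.codRestrict _ hp_mem w :=
      (LinearEquiv.ofInjective a ha).apply_symm_apply _
    have h2 := congrArg Subtype.val h1
    rw [LinearEquiv.ofInjective_apply] at h2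
    exact h2
  have hq' : ∀ w, b (q' w) = q w := by
    intro w
    have h1 : (LinearEquiv.ofInjective b hb) (q' w) = q.codRestrict _ hq_mem w :=
      (LinearEquiv.ofInjective b hb).apply_symm_apply _
    have h2 := congrArg Subtype.val h1
    rw [LinearEquiv.ofInjective_apply] at h2
    exact h2
  have hp's : Function.Surjective p' := by
    intro x
    obtain ⟨w, hw⟩ := (hap (a x)).1 ⟨x, rfl⟩
    exact ⟨w, ha (by rw [hp', hw])⟩
  have hq's : Function.Surjective q' := by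
    intro y
    obtain ⟨w, hw⟩ := (hbq (b y)).1 ⟨y, rfl⟩
    exact ⟨w, hb (by rw [hq', hw])⟩
  have hker : LinearMap.ker p' = LinearMap.ker q' := by
    ext w
    rw [LinearMap.mem_ker, LinearMap.mem_ker]
    constructor
    · intro h
      apply hb
      rw [hq', map_zero]
      exact (hk w).1 (by rw [← hp', h, map_zero])
    · intro h
      apply ha
      rw [hp', map_zero]
      exact (hk w).2 (by rw [← hq', h, map_zero])
  let e : X ≃ₗ[R] Y := (p'.quotKerEquivOfSurjective hp's).symm ≪≫ₗ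
    (Submodule.quotEquivOfEq _ _ hker) ≪≫ₗ (q'.quotKerEquivOfSurjective hq's)
  have he : ∀ w, e (p' w) = q' w := by
    intro w
    show (q'.quotKerEquivOfSurjective hq's) ((Submodule.quotEquivOfEq _ _ hker)
      ((p'.quotKerEquivOfSurjective hp's).symm (p' w))) = q' w
    rw [LinearMap.quotKerEquivOfSurjective_symm_apply, Submodule.quotEquivOfEq_mk,
      LinearMap.quotKerEquivOfSurjective_apply_mk]
  refine ⟨e, fun x w hxw => ?_⟩
  have hx : x = p' w := ha (by rw [hp', hxw])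
  rw [hx, he, hq']

/-- naturality of the isomorphisms produced by `corr_iso`. -/
theorem corr_nat {X Y A B P X' Y' A' B' P' : Type*}
    (a : X → A) (b : Y → B) (p : P → A) (q : P → B)
    (a' : X' → A') (b' : Y' → B') (p' : P' → A') (q' : P' → B')
    (e : X → Y) (e' : X' → Y')
    (he : ∀ x w, a x = p w → b (e x) = q w) (he' : ∀ x w, a' x = p' w → b' (e' x) = q' w)
    (fX : X → X') (fY : Y → Y') (fA : A → A') (fB : B → B')
    (ca : ∀ x, a' (fX x) = fA (a x)) (cb : ∀ y, b' (fY y) = fB (b y))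
    (cP : ∀ w, ∃ w', p' w' = fA (p w) ∧ q' w' = fB (q w))
    (hap : ∀ x, ∃ w, p w = a x) (hb' : Function.Injective b') :
    ∀ x, e' (fX x) = fY (e x) := by
  intro x
  obtain ⟨w, hw⟩ := hap x
  obtain ⟨w', h1, h2⟩ := cP w
  apply hb'
  rw [he' (fX x) w' (by rw [ca, h1, hw]), h2, cb, he x w hw.symm]

/-- the `3 × 3` lemma in the form needed to compare the two descriptions of `Tor₁`. -/
theorem nine {A11 A12 A13 A21 A22 A23 A31 A32 : Type*}
    [AddCommGroup A11] [Module R A11] [AddCommGroup A12] [Module R A12]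
    [AddCommGroup A13] [Module R A13] [AddCommGroup A21] [Module R A21]
    [AddCommGroup A22] [Module R A22] [AddCommGroup A23] [Module R A23]
    [AddCommGroup A31] [Module R A31] [AddCommGroup A32] [Module R A32]
    (h11 : A11 →ₗ[R] A12) (h12 : A12 →ₗ[R] A13) (h21 : A21 →ₗ[R] A22) (h22 : A22 →ₗ[R] A23)
    (h31 : A31 →ₗ[R] A32) (v11 : A11 →ₗ[R] A21) (v21 : A21 →ₗ[R] A31) (v12 : A12 →ₗ[R] A22)
    (v22 : A22 →ₗ[R] A32) (v13 : A13 →ₗ[R] A23)
    (c1 : ∀ x, v12 (h11 x) = h21 (v11 x)) (c2 : ∀ x, v13 (h12 x) = h22 (v12 x))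
    (c3 : ∀ x, v22 (h21 x) = h31 (v21 x))
    (ex1 : Function.Exact h11 h12) (s1 : Function.Surjective h12)
    (ex2 : Function.Exact h21 h22) (i2 : Function.Injective h21)
    (exv1 : Function.Exact v11 v21) (sv1 : Function.Surjective v21)
    (exv2 : Function.Exact v12 v22) (iv2 : Function.Injective v12) :
    (∀ y, v13 y = 0 ↔ ∃ x z, v12 x = h21 z ∧ h12 x = y) ∧
    (∀ y, h31 y = 0 ↔ ∃ x z, v12 x = h21 z ∧ v21 z = y) ∧
    (∀ x z, v12 x = h21 z → (h12 x = 0 ↔ v21 z = 0)) := by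
  refine ⟨fun y => ⟨fun hy => ?_, ?_⟩, fun y => ⟨fun hy => ?_, ?_⟩, fun x z hxz => ⟨fun h => ?_, fun h => ?_⟩⟩
  · obtain ⟨x, rfl⟩ := s1 y
    have h0 : h22 (v12 x) = 0 := by rw [← c2, hy]
    obtain ⟨z, hz⟩ := (ex2 (v12 x)).1 h0
    exact ⟨x, z, hz.symm, rfl⟩
  · rintro ⟨x, z, hxz, rfl⟩
    rw [c2, hxz]
    exact ex2.apply_apply_eq_zero z
  · obtain ⟨z, rfl⟩ := sv1 y
    have h0 : v22 (h21 z) = 0 := by rw [c3, hy]
    obtain ⟨x, hx⟩ := (exv2 (h21 z)).1 h0
    exact ⟨x, z, hx, rfl⟩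
  · rintro ⟨x, z, hxz, rfl⟩
    rw [← c3, ← hxz]
    exact exv2.apply_apply_eq_zero x
  · obtain ⟨t, rfl⟩ := (ex1 x).1 h
    have hz : z = v11 t := i2 (by rw [← hxz, c1])
    rw [hz]
    exact exv1.apply_apply_eq_zero t
  · obtain ⟨t, rfl⟩ := (exv1 z).1 h
    have hx : x = h11 t := iv2 (by rw [hxz, c1])
    rw [hx]
    exact ex1.apply_apply_eq_zero t

/-- `nine` for the tensor product of two flat presentations. -/
theorem nine_tensor {K F M K' F' N : Type*}
    [AddCommGroup K] [Module R K] [AddCommGroup F] [Module R F] [AddCommGroup M] [Module R M]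
    [AddCommGroup K'] [Module R K'] [AddCommGroup F'] [Module R F'] [AddCommGroup N] [Module R N]
    [Module.Flat R F] [Module.Flat R F']
    (i : K →ₗ[R] F) (π : F →ₗ[R] M) (hi : Function.Injective i) (hex : Function.Exact i π)
    (hπ : Function.Surjective π)
    (i' : K' →ₗ[R] F') (π' : F' →ₗ[R] N) (hi' : Function.Injective i')
    (hex' : Function.Exact i' π') (hπ' : Function.Surjective π') :
    (∀ y : K ⊗[R] N, i.rTensor N y = 0 ↔
      ∃ (x : K ⊗[R] F') (z : F ⊗[R] K'), i.rTensor F' x = i'.lTensor F z ∧ π'.lTensor K x = y) ∧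
    (∀ y : M ⊗[R] K', i'.lTensor M y = 0 ↔
      ∃ (x : K ⊗[R] F') (z : F ⊗[R] K'), i.rTensor F' x = i'.lTensor F z ∧ π.rTensor K' z = y) ∧
    (∀ (x : K ⊗[R] F') (z : F ⊗[R] K'), i.rTensor F' x = i'.lTensor F z →
      (π'.lTensor K x = 0 ↔ π.rTensor K' z = 0)) := by
  refine nine (i'.lTensor K) (π'.lTensor K) (i'.lTensor F) (π'.lTensor F) (i'.lTensor M)
    (i.rTensor K') (π.rTensor K') (i.rTensor F') (π.rTensor F') (i.rTensor N) ?_ ?_ ?_
    (lTensor_exact K hex' hπ') (LinearMap.lTensor_surjective K hπ')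
    (lTensor_exact F hex' hπ') (Module.Flat.lTensor_preserves_injective_linearMap i' hi')
    (rTensor_exact K' hex hπ) (LinearMap.rTensor_surjective K' hπ)
    (rTensor_exact F' hex hπ) (Module.Flat.rTensor_preserves_injective_linearMap i hi)
  · intro x
    show ((i.rTensor F').comp (i'.lTensor K)) x = ((i'.lTensor F).comp (i.rTensor K')) x
    rw [LinearMap.rTensor_comp_lTensor, LinearMap.lTensor_comp_rTensor]
  · intro x
    show ((i.rTensor N).comp (π'.lTensor K)) x = ((π'.lTensor F).comp (i.rTensor F')) x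
    rw [LinearMap.rTensor_comp_lTensor, LinearMap.lTensor_comp_rTensor]
  · intro x
    show ((π.rTensor F').comp (i'.lTensor F)) x = ((i'.lTensor M).comp (π.rTensor K')) x
    rw [LinearMap.rTensor_comp_lTensor, LinearMap.lTensor_comp_rTensor]

end linalg

section cat

variable {R : Type u} [CommRing R]


theorem elt_eq {X Y Z W : ModuleCat.{u} R} {f : X ⟶ Y} {g : Y ⟶ W} {k : X ⟶ Z} {l : Z ⟶ W}
    (h : f ≫ g = k ≫ l) (x : X) : g.hom (f.hom x) = l.hom (k.hom x) :=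
  congrArg (fun m => m.hom x) h

theorem elt_zero {X Y Z : ModuleCat.{u} R} {f : X ⟶ Y} {g : Y ⟶ Z} (h : f ≫ g = 0) (x : X) :
    g.hom (f.hom x) = 0 :=
  congrArg (fun m => m.hom x) h

theorem iso_hom_inv_apply {X Y : ModuleCat.{u} R} (e : X ≅ Y) (x : X) :
    e.inv.hom (e.hom.hom x) = x :=
  congrArg (fun m => m.hom x) e.hom_inv_id

theorem iso_inv_hom_apply {X Y : ModuleCat.{u} R} (e : X ≅ Y) (y : Y) :
    e.hom.hom (e.inv.hom y) = y :=
  congrArg (fun m => m.hom y) e.inv_hom_id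

theorem iso_apply_eq_zero {X Y : ModuleCat.{u} R} (e : X ≅ Y) (x : X) :
    e.hom.hom x = 0 ↔ x = 0 := by
  constructor
  · intro h
    have := congrArg e.inv.hom h
    rwa [iso_hom_inv_apply, map_zero] at this
  · intro h
    rw [h, map_zero]

/-- two monomorphisms into the same module with the same range have isomorphic sources. -/
theorem iso_of_range {X Y Z : ModuleCat.{u} R} (a : X ⟶ Z) (b : Y ⟶ Z) [Mono a] [Mono b]
    (h : ∀ z : Z, (∃ x, a.hom x = z) ↔ (∃ y, b.hom y = z)) : ∃ e : X ≅ Y, e.hom ≫ b = a := by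
  have ha : Function.Injective a.hom := (ModuleCat.mono_iff_injective a).1 inferInstance
  have hb : Function.Injective b.hom := (ModuleCat.mono_iff_injective b).1 inferInstance
  have hr : LinearMap.range a.hom = LinearMap.range b.hom := by
    ext z
    exact h z
  let e : X ≃ₗ[R] Y := (LinearEquiv.ofInjective a.hom ha) ≪≫ₗ (LinearEquiv.ofEq _ _ hr) ≪≫ₗ
    (LinearEquiv.ofInjective b.hom hb).symm
  refine ⟨e.toModuleIso, ?_⟩
  ext x
  show b.hom (e x) = a.hom x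
  have h1 : (LinearEquiv.ofInjective b.hom hb) (e x) =
      (LinearEquiv.ofEq _ _ hr) (LinearEquiv.ofInjective a.hom ha x) :=
    (LinearEquiv.ofInjective b.hom hb).apply_symm_apply _
  have h2 := congrArg Subtype.val h1
  rw [LinearEquiv.ofInjective_apply] at h2
  exact h2

/-- the connecting map `Tor_{i+1}(M, N) ⟶ Tor_i(Om M, N)` of the functorial presentation. -/
noncomputable def dl (i : ℕ) (M N : ModuleCat.{u} R) :
    ((Tor (ModuleCat.{u} R) (i + 1)).obj M).obj N ⟶ ((Tor (ModuleCat.{u} R) i).obj (Om.obj M)).obj N :=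
  torδ (pres_shortExact M) N i

theorem dl_natL (i : ℕ) {M M' : ModuleCat.{u} R} (f : M ⟶ M') (N : ModuleCat.{u} R) :
    ((Tor (ModuleCat.{u} R) (i + 1)).map f).app N ≫ dl i M' N = dl i M N ≫ ((Tor (ModuleCat.{u} R) i).map (Om.map f)).app N :=
  torδ_naturality_left (pres_shortExact M) (pres_shortExact M') (presMap f) N i

theorem dl_natR (i : ℕ) (M : ModuleCat.{u} R) {N N' : ModuleCat.{u} R} (g : N ⟶ N') :
    ((Tor (ModuleCat.{u} R) (i + 1)).obj M).map g ≫ dl i M N' = dl i M N ≫ ((Tor (ModuleCat.{u} R) i).obj (Om.obj M)).map g :=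
  torδ_naturality_right (pres_shortExact M) g i

theorem dl_comp (i : ℕ) (M N : ModuleCat.{u} R) :
    dl i M N ≫ ((Tor (ModuleCat.{u} R) i).map (inc.app M)).app N = 0 :=
  torδ_comp (pres_shortExact M) N i

theorem dl_exact (i : ℕ) (M N : ModuleCat.{u} R) :
    (ShortComplex.mk (dl i M N) (((Tor (ModuleCat.{u} R) i).map (inc.app M)).app N) (dl_comp i M N)).Exact :=
  tor_exact₁ (pres_shortExact M) N i

instance dl_mono (i : ℕ) (M N : ModuleCat.{u} R) : Mono (dl i M N) :=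
  (tor_exact₃ (pres_shortExact M) N i).mono_g
    ((isZero_tor_succ_of_flat_left (pres M).X₂ N i).eq_of_src _ _)

theorem dl_range (i : ℕ) (M N : ModuleCat.{u} R) (z : ((Tor (ModuleCat.{u} R) i).obj (Om.obj M)).obj N)
    (hz : (((Tor (ModuleCat.{u} R) i).map (inc.app M)).app N).hom z = 0) : ∃ x, (dl i M N).hom x = z :=
  (ShortComplex.moduleCat_exact_iff _).1 (dl_exact i M N) z hz

variable (R) in
/-- pointwise isomorphisms `Tor_i(M,N) ≅ Tor_i(N,M)`, natural in both variables. -/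
structure Sym (i : ℕ) where
  /-- the isomorphisms -/
  e : ∀ M N : ModuleCat.{u} R, ((Tor (ModuleCat.{u} R) i).obj M).obj N ≅ ((Tor (ModuleCat.{u} R) i).obj N).obj M
  natL : ∀ {M M' : ModuleCat.{u} R} (f : M ⟶ M') (N : ModuleCat.{u} R),
    ((Tor (ModuleCat.{u} R) i).map f).app N ≫ (e M' N).hom = (e M N).hom ≫ ((Tor (ModuleCat.{u} R) i).obj N).map f
  natR : ∀ (M : ModuleCat.{u} R) {N N' : ModuleCat.{u} R} (g : N ⟶ N'),
    ((Tor (ModuleCat.{u} R) i).obj M).map g ≫ (e M N').hom = (e M N).hom ≫ ((Tor (ModuleCat.{u} R) i).map g).app M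

/-- the isomorphism of bifunctors attached to `Sym R i`. -/
noncomputable def Sym.toIso {i : ℕ} (s : Sym R i) : Tor (ModuleCat.{u} R) i ≅ (Tor (ModuleCat.{u} R) i).flip :=
  NatIso.ofComponents (fun M => NatIso.ofComponents (fun N => s.e M N) (fun g => s.natR M g))
    (fun f => NatTrans.ext (funext fun N => s.natL f N))

theorem tor0Iso_hom_natR (N : ModuleCat.{u} R) {M M' : ModuleCat.{u} R} (f : M ⟶ M') :
    ((Tor (ModuleCat.{u} R) 0).obj N).map f ≫ (tor0Iso N M').hom = (tor0Iso N M).hom ≫ (N ◁ f) :=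
  (Functor.leftDerivedZeroIsoSelf (tL N)).hom.naturality f

theorem tor0Iso_inv_natR (N : ModuleCat.{u} R) {M M' : ModuleCat.{u} R} (f : M ⟶ M') :
    (N ◁ f) ≫ (tor0Iso N M').inv = (tor0Iso N M).inv ≫ ((Tor (ModuleCat.{u} R) 0).obj N).map f :=
  (Functor.leftDerivedZeroIsoSelf (tL N)).inv.naturality f

theorem tor0Iso_inv_natL {M M' : ModuleCat.{u} R} (f : M ⟶ M') (N : ModuleCat.{u} R) :
    (f ▷ N) ≫ (tor0Iso M' N).inv = (tor0Iso M N).inv ≫ ((Tor (ModuleCat.{u} R) 0).map f).app N := by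
  rw [Iso.comp_inv_eq, Category.assoc, tor0Iso_hom_naturality, Iso.inv_hom_id_assoc]

/-- symmetry of `Tor₀`. -/
noncomputable def sym0 : Sym R 0 where
  e M N := tor0Iso M N ≪≫ β_ M N ≪≫ (tor0Iso N M).symm
  natL := fun {M M'} f N => by
    dsimp only [Iso.trans_hom, Iso.symm_hom]
    rw [reassoc_of% (tor0Iso_hom_naturality f N),
      BraidedCategory.braiding_naturality_left_assoc, tor0Iso_inv_natR]
    simp only [Category.assoc]
  natR := fun M {N N'} g => by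
    dsimp only [Iso.trans_hom, Iso.symm_hom]
    rw [reassoc_of% (tor0Iso_hom_natR M g),
      BraidedCategory.braiding_naturality_right_assoc, tor0Iso_inv_natL]
    simp only [Category.assoc]

section shift

variable {i : ℕ} (s0 : Sym R i) (s1 : Sym R (i + 1))

/-- the double shift `Tor_{i+2}(M,N) ⟶ Tor_i(Om N, Om M)`. -/
noncomputable def aa (M N : ModuleCat.{u} R) :
    ((Tor (ModuleCat.{u} R) (i + 1 + 1)).obj M).obj N ⟶ ((Tor (ModuleCat.{u} R) i).obj (Om.obj N)).obj (Om.obj M) :=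
  dl (i + 1) M N ≫ (s1.e (Om.obj M) N).hom ≫ dl i N (Om.obj M)

theorem aa_natL {M M' : ModuleCat.{u} R} (f : M ⟶ M') (N : ModuleCat.{u} R) :
    ((Tor (ModuleCat.{u} R) (i + 1 + 1)).map f).app N ≫ aa s1 M' N =
      aa s1 M N ≫ ((Tor (ModuleCat.{u} R) i).obj (Om.obj N)).map (Om.map f) := by
  unfold aa
  rw [reassoc_of% (dl_natL (i + 1) f N), reassoc_of% (s1.natL (Om.map f) N), dl_natR]
  simp only [Category.assoc]

theorem aa_natR (M : ModuleCat.{u} R) {N N' : ModuleCat.{u} R} (g : N ⟶ N') :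
    ((Tor (ModuleCat.{u} R) (i + 1 + 1)).obj M).map g ≫ aa s1 M N' =
      aa s1 M N ≫ ((Tor (ModuleCat.{u} R) i).map (Om.map g)).app (Om.obj M) := by
  unfold aa
  rw [reassoc_of% (dl_natR (i + 1) M g), reassoc_of% (s1.natR (Om.obj M) g), dl_natL]
  simp only [Category.assoc]

instance aa_mono (M N : ModuleCat.{u} R) : Mono (aa s1 M N) := by
  unfold aa
  infer_instance

theorem aa_u1 (M N : ModuleCat.{u} R) :
    aa s1 M N ≫ ((Tor (ModuleCat.{u} R) i).map (inc.app N)).app (Om.obj M) = 0 := by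
  unfold aa
  rw [Category.assoc, Category.assoc, dl_comp, comp_zero, comp_zero]

theorem aa_u2 (M N : ModuleCat.{u} R) :
    aa s1 M N ≫ ((Tor (ModuleCat.{u} R) i).obj (Om.obj N)).map (inc.app M) = 0 := by
  unfold aa
  rw [Category.assoc, Category.assoc, ← dl_natR, ← reassoc_of% (s1.natL (inc.app M) N),
    reassoc_of% (dl_comp (i + 1) M N), zero_comp]

theorem aa_range (M N : ModuleCat.{u} R) (z : ((Tor (ModuleCat.{u} R) i).obj (Om.obj N)).obj (Om.obj M))
    (hz : (((Tor (ModuleCat.{u} R) i).map (inc.app N)).app (Om.obj M)).hom z = 0) :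
    ∃ x, (aa s1 M N).hom x = z := by
  obtain ⟨y, hy⟩ := dl_range i N (Om.obj M) z hz
  have hsub : Subsingleton (((Tor (ModuleCat.{u} R) (i + 1)).obj (Fr.obj M)).obj N) :=
    ModuleCat.subsingleton_of_isZero (isZero_tor_succ_of_flat_left (Fr.obj M) N i)
  have h0 : (((Tor (ModuleCat.{u} R) (i + 1)).map (inc.app M)).app N).hom ((s1.e (Om.obj M) N).inv.hom y) = 0 :=
    Subsingleton.elim _ _
  obtain ⟨x, hx⟩ := dl_range (i + 1) M N _ h0
  refine ⟨x, ?_⟩
  show (dl i N (Om.obj M)).hom ((s1.e (Om.obj M) N).hom.hom ((dl (i + 1) M N).hom x)) = z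
  rw [hx, iso_inv_hom_apply, hy]

theorem aa_iff (M N : ModuleCat.{u} R) (z : ((Tor (ModuleCat.{u} R) i).obj (Om.obj N)).obj (Om.obj M)) :
    (∃ x, (aa s1 M N).hom x = z) ↔
      ((((Tor (ModuleCat.{u} R) i).map (inc.app N)).app (Om.obj M)).hom z = 0 ∧
        (((Tor (ModuleCat.{u} R) i).obj (Om.obj N)).map (inc.app M)).hom z = 0) := by
  constructor
  · rintro ⟨x, rfl⟩
    exact ⟨elt_zero (aa_u1 s1 M N) x, elt_zero (aa_u2 s1 M N) x⟩
  · rintro ⟨h1, -⟩
    exact aa_range s1 M N z h1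

/-- the other double shift `Tor_{i+2}(N,M) ⟶ Tor_i(Om N, Om M)`. -/
noncomputable def bb (M N : ModuleCat.{u} R) :
    ((Tor (ModuleCat.{u} R) (i + 1 + 1)).obj N).obj M ⟶ ((Tor (ModuleCat.{u} R) i).obj (Om.obj N)).obj (Om.obj M) :=
  aa s1 N M ≫ (s0.e (Om.obj M) (Om.obj N)).hom

instance bb_mono (M N : ModuleCat.{u} R) : Mono (bb s0 s1 M N) := by
  unfold bb
  infer_instance

theorem bb_natM {M M' : ModuleCat.{u} R} (f : M ⟶ M') (N : ModuleCat.{u} R) :
    ((Tor (ModuleCat.{u} R) (i + 1 + 1)).obj N).map f ≫ bb s0 s1 M' N =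
      bb s0 s1 M N ≫ ((Tor (ModuleCat.{u} R) i).obj (Om.obj N)).map (Om.map f) := by
  unfold bb
  rw [reassoc_of% (aa_natR s1 N f), s0.natL (Om.map f) (Om.obj N)]
  simp only [Category.assoc]

theorem bb_natN (M : ModuleCat.{u} R) {N N' : ModuleCat.{u} R} (g : N ⟶ N') :
    ((Tor (ModuleCat.{u} R) (i + 1 + 1)).map g).app M ≫ bb s0 s1 M N' =
      bb s0 s1 M N ≫ ((Tor (ModuleCat.{u} R) i).map (Om.map g)).app (Om.obj M) := by
  unfold bb
  rw [reassoc_of% (aa_natL s1 g M), s0.natR (Om.obj M) (Om.map g)]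
  simp only [Category.assoc]

theorem bb_iff (M N : ModuleCat.{u} R) (z : ((Tor (ModuleCat.{u} R) i).obj (Om.obj N)).obj (Om.obj M)) :
    (∃ y, (bb s0 s1 M N).hom y = z) ↔
      ((((Tor (ModuleCat.{u} R) i).map (inc.app N)).app (Om.obj M)).hom z = 0 ∧
        (((Tor (ModuleCat.{u} R) i).obj (Om.obj N)).map (inc.app M)).hom z = 0) := by
  have key : (∃ y, (bb s0 s1 M N).hom y = z) ↔
      (∃ y, (aa s1 N M).hom y = (s0.e (Om.obj M) (Om.obj N)).inv.hom z) := by
    constructor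
    · rintro ⟨y, rfl⟩
      exact ⟨y, (iso_hom_inv_apply (s0.e (Om.obj M) (Om.obj N)) _).symm⟩
    · rintro ⟨y, hy⟩
      refine ⟨y, ?_⟩
      show (s0.e (Om.obj M) (Om.obj N)).hom.hom ((aa s1 N M).hom y) = z
      rw [hy, iso_inv_hom_apply]
  rw [key, aa_iff]
  have hL := elt_eq (s0.natL (inc.app M) (Om.obj N)) ((s0.e (Om.obj M) (Om.obj N)).inv.hom z)
  have hR := elt_eq (s0.natR (Om.obj M) (inc.app N)) ((s0.e (Om.obj M) (Om.obj N)).inv.hom z)
  rw [iso_inv_hom_apply] at hL hR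
  rw [← hL, ← hR, iso_apply_eq_zero, iso_apply_eq_zero]
  exact and_comm

theorem exists_shift_iso (M N : ModuleCat.{u} R) :
    ∃ E : ((Tor (ModuleCat.{u} R) (i + 1 + 1)).obj M).obj N ≅ ((Tor (ModuleCat.{u} R) (i + 1 + 1)).obj N).obj M,
      E.hom ≫ bb s0 s1 M N = aa s1 M N :=
  iso_of_range (aa s1 M N) (bb s0 s1 M N)
    (fun z => (aa_iff s1 M N z).trans (bb_iff s0 s1 M N z).symm)

include s0 s1 in
theorem nonempty_sym_succ_succ : Nonempty (Sym R (i + 1 + 1)) := by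
  choose E hE using exists_shift_iso s0 s1
  refine ⟨{ e := E, natL := ?_, natR := ?_ }⟩
  · intro M M' f N
    rw [← cancel_mono (bb s0 s1 M' N), Category.assoc, hE, aa_natL, Category.assoc, bb_natM,
      reassoc_of% (hE M N)]
  · intro M N N' g
    rw [← cancel_mono (bb s0 s1 M N'), Category.assoc, hE, aa_natR, Category.assoc, bb_natN,
      reassoc_of% (hE M N)]

end shift

section one

/-- `Tor₁(M, N) ↪ Om M ⊗ N`. -/
noncomputable def a1 (M N : ModuleCat.{u} R) :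
    ((Tor (ModuleCat.{u} R) (0 + 1)).obj M).obj N ⟶ (Om.obj M ⊗ N : ModuleCat.{u} R) :=
  dl 0 M N ≫ (tor0Iso (Om.obj M) N).hom

theorem a1_natL {M M' : ModuleCat.{u} R} (f : M ⟶ M') (N : ModuleCat.{u} R) :
    ((Tor (ModuleCat.{u} R) (0 + 1)).map f).app N ≫ a1 M' N = a1 M N ≫ (Om.map f ▷ N) := by
  unfold a1
  rw [reassoc_of% (dl_natL 0 f N), tor0Iso_hom_naturality]
  simp only [Category.assoc]

theorem a1_natR (M : ModuleCat.{u} R) {N N' : ModuleCat.{u} R} (g : N ⟶ N') :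
    ((Tor (ModuleCat.{u} R) (0 + 1)).obj M).map g ≫ a1 M N' = a1 M N ≫ (Om.obj M ◁ g) := by
  unfold a1
  rw [reassoc_of% (dl_natR 0 M g), tor0Iso_hom_natR]
  simp only [Category.assoc]

instance a1_mono (M N : ModuleCat.{u} R) : Mono (a1 M N) := by
  unfold a1
  infer_instance

theorem a1_comp (M N : ModuleCat.{u} R) : a1 M N ≫ (inc.app M ▷ N) = 0 := by
  unfold a1
  rw [Category.assoc, ← tor0Iso_hom_naturality, reassoc_of% (dl_comp 0 M N), zero_comp]

theorem a1_iff (M N : ModuleCat.{u} R) (z : (Om.obj M ⊗ N : ModuleCat.{u} R)) :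
    (∃ x, (a1 M N).hom x = z) ↔ (inc.app M ▷ N).hom z = 0 := by
  constructor
  · rintro ⟨x, rfl⟩
    exact elt_zero (a1_comp M N) x
  · intro hz
    have h0 : (((Tor (ModuleCat.{u} R) 0).map (inc.app M)).app N).hom ((tor0Iso (Om.obj M) N).inv.hom z) = 0 := by
      rw [← elt_eq (tor0Iso_inv_natL (inc.app M) N) z, hz, map_zero]
    obtain ⟨x, hx⟩ := dl_range 0 M N _ h0
    refine ⟨x, ?_⟩
    show (tor0Iso (Om.obj M) N).hom.hom ((dl 0 M N).hom x) = z
    rw [hx, iso_inv_hom_apply]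

/-- `Tor₁(N, M) ↪ M ⊗ Om N`. -/
noncomputable def b1 (M N : ModuleCat.{u} R) :
    ((Tor (ModuleCat.{u} R) (0 + 1)).obj N).obj M ⟶ (M ⊗ Om.obj N : ModuleCat.{u} R) :=
  a1 N M ≫ (β_ (Om.obj N) M).hom

instance b1_mono (M N : ModuleCat.{u} R) : Mono (b1 M N) := by
  unfold b1
  infer_instance

theorem b1_natM {M M' : ModuleCat.{u} R} (f : M ⟶ M') (N : ModuleCat.{u} R) :
    ((Tor (ModuleCat.{u} R) (0 + 1)).obj N).map f ≫ b1 M' N = b1 M N ≫ (f ▷ Om.obj N) := by
  unfold b1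
  rw [reassoc_of% (a1_natR N f), BraidedCategory.braiding_naturality_right]
  simp only [Category.assoc]

theorem b1_natN (M : ModuleCat.{u} R) {N N' : ModuleCat.{u} R} (g : N ⟶ N') :
    ((Tor (ModuleCat.{u} R) (0 + 1)).map g).app M ≫ b1 M N' = b1 M N ≫ (M ◁ Om.map g) := by
  unfold b1
  rw [reassoc_of% (a1_natL g M), BraidedCategory.braiding_naturality_left]
  simp only [Category.assoc]

theorem b1_iff (M N : ModuleCat.{u} R) (z : (M ⊗ Om.obj N : ModuleCat.{u} R)) :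
    (∃ y, (b1 M N).hom y = z) ↔ (M ◁ inc.app N).hom z = 0 := by
  have key : (∃ y, (b1 M N).hom y = z) ↔
      (∃ y, (a1 N M).hom y = (β_ (Om.obj N) M).inv.hom z) := by
    constructor
    · rintro ⟨y, rfl⟩
      exact ⟨y, (iso_hom_inv_apply (β_ (Om.obj N) M) _).symm⟩
    · rintro ⟨y, hy⟩
      refine ⟨y, ?_⟩
      show (β_ (Om.obj N) M).hom.hom ((a1 N M).hom y) = z
      rw [hy, iso_inv_hom_apply]
  rw [key, a1_iff]
  have hB := elt_eq (BraidedCategory.braiding_naturality_left (inc.app N) M)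
    ((β_ (Om.obj N) M).inv.hom z)
  rw [iso_inv_hom_apply] at hB
  rw [← hB, iso_apply_eq_zero]

/-- the pullback `(Om M ⊗ Fr N) ×_{Fr M ⊗ Fr N} (Fr M ⊗ Om N)`. -/
noncomputable def PP (M N : ModuleCat.{u} R) :
    Submodule R ((Om.obj M ⊗ Fr.obj N : ModuleCat.{u} R) × (Fr.obj M ⊗ Om.obj N : ModuleCat.{u} R)) :=
  LinearMap.ker ((inc.app M ▷ Fr.obj N).hom ∘ₗ LinearMap.fst R _ _ -
    (Fr.obj M ◁ inc.app N).hom ∘ₗ LinearMap.snd R _ _)

theorem mem_PP {M N : ModuleCat.{u} R}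
    (w : (Om.obj M ⊗ Fr.obj N : ModuleCat.{u} R) × (Fr.obj M ⊗ Om.obj N : ModuleCat.{u} R)) :
    w ∈ PP M N ↔ (inc.app M ▷ Fr.obj N).hom w.1 = (Fr.obj M ◁ inc.app N).hom w.2 := by
  unfold PP
  rw [LinearMap.mem_ker, LinearMap.sub_apply, sub_eq_zero]
  rfl

/-- the projection `PP M N → Om M ⊗ N`. -/
noncomputable def pp (M N : ModuleCat.{u} R) : PP M N →ₗ[R] (Om.obj M ⊗ N : ModuleCat.{u} R) :=
  (Om.obj M ◁ prj.app N).hom ∘ₗ LinearMap.fst R _ _ ∘ₗ (PP M N).subtype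

/-- the projection `PP M N → M ⊗ Om N`. -/
noncomputable def qq (M N : ModuleCat.{u} R) : PP M N →ₗ[R] (M ⊗ Om.obj N : ModuleCat.{u} R) :=
  (prj.app M ▷ Om.obj N).hom ∘ₗ LinearMap.snd R _ _ ∘ₗ (PP M N).subtype

theorem pres_facts (M : ModuleCat.{u} R) :
    Function.Injective (inc.app M).hom ∧ Function.Exact (inc.app M).hom (prj.app M).hom ∧
      Function.Surjective (prj.app M).hom := by
  have hS := pres_shortExact M
  refine ⟨?_, ?_, ?_⟩
  · exact (ModuleCat.mono_iff_injective _).1 hS.mono_f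
  · exact (ShortComplex.ShortExact.moduleCat_exact_iff_function_exact _).1 hS.exact
  · exact (ModuleCat.epi_iff_surjective _).1 hS.epi_g

theorem nine_pres (M N : ModuleCat.{u} R) :
    (∀ y : (Om.obj M ⊗ N : ModuleCat.{u} R), (inc.app M ▷ N).hom y = 0 ↔
      ∃ (x : (Om.obj M ⊗ Fr.obj N : ModuleCat.{u} R)) (z : (Fr.obj M ⊗ Om.obj N : ModuleCat.{u} R)),
        (inc.app M ▷ Fr.obj N).hom x = (Fr.obj M ◁ inc.app N).hom z ∧
          (Om.obj M ◁ prj.app N).hom x = y) ∧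
    (∀ y : (M ⊗ Om.obj N : ModuleCat.{u} R), (M ◁ inc.app N).hom y = 0 ↔
      ∃ (x : (Om.obj M ⊗ Fr.obj N : ModuleCat.{u} R)) (z : (Fr.obj M ⊗ Om.obj N : ModuleCat.{u} R)),
        (inc.app M ▷ Fr.obj N).hom x = (Fr.obj M ◁ inc.app N).hom z ∧
          (prj.app M ▷ Om.obj N).hom z = y) ∧
    (∀ (x : (Om.obj M ⊗ Fr.obj N : ModuleCat.{u} R)) (z : (Fr.obj M ⊗ Om.obj N : ModuleCat.{u} R)),
      (inc.app M ▷ Fr.obj N).hom x = (Fr.obj M ◁ inc.app N).hom z →
        ((Om.obj M ◁ prj.app N).hom x = 0 ↔ (prj.app M ▷ Om.obj N).hom z = 0)) := by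
  obtain ⟨hiM, hexM, hsM⟩ := pres_facts M
  obtain ⟨hiN, hexN, hsN⟩ := pres_facts N
  exact nine_tensor (inc.app M).hom (prj.app M).hom hiM hexM hsM
    (inc.app N).hom (prj.app N).hom hiN hexN hsN

theorem pp_range (M N : ModuleCat.{u} R) (z : (Om.obj M ⊗ N : ModuleCat.{u} R)) :
    (∃ x, (a1 M N).hom x = z) ↔ (∃ w, pp M N w = z) := by
  rw [a1_iff, (nine_pres M N).1 z]
  constructor
  · rintro ⟨x, y, hxy, rfl⟩
    exact ⟨⟨(x, y), (mem_PP _).2 hxy⟩, rfl⟩
  · rintro ⟨⟨⟨x, y⟩, hw⟩, rfl⟩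
    exact ⟨x, y, (mem_PP _).1 hw, rfl⟩

theorem qq_range (M N : ModuleCat.{u} R) (z : (M ⊗ Om.obj N : ModuleCat.{u} R)) :
    (∃ y, (b1 M N).hom y = z) ↔ (∃ w, qq M N w = z) := by
  rw [b1_iff, (nine_pres M N).2.1 z]
  constructor
  · rintro ⟨x, y, hxy, rfl⟩
    exact ⟨⟨(x, y), (mem_PP _).2 hxy⟩, rfl⟩
  · rintro ⟨⟨⟨x, y⟩, hw⟩, rfl⟩
    exact ⟨x, y, (mem_PP _).1 hw, rfl⟩

theorem pp_qq_ker (M N : ModuleCat.{u} R) (w : PP M N) : pp M N w = 0 ↔ qq M N w = 0 := by
  obtain ⟨⟨x, y⟩, hw⟩ := w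
  exact (nine_pres M N).2.2 x y ((mem_PP _).1 hw)

theorem exists_one_iso (M N : ModuleCat.{u} R) :
    ∃ E : ((Tor (ModuleCat.{u} R) (0 + 1)).obj M).obj N ≅ ((Tor (ModuleCat.{u} R) (0 + 1)).obj N).obj M,
      ∀ (x : ((Tor (ModuleCat.{u} R) (0 + 1)).obj M).obj N) (w : PP M N),
        (a1 M N).hom x = pp M N w → (b1 M N).hom (E.hom.hom x) = qq M N w := by
  have ha : Function.Injective (a1 M N).hom := (ModuleCat.mono_iff_injective _).1 inferInstance
  have hb : Function.Injective (b1 M N).hom := (ModuleCat.mono_iff_injective _).1 inferInstance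
  obtain ⟨e, he⟩ := corr_iso (a1 M N).hom (b1 M N).hom (pp M N) (qq M N) ha hb
    (pp_range M N) (qq_range M N) (pp_qq_ker M N)
  exact ⟨e.toModuleIso, fun x w h => he x w h⟩

theorem nonempty_sym_one : Nonempty (Sym R (0 + 1)) := by
  choose E hE using exists_one_iso (R := R)
  refine ⟨{ e := E, natL := ?_, natR := ?_ }⟩
  · intro M M' f N
    ext x
    refine corr_nat (a1 M N).hom (b1 M N).hom (pp M N) (qq M N) (a1 M' N).hom (b1 M' N).hom
      (pp M' N) (qq M' N) (E M N).hom.hom (E M' N).hom.hom (hE M N) (hE M' N)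
      (((Tor (ModuleCat.{u} R) (0 + 1)).map f).app N).hom (((Tor (ModuleCat.{u} R) (0 + 1)).obj N).map f).hom
      (Om.map f ▷ N).hom (f ▷ Om.obj N).hom
      (fun x => elt_eq (a1_natL f N) x) (fun y => elt_eq (b1_natM f N) y) ?_
      (fun x => ((pp_range M N _).1 ⟨x, rfl⟩))
      ((ModuleCat.mono_iff_injective _).1 inferInstance) x
    rintro ⟨⟨x, z⟩, hw⟩
    have hw' := (mem_PP _).1 hw
    have m1 : (Om.map f ▷ Fr.obj N) ≫ (inc.app M' ▷ Fr.obj N) =
        (inc.app M ▷ Fr.obj N) ≫ (Fr.map f ▷ Fr.obj N) := by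
      rw [← comp_whiskerRight, ← comp_whiskerRight, inc.naturality]
    have m2 : (Fr.map f ▷ Om.obj N) ≫ (Fr.obj M' ◁ inc.app N) =
        (Fr.obj M ◁ inc.app N) ≫ (Fr.map f ▷ Fr.obj N) :=
      (whisker_exchange (Fr.map f) (inc.app N)).symm
    have m3 : (Om.map f ▷ Fr.obj N) ≫ (Om.obj M' ◁ prj.app N) =
        (Om.obj M ◁ prj.app N) ≫ (Om.map f ▷ N) :=
      (whisker_exchange (Om.map f) (prj.app N)).symm
    have m4 : (Fr.map f ▷ Om.obj N) ≫ (prj.app M' ▷ Om.obj N) =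
        (prj.app M ▷ Om.obj N) ≫ (f ▷ Om.obj N) := by
      rw [← comp_whiskerRight, ← comp_whiskerRight, prj.naturality]
      rfl
    refine ⟨⟨((Om.map f ▷ Fr.obj N).hom x, (Fr.map f ▷ Om.obj N).hom z), (mem_PP _).2 ?_⟩, ?_, ?_⟩
    · show (inc.app M' ▷ Fr.obj N).hom ((Om.map f ▷ Fr.obj N).hom x) =
        (Fr.obj M' ◁ inc.app N).hom ((Fr.map f ▷ Om.obj N).hom z)
      rw [elt_eq m1 x, elt_eq m2 z]
      exact congrArg _ hw'
    · exact elt_eq m3 x
    · exact elt_eq m4 z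
  · intro M N N' g
    ext x
    refine corr_nat (a1 M N).hom (b1 M N).hom (pp M N) (qq M N) (a1 M N').hom (b1 M N').hom
      (pp M N') (qq M N') (E M N).hom.hom (E M N').hom.hom (hE M N) (hE M N')
      (((Tor (ModuleCat.{u} R) (0 + 1)).obj M).map g).hom (((Tor (ModuleCat.{u} R) (0 + 1)).map g).app M).hom
      (Om.obj M ◁ g).hom (M ◁ Om.map g).hom
      (fun x => elt_eq (a1_natR M g) x) (fun y => elt_eq (b1_natN M g) y) ?_
      (fun x => ((pp_range M N _).1 ⟨x, rfl⟩))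
      ((ModuleCat.mono_iff_injective _).1 inferInstance) x
    rintro ⟨⟨x, z⟩, hw⟩
    have hw' := (mem_PP _).1 hw
    have m1 : (Om.obj M ◁ Fr.map g) ≫ (inc.app M ▷ Fr.obj N') =
        (inc.app M ▷ Fr.obj N) ≫ (Fr.obj M ◁ Fr.map g) :=
      whisker_exchange (inc.app M) (Fr.map g)
    have m2 : (Fr.obj M ◁ Om.map g) ≫ (Fr.obj M ◁ inc.app N') =
        (Fr.obj M ◁ inc.app N) ≫ (Fr.obj M ◁ Fr.map g) := by
      rw [← MonoidalCategory.whiskerLeft_comp, ← MonoidalCategory.whiskerLeft_comp, inc.naturality]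
    have m3 : (Om.obj M ◁ Fr.map g) ≫ (Om.obj M ◁ prj.app N') =
        (Om.obj M ◁ prj.app N) ≫ (Om.obj M ◁ g) := by
      rw [← MonoidalCategory.whiskerLeft_comp, ← MonoidalCategory.whiskerLeft_comp, prj.naturality]
      rfl
    have m4 : (Fr.obj M ◁ Om.map g) ≫ (prj.app M ▷ Om.obj N') =
        (prj.app M ▷ Om.obj N) ≫ (M ◁ Om.map g) :=
      whisker_exchange (prj.app M) (Om.map g)
    refine ⟨⟨((Om.obj M ◁ Fr.map g).hom x, (Fr.obj M ◁ Om.map g).hom z), (mem_PP _).2 ?_⟩, ?_, ?_⟩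
    · show (inc.app M ▷ Fr.obj N').hom ((Om.obj M ◁ Fr.map g).hom x) =
        (Fr.obj M ◁ inc.app N').hom ((Fr.obj M ◁ Om.map g).hom z)
      rw [elt_eq m1 x, elt_eq m2 z]
      exact congrArg _ hw'
    · exact elt_eq m3 x
    · exact elt_eq m4 z

end one

variable (R) in
/-- `Tor_i(M, N) ≅ Tor_i(N, M)`, naturally in both variables, for every `i`. -/
theorem nonempty_sym_pair : ∀ i : ℕ, Nonempty (Sym R i) ∧ Nonempty (Sym R (i + 1)) := by
  intro i
  induction i with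
  | zero => exact ⟨⟨sym0⟩, nonempty_sym_one⟩
  | succ i ih =>
    obtain ⟨⟨s0⟩, ⟨s1⟩⟩ := ih
    exact ⟨⟨s1⟩, nonempty_sym_succ_succ s0 s1⟩

variable (R) in
theorem nonempty_sym (i : ℕ) : Nonempty (Sym R i) := (nonempty_sym_pair R i).1

variable (R) in
/-- the bifunctors `Tor_i` and `Tor_i.flip` are isomorphic. -/
theorem nonempty_tor_iso_flip (i : ℕ) : Nonempty (Tor (ModuleCat.{u} R) i ≅ (Tor (ModuleCat.{u} R) i).flip) := by
  obtain ⟨s⟩ := nonempty_sym R i
  exact ⟨s.toIso⟩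

end cat

end Groth.Agent.Helper21.TNS
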