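import Mathlib
import Groth.Agent.Lib.Helper21.TorNatSym

/-!
# Artin–Rees for `Tor₁(M, R/Iᵐ) → Tor₁(M, R/Iⁿ)`
-/

set_option autoImplicit false

open CategoryTheory Limits MonoidalCategory

namespace Groth.Agent.Helper21.TAR

open Groth.Agent.Helper18.TorLib Groth.Agent.Helper6.TorNat Groth.Agent.Helper21.TNS TensorProduct

universe u

section linalg

variable {R : Type u} [CommRing R]

theorem exists_tmul_one {K : Type*} [AddCommGroup K] [Module R K] (J : Ideal R)
    (z : K ⊗[R] (R ⧸ J)) : ∃ k : K, z = k ⊗ₜ[R] (Ideal.Quotient.mk J 1) := by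
  induction z using TensorProduct.induction_on with
  | zero => exact ⟨0, (TensorProduct.zero_tmul _ _).symm⟩
  | tmul k r =>
    obtain ⟨r, rfl⟩ := Ideal.Quotient.mk_surjective r
    refine ⟨r • k, ?_⟩
    rw [TensorProduct.smul_tmul]
    congr 1
    show Ideal.Quotient.mk J r = r • Ideal.Quotient.mk J 1
    rw [Algebra.smul_def, Ideal.Quotient.algebraMap_eq, ← map_mul, mul_one]
  | add x y hx hy =>
    obtain ⟨k₁, rfl⟩ := hx
    obtain ⟨k₂, rfl⟩ := hy
    exact ⟨k₁ + k₂, (TensorProduct.add_tmul _ _ _).symm⟩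

theorem tmul_one_eq_zero_of_mem {K : Type*} [AddCommGroup K] [Module R K] (J : Ideal R) (k : K)
    (hk : k ∈ (J • ⊤ : Submodule R K)) : k ⊗ₜ[R] (Ideal.Quotient.mk J 1) = 0 := by
  have h := (TensorProduct.tensorQuotEquivQuotSMul K J).map_eq_zero_iff
    (x := k ⊗ₜ[R] (Ideal.Quotient.mk J 1))
  rw [← h, TensorProduct.tensorQuotEquivQuotSMul_tmul_mk, one_smul,
    Submodule.Quotient.mk_eq_zero]
  exact hk

theorem mem_of_tmul_one_eq_zero {K : Type*} [AddCommGroup K] [Module R K] (J : Ideal R) (k : K)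
    (hk : k ⊗ₜ[R] (Ideal.Quotient.mk J 1) = 0) : k ∈ (J • ⊤ : Submodule R K) := by
  have h := congrArg (TensorProduct.tensorQuotEquivQuotSMul K J) hk
  rw [TensorProduct.tensorQuotEquivQuotSMul_tmul_mk, one_smul, map_zero,
    Submodule.Quotient.mk_eq_zero] at h
  exact h

theorem ar_tensor [IsNoetherianRing R] (I : Ideal R) {F : Type u} [AddCommGroup F] [Module R F]
    [Module.Finite R F] (K : Submodule R F) (n : ℕ) :
    ∃ m : ℕ, n ≤ m ∧ ∀ (h : I ^ m ≤ I ^ n) (z : K ⊗[R] (R ⧸ I ^ m)),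
      (K.subtype.rTensor (R ⧸ I ^ m)) z = 0 → ((Submodule.factor h).lTensor K) z = 0 := by
  obtain ⟨c, hc⟩ := Ideal.exists_pow_inf_eq_pow_smul I K
  refine ⟨n + c, Nat.le_add_right n c, fun h z hz => ?_⟩
  obtain ⟨k, rfl⟩ := exists_tmul_one (I ^ (n + c)) z
  rw [LinearMap.rTensor_tmul] at hz
  have hk : (k : F) ∈ (I ^ (n + c) • ⊤ : Submodule R F) := mem_of_tmul_one_eq_zero _ _ hz
  have hk2 : (k : F) ∈ (I ^ n • K : Submodule R F) := by
    have hmem : (k : F) ∈ (I ^ (n + c) • ⊤ ⊓ K : Submodule R F) := ⟨hk, k.2⟩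
    rw [hc (n + c) (Nat.le_add_left c n), Nat.add_sub_cancel] at hmem
    exact Submodule.smul_mono le_rfl inf_le_right hmem
  have hk3 : k ∈ (I ^ n • ⊤ : Submodule R K) := by
    have hmap : (I ^ n • K : Submodule R F) = (I ^ n • (⊤ : Submodule R K)).map K.subtype := by
      rw [Submodule.map_smul'', Submodule.map_subtype_top]
    rw [hmap] at hk2
    obtain ⟨y, hy, hyk⟩ := hk2
    have : y = k := Subtype.ext hyk
    rwa [← this]
  rw [LinearMap.lTensor_tmul]
  have hf : (Submodule.factor h) (Ideal.Quotient.mk (I ^ (n + c)) 1) =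
      Ideal.Quotient.mk (I ^ n) 1 := Submodule.factor_mk h 1
  rw [hf]
  exact tmul_one_eq_zero_of_mem _ _ hk3

end linalg

section cat

variable {R : Type u} [CommRing R]

/-- a criterion for `Tor₁(X₃, g) = 0` in terms of a flat presentation of `X₃`. -/
theorem tor_one_map_eq_zero {S : ShortComplex (ModuleCat.{u} R)} (hS : S.ShortExact)
    [Module.Flat R S.X₂] {N N' : ModuleCat.{u} R} (g : N ⟶ N')
    (hyp : ∀ z : (S.X₁ ⊗ N : ModuleCat.{u} R), (S.f ▷ N).hom z = 0 → (S.X₁ ◁ g).hom z = 0) :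
    ((Tor (ModuleCat.{u} R) (0 + 1)).obj S.X₃).map g = 0 := by
  have hmono : Mono (torδ hS N' 0) :=
    (tor_exact₃ hS N' 0).mono_g ((isZero_tor_succ_of_flat_left S.X₂ N' 0).eq_of_src _ _)
  rw [← cancel_mono (torδ hS N' 0), zero_comp, torδ_naturality_right hS g 0]
  have h0 : ((Tor (ModuleCat.{u} R) 0).obj S.X₁).map g =
      (tor0Iso S.X₁ N).hom ≫ (S.X₁ ◁ g) ≫ (tor0Iso S.X₁ N').inv := by
    rw [← reassoc_of% (tor0Iso_hom_natR S.X₁ g), Iso.hom_inv_id, Category.comp_id]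
  rw [h0, ← Category.assoc, ← Category.assoc]
  suffices h : (torδ hS N 0 ≫ (tor0Iso S.X₁ N).hom) ≫ (S.X₁ ◁ g) = 0 by rw [h, zero_comp]
  refine ModuleCat.hom_ext (LinearMap.ext fun x => ?_)
  show (S.X₁ ◁ g).hom ((torδ hS N 0 ≫ (tor0Iso S.X₁ N).hom).hom x) = 0
  apply hyp
  have hc : (torδ hS N 0 ≫ (tor0Iso S.X₁ N).hom) ≫ (S.f ▷ N) = 0 := by
    rw [Category.assoc, ← tor0Iso_hom_naturality, reassoc_of% (torδ_comp hS N 0), zero_comp]
  exact elt_zero hc x

theorem main [IsNoetherianRing R] (I : Ideal R)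
    (M : Type u) [AddCommGroup M] [Module R M] [Module.Finite R M] (n : ℕ) :
    ∃ m : ℕ, n ≤ m ∧ ∀ h : I ^ m ≤ I ^ n,
      ((CategoryTheory.Tor (ModuleCat.{u} R) 1).obj (ModuleCat.of R M)).map
        (ModuleCat.ofHom (Submodule.factor h)) = 0 := by
  obtain ⟨r, p, hp⟩ := Module.Finite.exists_fin' R M
  let K : Submodule R (Fin r → R) := LinearMap.ker p
  obtain ⟨m, hnm, hm⟩ := ar_tensor I K n
  refine ⟨m, hnm, fun h => ?_⟩
  let S : ShortComplex (ModuleCat.{u} R) :=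
    ShortComplex.mk (ModuleCat.ofHom K.subtype) (ModuleCat.ofHom p)
      (ModuleCat.hom_ext (LinearMap.ext fun x => x.2))
  have hS : S.ShortExact := by
    refine ShortComplex.ShortExact.mk' ?_ ?_ ?_
    · rw [ShortComplex.ShortExact.moduleCat_exact_iff_function_exact]
      exact LinearMap.exact_subtype_ker_map p
    · exact (ModuleCat.mono_iff_injective _).2 K.injective_subtype
    · exact (ModuleCat.epi_iff_surjective _).2 hp
  have hflat : Module.Flat R S.X₂ := inferInstanceAs (Module.Flat R (Fin r → R))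
  exact tor_one_map_eq_zero hS (ModuleCat.ofHom (Submodule.factor h)) (fun z hz => hm h z hz)

end cat

end Groth.Agent.Helper21.TAR
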