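import Mathlib
import Groth.Agent.Lib.Helper21.TorNatSym
import Groth.Agent.S14422
import Groth.Prelude.Def_EtMil

/-!
# Additivity of `Tor` in the derived variable, and the Milnor-square criterion
-/

set_option autoImplicit false

open CategoryTheory Limits MonoidalCategory

namespace Groth.Agent.Helper21.TAD

open Groth.Agent.Helper18.TorLib Groth.Agent.Helper21.TNS TensorProduct

universe u

section additive

variable {R : Type u} [CommRing R]

theorem cxMap_add {M : ModuleCat.{u} R} (P : ProjectiveResolution M) {N N' : ModuleCat.{u} R}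
    (f g : N ⟶ N') : cxMap P (f + g) = cxMap P f + cxMap P g := by
  apply HomologicalComplex.hom_ext
  intro i
  simp [cxMap]
  rfl

theorem tor_map_add_left {N N' : ModuleCat.{u} R} (f g : N ⟶ N') (M : ModuleCat.{u} R) (n : ℕ) :
    ((Tor (ModuleCat.{u} R) n).map (f + g)).app M =
      ((Tor (ModuleCat.{u} R) n).map f).app M + ((Tor (ModuleCat.{u} R) n).map g).app M := by
  let P := projectiveResolution M
  rw [← cancel_mono (torIso P N' n).hom, Preadditive.add_comp, torIso_hom_naturality,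
    torIso_hom_naturality, torIso_hom_naturality, cxMap_add, HomologicalComplex.homologyMap_add,
    Preadditive.comp_add]

theorem tor_map_add_right (M : ModuleCat.{u} R) {N N' : ModuleCat.{u} R} (f g : N ⟶ N') (n : ℕ) :
    ((Tor (ModuleCat.{u} R) n).obj M).map (f + g) =
      ((Tor (ModuleCat.{u} R) n).obj M).map f + ((Tor (ModuleCat.{u} R) n).obj M).map g := by
  obtain ⟨s⟩ := nonempty_sym R n
  rw [← cancel_mono (s.e M N').hom, s.natR, tor_map_add_left, Preadditive.comp_add,
    Preadditive.add_comp, s.natR, s.natR]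

instance additive_tor_obj (M : ModuleCat.{u} R) (n : ℕ) :
    ((Tor (ModuleCat.{u} R) n).obj M).Additive where
  map_add := fun {_ _ f g} => tor_map_add_right M f g n

theorem epi_map_iff_epi_desc {C D : Type*} [Category C] [Category D] [Preadditive C]
    [Preadditive D] [HasBinaryBiproducts D] (F : C ⥤ D) [F.Additive] {X Y Z W : C}
    (i₁ : X ⟶ Z) (i₂ : Y ⟶ Z) (p₁ : Z ⟶ X) (p₂ : Z ⟶ Y)
    (htot : p₁ ≫ i₁ + p₂ ≫ i₂ = 𝟙 Z) (g : Z ⟶ W) :
    Epi (F.map g) ↔ Epi (biprod.desc (F.map (i₁ ≫ g)) (F.map (i₂ ≫ g))) := by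
  have h1 : F.map g = biprod.lift (F.map p₁) (F.map p₂) ≫
      biprod.desc (F.map (i₁ ≫ g)) (F.map (i₂ ≫ g)) := by
    rw [biprod.lift_desc, ← F.map_comp, ← F.map_comp, ← F.map_add, ← Category.assoc,
      ← Category.assoc, ← Preadditive.add_comp, htot, Category.id_comp]
  have h2 : biprod.desc (F.map (i₁ ≫ g)) (F.map (i₂ ≫ g)) =
      biprod.desc (F.map i₁) (F.map i₂) ≫ F.map g := by
    apply biprod.hom_ext'
    · rw [biprod.inl_desc, biprod.inl_desc_assoc, F.map_comp]
    · rw [biprod.inr_desc, biprod.inr_desc_assoc, F.map_comp]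
  constructor
  · intro h
    rw [h1] at h
    exact epi_of_epi (biprod.lift (F.map p₁) (F.map p₂)) _
  · intro h
    rw [h2] at h
    exact epi_of_epi (biprod.desc (F.map i₁) (F.map i₂)) _

theorem epi_iff_mono_of_shortExact (M : ModuleCat.{u} R) (S : ShortComplex (ModuleCat.{u} R))
    (hS : S.ShortExact) (i : ℕ) :
    Epi (((Tor (ModuleCat.{u} R) (i + 1)).obj M).map S.g) ↔
      Mono (((Tor (ModuleCat.{u} R) i).obj M).map S.f) := by
  obtain ⟨-, -, δ, w₁, w₂, ex₁, ex₂⟩ := Groth.Agent.S14422.result R M S hS i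
  exact ex₁.epi_f_iff.trans ex₂.mono_g_iff.symm

theorem mono_tor0_map_right_iff (M : ModuleCat.{u} R) {N N' : ModuleCat.{u} R} (f : N ⟶ N') :
    Mono (((Tor (ModuleCat.{u} R) 0).obj M).map f) ↔ Function.Injective (f.hom.lTensor M) := by
  have h := tor0Iso_hom_natR M f
  rw [← ModuleCat.hom_whiskerLeft, ← ModuleCat.mono_iff_injective]
  constructor
  · intro _
    have : M ◁ f = (tor0Iso M N).inv ≫ ((Tor (ModuleCat.{u} R) 0).obj M).map f ≫
        (tor0Iso M N').hom := by
      rw [h, Iso.inv_hom_id_assoc]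
    rw [this]
    infer_instance
  · intro _
    have : ((Tor (ModuleCat.{u} R) 0).obj M).map f =
        (tor0Iso M N).hom ≫ (M ◁ f) ≫ (tor0Iso M N').inv := by
      rw [← reassoc_of% h, Iso.hom_inv_id, Category.comp_id]
    rw [this]
    infer_instance

end additive

section milnor

variable (B' B A' A : Type u) [CommRing B'] [CommRing B] [CommRing A'] [CommRing A]
  [Algebra B' B] [Algebra B' A'] [Algebra B A] [Algebra A' A] [Algebra B' A]
  [IsScalarTower B' B A] [IsScalarTower B' A' A]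

theorem milnor (hsq : EtMil.IsFibreSquare B' B A' A)
    (L' : Type u) [AddCommGroup L'] [Module B' L'] :
    (∀ l : L', ((1 : B) ⊗ₜ[B'] l : B ⊗[B'] L') = 0 → ((1 : A') ⊗ₜ[B'] l : A' ⊗[B'] L') = 0 →
      l = 0) ↔
    Epi (biprod.desc
      (((Tor (ModuleCat.{u} B') 1).obj (ModuleCat.of B' L')).map
        (ModuleCat.ofHom (IsScalarTower.toAlgHom B' B A).toLinearMap))
      (((Tor (ModuleCat.{u} B') 1).obj (ModuleCat.of B' L')).map
        (ModuleCat.ofHom (IsScalarTower.toAlgHom B' A' A).toLinearMap))) := by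
  obtain ⟨hsurj, hfib⟩ := hsq
  let p : B →ₗ[B'] A := (IsScalarTower.toAlgHom B' B A).toLinearMap
  let q : A' →ₗ[B'] A := (IsScalarTower.toAlgHom B' A' A).toLinearMap
  have hp : ∀ b, p b = algebraMap B A b := fun b => rfl
  have hq : ∀ a, q a = algebraMap A' A a := fun a => rfl
  let ι : B' →ₗ[B'] B × A' := (Algebra.linearMap B' B).prod (-(Algebra.linearMap B' A'))
  let π : B × A' →ₗ[B'] A := p.coprod q
  have hι_apply : ∀ b', ι b' = (algebraMap B' B b', -algebraMap B' A' b') := fun b' => rfl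
  have hπ_apply : ∀ x : B × A', π x = algebraMap B A x.1 + algebraMap A' A x.2 := fun x => rfl
  have hπι : ∀ b', π (ι b') = 0 := by
    intro b'
    rw [hι_apply, hπ_apply]
    simp only [map_neg]
    rw [← IsScalarTower.algebraMap_apply B' B A, ← IsScalarTower.algebraMap_apply B' A' A,
      add_neg_cancel]
  have hι : Function.Injective ι := by
    intro b' c' h
    rw [hι_apply, hι_apply, Prod.mk.injEq, neg_inj] at h
    have hcomm : algebraMap B A (algebraMap B' B c') = algebraMap A' A (algebraMap B' A' c') := by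
      rw [← IsScalarTower.algebraMap_apply B' B A, ← IsScalarTower.algebraMap_apply B' A' A]
    obtain ⟨d, -, hd⟩ := hfib _ _ hcomm
    rw [hd b' ⟨h.1, h.2⟩, hd c' ⟨rfl, rfl⟩]
  have hex : Function.Exact ι π := by
    intro x
    constructor
    · intro hx
      rw [hπ_apply] at hx
      have hcomm : algebraMap B A x.1 = algebraMap A' A (-x.2) := by
        rw [map_neg]
        exact eq_neg_of_add_eq_zero_left hx
      obtain ⟨b', ⟨h1, h2⟩, -⟩ := hfib _ _ hcomm
      refine ⟨b', ?_⟩
      rw [hι_apply, h1, h2, neg_neg]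
    · rintro ⟨b', rfl⟩
      exact hπι b'
  have hπ : Function.Surjective π := by
    intro a
    obtain ⟨a', rfl⟩ := hsurj a
    exact ⟨(0, a'), by rw [hπ_apply, map_zero, zero_add]⟩
  let S : ShortComplex (ModuleCat.{u} B') :=
    ShortComplex.mk (ModuleCat.ofHom ι) (ModuleCat.ofHom π)
      (ModuleCat.hom_ext (LinearMap.ext fun x => hπι x))
  have hS : S.ShortExact := by
    refine ShortComplex.ShortExact.mk' ?_ ?_ ?_
    · rw [ShortComplex.ShortExact.moduleCat_exact_iff_function_exact]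
      exact hex
    · exact (ModuleCat.mono_iff_injective _).2 hι
    · exact (ModuleCat.epi_iff_surjective _).2 hπ
  -- linear algebra step
  have hcomp : ∀ l : L', TensorProduct.prodRight B' B' L' B A' (ι.lTensor L' (l ⊗ₜ[B'] (1 : B'))) =
      (l ⊗ₜ[B'] (1 : B), -(l ⊗ₜ[B'] (1 : A'))) := by
    intro l
    rw [LinearMap.lTensor_tmul, TensorProduct.prodRight_tmul, hι_apply]
    simp only [map_one, TensorProduct.tmul_neg]
  have hcommB : ∀ l : L', (l ⊗ₜ[B'] (1 : B) : L' ⊗[B'] B) = 0 ↔
      ((1 : B) ⊗ₜ[B'] l : B ⊗[B'] L') = 0 := by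
    intro l
    rw [← (TensorProduct.comm B' L' B).map_eq_zero_iff, TensorProduct.comm_tmul]
  have hcommA : ∀ l : L', (l ⊗ₜ[B'] (1 : A') : L' ⊗[B'] A') = 0 ↔
      ((1 : A') ⊗ₜ[B'] l : A' ⊗[B'] L') = 0 := by
    intro l
    rw [← (TensorProduct.comm B' L' A').map_eq_zero_iff, TensorProduct.comm_tmul]
  have hzero : ∀ l : L', ι.lTensor L' (l ⊗ₜ[B'] (1 : B')) = 0 ↔
      (((1 : B) ⊗ₜ[B'] l : B ⊗[B'] L') = 0 ∧ ((1 : A') ⊗ₜ[B'] l : A' ⊗[B'] L') = 0) := by
    intro l
    rw [← (TensorProduct.prodRight B' B' L' B A').map_eq_zero_iff, hcomp, Prod.mk_eq_zero,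
      neg_eq_zero, hcommB, hcommA]
  have step1 : (∀ l : L', ((1 : B) ⊗ₜ[B'] l : B ⊗[B'] L') = 0 →
      ((1 : A') ⊗ₜ[B'] l : A' ⊗[B'] L') = 0 → l = 0) ↔ Function.Injective (ι.lTensor L') := by
    constructor
    · intro h
      rw [injective_iff_map_eq_zero]
      intro x hx
      have hx' : x = (TensorProduct.rid B' L' x) ⊗ₜ[B'] (1 : B') := by
        rw [← TensorProduct.rid_symm_apply, LinearEquiv.symm_apply_apply]
      rw [hx', hzero] at hx
      rw [hx', h _ hx.1 hx.2, TensorProduct.zero_tmul]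
    · intro h l h1 h2
      have h0 : ι.lTensor L' (l ⊗ₜ[B'] (1 : B')) = 0 := (hzero l).2 ⟨h1, h2⟩
      have h3 : l ⊗ₜ[B'] (1 : B') = 0 := h (by rw [h0, map_zero])
      have h4 := congrArg (TensorProduct.rid B' L') h3
      rwa [TensorProduct.rid_tmul, one_smul, map_zero] at h4
  have step2 : Function.Injective (ι.lTensor L') ↔
      Mono (((Tor (ModuleCat.{u} B') 0).obj (ModuleCat.of B' L')).map S.f) :=
    (mono_tor0_map_right_iff (ModuleCat.of B' L') S.f).symm
  have step3 := (epi_iff_mono_of_shortExact (ModuleCat.of B' L') S hS 0).symm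
  have htot : ModuleCat.ofHom (LinearMap.fst B' B A') ≫ ModuleCat.ofHom (LinearMap.inl B' B A') +
      ModuleCat.ofHom (LinearMap.snd B' B A') ≫ ModuleCat.ofHom (LinearMap.inr B' B A') =
        𝟙 (ModuleCat.of B' (B × A')) := by
    refine ModuleCat.hom_ext (LinearMap.ext fun x => ?_)
    show ((x.1, (0 : A')) : B × A') + ((0 : B), x.2) = x
    simp
  have step4 := epi_map_iff_epi_desc ((Tor (ModuleCat.{u} B') (0 + 1)).obj (ModuleCat.of B' L'))
    (ModuleCat.ofHom (LinearMap.inl B' B A')) (ModuleCat.ofHom (LinearMap.inr B' B A'))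
    (ModuleCat.ofHom (LinearMap.fst B' B A')) (ModuleCat.ofHom (LinearMap.snd B' B A')) htot S.g
  have e1 : ModuleCat.ofHom (LinearMap.inl B' B A') ≫ S.g = ModuleCat.ofHom p := by
    refine ModuleCat.hom_ext (LinearMap.ext fun x => ?_)
    show π ((x, 0) : B × A') = p x
    rw [hπ_apply, map_zero, add_zero]
    rfl
  have e2 : ModuleCat.ofHom (LinearMap.inr B' B A') ≫ S.g = ModuleCat.ofHom q := by
    refine ModuleCat.hom_ext (LinearMap.ext fun x => ?_)
    show π ((0, x) : B × A') = q x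
    rw [hπ_apply, map_zero, zero_add]
    rfl
  rw [e1, e2] at step4
  exact step1.trans (step2.trans (step3.trans step4))

end milnor

end Groth.Agent.Helper21.TAD
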