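import Mathlib
import Groth.Agent.Lib.Helper21.TorNatSym

/-!
# A map from a finitely presented module killing all `Tor₁` factors through a free module
-/

set_option autoImplicit false

namespace Groth.Agent.Helper21.TF1

open TensorProduct Function CategoryTheory MonoidalCategory Limits
open Groth.Agent.Helper18.TorLib

universe u

variable {R : Type u} [CommRing R]

/-- If `Tor₁(τ₃, N) = 0` for a morphism of short exact sequences, then `τ₁ ⊗ N` kills the kernel
of `S.f ⊗ N`. -/
theorem key {S S' : ShortComplex (ModuleCat.{u} R)} (hS : S.ShortExact) (hS' : S'.ShortExact)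
    (ψ : S ⟶ S') (N : ModuleCat.{u} R)
    (h : ((Tor (ModuleCat.{u} R) 1).map ψ.τ₃).app N = 0) (z : (S.X₁ ⊗ N : ModuleCat.{u} R))
    (hz : (S.f ▷ N).hom z = 0) : (ψ.τ₁ ▷ N).hom z = 0 := by
  have hex := tor_exact₁ hS N 0
  rw [ShortComplex.moduleCat_exact_iff] at hex
  have e1 := Groth.Agent.Helper21.TNS.iso_inv_hom_apply (tor0Iso S.X₁ N) z
  have h1 : (((Tor (ModuleCat.{u} R) 0).map S.f).app N).hom ((tor0Iso S.X₁ N).inv.hom z) = 0 := by
    have hn := Groth.Agent.Helper21.TNS.elt_eq (tor0Iso_hom_naturality S.f N)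
      ((tor0Iso S.X₁ N).inv.hom z)
    rw [e1, hz] at hn
    exact (Groth.Agent.Helper21.TNS.iso_apply_eq_zero (tor0Iso S.X₂ N) _).1 hn
  obtain ⟨ζ, hζ⟩ := hex _ h1
  have hζ' : (torδ hS N 0).hom ζ = (tor0Iso S.X₁ N).inv.hom z := hζ
  have hn2 := Groth.Agent.Helper21.TNS.elt_eq
    (Groth.Agent.Helper6.TorNat.torδ_naturality_left hS hS' ψ N 0) ζ
  rw [h, ModuleCat.hom_zero, LinearMap.zero_apply, map_zero, hζ'] at hn2
  have hn3 := Groth.Agent.Helper21.TNS.elt_eq (tor0Iso_hom_naturality ψ.τ₁ N)
    ((tor0Iso S.X₁ N).inv.hom z)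
  rw [← hn2, map_zero, e1] at hn3
  exact hn3.symm

/-- the kernel short complex of a linear map. -/
noncomputable abbrev sc {F M : Type u} [AddCommGroup F] [Module R F] [AddCommGroup M]
    [Module R M] (π : F →ₗ[R] M) : ShortComplex (ModuleCat.{u} R) :=
  ShortComplex.mk (ModuleCat.ofHom (LinearMap.ker π).subtype) (ModuleCat.ofHom π)
    (ModuleCat.hom_ext (LinearMap.ext fun (x : LinearMap.ker π) => LinearMap.mem_ker.1 x.2))

theorem shortExact_of_ker {F M : Type u} [AddCommGroup F] [Module R F] [AddCommGroup M]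
    [Module R M] (π : F →ₗ[R] M) (hπ : Surjective π) :
    (sc π).ShortExact := by
  refine ShortComplex.ShortExact.mk' ?_ ?_ ?_
  · rw [ShortComplex.ShortExact.moduleCat_exact_iff_function_exact]
    exact LinearMap.exact_subtype_ker_map π
  · exact (ModuleCat.mono_iff_injective _).2 (Submodule.injective_subtype _)
  · exact (ModuleCat.epi_iff_surjective _).2 hπ

section coords

variable {n m : ℕ} (k : Fin m → (Fin n → R))

/-- the transpose of the matrix of generators. -/
noncomputable def cmap : (Fin n → R) →ₗ[R] (Fin m → R) :=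
  LinearMap.pi fun i => ∑ j, (k i j) • (LinearMap.proj j : (Fin n → R) →ₗ[R] R)

theorem cmap_apply (x : Fin n → R) (i : Fin m) : cmap k x i = ∑ j, k i j * x j := by
  simp [cmap]

theorem cmap_single (j : Fin n) : cmap k (Pi.single j 1) = ∑ i, k i j • (Pi.single i 1 : Fin m → R) := by
  funext i
  rw [cmap_apply, Finset.sum_apply]
  simp [Pi.single_apply]

theorem coord_lTensor (K' : Type u) [AddCommMonoid K'] [Module R K'] (ω : K' ⊗[R] (Fin n → R))
    (i : Fin m) :
    TensorProduct.piScalarRight R R K' (Fin m) ((cmap k).lTensor K' ω) i =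
      ∑ j, k i j • TensorProduct.piScalarRight R R K' (Fin n) ω j := by
  induction ω using TensorProduct.induction_on with
  | zero => simp
  | tmul y f =>
    rw [LinearMap.lTensor_tmul, TensorProduct.piScalarRight_apply,
      TensorProduct.piScalarRightHom_tmul, TensorProduct.piScalarRight_apply,
      TensorProduct.piScalarRightHom_tmul]
    show (cmap k f i) • y = ∑ j, k i j • (f j • y)
    rw [cmap_apply, Finset.sum_smul]
    refine Finset.sum_congr rfl (fun j _ => ?_)
    rw [mul_smul]
  | add x y hx hy =>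
    rw [map_add, map_add, Pi.add_apply, hx, hy, map_add, ← Finset.sum_add_distrib]
    refine Finset.sum_congr rfl (fun j _ => ?_)
    rw [Pi.add_apply, smul_add]

end coords

/-- the factorisation through a free module. -/
theorem factor (M M' : Type u) [AddCommGroup M] [Module R M] [Module.FinitePresentation R M]
    [AddCommGroup M'] [Module R M'] (α : M →ₗ[R] M')
    (h : ∀ (N : Type u) [AddCommGroup N] [Module R N],
      ((Tor (ModuleCat.{u} R) 1).map (ModuleCat.ofHom α)).app (ModuleCat.of R N) = 0) :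
    ∃ g : M →ₗ[R] (M' →₀ R), α = (Finsupp.linearCombination R (id : M' → M')) ∘ₗ g := by
  classical
  obtain ⟨n, π₀, hπ₀⟩ := Module.Finite.exists_fin' R M
  have hK : (LinearMap.ker π₀).FG := Module.FinitePresentation.fg_ker π₀ hπ₀
  obtain ⟨m, k, hk⟩ := Submodule.fg_iff_exists_fin_generating_family.1 hK
  have hπ' : Surjective (Finsupp.linearCombination R (id : M' → M')) := fun y =>
    ⟨Finsupp.single y 1, by simp⟩
  let αF : (Fin n → R) →ₗ[R] (M' →₀ R) :=
    (Pi.basisFun R (Fin n)).constr R (fun j => Finsupp.single (α (π₀ (Pi.single j 1))) (1 : R))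
  have hαF : ∀ x, Finsupp.linearCombination R (id : M' → M') (αF x) = α (π₀ x) := by
    intro x
    have hcomp : (Finsupp.linearCombination R (id : M' → M')) ∘ₗ αF = α ∘ₗ π₀ := by
      apply (Pi.basisFun R (Fin n)).ext
      intro j
      simp [αF]
    exact LinearMap.congr_fun hcomp x
  have hαK : ∀ x ∈ LinearMap.ker π₀,
      αF x ∈ LinearMap.ker (Finsupp.linearCombination R (id : M' → M')) := by
    intro x hx
    rw [LinearMap.mem_ker, hαF, LinearMap.mem_ker.1 hx, map_zero]
  let αK : LinearMap.ker π₀ →ₗ[R]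
      LinearMap.ker (Finsupp.linearCombination R (id : M' → M')) := αF.restrict hαK
  have hkey : ∀ (N : Type u) [AddCommGroup N] [Module R N] (z : LinearMap.ker π₀ ⊗[R] N),
      (LinearMap.ker π₀).subtype.rTensor N z = 0 → αK.rTensor N z = 0 := by
    intro N _ _ z hz
    let ψ : sc π₀ ⟶ sc (Finsupp.linearCombination R (id : M' → M')) :=
      ShortComplex.homMk (ModuleCat.ofHom αK) (ModuleCat.ofHom αF) (ModuleCat.ofHom α)
        (ModuleCat.hom_ext (LinearMap.ext fun (x : LinearMap.ker π₀) => rfl))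
        (ModuleCat.hom_ext (LinearMap.ext fun (x : Fin n → R) => hαF x))
    exact key (shortExact_of_ker π₀ hπ₀) (shortExact_of_ker _ hπ') ψ (ModuleCat.of R N) (h N) z hz
  -- the test module
  have hkmem : ∀ i, k i ∈ LinearMap.ker π₀ := by
    intro i
    rw [← hk]
    exact Submodule.subset_span ⟨i, rfl⟩
  have hz : (LinearMap.ker π₀).subtype.rTensor ((Fin m → R) ⧸ LinearMap.range (cmap k))
      (∑ i, (⟨k i, hkmem i⟩ : LinearMap.ker π₀) ⊗ₜ[R]
        (LinearMap.range (cmap k)).mkQ (Pi.single i 1)) = 0 := by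
    have h1 : ∀ i, (k i) ⊗ₜ[R] (LinearMap.range (cmap k)).mkQ (Pi.single i 1) =
        ∑ j, (Pi.single j 1 : Fin n → R) ⊗ₜ[R]
          (k i j • (LinearMap.range (cmap k)).mkQ (Pi.single i 1)) := by
      intro i
      conv_lhs => rw [pi_eq_sum_univ' (k i)]
      rw [TensorProduct.sum_tmul]
      refine Finset.sum_congr rfl (fun j _ => ?_)
      rw [TensorProduct.smul_tmul]
    rw [map_sum]
    simp_rw [LinearMap.rTensor_tmul, Submodule.subtype_apply, h1]
    rw [Finset.sum_comm]
    refine Finset.sum_eq_zero (fun j _ => ?_)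
    rw [← TensorProduct.tmul_sum]
    have h2 : ∑ i, k i j • (LinearMap.range (cmap k)).mkQ (Pi.single i 1) =
        (LinearMap.range (cmap k)).mkQ (cmap k (Pi.single j 1)) := by
      rw [cmap_single, map_sum]
      simp_rw [map_smul]
    rw [h2, Submodule.mkQ_apply, (Submodule.Quotient.mk_eq_zero _).2 (LinearMap.mem_range_self _ _),
      TensorProduct.tmul_zero]
  have hz' := hkey _ _ hz
  rw [map_sum] at hz'
  simp_rw [LinearMap.rTensor_tmul] at hz'
  -- exactness
  have hexact : Function.Exact ((cmap k).lTensor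
      (LinearMap.ker (Finsupp.linearCombination R (id : M' → M'))))
      ((LinearMap.range (cmap k)).mkQ.lTensor
        (LinearMap.ker (Finsupp.linearCombination R (id : M' → M')))) :=
    lTensor_exact (LinearMap.ker (Finsupp.linearCombination R (id : M' → M')))
      (LinearMap.exact_map_mkQ_range (cmap k)) (Submodule.mkQ_surjective _)
  have hξ : (LinearMap.range (cmap k)).mkQ.lTensor
      (LinearMap.ker (Finsupp.linearCombination R (id : M' → M')))
      (∑ i, αK ⟨k i, hkmem i⟩ ⊗ₜ[R] (Pi.single i 1 : Fin m → R)) = 0 := by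
    rw [map_sum]
    simp_rw [LinearMap.lTensor_tmul]
    exact hz'
  obtain ⟨ω, hω⟩ := (hexact _).1 hξ
  have hcoord : ∀ i, αK ⟨k i, hkmem i⟩ = ∑ j, k i j •
      TensorProduct.piScalarRight R R
        (LinearMap.ker (Finsupp.linearCombination R (id : M' → M'))) (Fin n) ω j := by
    intro i
    rw [← coord_lTensor k _ ω i, hω, map_sum, Finset.sum_apply]
    simp_rw [TensorProduct.piScalarRight_apply, TensorProduct.piScalarRightHom_tmul]
    rw [Finset.sum_eq_single i]
    · rw [Pi.single_eq_same, one_smul]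
    · intro b _ hb
      rw [Pi.single_eq_of_ne hb.symm, zero_smul]
    · intro hi
      exact absurd (Finset.mem_univ i) hi
  -- the extension `β`
  obtain ⟨w, hw⟩ : ∃ w : Fin n → LinearMap.ker (Finsupp.linearCombination R (id : M' → M')),
      ∀ i, αK ⟨k i, hkmem i⟩ = ∑ j, k i j • w j := ⟨_, hcoord⟩
  obtain ⟨β, hβk, hβπ⟩ : ∃ β : (Fin n → R) →ₗ[R] (M' →₀ R), (∀ i, β (k i) = αF (k i)) ∧
      ∀ x, Finsupp.linearCombination R (id : M' → M') (β x) = 0 := by
    refine ⟨(LinearMap.ker (Finsupp.linearCombination R (id : M' → M'))).subtype ∘ₗ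
      (Pi.basisFun R (Fin n)).constr R w, ?_, ?_⟩
    · intro i
      have h3 : (αK ⟨k i, hkmem i⟩ : M' →₀ R) = αF (k i) := rfl
      have h4 : (Pi.basisFun R (Fin n)).constr R w (k i) = ∑ j, k i j • w j := by
        rw [Module.Basis.constr_apply_fintype, Pi.basisFun_equivFun]
        rfl
      rw [← h3, hw i, ← h4]
      rfl
    · intro x
      exact LinearMap.mem_ker.1 ((Pi.basisFun R (Fin n)).constr R w x).2
  have hβK : ∀ x ∈ LinearMap.ker π₀, (αF - β) x = 0 := by
    intro x hx
    rw [← hk] at hx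
    rw [LinearMap.sub_apply, sub_eq_zero]
    refine (LinearMap.eqOn_span (f := β) (g := αF) ?_ hx).symm
    rintro _ ⟨i, rfl⟩
    exact hβk i
  refine ⟨((LinearMap.ker π₀).liftQ (αF - β) (fun x hx => hβK x hx)) ∘ₗ
    (π₀.quotKerEquivOfSurjective hπ₀).symm.toLinearMap, ?_⟩
  apply LinearMap.ext
  intro y
  obtain ⟨x, rfl⟩ := hπ₀ y
  have h5 : (π₀.quotKerEquivOfSurjective hπ₀).symm (π₀ x) =
      Submodule.Quotient.mk x := by
    rw [LinearEquiv.symm_apply_eq]
    rfl
  rw [LinearMap.comp_apply, LinearMap.comp_apply, LinearEquiv.coe_coe, h5,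
    Submodule.liftQ_apply, LinearMap.sub_apply, map_sub, hαF, hβπ, sub_zero]

end Groth.Agent.Helper21.TF1
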