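import Mathlib
import Groth.Agent.Lib.Helper21.TorAR
import Groth.Agent.Lib.Helper21.TorAdd
import Groth.Agent.Lib.Helper21.TorFactor

/-!
# Uniform Artin–Rees vanishing for `Tor_i(M, R/Iⁿ) → Tor_i(M, R/Iⁿ⁻ᶜ)` on modules killed by `Iᵐ`
-/

set_option autoImplicit false

open CategoryTheory Limits MonoidalCategory

namespace Groth.Agent.Helper21.TAR2

open Groth.Agent.Helper18.TorLib Groth.Agent.Helper6.TorNat Groth.Agent.Helper21.TNS
  Groth.Agent.Helper21.TAR TensorProduct

universe u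

variable {R : Type u} [CommRing R]

/-- the transition maps `Tor_i(X, R/I^a) → Tor_i(X, R/I^b)` vanish for `a ≥ b + c`. -/
def ZM (I : Ideal R) (X : ModuleCat.{u} R) (i c : ℕ) : Prop :=
  ∀ a b : ℕ, b + c ≤ a → ∀ h : I ^ a ≤ I ^ b,
    ((Tor (ModuleCat.{u} R) i).obj X).map (ModuleCat.ofHom (Submodule.factor h)) = 0

theorem zm_of_iso (I : Ideal R) {X Y : ModuleCat.{u} R} (e : X ≅ Y) (i c : ℕ)
    (h : ZM I X i c) : ZM I Y i c := by
  intro a b hab hle
  have hn := ((Tor (ModuleCat.{u} R) i).map e.inv).naturality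
    (ModuleCat.ofHom (Submodule.factor hle))
  rw [h a b hab hle, comp_zero] at hn
  have hid : ((Tor (ModuleCat.{u} R) i).map e.inv).app (ModuleCat.of R (R ⧸ I ^ b)) ≫
      ((Tor (ModuleCat.{u} R) i).map e.hom).app (ModuleCat.of R (R ⧸ I ^ b)) = 𝟙 _ := by
    rw [← NatTrans.comp_app, ← CategoryTheory.Functor.map_comp, e.inv_hom_id, CategoryTheory.Functor.map_id, NatTrans.id_app]
  calc ((Tor (ModuleCat.{u} R) i).obj Y).map (ModuleCat.ofHom (Submodule.factor hle))
      = ((Tor (ModuleCat.{u} R) i).obj Y).map (ModuleCat.ofHom (Submodule.factor hle)) ≫ 𝟙 _ :=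
        (Category.comp_id _).symm
    _ = (((Tor (ModuleCat.{u} R) i).obj Y).map (ModuleCat.ofHom (Submodule.factor hle)) ≫
          ((Tor (ModuleCat.{u} R) i).map e.inv).app (ModuleCat.of R (R ⧸ I ^ b))) ≫
          ((Tor (ModuleCat.{u} R) i).map e.hom).app (ModuleCat.of R (R ⧸ I ^ b)) := by
        rw [Category.assoc, hid]
    _ = 0 := by rw [hn, zero_comp]

theorem zm_shift (I : Ideal R) {S : ShortComplex (ModuleCat.{u} R)} (hS : S.ShortExact)
    [Module.Flat R S.X₂] (i c : ℕ) (h : ZM I S.X₁ i c) : ZM I S.X₃ (i + 1) c := by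
  intro a b hab hle
  have hmono : Mono (torδ hS (ModuleCat.of R (R ⧸ I ^ b)) i) :=
    (tor_exact₃ hS (ModuleCat.of R (R ⧸ I ^ b)) i).mono_g
      ((isZero_tor_succ_of_flat_left S.X₂ (ModuleCat.of R (R ⧸ I ^ b)) i).eq_of_src _ _)
  rw [← cancel_mono (torδ hS (ModuleCat.of R (R ⧸ I ^ b)) i), zero_comp,
    torδ_naturality_right hS (ModuleCat.ofHom (Submodule.factor hle)) i, h a b hab hle,
    comp_zero]

theorem zm_ext (I : Ideal R) {S : ShortComplex (ModuleCat.{u} R)} (hS : S.ShortExact)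
    (i c₁ c₂ : ℕ) (h₁ : ZM I S.X₁ i c₂) (h₂ : ZM I S.X₂ (i + 1) c₁) :
    ZM I S.X₃ (i + 1) (c₁ + c₂) := by
  intro a b hab hle
  have hle₁ : I ^ a ≤ I ^ (b + c₁) := Ideal.pow_le_pow_right (by omega)
  have hle₂ : I ^ (b + c₁) ≤ I ^ b := Ideal.pow_le_pow_right (by omega)
  have hfac : ModuleCat.ofHom (Submodule.factor hle) =
      ModuleCat.ofHom (Submodule.factor hle₁) ≫ ModuleCat.ofHom (Submodule.factor hle₂) := by
    rw [← ModuleCat.ofHom_comp, Submodule.factor_comp]
  rw [hfac, CategoryTheory.Functor.map_comp]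
  refine ModuleCat.hom_ext (LinearMap.ext fun x => ?_)
  rw [ModuleCat.hom_comp, LinearMap.comp_apply, ModuleCat.hom_zero, LinearMap.zero_apply]
  have hδ : (torδ hS (ModuleCat.of R (R ⧸ I ^ (b + c₁))) i).hom
      ((((Tor (ModuleCat.{u} R) (i + 1)).obj S.X₃).map
        (ModuleCat.ofHom (Submodule.factor hle₁))).hom x) = 0 := by
    rw [elt_eq (torδ_naturality_right hS (ModuleCat.ofHom (Submodule.factor hle₁)) i) x,
      h₁ a (b + c₁) (by omega) hle₁, ModuleCat.hom_zero, LinearMap.zero_apply]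
  have hex := tor_exact₃ hS (ModuleCat.of R (R ⧸ I ^ (b + c₁))) i
  rw [ShortComplex.moduleCat_exact_iff] at hex
  obtain ⟨y, hy⟩ := hex _ hδ
  have hy' : (((Tor (ModuleCat.{u} R) (i + 1)).map S.g).app
      (ModuleCat.of R (R ⧸ I ^ (b + c₁)))).hom y =
      (((Tor (ModuleCat.{u} R) (i + 1)).obj S.X₃).map
        (ModuleCat.ofHom (Submodule.factor hle₁))).hom x := hy
  rw [← hy']
  have hn := elt_eq (((Tor (ModuleCat.{u} R) (i + 1)).map S.g).naturality
    (ModuleCat.ofHom (Submodule.factor hle₂))) y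
  rw [← hn, h₂ (b + c₁) b le_rfl hle₂, ModuleCat.hom_zero, LinearMap.zero_apply, map_zero]

instance additive_tor_flip (M : ModuleCat.{u} R) (n : ℕ) :
    ((Tor (ModuleCat.{u} R) n).flip.obj M).Additive where
  map_add := fun {_ _ f g} => Groth.Agent.Helper21.TAD.tor_map_add_left f g M n

theorem id_pi_eq_sum (X : Type u) [AddCommGroup X] [Module R X] (r : ℕ) :
    𝟙 (ModuleCat.of R (Fin r → X)) = ∑ j : Fin r,
      ModuleCat.ofHom (LinearMap.proj (R := R) (φ := fun _ : Fin r => X) j) ≫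
        ModuleCat.ofHom (LinearMap.single R (fun _ : Fin r => X) j) := by
  refine ModuleCat.hom_ext (LinearMap.ext fun x => ?_)
  rw [ModuleCat.hom_sum, LinearMap.sum_apply]
  simp only [ModuleCat.hom_comp, ModuleCat.hom_ofHom, LinearMap.comp_apply, LinearMap.proj_apply,
    LinearMap.coe_single, ModuleCat.hom_id, LinearMap.id_apply]
  exact (Finset.univ_sum_single x).symm

theorem zm_pi (I : Ideal R) (X : Type u) [AddCommGroup X] [Module R X] (r i c : ℕ)
    (h : ZM I (ModuleCat.of R X) i c) : ZM I (ModuleCat.of R (Fin r → X)) i c := by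
  intro a b hab hle
  have hid : 𝟙 (((Tor (ModuleCat.{u} R) i).flip.obj (ModuleCat.of R (R ⧸ I ^ a))).obj
      (ModuleCat.of R (Fin r → X))) =
      ∑ j : Fin r, ((Tor (ModuleCat.{u} R) i).flip.obj (ModuleCat.of R (R ⧸ I ^ a))).map
        (ModuleCat.ofHom (LinearMap.proj (R := R) (φ := fun _ : Fin r => X) j)) ≫
        ((Tor (ModuleCat.{u} R) i).flip.obj (ModuleCat.of R (R ⧸ I ^ a))).map
          (ModuleCat.ofHom (LinearMap.single R (fun _ : Fin r => X) j)) := by
    rw [← CategoryTheory.Functor.map_id ((Tor (ModuleCat.{u} R) i).flip.obj (ModuleCat.of R (R ⧸ I ^ a)))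
      (ModuleCat.of R (Fin r → X)), id_pi_eq_sum, CategoryTheory.Functor.map_sum]
    refine Finset.sum_congr rfl (fun j _ => ?_)
    rw [CategoryTheory.Functor.map_comp]
  have hstep : ∀ j : Fin r,
      ((Tor (ModuleCat.{u} R) i).flip.obj (ModuleCat.of R (R ⧸ I ^ a))).map
          (ModuleCat.ofHom (LinearMap.single R (fun _ : Fin r => X) j)) ≫
        ((Tor (ModuleCat.{u} R) i).obj (ModuleCat.of R (Fin r → X))).map
          (ModuleCat.ofHom (Submodule.factor hle)) = 0 := by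
    intro j
    have hn := ((Tor (ModuleCat.{u} R) i).map
      (ModuleCat.ofHom (LinearMap.single R (fun _ : Fin r => X) j))).naturality
      (ModuleCat.ofHom (Submodule.factor hle))
    rw [h a b hab hle, zero_comp] at hn
    exact hn.symm
  calc ((Tor (ModuleCat.{u} R) i).obj (ModuleCat.of R (Fin r → X))).map
        (ModuleCat.ofHom (Submodule.factor hle))
      = 𝟙 (((Tor (ModuleCat.{u} R) i).flip.obj (ModuleCat.of R (R ⧸ I ^ a))).obj
          (ModuleCat.of R (Fin r → X))) ≫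
        ((Tor (ModuleCat.{u} R) i).obj (ModuleCat.of R (Fin r → X))).map
          (ModuleCat.ofHom (Submodule.factor hle)) := (Category.id_comp _).symm
    _ = 0 := by
      rw [hid, Preadditive.sum_comp]
      refine Finset.sum_eq_zero (fun j _ => ?_)
      rw [Category.assoc, hstep j, comp_zero]

theorem ar_step (I : Ideal R) {F : Type*} [AddCommGroup F] [Module R F] (K : Submodule R F)
    (a b : ℕ) (hK : (I ^ a • ⊤ ⊓ K : Submodule R F) ≤ I ^ b • K) (h : I ^ a ≤ I ^ b)
    (z : K ⊗[R] (R ⧸ I ^ a)) (hz : (K.subtype.rTensor (R ⧸ I ^ a)) z = 0) :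
    ((Submodule.factor h).lTensor K) z = 0 := by
  obtain ⟨k, rfl⟩ := exists_tmul_one (I ^ a) z
  rw [LinearMap.rTensor_tmul] at hz
  have hk : (k : F) ∈ (I ^ a • ⊤ : Submodule R F) := mem_of_tmul_one_eq_zero _ _ hz
  have hk2 : (k : F) ∈ (I ^ b • K : Submodule R F) := hK ⟨hk, k.2⟩
  have hk3 : k ∈ (I ^ b • ⊤ : Submodule R K) := by
    have hmap : (I ^ b • K : Submodule R F) = (I ^ b • (⊤ : Submodule R K)).map K.subtype := by
      rw [Submodule.map_smul'', Submodule.map_subtype_top]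
    rw [hmap] at hk2
    obtain ⟨y, hy, hyk⟩ := hk2
    have : y = k := Subtype.ext hyk
    rwa [← this]
  rw [LinearMap.lTensor_tmul]
  have hf : (Submodule.factor h) (Ideal.Quotient.mk (I ^ a) 1) =
      Ideal.Quotient.mk (I ^ b) 1 := Submodule.factor_mk h 1
  rw [hf]
  exact tmul_one_eq_zero_of_mem _ _ hk3

theorem zm_one_of_killed (I : Ideal R) (m : ℕ) (X : Type u) [AddCommGroup X] [Module R X]
    (hX : ∀ r ∈ I ^ m, ∀ x : X, r • x = 0) : ZM I (ModuleCat.of R X) 1 m := by
  intro a b hab hle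
  let π : (X →₀ R) →ₗ[R] X := Finsupp.linearCombination R (id : X → X)
  have hπ : Function.Surjective π := fun y => ⟨Finsupp.single y 1, by simp [π]⟩
  have hS := Groth.Agent.Helper21.TF1.shortExact_of_ker π hπ
  have hflat : Module.Flat R (Groth.Agent.Helper21.TF1.sc π).X₂ :=
    inferInstanceAs (Module.Flat R (X →₀ R))
  refine tor_one_map_eq_zero hS (ModuleCat.ofHom (Submodule.factor hle)) (fun z hz => ?_)
  refine ar_step I (LinearMap.ker π) a b ?_ hle z hz
  have h1 : (I ^ m • ⊤ : Submodule R (X →₀ R)) ≤ LinearMap.ker π := by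
    rw [Submodule.smul_le]
    intro r hr f _
    rw [LinearMap.mem_ker, map_smul]
    exact hX r hr _
  have h2 : I ^ a = I ^ b * I ^ (a - b) := by
    rw [← pow_add]
    congr 1
    omega
  calc (I ^ a • ⊤ ⊓ LinearMap.ker π : Submodule R (X →₀ R)) ≤ I ^ a • ⊤ := inf_le_left
    _ = I ^ b • (I ^ (a - b) • ⊤) := by rw [h2, Submodule.mul_smul]
    _ ≤ I ^ b • (I ^ m • ⊤) :=
      Submodule.smul_mono le_rfl
        (Submodule.smul_mono (Ideal.pow_le_pow_right (by omega)) le_rfl)
    _ ≤ I ^ b • LinearMap.ker π := Submodule.smul_mono le_rfl h1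

theorem zm_of_finite [IsNoetherianRing R] (I : Ideal R) (i : ℕ) (hi : 1 ≤ i) :
    ∀ (X : Type u) [AddCommGroup X] [Module R X] [Module.Finite R X],
      ∃ c, ZM I (ModuleCat.of R X) i c := by
  induction i, hi using Nat.le_induction with
  | base =>
    intro X _ _ _
    obtain ⟨r, p, hp⟩ := Module.Finite.exists_fin' R X
    obtain ⟨k, hk⟩ := Ideal.exists_pow_inf_eq_pow_smul I (LinearMap.ker p)
    refine ⟨k, fun a b hab hle => ?_⟩
    have hS := Groth.Agent.Helper21.TF1.shortExact_of_ker p hp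
    have hflat : Module.Flat R (Groth.Agent.Helper21.TF1.sc p).X₂ :=
      inferInstanceAs (Module.Flat R (Fin r → R))
    refine tor_one_map_eq_zero hS (ModuleCat.ofHom (Submodule.factor hle)) (fun z hz => ?_)
    refine ar_step I (LinearMap.ker p) a b ?_ hle z hz
    rw [hk a (by omega)]
    calc I ^ (a - k) • (I ^ k • ⊤ ⊓ LinearMap.ker p) ≤ I ^ (a - k) • LinearMap.ker p :=
          Submodule.smul_mono le_rfl inf_le_right
      _ ≤ I ^ b • LinearMap.ker p :=
          Submodule.smul_mono (Ideal.pow_le_pow_right (by omega)) le_rfl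
  | succ i hi ih =>
    intro X _ _ _
    obtain ⟨r, p, hp⟩ := Module.Finite.exists_fin' R X
    obtain ⟨c, hc⟩ := ih (LinearMap.ker p)
    have hS := Groth.Agent.Helper21.TF1.shortExact_of_ker p hp
    have hflat : Module.Flat R (Groth.Agent.Helper21.TF1.sc p).X₂ :=
      inferInstanceAs (Module.Flat R (Fin r → R))
    exact ⟨c, zm_shift I hS i c hc⟩

theorem zm_uniform [IsNoetherianRing R] (I : Ideal R) (m : ℕ) (i : ℕ) (hi : 1 ≤ i) :
    ∃ c, ∀ (X : Type u) [AddCommGroup X] [Module R X] [Module.Finite R X],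
      (∀ r ∈ I ^ m, ∀ x : X, r • x = 0) → ZM I (ModuleCat.of R X) i c := by
  induction i, hi using Nat.le_induction with
  | base => exact ⟨m, fun X _ _ _ hX => zm_one_of_killed I m X hX⟩
  | succ i hi ih =>
    obtain ⟨c₂, hc₂⟩ := ih
    obtain ⟨c₁, hc₁⟩ := zm_of_finite I (i + 1) (by omega) (R ⧸ I ^ m)
    refine ⟨c₁ + c₂, fun X _ _ _ hX => ?_⟩
    have hT : Module.IsTorsionBySet R X ((I ^ m : Ideal R) : Set R) := by
      intro x a
      exact hX a.1 a.2 x
    let _ : Module (R ⧸ I ^ m) X := hT.module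
    have : IsScalarTower R (R ⧸ I ^ m) X := hT.isScalarTower
    have : Module.Finite (R ⧸ I ^ m) X := Module.Finite.of_restrictScalars_finite R (R ⧸ I ^ m) X
    obtain ⟨n, φ, hφ⟩ := Module.Finite.exists_fin' (R ⧸ I ^ m) X
    let ψ : (Fin n → R ⧸ I ^ m) →ₗ[R] X := φ.restrictScalars R
    have hψ : Function.Surjective ψ := hφ
    have hK : ∀ a ∈ I ^ m, ∀ x : LinearMap.ker ψ, a • x = 0 := by
      intro a ha x
      apply Subtype.ext
      funext j
      show a • (x.1 j) = 0
      rw [Algebra.smul_def, Ideal.Quotient.algebraMap_eq, Ideal.Quotient.eq_zero_iff_mem.2 ha,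
        zero_mul]
    have hS := Groth.Agent.Helper21.TF1.shortExact_of_ker ψ hψ
    have h1 : ZM I (ModuleCat.of R (LinearMap.ker ψ)) i c₂ := hc₂ _ hK
    have h2 : ZM I (ModuleCat.of R (Fin n → R ⧸ I ^ m)) (i + 1) c₁ :=
      zm_pi I (R ⧸ I ^ m) n (i + 1) c₁ hc₁
    exact zm_ext I hS i c₁ c₂ h1 h2

theorem eq_zero_of_isColimit {J C : Type*} [Category J] [Category C] [HasZeroMorphisms C]
    {K : J ⥤ C} {c : Cocone K} (hc : IsColimit c) {W : C} (f : c.pt ⟶ W)
    (h : ∀ j, c.ι.app j ≫ f = 0) : f = 0 := by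
  apply hc.hom_ext
  intro j
  rw [h j, comp_zero]

theorem zm_of_fg (I : Ideal R) (X : Type u) [AddCommGroup X] [Module R X] (i c : ℕ)
    (h : ∀ X₁ : Submodule R X, X₁.FG → ZM I (ModuleCat.of R X₁) i c) :
    ZM I (ModuleCat.of R X) i c := by
  classical
  let ι := {X₁ : Submodule R X // X₁.FG}
  have : Nonempty ι := ⟨⟨⊥, Submodule.fg_bot⟩⟩
  let G : ι → Type u := fun X₁ => X₁.1
  have hz : ZM I (ModuleCat.of R (Module.DirectLimit G (Module.fgSystem R X))) i c := by
    intro a b hab hle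
    let F := (Tor (ModuleCat.{u} R) i).flip.obj (ModuleCat.of R (R ⧸ I ^ a))
    have hpres : PreservesColimitsOfShape ι F := preserves_flip ι _ i
    have hc := ModuleCat.directLimitIsColimit G (Module.fgSystem R X)
    have hc' := isColimitOfPreserves F hc
    have key : ∀ j : ι, ((Tor (ModuleCat.{u} R) i).map (ModuleCat.ofHom
        (Module.DirectLimit.of R ι G (Module.fgSystem R X) j))).app (ModuleCat.of R (R ⧸ I ^ a)) ≫
        ((Tor (ModuleCat.{u} R) i).obj
          (ModuleCat.of R (Module.DirectLimit G (Module.fgSystem R X)))).map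
            (ModuleCat.ofHom (Submodule.factor hle)) = 0 := by
      intro j
      rw [← ((Tor (ModuleCat.{u} R) i).map (ModuleCat.ofHom
        (Module.DirectLimit.of R ι G (Module.fgSystem R X) j))).naturality
        (ModuleCat.ofHom (Submodule.factor hle))]
      have h0 : ((Tor (ModuleCat.{u} R) i).obj (ModuleCat.of R (G j))).map
          (ModuleCat.ofHom (Submodule.factor hle)) = 0 := h j.1 j.2 a b hab hle
      rw [h0, zero_comp]
    exact eq_zero_of_isColimit hc' _ key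
  exact zm_of_iso I (Module.fgSystem.equiv R X).toModuleIso i c hz

theorem main [IsNoetherianRing R] (I : Ideal R) (m i : ℕ) (hi : 0 < i) :
    ∃ c : ℕ, ∀ (M : Type u) [AddCommGroup M] [Module R M],
      (∀ a ∈ I ^ m, ∀ x : M, a • x = 0) → ZM I (ModuleCat.of R M) i c := by
  obtain ⟨c, hc⟩ := zm_uniform I m i hi
  refine ⟨c, fun M _ _ hM => zm_of_fg I M i c (fun X₁ hfg => ?_)⟩
  have : Module.Finite R X₁ := Module.Finite.iff_fg.2 hfg
  exact hc X₁ (fun a ha x => Subtype.ext (hM a ha x.1))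

end Groth.Agent.Helper21.TAR2
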