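import Mathlib
import Groth.Agent.Lib.Helper18.Tor.Low
import Groth.Agent.Lib.Helper6.TorBalance

/-!
# Objectwise symmetry of Tor and dévissage over Noetherian rings
-/

set_option autoImplicit false
universe u
open CategoryTheory CategoryTheory.Limits MonoidalCategory

namespace Groth.Agent.Helper21.TS

open Groth.Agent.Helper18.TorLib

variable {A : Type u} [CommRing A]

/-- `Tor_n(M, N) ≅ Tor_n(N, M)` (objectwise, not natural). -/
theorem nonempty_tor_comm (M N : ModuleCat.{u} A) (n : ℕ) :
    Nonempty (((Tor (ModuleCat.{u} A) n).obj M).obj N ≅ ((Tor (ModuleCat.{u} A) n).obj N).obj M) := by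
  obtain ⟨e⟩ := Groth.Agent.Helper6.TorBalance.nonempty_tor_iso M N (projectiveResolution M) n
  have e2 := torIso (projectiveResolution M) N n
  let β : tL N ≅ tensorRight N := BraidedCategory.tensorLeftIsoTensorRight N
  have e3 := (HomologicalComplex.homologyFunctor (ModuleCat.{u} A) (ComplexShape.down ℕ) n).mapIso
    ((NatIso.mapHomologicalComplex β (ComplexShape.down ℕ)).app (projectiveResolution M).complex)
  exact ⟨e ≪≫ e3.symm ≪≫ e2.symm⟩

theorem isZero_tor_comm {M N : ModuleCat.{u} A} {n : ℕ}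
    (h : IsZero (((Tor (ModuleCat.{u} A) n).obj M).obj N)) :
    IsZero (((Tor (ModuleCat.{u} A) n).obj N).obj M) := by
  obtain ⟨e⟩ := nonempty_tor_comm N M n
  exact h.of_iso e

/-- dévissage: if `Tor_{k+1}(A/p, M) = 0` for all primes then `Tor_{k+1}(N, M) = 0` for all
finite `N`. -/
theorem isZero_tor_of_finite [IsNoetherianRing A] (M : ModuleCat.{u} A) (k : ℕ)
    (h : ∀ p : Ideal A, p.IsPrime →
      IsZero (((Tor (ModuleCat.{u} A) (k + 1)).obj (ModuleCat.of A (A ⧸ p))).obj M))
    (N : Type u) [AddCommGroup N] [Module A N] [hN : Module.Finite A N] :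
    IsZero (((Tor (ModuleCat.{u} A) (k + 1)).obj (ModuleCat.of A N)).obj M) := by
  induction hN using IsNoetherianRing.induction_on_isQuotientEquivQuotientPrime A with
  | subsingleton N =>
    have : Module.Flat A (ModuleCat.of A N) := inferInstanceAs (Module.Flat A N)
    exact isZero_tor_succ_of_flat_left (ModuleCat.of A N) M k
  | quotient N p f =>
    exact (h p.1 p.2).of_iso (((Tor (ModuleCat.{u} A) (k + 1)).mapIso f.toModuleIso).app M)
  | exact N₁ N₂ N₃ f g hf hg hfg h₁ h₃ =>
    let S : ShortComplex (ModuleCat.{u} A) :=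
      ShortComplex.mk (ModuleCat.ofHom f) (ModuleCat.ofHom g)
        (ModuleCat.hom_ext (LinearMap.ext fun z => hfg.apply_apply_eq_zero z))
    have hS : S.ShortExact := ModuleCat.shortComplex_shortExact S hfg hf hg
    have hex := tor_exact₂ hS M (k + 1)
    exact hex.isZero_of_both_zeros (h₁.eq_of_src _ _) (h₃.eq_of_tgt _ _)

/-- over a Noetherian ring, `M` is flat iff `Tor_1(A/p, M) = 0` for all primes `p`. -/
theorem flat_of_tor_one_prime [IsNoetherianRing A] (M : Type u) [AddCommGroup M] [Module A M]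
    (h : ∀ p : Ideal A, p.IsPrime →
      IsZero (((Tor (ModuleCat.{u} A) 1).obj (ModuleCat.of A (A ⧸ p))).obj (ModuleCat.of A M))) :
    Module.Flat A M := by
  rw [Module.Flat.iff_rTensor_injective']
  intro I
  have hz := isZero_tor_of_finite (ModuleCat.of A M) 0 h (A ⧸ I)
  exact (isZero_tor_one_iff_injective (M := M) I.subtype I.mkQ (Submodule.injective_subtype I)
    (LinearMap.exact_subtype_mkQ I) (Submodule.mkQ_surjective I)).mp hz

/-- `Tor_i(N, M) = 0` for `i > pd N`. -/
theorem isZero_tor_left_of_pd : ∀ (q : ℕ) (N : ModuleCat.{u} A),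
    HasProjectiveDimensionLT N (q + 1) → ∀ (M : ModuleCat.{u} A) (i : ℕ), q < i →
      IsZero (((Tor (ModuleCat.{u} A) i).obj N).obj M) := by
  intro q
  induction q with
  | zero =>
    intro N hN M i hi
    have hproj : Projective N := projective_iff_hasProjectiveDimensionLT_one.mpr hN
    have : Module.Flat A N := flat_of_projective N
    obtain ⟨k, rfl⟩ : ∃ k, i = k + 1 := ⟨i - 1, by omega⟩
    exact isZero_tor_succ_of_flat_left N M k
  | succ q ih =>
    intro N hN M i hi
    obtain ⟨S, hS, hfree, rfl⟩ := Groth.Agent.Helper6.TorFlat.exists_presentation N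
    have hproj : Projective S.X₂ :=
      (IsProjective.iff_projective (R := A) (P := S.X₂)).mp inferInstance
    have h₂ : HasProjectiveDimensionLT S.X₂ (q + 1) :=
      hasProjectiveDimensionLT_of_ge S.X₂ 1 (q + 1) (by omega)
    have h₁ : HasProjectiveDimensionLT S.X₁ (q + 1) := hS.hasProjectiveDimensionLT_X₁ (q + 1) h₂ hN
    obtain ⟨k, rfl⟩ : ∃ k, i = k + 1 := ⟨i - 1, by omega⟩
    have : Module.Flat A S.X₂ := inferInstance
    refine (tor_exact₃ hS M k).isZero_of_both_zeros ?_ ?_
    · exact (isZero_tor_succ_of_flat_left S.X₂ M k).eq_of_src _ _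
    · exact (ih S.X₁ h₁ M k (by omega)).eq_of_tgt _ _

end Groth.Agent.Helper21.TS
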