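import Mathlib
import Groth.Agent.Lib.Helper21.TorAR2
import Groth.Agent.Lib.Helper21.PolyPow
import Groth.Agent.Lib.Helper21.TorSymm

/-!
# Uniform vanishing of `Tor_{t+1}(M, A/Iⁿ) → Tor_{t+1}(M, A/Iⁿ⁻ᶜ)` for `I` with `t` generators
-/

set_option autoImplicit false

open CategoryTheory Limits MonoidalCategory

namespace Groth.Agent.Helper21.TAR3

open Groth.Agent.Helper18.TorLib Groth.Agent.Helper6.TorNat Groth.Agent.Helper21.TNS
  Groth.Agent.Helper21.TAR2 Groth.Agent.Helper21.PPW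

universe u

variable {A : Type u} [CommRing A]

/-- `g` induces zero on `Tor_j(-, M)` for all `M`. -/
def TN (j : ℕ) {Q Q' : ModuleCat.{u} A} (g : Q ⟶ Q') : Prop :=
  ∀ M : ModuleCat.{u} A, ((Tor (ModuleCat.{u} A) j).map g).app M = 0

theorem tn_zero (j : ℕ) (Q Q' : ModuleCat.{u} A) : TN j (0 : Q ⟶ Q') := by
  intro M
  exact ((Tor (ModuleCat.{u} A) j).flip.obj M).map_zero Q Q'

theorem tn_comp_left (j : ℕ) {Q₀ Q Q' : ModuleCat.{u} A} (f : Q₀ ⟶ Q) {g : Q ⟶ Q'}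
    (h : TN j g) : TN j (f ≫ g) := by
  intro M
  rw [CategoryTheory.Functor.map_comp, NatTrans.comp_app, h M, comp_zero]

theorem tn_comp_right (j : ℕ) {Q Q' Q₁ : ModuleCat.{u} A} {g : Q ⟶ Q'} (h : TN j g)
    (k : Q' ⟶ Q₁) : TN j (g ≫ k) := by
  intro M
  rw [CategoryTheory.Functor.map_comp, NatTrans.comp_app, h M, zero_comp]

theorem tn_sum (j : ℕ) {Q Q' : ModuleCat.{u} A} {ι : Type*} (s : Finset ι) (f : ι → (Q ⟶ Q'))
    (h : ∀ i ∈ s, TN j (f i)) : TN j (∑ i ∈ s, f i) := by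
  intro M
  show ((Tor (ModuleCat.{u} A) j).flip.obj M).map (∑ i ∈ s, f i) = 0
  rw [CategoryTheory.Functor.map_sum]
  exact Finset.sum_eq_zero (fun i hi => h i hi M)

theorem tn_ext {S S' S'' : ShortComplex (ModuleCat.{u} A)} (hS : S.ShortExact)
    (hS' : S'.ShortExact) (_hS'' : S''.ShortExact) (ψ : S ⟶ S') (ψ' : S' ⟶ S'') (j : ℕ)
    (h₁ : TN j ψ.τ₁) (h₂ : TN (j + 1) ψ'.τ₂) : TN (j + 1) (ψ.τ₃ ≫ ψ'.τ₃) := by
  intro M
  rw [CategoryTheory.Functor.map_comp, NatTrans.comp_app]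
  refine ModuleCat.hom_ext (LinearMap.ext fun x => ?_)
  rw [ModuleCat.hom_comp, LinearMap.comp_apply, ModuleCat.hom_zero, LinearMap.zero_apply]
  have hδ : (torδ hS' M j).hom
      ((((Tor (ModuleCat.{u} A) (j + 1)).map ψ.τ₃).app M).hom x) = 0 := by
    rw [elt_eq (torδ_naturality_left hS hS' ψ M j) x, h₁ M, ModuleCat.hom_zero,
      LinearMap.zero_apply]
  have hex := tor_exact₃ hS' M j
  rw [ShortComplex.moduleCat_exact_iff] at hex
  obtain ⟨y, hy⟩ := hex _ hδ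
  have hy' : (((Tor (ModuleCat.{u} A) (j + 1)).map S'.g).app M).hom y =
      (((Tor (ModuleCat.{u} A) (j + 1)).map ψ.τ₃).app M).hom x := hy
  rw [← hy']
  have hcomm : ((Tor (ModuleCat.{u} A) (j + 1)).map ψ'.τ₂).app M ≫
      ((Tor (ModuleCat.{u} A) (j + 1)).map S''.g).app M =
      ((Tor (ModuleCat.{u} A) (j + 1)).map S'.g).app M ≫
        ((Tor (ModuleCat.{u} A) (j + 1)).map ψ'.τ₃).app M := by
    rw [← NatTrans.comp_app, ← NatTrans.comp_app, ← CategoryTheory.Functor.map_comp,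
      ← CategoryTheory.Functor.map_comp, ψ'.comm₂₃]
  have hn := elt_eq hcomm y
  rw [← hn, h₂ M, ModuleCat.hom_zero, LinearMap.zero_apply, map_zero]

theorem tn_of_zm (I : Ideal A) (j c : ℕ) (h : ∀ M : ModuleCat.{u} A, ZM I M j c) {a b : ℕ}
    (hab : b + c ≤ a) (hle : I ^ a ≤ I ^ b) :
    TN j (ModuleCat.ofHom (Submodule.factor hle)) := by
  intro M
  obtain ⟨s⟩ := nonempty_sym A j
  have hn := s.natR M (ModuleCat.ofHom (Submodule.factor hle))
  rw [h M a b hab hle, zero_comp] at hn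
  rw [← cancel_epi (s.e M (ModuleCat.of A (A ⧸ I ^ a))).hom, ← hn, comp_zero]

theorem zm_of_tn (I : Ideal A) (j c : ℕ)
    (h : ∀ (a b : ℕ), b + c ≤ a → ∀ hle : I ^ a ≤ I ^ b,
      TN j (ModuleCat.ofHom (Submodule.factor hle)))
    (M : ModuleCat.{u} A) : ZM I M j c := by
  intro a b hab hle
  obtain ⟨s⟩ := nonempty_sym A j
  have hn := s.natR M (ModuleCat.ofHom (Submodule.factor hle))
  rw [h a b hab hle M, comp_zero] at hn
  rw [← cancel_mono (s.e M (ModuleCat.of A (A ⧸ I ^ b))).hom, hn, zero_comp]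

/-- a morphism between kernel short complexes. -/
noncomputable def scMap {F M F' M' : Type u} [AddCommGroup F] [Module A F] [AddCommGroup M]
    [Module A M] [AddCommGroup F'] [Module A F'] [AddCommGroup M'] [Module A M']
    (π : F →ₗ[A] M) (π' : F' →ₗ[A] M') (f₂ : F →ₗ[A] F') (f₃ : M →ₗ[A] M')
    (h : ∀ x, π' (f₂ x) = f₃ (π x)) :
    Groth.Agent.Helper21.TF1.sc π ⟶ Groth.Agent.Helper21.TF1.sc π' :=
  ShortComplex.homMk
    (ModuleCat.ofHom (f₂.restrict (p := LinearMap.ker π) (q := LinearMap.ker π')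
      (fun x hx => by
        rw [LinearMap.mem_ker] at hx ⊢
        rw [h, hx, map_zero])))
    (ModuleCat.ofHom f₂) (ModuleCat.ofHom f₃)
    (ModuleCat.hom_ext (LinearMap.ext fun (x : LinearMap.ker π) => rfl))
    (ModuleCat.hom_ext (LinearMap.ext fun (x : F) => h x))

section concrete

variable (I' : Ideal A) (a : A)

/-- `E n → ker (ev n)` induced by multiplication by `X - a`. -/
noncomputable def φ' (n : ℕ) : E I' n →ₗ[A] LinearMap.ker (ev I' a n) :=
  (φ I' a n).codRestrict (LinearMap.ker (ev I' a n))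
    (fun x => LinearMap.mem_ker.2 (ev_φ I' a n x))

theorem φ'_surjective (n : ℕ) : Function.Surjective (φ' I' a n) := by
  intro y
  obtain ⟨x, hx⟩ := ker_ev_le I' a n y.2
  exact ⟨x, Subtype.ext hx⟩

/-- transition on `ker (ev n)`. -/
noncomputable def trB {n m : ℕ} (h : m ≤ n) :
    LinearMap.ker (ev I' a n) →ₗ[A] LinearMap.ker (ev I' a m) :=
  (tr I' h).restrict (fun x hx => by
    rw [LinearMap.mem_ker] at hx ⊢
    rw [ev_tr I' a h (Ideal.pow_le_pow_right h), hx, map_zero])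

/-- transition between the first short exact sequences. -/
noncomputable def Ψ₁ {n m : ℕ} (h : m ≤ n) :
    Groth.Agent.Helper21.TF1.sc (φ' I' a n) ⟶ Groth.Agent.Helper21.TF1.sc (φ' I' a m) :=
  scMap (φ' I' a n) (φ' I' a m) (tr I' h) (trB I' a h)
    (fun x => Subtype.ext (tr_φ I' a h x).symm)

/-- transition between the second short exact sequences. -/
noncomputable def Ψ₂ {n m : ℕ} (h : m ≤ n) :
    Groth.Agent.Helper21.TF1.sc (ev I' a n) ⟶ Groth.Agent.Helper21.TF1.sc (ev I' a m) :=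
  scMap (ev I' a n) (ev I' a m) (tr I' h) (Submodule.factor (Ideal.pow_le_pow_right h))
    (fun x => ev_tr I' a h (Ideal.pow_le_pow_right h) x)

theorem tn_tr (j c' : ℕ) (h : ∀ M : ModuleCat.{u} A, ZM I' M j c') {n m : ℕ} (hmn : m ≤ n)
    (hc : m + c' ≤ n) : TN j (ModuleCat.ofHom (tr I' hmn)) := by
  have h1 : ModuleCat.ofHom (tr I' hmn) = ∑ k ∈ Finset.range n,
      ModuleCat.ofHom (π I' n k) ≫ ModuleCat.ofHom ((tr I' hmn) ∘ₗ (ι I' n k)) := by
    refine ModuleCat.hom_ext (LinearMap.ext fun (x : E I' n) => ?_)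
    rw [ModuleCat.hom_sum, LinearMap.sum_apply]
    simp only [ModuleCat.hom_comp, ModuleCat.hom_ofHom, LinearMap.comp_apply]
    rw [← map_sum]
    congr 1
    have h2 := LinearMap.congr_fun (sum_ι_π I' n) x
    rw [LinearMap.sum_apply, LinearMap.id_apply] at h2
    simp only [LinearMap.comp_apply] at h2
    exact h2.symm
  rw [h1]
  refine tn_sum j _ _ (fun k _ => tn_comp_left j _ ?_)
  by_cases hk : k ≤ m
  · rw [tr_ι I' hmn k (Ideal.pow_le_pow_right (by omega)), ModuleCat.ofHom_comp]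
    exact tn_comp_right j (tn_of_zm I' j c' h (by omega) _) _
  · rw [tr_ι_eq_zero I' hmn k (by omega), ModuleCat.ofHom_zero]
    exact tn_zero j _ _

theorem step [IsNoetherianRing A] (j₀ c' : ℕ) (hj₀ : 1 ≤ j₀)
    (h : ∀ (j : ℕ), j₀ ≤ j → ∀ M : ModuleCat.{u} A, ZM I' M j c') :
    ∃ c, ∀ (j : ℕ), j₀ + 1 ≤ j → ∀ M : ModuleCat.{u} A,
      ZM (I' ⊔ Ideal.span {a}) M j c := by
  obtain ⟨c₁, hc₁⟩ := exists_AR I' a
  refine ⟨c' + c' + c₁, fun j hj M => zm_of_tn _ j _ (fun n m hnm hle => ?_) M⟩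
  obtain ⟨i, rfl⟩ : ∃ i, j = i + 1 + 1 := ⟨j - 2, by omega⟩
  have hi : j₀ ≤ i + 1 := by omega
  have h_m'm : m ≤ m + c' := by omega
  have h_lm' : m + c' ≤ m + c' + c' := by omega
  have h_nl : m + c' + c' ≤ n := by omega
  have h_nm' : m + c' ≤ n := by omega
  have hS₁ : ∀ k, (Groth.Agent.Helper21.TF1.sc (φ' I' a k)).ShortExact :=
    fun k => Groth.Agent.Helper21.TF1.shortExact_of_ker _ (φ'_surjective I' a k)
  have hS₂ : ∀ k, (Groth.Agent.Helper21.TF1.sc (ev I' a k)).ShortExact :=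
    fun k => Groth.Agent.Helper21.TF1.shortExact_of_ker _ (ev_surjective I' a k)
  have hZ : TN i (Ψ₁ I' a h_nl).τ₁ := by
    have h0 : (Ψ₁ I' a h_nl).τ₁ = 0 := by
      refine ModuleCat.hom_ext (LinearMap.ext fun (x : LinearMap.ker (φ' I' a n)) => ?_)
      rw [ModuleCat.hom_zero, LinearMap.zero_apply]
      refine Subtype.ext ?_
      have hx : φ I' a n x.1 = 0 := congrArg Subtype.val (LinearMap.mem_ker.1 x.2)
      exact tr_eq_zero_of_φ_eq_zero I' a hc₁ h_nl (by omega) x.1 hx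
    rw [h0]
    exact tn_zero i _ _
  have hE₁ : TN (i + 1) (Ψ₁ I' a h_lm').τ₂ :=
    tn_tr I' (i + 1) c' (h (i + 1) hi) h_lm' le_rfl
  have hB := tn_ext (hS₁ n) (hS₁ (m + c' + c')) (hS₁ (m + c')) (Ψ₁ I' a h_nl) (Ψ₁ I' a h_lm') i
    hZ hE₁
  have hB' : TN (i + 1) (Ψ₂ I' a h_nm').τ₁ := by
    have h3 : (Ψ₂ I' a h_nm').τ₁ = (Ψ₁ I' a h_nl).τ₃ ≫ (Ψ₁ I' a h_lm').τ₃ := by
      refine ModuleCat.hom_ext (LinearMap.ext fun (x : LinearMap.ker (ev I' a n)) =>
        Subtype.ext ?_)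
      exact (tr_tr I' h_nl h_lm' x.1).symm
    rw [h3]
    exact hB
  have hE₂ : TN (i + 1 + 1) (Ψ₂ I' a h_m'm).τ₂ :=
    tn_tr I' (i + 1 + 1) c' (h (i + 1 + 1) (by omega)) h_m'm le_rfl
  have hQ := tn_ext (hS₂ n) (hS₂ (m + c')) (hS₂ m) (Ψ₂ I' a h_nm') (Ψ₂ I' a h_m'm) (i + 1)
    hB' hE₂
  have hfac : ModuleCat.ofHom (Submodule.factor hle) =
      (Ψ₂ I' a h_nm').τ₃ ≫ (Ψ₂ I' a h_m'm).τ₃ := by
    show _ = ModuleCat.ofHom (Submodule.factor (Ideal.pow_le_pow_right h_nm')) ≫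
      ModuleCat.ofHom (Submodule.factor (Ideal.pow_le_pow_right h_m'm))
    rw [← ModuleCat.ofHom_comp, Submodule.factor_comp]
  rw [hfac]
  exact hQ

end concrete

theorem zm_bot (j : ℕ) (M : ModuleCat.{u} A) : ZM (⊥ : Ideal A) M (j + 1) 0 := by
  intro a b _ hle
  have hflat : Module.Flat A (ModuleCat.of A (A ⧸ (⊥ : Ideal A) ^ a)) := by
    by_cases ha : a = 0
    · subst ha
      have hsub : Subsingleton (A ⧸ (⊥ : Ideal A) ^ 0) := by
        rw [pow_zero, Ideal.one_eq_top]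
        exact Ideal.Quotient.subsingleton_iff.2 rfl
      have hfree : Module.Free A (A ⧸ (⊥ : Ideal A) ^ 0) := Module.Free.of_subsingleton A _
      exact inferInstanceAs (Module.Flat A (A ⧸ (⊥ : Ideal A) ^ 0))
    · have hbot : (⊥ : Ideal A) ^ a = ⊥ := by rw [← Ideal.zero_eq_bot, zero_pow ha]
      exact Module.Flat.of_linearEquiv (Submodule.quotEquivOfEqBot _ hbot)
  have hz : IsZero (((Tor (ModuleCat.{u} A) (j + 1)).obj M).obj
      (ModuleCat.of A (A ⧸ (⊥ : Ideal A) ^ a))) :=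
    Groth.Agent.Helper21.TS.isZero_tor_comm (isZero_tor_succ_of_flat_left _ M j)
  exact hz.eq_of_src _ _

theorem main [IsNoetherianRing A] : ∀ (t : ℕ) (s : Finset A), s.card ≤ t →
    ∃ c, ∀ (j : ℕ), t + 1 ≤ j → ∀ M : ModuleCat.{u} A,
      ZM (Ideal.span (s : Set A)) M j c := by
  classical
  intro t
  induction t with
  | zero =>
    intro s hs
    have hs0 : s = ∅ := Finset.card_eq_zero.1 (Nat.le_zero.1 hs)
    subst hs0
    refine ⟨0, fun j hj M => ?_⟩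
    obtain ⟨j, rfl⟩ : ∃ j', j = j' + 1 := ⟨j - 1, by omega⟩
    rw [Finset.coe_empty, Ideal.span_empty]
    exact zm_bot j M
  | succ t ih =>
    intro s hs
    by_cases hs0 : s = ∅
    · obtain ⟨c, hc⟩ := ih s (by rw [hs0]; simp)
      exact ⟨c, fun j hj M => hc j (by omega) M⟩
    · obtain ⟨a, ha⟩ := Finset.nonempty_iff_ne_empty.2 hs0
      obtain ⟨c', hc'⟩ := ih (s.erase a) (by rw [Finset.card_erase_of_mem ha]; omega)
      obtain ⟨c, hc⟩ := step (Ideal.span ((s.erase a : Finset A) : Set A)) a (t + 1) c'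
        (by omega) hc'
      have hI : Ideal.span (s : Set A) =
          Ideal.span ((s.erase a : Finset A) : Set A) ⊔ Ideal.span {a} := by
        conv_lhs => rw [← Finset.insert_erase ha]
        rw [Finset.coe_insert, Ideal.span_insert, sup_comm]
      rw [hI]
      exact ⟨c, hc⟩

end Groth.Agent.Helper21.TAR3
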