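import Mathlib
import Groth.Agent.Lib.Helper18.Tor.Low
import Groth.Agent.Lib.Helper6.TorBalance

/-!
# `Tor_p(A/(x₁,…,x_p), M) ≅ Hom(A/(x), M)` for a weakly regular sequence, by dimension shifting.
-/

set_option autoImplicit false
universe u
open CategoryTheory CategoryTheory.Limits MonoidalCategory RingTheory.Sequence Pointwise

namespace Groth.Agent.Helper21.TK

open Groth.Agent.Helper18.TorLib

variable {A : Type u} [CommRing A]

/-- elements killed by all members of a list -/
def annih (xs : List A) (N : Type*) [AddCommGroup N] [Module A N] : Submodule A N where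
  carrier := {t | ∀ x ∈ xs, x • t = 0}
  add_mem' := by
    intro a b ha hb x hx
    rw [smul_add, ha x hx, hb x hx, add_zero]
  zero_mem' := fun x _ => smul_zero x
  smul_mem' := by
    intro c t ht x hx
    rw [smul_comm, ht x hx, smul_zero]

theorem mem_annih {xs : List A} {N : Type*} [AddCommGroup N] [Module A N] {t : N} :
    t ∈ annih xs N ↔ ∀ x ∈ xs, x • t = 0 := Iff.rfl

theorem homologyMap_smul' {ι : Type*} {c : ComplexShape ι}
    {K L : HomologicalComplex (ModuleCat.{u} A) c} (φ : K ⟶ L) (a : A) (i : ι) :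
    HomologicalComplex.homologyMap (a • φ) i = a • HomologicalComplex.homologyMap φ i := by
  have h : (HomologicalComplex.shortComplexFunctor (ModuleCat.{u} A) c i).map (a • φ) =
      a • (HomologicalComplex.shortComplexFunctor (ModuleCat.{u} A) c i).map φ := by
    ext <;> rfl
  show ShortComplex.homologyMap _ = a • ShortComplex.homologyMap _
  rw [h, ShortComplex.homologyMap_smul]
  rfl

theorem cxMap_smul {X : ModuleCat.{u} A} (P : ProjectiveResolution X) (L : ModuleCat.{u} A)
    (a : A) : cxMap P (a • 𝟙 L) = a • 𝟙 (cx P L) := by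
  apply HomologicalComplex.hom_ext
  intro i
  show (a • 𝟙 L) ▷ P.complex.X i = a • 𝟙 (L ⊗ P.complex.X i)
  rw [MonoidalLinear.smul_whiskerRight, id_whiskerRight]

variable (M : ModuleCat.{u} A)

theorem tor_map_smul (L : ModuleCat.{u} A) (a : A) (n : ℕ) :
    ((Tor (ModuleCat.{u} A) n).map (a • 𝟙 L)).app M =
      a • 𝟙 (((Tor (ModuleCat.{u} A) n).obj L).obj M) := by
  have h := torIso_hom_naturality (projectiveResolution M) (a • 𝟙 L) n
  rw [cxMap_smul, homologyMap_smul', HomologicalComplex.homologyMap_id, Linear.comp_smul,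
    Category.comp_id] at h
  rw [← cancel_mono (torIso (projectiveResolution M) L n).hom, h, Linear.smul_comp,
    Category.id_comp]

theorem step (L : ModuleCat.{u} A) (x : A) (hx : IsSMulRegular L x) (q : ℕ)
    (hL : ∀ i, q < i → IsZero (((Tor (ModuleCat.{u} A) i).obj L).obj M)) :
    (∀ i, q + 1 < i →
      IsZero (((Tor (ModuleCat.{u} A) i).obj (ModuleCat.of A (QuotSMulTop x L))).obj M)) ∧
    ∃ j : ((Tor (ModuleCat.{u} A) (q + 1)).obj (ModuleCat.of A (QuotSMulTop x L))).obj M ⟶
        ((Tor (ModuleCat.{u} A) q).obj L).obj M,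
      Function.Injective j.hom ∧ ∀ t, t ∈ LinearMap.range j.hom ↔ x • t = 0 := by
  have hS : (ModuleCat.smulShortComplex L x).ShortExact := hx.smulShortComplex_shortExact
  constructor
  · intro i hi
    obtain ⟨k, rfl⟩ : ∃ k, i = k + 1 := ⟨i - 1, by omega⟩
    have hex := tor_exact₃ hS M k
    exact hex.isZero_of_both_zeros ((hL (k + 1) (by omega)).eq_of_src _ _)
      ((hL k (by omega)).eq_of_tgt _ _)
  · refine ⟨torδ hS M q, ?_, ?_⟩
    · have hex := tor_exact₃ hS M q
      have hmono : Mono (torδ hS M q) := hex.mono_g ((hL (q + 1) (by omega)).eq_of_src _ _)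
      exact (ModuleCat.mono_iff_injective _).mp hmono
    · intro t
      have hex := tor_exact₁ hS M q
      rw [ShortComplex.moduleCat_exact_iff] at hex
      have hf : ((Tor (ModuleCat.{u} A) q).map (ModuleCat.smulShortComplex L x).f).app M =
          x • 𝟙 _ := tor_map_smul M L x q
      constructor
      · rintro ⟨s, rfl⟩
        have h0 := torδ_comp hS M q
        rw [hf] at h0
        exact congrArg (fun ψ => ψ.hom s) h0
      · intro ht
        have hg : (((Tor (ModuleCat.{u} A) q).map (ModuleCat.smulShortComplex L x).f).app M).hom t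
            = 0 := by
          rw [hf]
          exact ht
        obtain ⟨s, hs⟩ := hex t hg
        exact ⟨s, hs⟩

theorem main : ∀ (xs : List A) (L : Type u) [AddCommGroup L] [Module A L] (q n : ℕ),
    n = q + xs.length → IsWeaklyRegular L xs →
    (∀ i, q < i → IsZero (((Tor (ModuleCat.{u} A) i).obj (ModuleCat.of A L)).obj M)) →
    (∀ i, n < i → IsZero (((Tor (ModuleCat.{u} A) i).obj
      (ModuleCat.of A (L ⧸ (Ideal.ofList xs • (⊤ : Submodule A L))))).obj M)) ∧
    ∃ j : ((Tor (ModuleCat.{u} A) n).obj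
        (ModuleCat.of A (L ⧸ (Ideal.ofList xs • (⊤ : Submodule A L))))).obj M ⟶
        ((Tor (ModuleCat.{u} A) q).obj (ModuleCat.of A L)).obj M,
      Function.Injective j.hom ∧ LinearMap.range j.hom = annih xs _ := by
  intro xs
  induction xs with
  | nil =>
    intro L _ _ q n hn _ hL
    obtain rfl : n = q := by simpa using hn
    have e : (L ⧸ (Ideal.ofList ([] : List A) • (⊤ : Submodule A L))) ≃ₗ[A] L :=
      Submodule.quotEquivOfEqBot _ (by rw [Ideal.ofList_nil, Submodule.bot_smul])
    have E := fun i => ((Tor (ModuleCat.{u} A) i).mapIso e.toModuleIso).app M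
    refine ⟨fun i hi => (hL i hi).of_iso (E i), (E n).hom, ?_, ?_⟩
    · exact (ModuleCat.mono_iff_injective _).mp inferInstance
    · have hsurj : Function.Surjective (E n).hom.hom :=
        (ModuleCat.epi_iff_surjective _).mp inferInstance
      ext t
      constructor
      · intro _ x hx
        simp at hx
      · intro _
        exact hsurj t
  | cons x xs ih =>
    intro L _ _ q n hn hreg hL
    rw [isWeaklyRegular_cons_iff] at hreg
    obtain ⟨hx, hreg'⟩ := hreg
    obtain ⟨hv1, j₁, hj₁, hr₁⟩ := step M (ModuleCat.of A L) x hx q hL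
    obtain ⟨hv2, j₂, hj₂, hr₂⟩ := ih (QuotSMulTop x L) (q + 1) n
      (by rw [hn, List.length_cons]; omega) hreg' hv1
    have e := Submodule.quotOfListConsSMulTopEquivQuotSMulTopInner L x xs
    have E := fun i => ((Tor (ModuleCat.{u} A) i).mapIso e.toModuleIso).app M
    have hE1 : Function.Injective (E n).hom.hom := (ModuleCat.mono_iff_injective _).mp inferInstance
    have hE2 : Function.Surjective (E n).hom.hom :=
      (ModuleCat.epi_iff_surjective _).mp inferInstance
    refine ⟨fun i hi => (hv2 i hi).of_iso (E i), (E n).hom ≫ j₂ ≫ j₁, ?_, ?_⟩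
    · intro a b hab
      exact hE1 (hj₂ (hj₁ hab))
    · ext t
      rw [mem_annih]
      constructor
      · rintro ⟨r, rfl⟩ y hy
        have hs : j₂.hom ((E n).hom.hom r) ∈ annih xs _ := by
          rw [← hr₂]
          exact LinearMap.mem_range_self _ _
        show y • j₁.hom (j₂.hom ((E n).hom.hom r)) = 0
        rcases List.mem_cons.mp hy with rfl | hy'
        · exact (hr₁ _).mp (LinearMap.mem_range_self _ _)
        · rw [← _root_.map_smul, hs y hy', map_zero]
      · intro ht
        obtain ⟨s, rfl⟩ := (hr₁ t).mpr (ht x List.mem_cons_self)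
        have hs : s ∈ annih xs _ := by
          intro y hy
          apply hj₁
          rw [_root_.map_smul, map_zero]
          exact ht y (List.mem_cons_of_mem _ hy)
        rw [← hr₂] at hs
        obtain ⟨r₂, rfl⟩ := hs
        obtain ⟨r, rfl⟩ := hE2 r₂
        exact ⟨r, rfl⟩

theorem nonempty_tor'_iso_tor (X Y : ModuleCat.{u} A) (n : ℕ) :
    Nonempty (((Tor' (ModuleCat.{u} A) n).obj X).obj Y ≅
      ((Tor (ModuleCat.{u} A) n).obj X).obj Y) := by
  obtain ⟨e⟩ := Groth.Agent.Helper6.TorBalance.nonempty_tor_iso X Y (projectiveResolution X) n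
  have e' : ((Tor' (ModuleCat.{u} A) n).obj X).obj Y ≅ _ :=
    (projectiveResolution X).isoLeftDerivedObj ((tensoringRight (ModuleCat.{u} A)).obj Y) n
  exact ⟨e' ≪≫ e.symm⟩

theorem nonempty_equiv_of_range_eq {X Y N : Type*} [AddCommGroup X] [Module A X]
    [AddCommGroup Y] [Module A Y] [AddCommGroup N] [Module A N]
    (f : X →ₗ[A] N) (g : Y →ₗ[A] N) (hf : Function.Injective f) (hg : Function.Injective g)
    (h : LinearMap.range f = LinearMap.range g) : Nonempty (X ≃ₗ[A] Y) :=
  ⟨(LinearEquiv.ofInjective f hf).trans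
    ((LinearEquiv.ofEq _ _ h).trans (LinearEquiv.ofInjective g hg).symm)⟩

section Hom

variable (xs : List A) (N : Type u) [AddCommGroup N] [Module A N]

/-- evaluation at `1`. -/
noncomputable def ev1 : ((A ⧸ Ideal.ofList xs) →ₗ[A] N) →ₗ[A] N :=
  LinearMap.applyₗ (1 : A ⧸ Ideal.ofList xs)

theorem mk_eq_smul_one (a : A) :
    (Ideal.Quotient.mk (Ideal.ofList xs) a) = a • (1 : A ⧸ Ideal.ofList xs) := by
  rw [Algebra.smul_def, mul_one]
  rfl

theorem ev1_injective : Function.Injective (ev1 xs N) := by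
  intro f g hfg
  have h1 : f 1 = g 1 := hfg
  refine LinearMap.ext fun z => ?_
  obtain ⟨a, rfl⟩ := Ideal.Quotient.mk_surjective z
  rw [mk_eq_smul_one, _root_.map_smul, _root_.map_smul, h1]

theorem range_ev1 : LinearMap.range (ev1 xs N) = annih xs N := by
  ext m
  constructor
  · rintro ⟨f, rfl⟩ x hx
    show x • f 1 = 0
    rw [← _root_.map_smul, ← mk_eq_smul_one]
    have : Ideal.Quotient.mk (Ideal.ofList xs) x = 0 :=
      Ideal.Quotient.eq_zero_iff_mem.mpr (Ideal.subset_span hx)
    rw [this, map_zero]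
  · intro hm
    have hle : Ideal.ofList xs ≤ LinearMap.ker (LinearMap.toSpanSingleton A N m) := by
      refine Ideal.span_le.mpr ?_
      intro x hx
      show LinearMap.toSpanSingleton A N m x = 0
      rw [LinearMap.toSpanSingleton_apply]
      exact hm x hx
    refine ⟨Submodule.liftQ (Ideal.ofList xs) (LinearMap.toSpanSingleton A N m) hle, ?_⟩
    show Submodule.liftQ (Ideal.ofList xs) (LinearMap.toSpanSingleton A N m) hle
      (Submodule.Quotient.mk (1 : A)) = m
    rw [Submodule.liftQ_apply, LinearMap.toSpanSingleton_apply, one_smul]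

end Hom

theorem tor'_top (xs : List A) (hreg : IsWeaklyRegular A xs) (N : Type u) [AddCommGroup N]
    [Module A N] :
    Nonempty (↑(((Tor' (ModuleCat.{u} A) xs.length).obj
      (ModuleCat.of A (A ⧸ Ideal.ofList xs))).obj (ModuleCat.of A N)) ≃ₗ[A]
        ((A ⧸ Ideal.ofList xs) →ₗ[A] N)) := by
  obtain ⟨e1⟩ := nonempty_tor'_iso_tor (ModuleCat.of A (A ⧸ Ideal.ofList xs)) (ModuleCat.of A N)
    xs.length
  have hflat : ∀ i, 0 < i →
      IsZero (((Tor (ModuleCat.{u} A) i).obj (ModuleCat.of A A)).obj (ModuleCat.of A N)) := by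
    intro i hi
    obtain ⟨k, rfl⟩ : ∃ k, i = k + 1 := ⟨i - 1, by omega⟩
    have : Module.Flat A (ModuleCat.of A A) := inferInstanceAs (Module.Flat A A)
    exact isZero_tor_succ_of_flat_left (ModuleCat.of A A) (ModuleCat.of A N) k
  obtain ⟨-, j, hj, hr⟩ := main (ModuleCat.of A N) xs A 0 xs.length (by simp) hreg hflat
  have e2 : (A ⧸ Ideal.ofList xs) ≃ₗ[A] (A ⧸ (Ideal.ofList xs • (⊤ : Submodule A A))) :=
    Submodule.quotEquivOfEq _ _ (by rw [smul_eq_mul, Ideal.mul_top])
  have E2 := ((Tor (ModuleCat.{u} A) xs.length).mapIso e2.toModuleIso).app (ModuleCat.of A N)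
  have e3 : ((Tor (ModuleCat.{u} A) 0).obj (ModuleCat.of A A)).obj (ModuleCat.of A N) ≅
      ModuleCat.of A N := tor0Iso (ModuleCat.of A A) (ModuleCat.of A N) ≪≫ λ_ (ModuleCat.of A N)
  let k1 := e1.toLinearEquiv
  let k2 := E2.toLinearEquiv
  let k3 : _ ≃ₗ[A] N := e3.toLinearEquiv
  let f : _ →ₗ[A] N := k3.toLinearMap ∘ₗ j.hom ∘ₗ k2.toLinearMap ∘ₗ k1.toLinearMap
  have hf : Function.Injective f := by
    intro a b hab
    exact k1.injective (k2.injective (hj (k3.injective hab)))
  have hrange : LinearMap.range f = annih xs N := by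
    ext m
    rw [mem_annih]
    constructor
    · rintro ⟨r, rfl⟩ y hy
      have hs : j.hom (k2 (k1 r)) ∈ annih xs _ := by
        rw [← hr]
        exact LinearMap.mem_range_self _ _
      show y • k3 (j.hom (k2 (k1 r))) = 0
      rw [← _root_.map_smul, hs y hy, map_zero]
    · intro hm
      have ht : k3.symm m ∈ annih xs _ := by
        intro y hy
        rw [← _root_.map_smul, hm y hy, map_zero]
      rw [← hr] at ht
      obtain ⟨s, hs⟩ := ht
      refine ⟨k1.symm (k2.symm s), ?_⟩
      show k3 (j.hom (k2 (k1 (k1.symm (k2.symm s))))) = m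
      rw [LinearEquiv.apply_symm_apply, LinearEquiv.apply_symm_apply, hs,
        LinearEquiv.apply_symm_apply]
  exact nonempty_equiv_of_range_eq f (ev1 xs N) hf (ev1_injective xs N)
    (hrange.trans (range_ev1 xs N).symm)

end Groth.Agent.Helper21.TK
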