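import Mathlib
import Groth.Agent.Lib.Helper21.TorAR3
import Groth.Agent.Lib.Helper21.TorKos

/-!
# `Tor_i(M, A/I^q)` is uniformly annihilated by a power of `I` above the number of generators
-/

set_option autoImplicit false

open CategoryTheory Limits MonoidalCategory

namespace Groth.Agent.Helper21.TAR4

open Groth.Agent.Helper18.TorLib Groth.Agent.Helper6.TorNat Groth.Agent.Helper21.TNS
  Groth.Agent.Helper21.TAR2

universe u

variable {A : Type u} [CommRing A]

theorem tor_map_smul_right (M N : ModuleCat.{u} A) (a : A) (n : ℕ) :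
    ((Tor (ModuleCat.{u} A) n).obj M).map (a • 𝟙 N) = a • 𝟙 _ := by
  obtain ⟨s⟩ := nonempty_sym A n
  have hn := s.natR M (a • 𝟙 N)
  rw [Groth.Agent.Helper21.TK.tor_map_smul M N a n] at hn
  rw [← cancel_mono (s.e M N).hom, hn, Linear.comp_smul, Category.comp_id, Linear.smul_comp,
    Category.id_comp]

theorem smul_eq_zero_of_killed (M N : ModuleCat.{u} A) (a : A) (n : ℕ)
    (hN : ∀ x : N, a • x = 0) (z : ((Tor (ModuleCat.{u} A) n).obj M).obj N) : a • z = 0 := by
  have h0 : a • 𝟙 N = 0 := by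
    refine ModuleCat.hom_ext (LinearMap.ext fun x => ?_)
    rw [ModuleCat.hom_smul, LinearMap.smul_apply, ModuleCat.hom_id, LinearMap.id_apply,
      ModuleCat.hom_zero, LinearMap.zero_apply]
    exact hN x
  have e1 := tor_map_smul_right M N a n
  rw [h0, CategoryTheory.Functor.map_zero] at e1
  have e2 := congrArg (fun f => f.hom z) e1
  simp only [ModuleCat.hom_zero, LinearMap.zero_apply, ModuleCat.hom_smul, LinearMap.smul_apply,
    ModuleCat.hom_id, LinearMap.id_apply] at e2
  exact e2.symm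

theorem annihilated (I : Ideal A) (c j : ℕ)
    (h : ∀ M : ModuleCat.{u} A, ZM I M (j + 1) c) (M : ModuleCat.{u} A) (q : ℕ) (a : A)
    (ha : a ∈ I ^ c)
    (y : ((Tor (ModuleCat.{u} A) (j + 1)).obj M).obj (ModuleCat.of A (A ⧸ I ^ q))) :
    a • y = 0 := by
  have hle : I ^ (q + c) ≤ I ^ q := Ideal.pow_le_pow_right (Nat.le_add_right q c)
  have hsurj : Function.Surjective (Submodule.factor hle) := Submodule.factor_surjective hle
  have hS := Groth.Agent.Helper21.TF1.shortExact_of_ker (Submodule.factor hle) hsurj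
  obtain ⟨-, -, δ, w₁, w₂, ex₁, -⟩ := Groth.Agent.S14422.result A M _ hS j
  have h0 : ((Tor (ModuleCat.{u} A) (j + 1)).obj M).map
      (Groth.Agent.Helper21.TF1.sc (Submodule.factor hle)).g = 0 := h M (q + c) q le_rfl hle
  have hmono : Mono δ := ex₁.mono_g h0
  have hinj : Function.Injective δ.hom := (ModuleCat.mono_iff_injective _).1 hmono
  apply hinj
  rw [map_smul, map_zero]
  apply smul_eq_zero_of_killed
  intro x
  have hx : Submodule.factor hle x.1 = 0 := LinearMap.mem_ker.1 x.2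
  apply Subtype.ext
  obtain ⟨r, hr⟩ := Submodule.Quotient.mk_surjective _ x.1
  show a • x.1 = 0
  rw [← hr] at hx ⊢
  have hr' : r ∈ I ^ q := by
    have h1 : Submodule.factor hle (Submodule.Quotient.mk r) = Submodule.Quotient.mk r := rfl
    rw [h1, Submodule.Quotient.mk_eq_zero] at hx
    exact hx
  rw [← Submodule.Quotient.mk_smul, Submodule.Quotient.mk_eq_zero, smul_eq_mul, pow_add,
    mul_comm]
  exact Ideal.mul_mem_mul ha hr'

theorem main [IsNoetherianRing A] (t : ℕ) (s : Finset A) (ht : s.card ≤ t) :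
    ∃ c : ℕ, ∀ (M : ModuleCat.{u} A) (i q : ℕ), t < i → ∀ a ∈ Ideal.span (s : Set A) ^ c,
      ∀ x : ((Tor (ModuleCat.{u} A) i).obj M).obj
        (ModuleCat.of A (A ⧸ Ideal.span (s : Set A) ^ q)), a • x = 0 := by
  obtain ⟨c, hc⟩ := Groth.Agent.Helper21.TAR3.main t s ht
  refine ⟨c, fun M i q hi a ha x => ?_⟩
  obtain ⟨j, rfl⟩ : ∃ j, i = j + 1 := ⟨i - 1, by omega⟩
  exact annihilated _ c j (fun M' => hc (j + 1) (by omega) M') M q a ha x

end Groth.Agent.Helper21.TAR4
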