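import Mathlib
import Groth.Agent.Lib.Helper21.TorAR4
import Groth.Prelude.Def_BlowUp2

/-!
# `Tor_i(A[I/a], M)` is annihilated by a power of `I` above the number of generators
-/

set_option autoImplicit false

open CategoryTheory Limits MonoidalCategory

namespace Groth.Agent.Helper21.BLT

open Groth.Agent.Helper18.TorLib Groth.Agent.Helper6.TorNat Groth.Agent.Helper21.TNS
  Groth.Agent.Helper21.TAR2

universe u

section alg

variable {A : Type u} [CommRing A] (I : Ideal A) (a : A)

/-- `1/a` in the localization. -/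
noncomputable def u : Localization.Away a :=
  IsLocalization.mk' (Localization.Away a) (1 : A) (⟨a, Submonoid.mem_powers a⟩ : Submonoid.powers a)

theorem map_mul_u : algebraMap A (Localization.Away a) a * u a = 1 := by
  have h := IsLocalization.mk'_spec (Localization.Away a) (1 : A)
    (⟨a, Submonoid.mem_powers a⟩ : Submonoid.powers a)
  rw [map_one] at h
  rw [mul_comm]
  exact h

theorem gen_eq (x : A) : IsLocalization.mk' (Localization.Away a) x
    (⟨a, Submonoid.mem_powers a⟩ : Submonoid.powers a) = algebraMap A _ x * u a :=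
  IsLocalization.mk'_eq_mul_mk'_one x _

/-- `x ↦ x / a^n`. -/
noncomputable def en (n : ℕ) : A →ₗ[A] Localization.Away a :=
  (LinearMap.mulRight A ((u a) ^ n)) ∘ₗ (Algebra.linearMap A (Localization.Away a))

theorem en_apply (n : ℕ) (x : A) : en a n x = algebraMap A _ x * (u a) ^ n := rfl

theorem en_mem (n : ℕ) : ∀ x ∈ I ^ n, en a n x ∈ BlowUp.affineAlgebra A I a := by
  induction n with
  | zero =>
    intro x _
    rw [en_apply, pow_zero, mul_one]
    exact Subalgebra.algebraMap_mem _ x
  | succ n ih =>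
    intro x hx
    rw [pow_succ'] at hx
    refine Submodule.mul_induction_on hx ?_ ?_
    · intro y hy z hz
      have h1 : en a (n + 1) (y * z) = (algebraMap A _ y * u a) * en a n z := by
        rw [en_apply, en_apply, map_mul, pow_succ]
        ring
      rw [h1]
      refine Subalgebra.mul_mem _ ?_ (ih z hz)
      rw [← gen_eq]
      exact Algebra.subset_adjoin ⟨y, hy, rfl⟩
    · intro y z hy hz
      rw [map_add]
      exact Subalgebra.add_mem _ hy hz

theorem en_pow_mul (n k : ℕ) (x : A) : en a (n + k) (a ^ k * x) = en a n x := by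
  rw [en_apply, en_apply, map_mul, map_pow, pow_add]
  have h := map_mul_u a
  calc algebraMap A (Localization.Away a) a ^ k * algebraMap A _ x * ((u a) ^ n * (u a) ^ k)
      = algebraMap A _ x * (u a) ^ n * (algebraMap A _ a * u a) ^ k := by
        rw [mul_pow]
        ring
    _ = algebraMap A _ x * (u a) ^ n := by rw [h, one_pow, mul_one]

theorem exists_en_eq (ha : a ∈ I) (b : Localization.Away a)
    (hb : b ∈ BlowUp.affineAlgebra A I a) : ∃ n, ∃ x ∈ I ^ n, en a n x = b := by
  unfold BlowUp.affineAlgebra at hb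
  induction hb using Algebra.adjoin_induction with
  | mem b hb =>
    obtain ⟨x, hx, rfl⟩ := hb
    exact ⟨1, x, by rwa [pow_one], by rw [en_apply, pow_one, gen_eq]⟩
  | algebraMap r =>
    refine ⟨0, r, ?_, by rw [en_apply, pow_zero, mul_one]⟩
    rw [pow_zero, Ideal.one_eq_top]
    exact Submodule.mem_top
  | add b₁ b₂ _ _ h₁ h₂ =>
    obtain ⟨n, x, hx, rfl⟩ := h₁
    obtain ⟨m, y, hy, rfl⟩ := h₂
    refine ⟨n + m, a ^ m * x + a ^ n * y, ?_, ?_⟩
    · refine Ideal.add_mem _ ?_ ?_
      · rw [add_comm n m, pow_add]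
        exact Ideal.mul_mem_mul (Ideal.pow_mem_pow ha m) hx
      · rw [pow_add]
        exact Ideal.mul_mem_mul (Ideal.pow_mem_pow ha n) hy
    · rw [map_add, en_pow_mul, add_comm n m, en_pow_mul]
  | mul b₁ b₂ _ _ h₁ h₂ =>
    obtain ⟨n, x, hx, rfl⟩ := h₁
    obtain ⟨m, y, hy, rfl⟩ := h₂
    refine ⟨n + m, x * y, ?_, ?_⟩
    · rw [pow_add]
      exact Ideal.mul_mem_mul hx hy
    · rw [en_apply, en_apply, en_apply, map_mul, pow_add]
      ring

theorem exists_pow_mul_eq_zero (n : ℕ) (x : A) (h : en a n x = 0) : ∃ k : ℕ, a ^ k * x = 0 := by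
  rw [en_apply] at h
  have h1 : algebraMap A (Localization.Away a) x = 0 := by
    have h2 : algebraMap A (Localization.Away a) x =
        algebraMap A _ x * (u a) ^ n * (algebraMap A _ a) ^ n := by
      rw [mul_assoc, ← mul_pow, mul_comm (u a), map_mul_u, one_pow, mul_one]
    rw [h2, h, zero_mul]
  obtain ⟨⟨_, k, rfl⟩, hk⟩ := (IsLocalization.map_eq_zero_iff (Submonoid.powers a) _ x).1 h1
  exact ⟨k, hk⟩

end alg

section lim

variable {A : Type u} [CommRing A] (I : Ideal A) (a : A) (ha : a ∈ I)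

instance : IsDirectedOrder (ULift.{u} ℕ) where
  directed x y := ⟨⟨max x.down y.down⟩, le_max_left _ _, le_max_right _ _⟩

/-- the modules `I^n`. -/
abbrev G (n : ULift.{u} ℕ) : Type u := ↥(I ^ n.down)

include ha in
theorem fmap_mem {n m : ULift.{u} ℕ} (h : n ≤ m) (x : G I n) :
    a ^ (m.down - n.down) • (x : A) ∈ I ^ m.down := by
  have h' : n.down ≤ m.down := h
  have h1 : I ^ m.down = I ^ (m.down - n.down) * I ^ n.down := by
    rw [← pow_add, Nat.sub_add_cancel h']
  rw [h1, smul_eq_mul]
  exact Ideal.mul_mem_mul (Ideal.pow_mem_pow ha _) x.2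

/-- the transition maps `I^n → I^m`, multiplication by `a^(m-n)`. -/
noncomputable def fmap (n m : ULift.{u} ℕ) (h : n ≤ m) : G I n →ₗ[A] G I m :=
  LinearMap.codRestrict (I ^ m.down)
    ((LinearMap.lsmul A A (a ^ (m.down - n.down))) ∘ₗ (I ^ n.down).subtype)
    (fun x => fmap_mem I a ha h x)

theorem fmap_coe (n m : ULift.{u} ℕ) (h : n ≤ m) (x : G I n) :
    ((fmap I a ha n m h x : G I m) : A) = a ^ (m.down - n.down) * (x : A) := rfl

theorem dsys : DirectedSystem (G I) (fun i j h => fmap I a ha i j h) where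
  map_self := by
    intro i x
    apply Subtype.ext
    rw [fmap_coe, Nat.sub_self, pow_zero, one_mul]
  map_map := by
    intro k j i hij hjk x
    apply Subtype.ext
    have h1 : i.down ≤ j.down := hij
    have h2 : j.down ≤ k.down := hjk
    rw [fmap_coe, fmap_coe, fmap_coe, ← mul_assoc, ← pow_add]
    congr 2
    omega

/-- the maps `I^n → A[I/a]`, `x ↦ x / a^n`. -/
noncomputable def gmap (n : ULift.{u} ℕ) : G I n →ₗ[A] ↥(BlowUp.affineAlgebra A I a) where
  toFun x := ⟨en a n.down x.1, en_mem I a n.down x.1 x.2⟩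
  map_add' x y := by
    apply Subtype.ext
    show en a n.down ((x + y : G I n) : A) = en a n.down x.1 + en a n.down y.1
    rw [Submodule.coe_add, map_add]
  map_smul' r x := by
    apply Subtype.ext
    show en a n.down ((r • x : G I n) : A) = r • en a n.down x.1
    rw [Submodule.coe_smul, map_smul]

theorem gmap_coe (n : ULift.{u} ℕ) (x : G I n) :
    ((gmap I a n x : ↥(BlowUp.affineAlgebra A I a)) : Localization.Away a) = en a n.down x.1 := rfl

theorem gmap_fmap (i j : ULift.{u} ℕ) (hij : i ≤ j) (x : G I i) :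
    gmap I a j (fmap I a ha i j hij x) = gmap I a i x := by
  apply Subtype.ext
  rw [gmap_coe, gmap_coe, fmap_coe]
  have h1 : i.down ≤ j.down := hij
  obtain ⟨k, hk⟩ := Nat.exists_eq_add_of_le h1
  have hk' : j.down - i.down = k := by omega
  rw [hk', hk]
  exact en_pow_mul a i.down k x.1

/-- the comparison map from the direct limit. -/
noncomputable def cmp : Module.DirectLimit (G I) (fmap I a ha) →ₗ[A]
    ↥(BlowUp.affineAlgebra A I a) :=
  Module.DirectLimit.lift A (ULift.{u} ℕ) (G I) (fmap I a ha) (gmap I a)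
    (fun i j hij x => gmap_fmap I a ha i j hij x)

theorem cmp_bijective : Function.Bijective (cmp I a ha) := by
  have hds := dsys I a ha
  constructor
  · rw [injective_iff_map_eq_zero]
    intro z hz
    induction z using Module.DirectLimit.induction_on with
    | ih n x =>
      unfold cmp at hz
      rw [Module.DirectLimit.lift_of] at hz
      have h1 : en a n.down x.1 = 0 := by
        rw [← gmap_coe, hz]
        rfl
      obtain ⟨k, hk⟩ := exists_pow_mul_eq_zero a n.down x.1 h1
      have hle : n ≤ (⟨n.down + k⟩ : ULift.{u} ℕ) := Nat.le_add_right n.down k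
      have h2 : fmap I a ha n ⟨n.down + k⟩ hle x = 0 := by
        apply Subtype.ext
        rw [fmap_coe]
        have h3 : n.down + k - n.down = k := by omega
        rw [h3, hk]
        rfl
      rw [← Module.DirectLimit.of_f (hij := hle), h2, map_zero]
  · intro b
    obtain ⟨n, x, hx, hb⟩ := exists_en_eq I a ha b.1 b.2
    refine ⟨Module.DirectLimit.of A (ULift.{u} ℕ) (G I) (fmap I a ha) ⟨n⟩ ⟨x, hx⟩, ?_⟩
    unfold cmp
    rw [Module.DirectLimit.lift_of]
    exact Subtype.ext hb

end lim

section tor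

variable {A : Type u} [CommRing A] (I : Ideal A)

theorem killed_pow (c i : ℕ) (M' : ModuleCat.{u} A)
    (hc : ∀ (q : ℕ), ∀ r ∈ I ^ c, ∀ y : ((Tor (ModuleCat.{u} A) (i + 1 + 1)).obj M').obj
      (ModuleCat.of A (A ⧸ I ^ q)), r • y = 0)
    (n : ℕ) (r : A) (hr : r ∈ I ^ c) :
    r • 𝟙 (((Tor (ModuleCat.{u} A) (i + 1)).obj (ModuleCat.of A ↥(I ^ n))).obj M') = 0 := by
  let S : ShortComplex (ModuleCat.{u} A) :=
    ShortComplex.mk (ModuleCat.ofHom (I ^ n).subtype) (ModuleCat.ofHom (I ^ n).mkQ)
      (ModuleCat.hom_ext (LinearMap.ext fun x => (Submodule.Quotient.mk_eq_zero _).2 x.2))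
  have hS : S.ShortExact := by
    refine ShortComplex.ShortExact.mk' ?_ ?_ ?_
    · rw [ShortComplex.ShortExact.moduleCat_exact_iff_function_exact]
      exact LinearMap.exact_subtype_mkQ (I ^ n)
    · exact (ModuleCat.mono_iff_injective _).2 (I ^ n).injective_subtype
    · exact (ModuleCat.epi_iff_surjective _).2 (Submodule.mkQ_surjective _)
  have hflat : Module.Flat A S.X₂ := inferInstanceAs (Module.Flat A A)
  have hex := tor_exact₁ hS M' (i + 1)
  have hepi : Epi (torδ hS M' (i + 1)) :=
    hex.epi_f ((isZero_tor_succ_of_flat_left S.X₂ M' i).eq_of_tgt _ _)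
  have hsurj : Function.Surjective (torδ hS M' (i + 1)).hom :=
    (ModuleCat.epi_iff_surjective _).1 hepi
  refine ModuleCat.hom_ext (LinearMap.ext fun z => ?_)
  rw [ModuleCat.hom_smul, LinearMap.smul_apply, ModuleCat.hom_id, LinearMap.id_apply,
    ModuleCat.hom_zero, LinearMap.zero_apply]
  obtain ⟨y, rfl⟩ := hsurj z
  rw [← map_smul]
  obtain ⟨s⟩ := nonempty_sym A (i + 1 + 1)
  have h1 : (s.e (ModuleCat.of A (A ⧸ I ^ n)) M').hom.hom (r • y) = 0 := by
    rw [map_smul]
    exact hc n r hr _
  have h2 : r • y = 0 := by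
    have h3 := congrArg (s.e (ModuleCat.of A (A ⧸ I ^ n)) M').inv.hom h1
    rw [iso_hom_inv_apply, map_zero] at h3
    exact h3
  rw [h2, map_zero]

variable (a : A) (ha : a ∈ I)

include ha in
theorem killed_blowup (c i : ℕ) (M' : ModuleCat.{u} A)
    (hc : ∀ (q : ℕ), ∀ r ∈ I ^ c, ∀ y : ((Tor (ModuleCat.{u} A) (i + 1 + 1)).obj M').obj
      (ModuleCat.of A (A ⧸ I ^ q)), r • y = 0)
    (r : A) (hr : r ∈ I ^ c)
    (y : ((Tor (ModuleCat.{u} A) (i + 1)).obj
      (ModuleCat.of A ↥(BlowUp.affineAlgebra A I a))).obj M') : r • y = 0 := by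
  have hds := dsys I a ha
  let F := (Tor (ModuleCat.{u} A) (i + 1)).flip.obj M'
  have hpres : PreservesColimitsOfShape (ULift.{u} ℕ) F := preserves_flip _ M' (i + 1)
  have hc0 := ModuleCat.directLimitIsColimit (G I) (fmap I a ha)
  have hc' := isColimitOfPreserves F hc0
  have key : r • 𝟙 (F.obj (ModuleCat.of A (Module.DirectLimit (G I) (fmap I a ha)))) = 0 := by
    refine eq_zero_of_isColimit hc' _ (fun j => ?_)
    show F.map (ModuleCat.ofHom (Module.DirectLimit.of A (ULift.{u} ℕ) (G I) (fmap I a ha) j)) ≫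
      (r • 𝟙 (F.obj (ModuleCat.of A (Module.DirectLimit (G I) (fmap I a ha))))) = 0
    rw [Linear.comp_smul, Category.comp_id]
    have h1 : r • 𝟙 (F.obj (ModuleCat.of A (G I j))) = 0 := killed_pow I c i M' hc j.down r hr
    calc r • F.map (ModuleCat.ofHom (Module.DirectLimit.of A (ULift.{u} ℕ) (G I) (fmap I a ha) j))
        = (r • 𝟙 (F.obj (ModuleCat.of A (G I j)))) ≫
          F.map (ModuleCat.ofHom (Module.DirectLimit.of A (ULift.{u} ℕ) (G I) (fmap I a ha) j)) := by
          rw [Linear.smul_comp, Category.id_comp]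
      _ = 0 := by rw [h1, zero_comp]
  let e : Module.DirectLimit (G I) (fmap I a ha) ≃ₗ[A] ↥(BlowUp.affineAlgebra A I a) :=
    LinearEquiv.ofBijective (cmp I a ha) (cmp_bijective I a ha)
  let E := F.mapIso e.toModuleIso
  have h1 : y = E.hom.hom (E.inv.hom y) := (iso_inv_hom_apply E y).symm
  rw [h1, ← map_smul]
  have h2 : r • E.inv.hom y = 0 := by
    have h3 := congrArg (fun φ => φ.hom (E.inv.hom y)) key
    simp only [ModuleCat.hom_smul, LinearMap.smul_apply, ModuleCat.hom_id, LinearMap.id_apply,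
      ModuleCat.hom_zero, LinearMap.zero_apply] at h3
    exact h3
  rw [h2, map_zero]

end tor

theorem main (A : Type u) [CommRing A] [IsNoetherianRing A] (t : ℕ) (a : Fin (t + 1) → A) :
    ∃ c : ℕ, ∀ (M' : ModuleCat.{u} A) (i : ℕ), t + 1 ≤ i →
      ∀ x ∈ Ideal.span (Set.range a) ^ c,
      ∀ y : ((Tor (ModuleCat.{u} A) i).obj (ModuleCat.of A
        ↥(BlowUp.affineAlgebra A (Ideal.span (Set.range a)) (a 0)))).obj M', x • y = 0 := by
  classical
  have hs : ((Finset.univ.image a : Finset A) : Set A) = Set.range a := by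
    rw [Finset.coe_image, Finset.coe_univ, Set.image_univ]
  have hcard : (Finset.univ.image a : Finset A).card ≤ t + 1 := by
    refine Finset.card_image_le.trans ?_
    rw [Finset.card_univ, Fintype.card_fin]
  obtain ⟨c, hc⟩ := Groth.Agent.Helper21.TAR4.main (t + 1) (Finset.univ.image a) hcard
  rw [hs] at hc
  refine ⟨c, fun M' i hi x hx y => ?_⟩
  obtain ⟨i, rfl⟩ : ∃ i', i = i' + 1 := ⟨i - 1, by omega⟩
  have ha0 : a 0 ∈ Ideal.span (Set.range a) := Ideal.subset_span ⟨0, rfl⟩
  exact killed_blowup (Ideal.span (Set.range a)) (a 0) ha0 c i M'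
    (fun q r hr y' => hc M' (i + 1 + 1) q (by omega) r hr y') x hx y

end Groth.Agent.Helper21.BLT
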