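import Mathlib

/-!
# Principal-ideal adic completion and regular sequences with bounded torsion
-/

set_option autoImplicit false
universe u
open RingTheory.Sequence Pointwise

namespace Groth.Agent.Helper21.CR

variable {R : Type u} [CommRing R] (a : R)

/-- bounded `a`-power torsion -/
def BT (M : Type*) [AddCommGroup M] [Module R M] : Prop :=
  ∃ N : ℕ, ∀ y : M, (∃ m : ℕ, a ^ m • y = 0) → a ^ N • y = 0

theorem BT.congr {M M' : Type*} [AddCommGroup M] [Module R M] [AddCommGroup M'] [Module R M']
    (e : M ≃ₗ[R] M') (h : BT a M) : BT a M' := by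
  obtain ⟨N, hN⟩ := h
  refine ⟨N, fun y ⟨m, hm⟩ => ?_⟩
  have h1 : a ^ N • e.symm y = 0 :=
    hN (e.symm y) ⟨m, by rw [← _root_.map_smul, hm, map_zero]⟩
  exact e.symm.injective (by rw [_root_.map_smul, h1, map_zero])

variable {M : Type u} [AddCommGroup M] [Module R M]

theorem mem_pow_smul_top_iff (k : ℕ) (y : M) :
    y ∈ ((Ideal.span {a}) ^ k • ⊤ : Submodule R M) ↔ ∃ m', a ^ k • m' = y := by
  rw [Ideal.span_singleton_pow, Submodule.ideal_span_singleton_smul,
    Submodule.mem_smul_pointwise_iff_exists]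
  constructor
  · rintro ⟨m', -, h⟩
    exact ⟨m', h⟩
  · rintro ⟨m', h⟩
    exact ⟨m', Submodule.mem_top, h⟩

theorem pow_smul_top_mono {k l : ℕ} (h : k ≤ l) :
    ((Ideal.span {a}) ^ l • ⊤ : Submodule R M) ≤ (Ideal.span {a}) ^ k • ⊤ :=
  Submodule.smul_mono_left (Ideal.pow_le_pow_right h)

/-- Artin–Rees type statement coming from bounded torsion of `M/xM`. -/
theorem ar {x : R} (hx : IsSMulRegular M x) {N : ℕ}
    (hN : ∀ y : QuotSMulTop x M, (∃ m : ℕ, a ^ m • y = 0) → a ^ N • y = 0)
    (n : ℕ) (m m' : M) (h : x • m = a ^ (n + N) • m') : ∃ m'', a ^ n • m'' = m := by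
  have h1 : a ^ N • (Submodule.Quotient.mk m' : QuotSMulTop x M) = 0 := by
    apply hN
    refine ⟨n + N, ?_⟩
    rw [← Submodule.Quotient.mk_smul, ← h, Submodule.Quotient.mk_eq_zero]
    exact Submodule.smul_mem_pointwise_smul m x ⊤ Submodule.mem_top
  rw [← Submodule.Quotient.mk_smul, Submodule.Quotient.mk_eq_zero,
    Submodule.mem_smul_pointwise_iff_exists] at h1
  obtain ⟨m₁, -, hm₁⟩ := h1
  refine ⟨m₁, hx ?_⟩
  show x • (a ^ n • m₁) = x • m
  rw [smul_comm, hm₁, smul_smul, ← pow_add, h]

open AdicCompletion in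
theorem mk_eq_zero_iff (c : AdicCauchySequence (Ideal.span {a}) M) :
    AdicCompletion.mk (Ideal.span {a}) M c = 0 ↔
      ∀ n, c n ∈ ((Ideal.span {a}) ^ n • ⊤ : Submodule R M) := by
  constructor
  · intro h n
    have h1 : (AdicCompletion.mk (Ideal.span {a}) M c).val n = 0 := by rw [h]; rfl
    exact (Submodule.Quotient.mk_eq_zero _).mp h1
  · intro h
    ext n
    exact (Submodule.Quotient.mk_eq_zero _).mpr (h n)

open AdicCompletion in
theorem cauchy_sub_mem (c : AdicCauchySequence (Ideal.span {a}) M) {m n : ℕ} (hmn : m ≤ n) :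
    c n - c m ∈ ((Ideal.span {a}) ^ m • ⊤ : Submodule R M) := by
  have h := (c.property hmn).symm
  rwa [SModEq.sub_mem] at h

open AdicCompletion in
/-- `x` stays regular on the completion. -/
theorem regular_completion {x : R} (hx : IsSMulRegular M x) (hbt : BT a (QuotSMulTop x M)) :
    IsSMulRegular (AdicCompletion (Ideal.span {a}) M) x := by
  obtain ⟨N, hN⟩ := hbt
  rw [isSMulRegular_iff_right_eq_zero_of_smul]
  intro z hz
  obtain ⟨c, rfl⟩ := AdicCompletion.mk_surjective (Ideal.span {a}) M z
  rw [← _root_.map_smul, mk_eq_zero_iff] at hz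
  rw [mk_eq_zero_iff]
  intro n
  obtain ⟨m', hm'⟩ := (mem_pow_smul_top_iff a (n + N) _).mp (hz (n + N))
  have hm'' : x • c (n + N) = a ^ (n + N) • m' := hm'.symm
  obtain ⟨m'', h''⟩ := ar a hx hN n (c (n + N)) m' hm''
  have h1 : c (n + N) ∈ ((Ideal.span {a}) ^ n • ⊤ : Submodule R M) :=
    (mem_pow_smul_top_iff a n _).mpr ⟨m'', h''⟩
  have h2 := cauchy_sub_mem a c (Nat.le_add_right n N)
  have h3 : c n = c (n + N) - (c (n + N) - c n) := by abel
  rw [h3]
  exact Submodule.sub_mem _ h1 h2

open AdicCompletion in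
theorem smul_eq_zero_of_quot {x : R}
    (v : AdicCompletion (Ideal.span {a}) (QuotSMulTop x M)) : x • v = 0 := by
  obtain ⟨c, rfl⟩ := AdicCompletion.mk_surjective _ _ v
  rw [← _root_.map_smul]
  have h0 : x • c = 0 := by
    apply AdicCauchySequence.ext
    intro n
    rw [AdicCauchySequence.smul_apply, AdicCauchySequence.zero_apply]
    obtain ⟨m, hm⟩ := Submodule.Quotient.mk_surjective _ (c n)
    rw [← hm, ← Submodule.Quotient.mk_smul, Submodule.Quotient.mk_eq_zero]
    exact Submodule.smul_mem_pointwise_smul m x ⊤ Submodule.mem_top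
  rw [h0, _root_.map_zero]

open AdicCompletion in
theorem ker_map_mkQ {x : R} (hx : IsSMulRegular M x) (hbt : BT a (QuotSMulTop x M))
    (z : AdicCompletion (Ideal.span {a}) M) :
    AdicCompletion.map (Ideal.span {a}) (Submodule.mkQ (x • (⊤ : Submodule R M))) z = 0 ↔
      ∃ w : AdicCompletion (Ideal.span {a}) M, x • w = z := by
  constructor
  · intro hz
    obtain ⟨N, hN⟩ := hbt
    obtain ⟨c, rfl⟩ := AdicCompletion.mk_surjective _ _ z
    rw [AdicCompletion.map_mk, mk_eq_zero_iff] at hz
    have key : ∀ n, ∃ mr : M × M, x • mr.1 + a ^ n • mr.2 = c n := by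
      intro n
      obtain ⟨y', hy'⟩ := (mem_pow_smul_top_iff a n _).mp (hz n)
      obtain ⟨r, rfl⟩ := Submodule.Quotient.mk_surjective _ y'
      have e1 : (AdicCauchySequence.map (Ideal.span {a})
          (Submodule.mkQ (x • (⊤ : Submodule R M))) c) n = Submodule.Quotient.mk (c n) := rfl
      rw [e1] at hy'
      have h1 : (Submodule.Quotient.mk (c n - a ^ n • r) : QuotSMulTop x M) = 0 := by
        rw [Submodule.Quotient.mk_sub, Submodule.Quotient.mk_smul, hy']
        exact sub_self _
      rw [Submodule.Quotient.mk_eq_zero, Submodule.mem_smul_pointwise_iff_exists] at h1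
      obtain ⟨m, -, hm⟩ := h1
      exact ⟨(m, r), by rw [hm]; abel⟩
    choose mr hmr using key
    have hΔ : ∀ k, ∃ u, a ^ k • u = (mr (k + N + 1)).1 - (mr (k + N)).1 := by
      intro k
      obtain ⟨s, hs⟩ := (mem_pow_smul_top_iff a (k + N) _).mp
        (cauchy_sub_mem a c (Nat.le_succ (k + N)))
      have hx1 : x • (mr (k + N + 1)).1 = c (k + N + 1) - a ^ (k + N + 1) • (mr (k + N + 1)).2 :=
        eq_sub_of_add_eq (hmr (k + N + 1))
      have hx0 : x • (mr (k + N)).1 = c (k + N) - a ^ (k + N) • (mr (k + N)).2 :=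
        eq_sub_of_add_eq (hmr (k + N))
      have hs' : a ^ (k + N) • s = c (k + N + 1) - c (k + N) := hs
      have h2 : x • ((mr (k + N + 1)).1 - (mr (k + N)).1) =
          a ^ (k + N) • (s - a • (mr (k + N + 1)).2 + (mr (k + N)).2) := by
        rw [smul_sub, hx1, hx0, smul_add, smul_sub, hs', smul_smul, ← pow_succ]
        abel
      exact ar a hx hN k _ _ h2
    let w : AdicCauchySequence (Ideal.span {a}) M :=
      AdicCauchySequence.mk (Ideal.span {a}) M (fun k => (mr (k + N)).1) (by
        intro k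
        obtain ⟨u, hu⟩ := hΔ k
        have e : k + 1 + N = k + N + 1 := by omega
        show (mr (k + N)).1 ≡ (mr (k + 1 + N)).1 [SMOD _]
        rw [e]
        exact (SModEq.sub_mem.mpr ((mem_pow_smul_top_iff a k _).mpr ⟨u, hu⟩)).symm)
    refine ⟨AdicCompletion.mk (Ideal.span {a}) M w, ?_⟩
    rw [← _root_.map_smul, ← sub_eq_zero, ← _root_.map_sub, mk_eq_zero_iff]
    intro k
    show x • (mr (k + N)).1 - c k ∈ _
    have hx0 : x • (mr (k + N)).1 = c (k + N) - a ^ (k + N) • (mr (k + N)).2 :=
      eq_sub_of_add_eq (hmr (k + N))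
    have h3 : x • (mr (k + N)).1 - c k = (c (k + N) - c k) - a ^ (k + N) • (mr (k + N)).2 := by
      rw [hx0]; abel
    rw [h3]
    refine Submodule.sub_mem _ (cauchy_sub_mem a c (Nat.le_add_right k N)) ?_
    exact pow_smul_top_mono a (Nat.le_add_right k N)
      ((mem_pow_smul_top_iff a (k + N) _).mpr ⟨_, rfl⟩)
  · rintro ⟨w, rfl⟩
    rw [LinearMap.map_smul_of_tower]
    exact smul_eq_zero_of_quot a _

open AdicCompletion in
theorem main : ∀ (rs : List R) (M : Type u) [AddCommGroup M] [Module R M],
    IsWeaklyRegular M rs →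
    (∀ i ≤ rs.length, BT a (M ⧸ (Ideal.ofList (rs.take i) • (⊤ : Submodule R M)))) →
    IsWeaklyRegular (AdicCompletion (Ideal.span {a}) M) rs ∧
    ∀ z : AdicCompletion (Ideal.span {a}) M,
      AdicCompletion.map (Ideal.span {a})
        (Submodule.mkQ (Ideal.ofList rs • (⊤ : Submodule R M))) z = 0 ↔
        z ∈ (Ideal.ofList rs • (⊤ : Submodule R (AdicCompletion (Ideal.span {a}) M))) := by
  intro rs
  induction rs with
  | nil =>
    intro M _ _ _ _
    refine ⟨IsWeaklyRegular.nil R _, fun z => ?_⟩
    have hbot : (Ideal.ofList ([] : List R) • (⊤ : Submodule R M)) = ⊥ := by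
      rw [Ideal.ofList_nil, Submodule.bot_smul]
    constructor
    · intro hz
      have hcomp : (Submodule.quotEquivOfEqBot _ hbot).toLinearMap ∘ₗ
          Submodule.mkQ (Ideal.ofList ([] : List R) • (⊤ : Submodule R M)) = LinearMap.id :=
        LinearMap.ext fun m => rfl
      have h1 := AdicCompletion.map_comp_apply (Ideal.span {a})
        (Submodule.mkQ (Ideal.ofList ([] : List R) • (⊤ : Submodule R M)))
        (Submodule.quotEquivOfEqBot _ hbot).toLinearMap z
      rw [hz, _root_.map_zero, hcomp, AdicCompletion.map_id] at h1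
      have h2 : z = 0 := h1.symm
      rw [h2]
      exact Submodule.zero_mem _
    · intro hz
      have h2 : z = 0 := by
        rw [Ideal.ofList_nil, Submodule.bot_smul] at hz
        exact (Submodule.mem_bot _).mp hz
      rw [h2, _root_.map_zero]
  | cons x rs ih =>
    intro M _ _ hreg hbt
    rw [isWeaklyRegular_cons_iff] at hreg
    obtain ⟨hx, hreg'⟩ := hreg
    have hbt1 : BT a (QuotSMulTop x M) := by
      have h1 := hbt 1 (by simp)
      have e : (M ⧸ (Ideal.ofList ((x :: rs).take 1) • (⊤ : Submodule R M))) ≃ₗ[R]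
          QuotSMulTop x M :=
        Submodule.quotEquivOfEq _ _ (by
          rw [List.take_succ_cons, List.take_zero, Ideal.ofList_singleton,
            Submodule.ideal_span_singleton_smul])
      exact h1.congr a e
    have hbt' : ∀ i ≤ rs.length, BT a (QuotSMulTop x M ⧸
        (Ideal.ofList (rs.take i) • (⊤ : Submodule R (QuotSMulTop x M)))) := by
      intro i hi
      have h1 := hbt (i + 1) (by simp; omega)
      rw [List.take_succ_cons] at h1
      exact h1.congr a (Submodule.quotOfListConsSMulTopEquivQuotSMulTopInner M x (rs.take i))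
    obtain ⟨hw, hker⟩ := ih (QuotSMulTop x M) hreg' hbt'
    have hxc := regular_completion a hx hbt1
    let φ : AdicCompletion (Ideal.span {a}) M →ₗ[R]
        AdicCompletion (Ideal.span {a}) (QuotSMulTop x M) :=
      (AdicCompletion.map (Ideal.span {a})
        (Submodule.mkQ (x • (⊤ : Submodule R M)))).restrictScalars R
    have hφs : Function.Surjective φ :=
      AdicCompletion.map_surjective _ (Submodule.mkQ_surjective _)
    have hφk : LinearMap.ker φ =
        x • (⊤ : Submodule R (AdicCompletion (Ideal.span {a}) M)) := by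
      ext z
      rw [LinearMap.mem_ker, Submodule.mem_smul_pointwise_iff_exists]
      show AdicCompletion.map _ _ z = 0 ↔ _
      rw [ker_map_mkQ a hx hbt1]
      constructor
      · rintro ⟨w, hw⟩
        exact ⟨w, Submodule.mem_top, hw⟩
      · rintro ⟨w, -, hw⟩
        exact ⟨w, hw⟩
    constructor
    · rw [isWeaklyRegular_cons_iff]
      refine ⟨hxc, ?_⟩
      let e : QuotSMulTop x (AdicCompletion (Ideal.span {a}) M) ≃ₗ[R]
          AdicCompletion (Ideal.span {a}) (QuotSMulTop x M) :=
        (Submodule.quotEquivOfEq _ _ hφk.symm).trans (φ.quotKerEquivOfSurjective hφs)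
      exact (e.isWeaklyRegular_congr rs).mpr hw
    · intro z
      have hcomp : (Submodule.quotOfListConsSMulTopEquivQuotSMulTopInner M x rs).toLinearMap ∘ₗ
          Submodule.mkQ (Ideal.ofList (x :: rs) • (⊤ : Submodule R M)) =
          Submodule.mkQ (Ideal.ofList rs • (⊤ : Submodule R (QuotSMulTop x M))) ∘ₗ
            Submodule.mkQ (x • (⊤ : Submodule R M)) :=
        LinearMap.ext fun m => rfl
      have h1 : AdicCompletion.map (Ideal.span {a})
          (Submodule.mkQ (Ideal.ofList (x :: rs) • (⊤ : Submodule R M))) z = 0 ↔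
          AdicCompletion.map (Ideal.span {a})
            (Submodule.mkQ (Ideal.ofList rs • (⊤ : Submodule R (QuotSMulTop x M)))) (φ z) = 0 := by
        have h2 := AdicCompletion.map_comp_apply (Ideal.span {a})
          (Submodule.mkQ (Ideal.ofList (x :: rs) • (⊤ : Submodule R M)))
          (Submodule.quotOfListConsSMulTopEquivQuotSMulTopInner M x rs).toLinearMap z
        have h3 := AdicCompletion.map_comp_apply (Ideal.span {a})
          (Submodule.mkQ (x • (⊤ : Submodule R M)))
          (Submodule.mkQ (Ideal.ofList rs • (⊤ : Submodule R (QuotSMulTop x M)))) z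
        rw [hcomp, ← h3] at h2
        constructor
        · intro hz
          rw [hz, _root_.map_zero] at h2
          exact h2.symm
        · intro hz
          have h4 : AdicCompletion.congr (Ideal.span {a})
              (Submodule.quotOfListConsSMulTopEquivQuotSMulTopInner M x rs)
              (AdicCompletion.map (Ideal.span {a})
                (Submodule.mkQ (Ideal.ofList (x :: rs) • (⊤ : Submodule R M))) z) = 0 :=
            h2.trans hz
          exact (LinearEquiv.map_eq_zero_iff _).mp h4
      rw [h1, hker (φ z)]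
      have hmap : Submodule.map φ
          (Ideal.ofList rs • (⊤ : Submodule R (AdicCompletion (Ideal.span {a}) M))) =
          Ideal.ofList rs •
            (⊤ : Submodule R (AdicCompletion (Ideal.span {a}) (QuotSMulTop x M))) := by
        rw [Submodule.map_smul'', Submodule.map_top, LinearMap.range_eq_top.mpr hφs]
      rw [← hmap, ← Submodule.mem_comap, Submodule.comap_map_eq, hφk, Ideal.ofList_cons_smul,
        sup_comm]

end Groth.Agent.Helper21.CR
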