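import Mathlib

/-!
# Length of the quotient of a free module over a PID by a full-rank free submodule,
and discriminants of subalgebras.
-/

open Module

namespace Groth.Agent.Helper21.CR

section LD

variable {ι R M : Type*} [CommRing R] [IsDomain R] [IsPrincipalIdealRing R]
  [AddCommGroup M] [Module R M] [Fintype ι]

theorem ord_prod {κ : Type*} (s : Finset κ) (a : κ → R) (ha : ∀ i ∈ s, a i ≠ 0) :
    Ring.ord R (∏ i ∈ s, a i) = ∑ i ∈ s, Ring.ord R (a i) := by
  classical
  induction s using Finset.induction_on with
  | empty => simp [Ring.ord_one]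
  | insert i s hi ih =>
    have hne : ∏ j ∈ s, a j ≠ 0 :=
      Finset.prod_ne_zero_iff.mpr (fun j hj => ha j (Finset.mem_insert_of_mem hj))
    rw [Finset.prod_insert hi, Finset.sum_insert hi,
      Ring.ord_mul R (mem_nonZeroDivisors_of_ne_zero hne),
      ih (fun j hj => ha j (Finset.mem_insert_of_mem hj))]

theorem length_quotient_eq_ord_det (N : Submodule R M) (b : Basis ι R M) (bN : Basis ι R N) :
    Module.length R (M ⧸ N) =
        Ring.ord R (LinearMap.det (N.subtype ∘ₗ (b.equiv bN (Equiv.refl ι)).toLinearMap)) ∧
      ∀ q : M ⧸ N,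
        LinearMap.det (N.subtype ∘ₗ (b.equiv bN (Equiv.refl ι)).toLinearMap) • q = 0 := by
  classical
  have h : Module.finrank R N = Module.finrank R M := by
    rw [Module.finrank_eq_card_basis b, Module.finrank_eq_card_basis bN]
  have ab_eq := Submodule.smithNormalFormBotBasis_def b h
  have hf' : ∀ i, (N.subtype.comp ((Submodule.smithNormalFormTopBasis b h).equiv
      (Submodule.smithNormalFormBotBasis b h) (Equiv.refl _) : M →ₗ[R] N))
      (Submodule.smithNormalFormTopBasis b h i) =
      Submodule.smithNormalFormCoeffs b h i • Submodule.smithNormalFormTopBasis b h i := by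
    intro i
    show (((Submodule.smithNormalFormTopBasis b h).equiv
      (Submodule.smithNormalFormBotBasis b h) (Equiv.refl _))
      (Submodule.smithNormalFormTopBasis b h i) : M) = _
    rw [Basis.equiv_apply, Equiv.refl_apply]
    exact ab_eq i
  have hdet' : LinearMap.det (N.subtype.comp ((Submodule.smithNormalFormTopBasis b h).equiv
      (Submodule.smithNormalFormBotBasis b h) (Equiv.refl _) : M →ₗ[R] N)) =
      ∏ i, Submodule.smithNormalFormCoeffs b h i := by
    rw [← LinearMap.det_toMatrix (Submodule.smithNormalFormTopBasis b h)]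
    have : LinearMap.toMatrix (Submodule.smithNormalFormTopBasis b h)
        (Submodule.smithNormalFormTopBasis b h)
        (N.subtype.comp ((Submodule.smithNormalFormTopBasis b h).equiv
          (Submodule.smithNormalFormBotBasis b h) (Equiv.refl _) : M →ₗ[R] N)) =
        Matrix.diagonal (Submodule.smithNormalFormCoeffs b h) := by
      ext i j
      rw [LinearMap.toMatrix_apply, hf', map_smul, Basis.repr_self, Finsupp.smul_single,
        smul_eq_mul, mul_one]
      by_cases hij : i = j
      · rw [hij, Matrix.diagonal_apply_eq, Finsupp.single_eq_same]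
      · rw [Matrix.diagonal_apply_ne _ hij, Finsupp.single_eq_of_ne hij]
    rw [this, Matrix.det_diagonal]
  have hassoc : Associated
      (LinearMap.det (N.subtype ∘ₗ (b.equiv bN (Equiv.refl ι)).toLinearMap))
      (LinearMap.det (N.subtype.comp ((Submodule.smithNormalFormTopBasis b h).equiv
        (Submodule.smithNormalFormBotBasis b h) (Equiv.refl _) : M →ₗ[R] N))) :=
    LinearMap.associated_det_comp_equiv N.subtype (b.equiv bN (Equiv.refl ι)) _
  have hane : ∀ i, Submodule.smithNormalFormCoeffs b h i ≠ 0 :=
    fun i => Submodule.smithNormalFormCoeffs_ne_zero b h i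
  constructor
  · rw [Ring.ord_eq_of_associated hassoc, hdet', ord_prod _ _ (fun i _ => hane i),
      (Submodule.quotientEquivPiSpan N b h).length_eq, Module.length_pi_of_fintype]
    rfl
  · intro q
    apply (Submodule.quotientEquivPiSpan N b h).injective
    rw [map_smul, map_zero]
    funext i
    obtain ⟨z, hz⟩ := Ideal.Quotient.mk_surjective ((Submodule.quotientEquivPiSpan N b h) q i)
    rw [Pi.smul_apply, Pi.zero_apply, ← hz, Algebra.smul_def, Ideal.Quotient.algebraMap_eq,
      ← map_mul, Ideal.Quotient.eq_zero_iff_mem, Ideal.mem_span_singleton]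
    refine Dvd.dvd.mul_right ?_ z
    refine (Finset.dvd_prod_of_mem _ (Finset.mem_univ i)).trans ?_
    rw [← hdet']
    exact hassoc.symm.dvd

end LD

section Trace

variable {R St : Type*} [CommRing R] [IsDomain R] [CommRing St] [Algebra R St]
  {ι : Type*} [Fintype ι] [DecidableEq ι]

theorem trace_subalgebra_eq (S : Subalgebra R St) (bt : Basis ι R St) (bS : Basis ι R S)
    (x : S) : Algebra.trace R S x = Algebra.trace R St (x : St) := by
  have hcomm : LinearMap.toMatrix bS bt S.val.toLinearMap * Algebra.leftMulMatrix bS x =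
      Algebra.leftMulMatrix bt (x : St) * LinearMap.toMatrix bS bt S.val.toLinearMap := by
    rw [Algebra.leftMulMatrix_apply, Algebra.leftMulMatrix_apply,
      ← LinearMap.toMatrix_comp bS bS bt, ← LinearMap.toMatrix_comp bS bt bt]
    congr 1
  have hdet : (LinearMap.toMatrix bS bt S.val.toLinearMap).det ≠ 0 := by
    intro h0
    obtain ⟨v, hv, hPv⟩ := Matrix.exists_mulVec_eq_zero_iff.mpr h0
    apply hv
    have h1 := LinearMap.toMatrix_mulVec_repr bS bt S.val.toLinearMap (bS.equivFun.symm v)
    have h2 : (⇑(bS.repr (bS.equivFun.symm v)) : ι → R) = v := by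
      rw [← Basis.equivFun_apply, LinearEquiv.apply_symm_apply]
    rw [h2, hPv] at h1
    have h3 : bt.repr (S.val.toLinearMap (bS.equivFun.symm v)) = 0 :=
      DFunLike.coe_injective h1.symm
    have h4 : S.val.toLinearMap (bS.equivFun.symm v) = 0 :=
      (LinearEquiv.map_eq_zero_iff bt.repr).mp h3
    have h5 : bS.equivFun.symm v = 0 := Subtype.ext h4
    rw [← h2, h5]
    simp
  rw [Algebra.trace_eq_matrix_trace bS, Algebra.trace_eq_matrix_trace bt]
  set P := LinearMap.toMatrix bS bt S.val.toLinearMap with hP
  set A := Algebra.leftMulMatrix bt (x : St)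
  set A' := Algebra.leftMulMatrix bS x
  have h2 : P.det • A' = P.adjugate * (A * P) := by
    rw [← hcomm, ← Matrix.mul_assoc, Matrix.adjugate_mul, Matrix.smul_mul, Matrix.one_mul]
  have h3 : P.det * A'.trace = P.det * A.trace := by
    have h4 := congrArg Matrix.trace h2
    rw [Matrix.trace_smul, Matrix.trace_mul_comm, Matrix.mul_assoc, Matrix.mul_adjugate,
      Matrix.mul_smul, Matrix.mul_one, Matrix.trace_smul] at h4
    simpa [smul_eq_mul] using h4
  exact mul_left_cancel₀ hdet h3

end Trace

end Groth.Agent.Helper21.CR
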