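import Mathlib
import Groth.Agent.Lib.Helper21.DescA

/-!
# Pullback of descent data along an `S`-endomorphism of `X` is isomorphic to the identity (helper21)
-/

set_option autoImplicit false
set_option backward.isDefEq.respectTransparency false
set_option backward.isDefEq.respectTransparency.types false

open CategoryTheory CategoryTheory.Limits AlgebraicGeometry

universe u

namespace Groth.Agent.Helper21.DescEndo

open Desc Groth.Agent.Helper21.DescA

variable {X S : Scheme.{u}} {a : X ⟶ S} {f : X ⟶ X} (h : f ≫ a = a)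
  (D : SchDDFam (fun _ : PUnit.{u + 1} => a))

include h in
theorem hcomp {T : Scheme.{u}} (x : T ⟶ X) : (x ≫ f) ≫ a = x ≫ a := by
  rw [Category.assoc, h]

/-- The map `V ×_{X,f} X ⟶ V` given by the descent datum. -/
noncomputable def θ (j : PUnit.{u + 1}) : pullback (D.obj j).hom f ⟶ (D.obj j).left :=
  (D.φ (i := j) (j := j) (pullback.snd (D.obj j).hom f ≫ f) (pullback.snd (D.obj j).hom f)
    (hcomp h _) ⟨pullback.fst _ _, pullback.condition⟩).1

theorem θ_hom (j : PUnit.{u + 1}) : θ h D j ≫ (D.obj j).hom = pullback.snd (D.obj j).hom f :=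
  (D.φ (i := j) (j := j) (pullback.snd (D.obj j).hom f ≫ f) (pullback.snd (D.obj j).hom f)
    (hcomp h _) ⟨pullback.fst _ _, pullback.condition⟩).2

theorem comp_θ {T : Scheme.{u}} (j : PUnit.{u + 1}) (g : T ⟶ pullback (D.obj j).hom f)
    (x : T ⟶ X) (u : T ⟶ (D.obj j).left) (hx : g ≫ pullback.snd _ _ = x)
    (hu : g ≫ pullback.fst _ _ = u) (hux : u ≫ (D.obj j).hom = x ≫ f) :
    g ≫ θ h D j = (D.φ (i := j) (j := j) (x ≫ f) x (hcomp h _) ⟨u, hux⟩).1 := by
  unfold θ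
  rw [φ_nat D g]
  exact φ_congr D _ _ (by rw [← Category.assoc, hx]) hx _ _ hu

/-- The inverse map. -/
noncomputable def ψ (j : PUnit.{u + 1}) : (D.obj j).left ⟶ pullback (D.obj j).hom f :=
  pullback.lift (D.φ (i := j) (j := j) (D.obj j).hom ((D.obj j).hom ≫ f) (hcomp h _).symm
    ⟨𝟙 _, Category.id_comp _⟩).1 (D.obj j).hom
    (D.φ (i := j) (j := j) (D.obj j).hom ((D.obj j).hom ≫ f) (hcomp h _).symm
      ⟨𝟙 _, Category.id_comp _⟩).2

theorem ψ_θ (j : PUnit.{u + 1}) : ψ h D j ≫ θ h D j = 𝟙 _ := by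
  rw [comp_θ h D j (ψ h D j) (D.obj j).hom _ (pullback.lift_snd _ _ _) (pullback.lift_fst _ _ _)
    (D.φ (i := j) (j := j) (D.obj j).hom ((D.obj j).hom ≫ f) (hcomp h _).symm
      ⟨𝟙 _, Category.id_comp _⟩).2]
  rw [φ_comp_val D (D.obj j).hom ((D.obj j).hom ≫ f) (D.obj j).hom (hcomp h _).symm (hcomp h _)
    ⟨𝟙 _, Category.id_comp _⟩ _ rfl]
  exact φ_self_val D _ _

theorem θ_ψ (j : PUnit.{u + 1}) : θ h D j ≫ ψ h D j = 𝟙 _ := by
  apply pullback.hom_ext
  · rw [Category.assoc, Category.id_comp]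
    unfold ψ
    rw [pullback.lift_fst, φ_nat D (θ h D j)]
    rw [φ_congr D _ (hcomp h (pullback.snd (D.obj j).hom f)).symm (θ_hom h D j)
      (by rw [← Category.assoc, θ_hom]) _ ⟨θ h D j, θ_hom h D j⟩ (Category.comp_id _)]
    rw [φ_comp_val D (pullback.snd (D.obj j).hom f ≫ f) (pullback.snd (D.obj j).hom f)
      (pullback.snd (D.obj j).hom f ≫ f) (hcomp h _) (hcomp h _).symm
      ⟨pullback.fst _ _, pullback.condition⟩ ⟨θ h D j, θ_hom h D j⟩ rfl]
    exact φ_self_val D _ _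
  · rw [Category.assoc, Category.id_comp]
    unfold ψ
    rw [pullback.lift_snd, θ_hom]

/-- The isomorphism over `X`. -/
noncomputable def eIso (j : PUnit.{u + 1}) :
    Over.mk (pullback.snd (D.obj j).hom f) ≅ D.obj j :=
  Over.isoMk ⟨θ h D j, ψ h D j, θ_ψ h D j, ψ_θ h D j⟩ (θ_hom h D j)

/-- The pulled back datum is isomorphic to the original one. -/
noncomputable def isoD :
    (pullDDFam (f := fun _ : PUnit.{u + 1} => a) (f' := fun _ : PUnit.{u + 1} => a)
      (α := fun j => j) (p := 𝟙 S) (p' := fun _ => f)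
      (fun _ => (h).trans (Category.comp_id a).symm)).obj D ≅ D :=
  isoMk _ _ (fun j => eIso h D j) (fun T i j x₀ x₁ hh v w hw => by
    have hw' : w.1 = v.1 ≫ θ h D i := hw
    have hv2 : v.1 ≫ pullback.snd (D.obj i).hom f = x₀ := v.2
    have hvf : (v.1 ≫ pullback.fst (D.obj i).hom f) ≫ (D.obj i).hom = x₀ ≫ f := by
      rw [Category.assoc, pullback.condition, ← Category.assoc, hv2]
    have e1 : w.1 = (D.φ (i := i) (j := i) (x₀ ≫ f) x₀ (hcomp h _)
        ⟨v.1 ≫ pullback.fst _ _, hvf⟩).1 := by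
      rw [hw']
      exact comp_θ h D i v.1 x₀ _ hv2 rfl hvf
    have e2 := φ_comp_val D (i := i) (j := i) (k := j) (x₀ ≫ f) x₀ x₁ (hcomp h _) hh ⟨v.1 ≫ pullback.fst _ _, hvf⟩ w e1
    rw [e2]
    change _ = pullback.lift (D.φ (i := i) (j := j) (x₀ ≫ f) (x₁ ≫ f) _
      ⟨v.1 ≫ pullback.fst _ _, _⟩).1 x₁ _ ≫ θ h D j
    rw [comp_θ h D j _ x₁ _ (pullback.lift_snd _ _ _) (pullback.lift_fst _ _ _)
      (D.φ (i := i) (j := j) (x₀ ≫ f) (x₁ ≫ f) _ ⟨v.1 ≫ pullback.fst _ _, _⟩).2]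
    exact (φ_comp_val D (i := i) (j := j) (k := j) (x₀ ≫ f) (x₁ ≫ f) x₁ _ (hcomp h _) ⟨v.1 ≫ pullback.fst _ _, hvf⟩ _
      rfl).symm)

theorem main :
    Nonempty (pullDDFam (f := fun _ : PUnit.{u + 1} => a) (f' := fun _ : PUnit.{u + 1} => a)
        (α := fun j => j) (p := 𝟙 S) (p' := fun _ => f)
        (fun _ => (h).trans (Category.comp_id a).symm) ≅
      𝟭 (SchDDFam (fun _ : PUnit.{u + 1} => a))) := by
  refine ⟨NatIso.ofComponents (fun D => isoD h D) ?_⟩
  intro D D' m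
  apply SchDDFam.hom_ext
  funext j
  apply Over.OverMorphism.ext
  change pullback.map (D.obj j).hom f (D'.obj j).hom f (m.hom j).left (𝟙 _) (𝟙 _)
    (by simp [Over.w]) (by simp) ≫ θ h D' j = θ h D j ≫ (m.hom j).left
  have hfst : pullback.map (D.obj j).hom f (D'.obj j).hom f (m.hom j).left (𝟙 _) (𝟙 _)
      (by simp [Over.w]) (by simp) ≫ pullback.fst _ _ = pullback.fst _ _ ≫ (m.hom j).left := by
    simp
  have hsnd : pullback.map (D.obj j).hom f (D'.obj j).hom f (m.hom j).left (𝟙 _) (𝟙 _)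
      (by simp [Over.w]) (by simp) ≫ pullback.snd _ _ = pullback.snd _ _ := by
    simp
  have hux : (pullback.fst (D.obj j).hom f ≫ (m.hom j).left) ≫ (D'.obj j).hom =
      pullback.snd (D.obj j).hom f ≫ f := by
    rw [Category.assoc, Over.w (m.hom j)]; exact pullback.condition
  rw [comp_θ h D' j _ (pullback.snd (D.obj j).hom f) (pullback.fst _ _ ≫ (m.hom j).left) hsnd hfst
    hux]
  exact m.comm (i := j) (j := j) (pullback.snd (D.obj j).hom f ≫ f) (pullback.snd (D.obj j).hom f)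
    (hcomp h _) ⟨pullback.fst _ _, pullback.condition⟩ ⟨pullback.fst _ _ ≫ (m.hom j).left, hux⟩ rfl

end Groth.Agent.Helper21.DescEndo
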