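import Mathlib
import Groth.Prelude.Def_SGA1

/-!
Descent of morphisms to étale schemes along universally submersive morphisms.
-/

open AlgebraicGeometry CategoryTheory Limits MorphismProperty

universe u

namespace Groth.Agent.Helper21.DescEt

/-- A section of an étale morphism is an open immersion. -/
theorem isOpenImmersion_of_section {X Z : Scheme.{u}} (s : X ⟶ Z) (e : Z ⟶ X) [Etale e]
    (h : s ≫ e = 𝟙 X) : IsOpenImmersion s := by
  haveI : Etale (s ≫ e) := by rw [h]; infer_instance
  haveI : Etale s := MorphismProperty.of_postcomp (W := @Etale) (W' := @Etale) s e ‹_› ‹_›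
  haveI : Mono (s ≫ e) := by rw [h]; infer_instance
  haveI : Mono s := mono_of_mono s e
  exact IsOpenImmersion.of_flat_of_mono s

/-- étale + universally injective ⇒ open immersion. -/
theorem isOpenImmersion_of_etale_of_universallyInjective {X Y : Scheme.{u}} (f : X ⟶ Y) [Etale f]
    [UniversallyInjective f] : IsOpenImmersion f := by
  have h1 : Surjective (pullback.diagonal f) := (UniversallyInjective.iff_diagonal f).mp ‹_›
  have h2 : IsOpenImmersion (pullback.diagonal f) := inferInstance
  have h3 : IsIso (pullback.diagonal f) :=
    (isIso_iff_isOpenImmersion_and_surjective _).mpr ⟨h2, h1⟩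
  have h4 : Mono f := (pullback.isIso_diagonal_iff f).mp h3
  exact IsOpenImmersion.of_flat_of_mono f

set_option backward.isDefEq.respectTransparency.types false in
theorem descendsAlong_universallyInjective_surjective :
    DescendsAlong @UniversallyInjective.{u} @Surjective := by
  rw [universallyInjective_eq_diagonal]
  infer_instance

set_option backward.isDefEq.respectTransparency false in
/-- The equalizer of two morphisms into an unramified scheme (over a base) is an open
immersion. -/
theorem isOpenImmersion_equalizer_ι_left {S : Scheme.{u}} {X Y : Over S}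
    [FormallyUnramified Y.hom] [LocallyOfFiniteType Y.hom]
    (f g : X ⟶ Y) : IsOpenImmersion (equalizer.ι f g).left := by
  refine MorphismProperty.of_isPullback (P := @IsOpenImmersion)
    ((Limits.isPullback_equalizer_prod f g).map (Over.forget _)).flip ?_
  rw [← MorphismProperty.cancel_right_of_respectsIso @IsOpenImmersion _
    (Over.prodLeftIsoPullback Y Y).hom]
  convert! (inferInstance : IsOpenImmersion (pullback.diagonal Y.hom))
  ext1 <;> simp [← Over.comp_left]

set_option backward.isDefEq.respectTransparency false in
/-- Two morphisms into an unramified `S`-scheme which agree after composing with a surjective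
morphism are equal. -/
theorem eq_of_surjective_comp {T X Y Z : Scheme.{u}} (ι : T ⟶ X) (hι : Function.Surjective ι.base)
    {f g : X ⟶ Y} (s : Y ⟶ Z) [FormallyUnramified s] [LocallyOfFiniteType s]
    (h : f ≫ s = g ≫ s) (hfg : ι ≫ f = ι ≫ g) : f = g := by
  let X' : Over Z := Over.mk (f ≫ s)
  let Y' : Over Z := Over.mk s
  let U' : Over Z := Over.mk (ι ≫ f ≫ s)
  let f' : X' ⟶ Y' := Over.homMk f
  let g' : X' ⟶ Y' := Over.homMk g
  let ι' : U' ⟶ X' := Over.homMk ι
  have : FormallyUnramified Y'.hom := ‹_›
  have : LocallyOfFiniteType Y'.hom := ‹_›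
  haveI : IsOpenImmersion (equalizer.ι f' g').left := isOpenImmersion_equalizer_ι_left f' g'
  have hl : ι' ≫ f' = ι' ≫ g' := by ext1; exact hfg
  have h2 : (equalizer.lift ι' hl).left ≫ (equalizer.ι f' g').left = ι := by
    rw [← Over.comp_left, equalizer.lift_ι]
    rfl
  have huniv : Set.range (equalizer.ι f' g').left.base = Set.univ := by
    rw [Set.eq_univ_iff_forall]
    intro x
    obtain ⟨t, rfl⟩ := hι x
    refine ⟨(equalizer.lift ι' hl).left.base t, ?_⟩
    rw [← h2]
    rfl
  haveI : IsIso (equalizer.ι f' g').left :=
    isIso_of_isOpenImmersion_of_opensRange_eq_top _ (TopologicalSpace.Opens.ext huniv)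
  rw [← cancel_epi (equalizer.ι f' g').left]
  exact congr($(equalizer.condition f' g').left)

end Groth.Agent.Helper21.DescEt
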