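import Mathlib
import Groth.Agent.Lib.Helper21.DescEt

/-!
Descent of morphisms to étale schemes along universally submersive morphisms: main theorem.
-/

open AlgebraicGeometry CategoryTheory Limits MorphismProperty

universe u

namespace Groth.Agent.Helper21.DescEt

theorem desc_etale {S S' X Y : Scheme.{u}} (g : S' ⟶ S) (hg : SGA1.UnivSubmersive g)
    (p : X ⟶ S) (q : Y ⟶ S) [Etale q]
    (f' : pullback p g ⟶ pullback q g) (hf' : f' ≫ pullback.snd q g = pullback.snd p g)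
    (a₁ a₂ : pullback p (pullback.fst g g ≫ g) ⟶ pullback p g)
    (ha₁f : a₁ ≫ pullback.fst p g = pullback.fst p (pullback.fst g g ≫ g))
    (ha₁s : a₁ ≫ pullback.snd p g = pullback.snd p (pullback.fst g g ≫ g) ≫ pullback.fst g g)
    (ha₂f : a₂ ≫ pullback.fst p g = pullback.fst p (pullback.fst g g ≫ g))
    (ha₂s : a₂ ≫ pullback.snd p g = pullback.snd p (pullback.fst g g ≫ g) ≫ pullback.snd g g)
    (hcoc : a₁ ≫ f' ≫ pullback.fst q g = a₂ ≫ f' ≫ pullback.fst q g) :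
    ∃! u : X ⟶ Y, u ≫ q = p ∧ f' ≫ pullback.fst q g = pullback.fst p g ≫ u := by
  obtain ⟨F, hF⟩ : ∃ F : pullback p g ⟶ Y, F = f' ≫ pullback.fst q g := ⟨_, rfl⟩
  rw [← hF] at hcoc ⊢
  obtain ⟨π, hπ⟩ : ∃ π : pullback p g ⟶ X, π = pullback.fst p g := ⟨_, rfl⟩
  obtain ⟨sX, hsX⟩ : ∃ sX : pullback p g ⟶ S', sX = pullback.snd p g := ⟨_, rfl⟩
  rw [← hπ] at ha₁f ha₂f ⊢
  rw [← hsX] at ha₁s ha₂s hf'
  have hpg : π ≫ p = sX ≫ g := by rw [hπ, hsX]; exact pullback.condition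
  have hPB : IsPullback π sX p g := by rw [hπ, hsX]; exact IsPullback.of_hasPullback p g
  have hFq : F ≫ q = π ≫ p := by
    rw [hF, Category.assoc, pullback.condition, ← Category.assoc, hf', hpg]
  have hquot : ∀ {A B : Scheme.{u}} (a : A ⟶ B) (i₁ : A ⟶ S') (i₂ : B ⟶ S),
      IsPullback a i₁ i₂ g → Topology.IsQuotientMap a.base := fun a i₁ i₂ h => hg i₁ i₂ a h
  have hπquot : Topology.IsQuotientMap π.base := hquot π sX p hPB
  have hπsurj : Function.Surjective π.base := hπquot.surjective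
  -- the graph
  obtain ⟨γ, hγX, hγY⟩ : ∃ γ : pullback p g ⟶ pullback p q,
      γ ≫ pullback.fst p q = π ∧ γ ≫ pullback.snd p q = F :=
    ⟨pullback.lift π F hFq.symm, pullback.lift_fst _ _ _, pullback.lift_snd _ _ _⟩
  obtain ⟨prX, hprX⟩ : ∃ prX : pullback p q ⟶ X, prX = pullback.fst p q := ⟨_, rfl⟩
  obtain ⟨prY, hprY⟩ : ∃ prY : pullback p q ⟶ Y, prY = pullback.snd p q := ⟨_, rfl⟩
  rw [← hprX] at hγX
  rw [← hprY] at hγY
  have hZc : prX ≫ p = prY ≫ q := by rw [hprX, hprY]; exact pullback.condition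
  have hPBZ : IsPullback prX prY p q := by rw [hprX, hprY]; exact IsPullback.of_hasPullback p q
  haveI : Etale prX := by rw [hprX]; infer_instance
  obtain ⟨ϖ, hϖ⟩ : ∃ ϖ : pullback prX π ⟶ pullback p q, ϖ = pullback.fst prX π := ⟨_, rfl⟩
  obtain ⟨pr', hpr'⟩ : ∃ pr' : pullback prX π ⟶ pullback p g, pr' = pullback.snd prX π :=
    ⟨_, rfl⟩
  have hZ' : ϖ ≫ prX = pr' ≫ π := by rw [hϖ, hpr']; exact pullback.condition
  have hPB' : IsPullback ϖ pr' prX π := by rw [hϖ, hpr']; exact IsPullback.of_hasPullback prX π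
  haveI : Etale pr' := by rw [hpr']; infer_instance
  obtain ⟨γ', hγ'ϖ, hγ'pr⟩ : ∃ γ' : pullback p g ⟶ pullback prX π, γ' ≫ ϖ = γ ∧ γ' ≫ pr' = 𝟙 _ := by
    refine ⟨pullback.lift γ (𝟙 _) (by rw [hγX, Category.id_comp]), ?_, ?_⟩
    · rw [hϖ]; exact pullback.lift_fst _ _ _
    · rw [hpr']; exact pullback.lift_snd _ _ _
  haveI : IsOpenImmersion γ' := isOpenImmersion_of_section γ' pr' hγ'pr
  have hϖquot : Topology.IsQuotientMap ϖ.base :=
    hquot ϖ (pr' ≫ sX) (prX ≫ p) (hPB'.paste_vert hPB)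
  -- saturation, at the level of morphisms
  have hsat_mor : pullback.fst ϖ γ = pullback.fst ϖ γ ≫ pr' ≫ γ' := by
    obtain ⟨b₁, hb₁⟩ : ∃ b₁ : pullback ϖ γ ⟶ pullback prX π, b₁ = pullback.fst ϖ γ := ⟨_, rfl⟩
    obtain ⟨b₂, hb₂⟩ : ∃ b₂ : pullback ϖ γ ⟶ pullback p g, b₂ = pullback.snd ϖ γ := ⟨_, rfl⟩
    rw [← hb₁]
    have hb : b₁ ≫ ϖ = b₂ ≫ γ := by rw [hb₁, hb₂]; exact pullback.condition
    have h1 : b₁ ≫ pr' ≫ π = b₂ ≫ π := by
      rw [← hZ', ← Category.assoc, hb, Category.assoc, hγX]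
    have hc1 : (b₁ ≫ pr' ≫ sX) ≫ g = (b₂ ≫ sX) ≫ g := by
      calc (b₁ ≫ pr' ≫ sX) ≫ g = (b₁ ≫ pr' ≫ π) ≫ p := by simp only [Category.assoc, hpg]
        _ = (b₂ ≫ π) ≫ p := by rw [h1]
        _ = (b₂ ≫ sX) ≫ g := by simp only [Category.assoc, hpg]
    obtain ⟨σ'', hσf, hσs⟩ : ∃ σ'' : pullback ϖ γ ⟶ pullback g g,
        σ'' ≫ pullback.fst g g = b₁ ≫ pr' ≫ sX ∧ σ'' ≫ pullback.snd g g = b₂ ≫ sX :=
      ⟨pullback.lift _ _ hc1, pullback.lift_fst _ _ _, pullback.lift_snd _ _ _⟩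
    have hc2 : (b₂ ≫ π) ≫ p = σ'' ≫ pullback.fst g g ≫ g := by
      rw [← Category.assoc σ'', hσf]
      calc (b₂ ≫ π) ≫ p = (b₁ ≫ pr' ≫ π) ≫ p := by rw [h1]
        _ = (b₁ ≫ pr' ≫ sX) ≫ g := by simp only [Category.assoc, hpg]
    obtain ⟨c, hcf, hcs⟩ : ∃ c : pullback ϖ γ ⟶ pullback p (pullback.fst g g ≫ g),
        c ≫ pullback.fst p (pullback.fst g g ≫ g) = b₂ ≫ π ∧
        c ≫ pullback.snd p (pullback.fst g g ≫ g) = σ'' :=
      ⟨pullback.lift _ _ hc2, pullback.lift_fst _ _ _, pullback.lift_snd _ _ _⟩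
    have hca₁ : c ≫ a₁ = b₁ ≫ pr' := by
      apply hPB.hom_ext
      · rw [Category.assoc, ha₁f, hcf, Category.assoc, h1]
      · rw [Category.assoc, ha₁s, ← Category.assoc, hcs, hσf, Category.assoc]
    have hca₂ : c ≫ a₂ = b₂ := by
      apply hPB.hom_ext
      · rw [Category.assoc, ha₂f, hcf]
      · rw [Category.assoc, ha₂s, ← Category.assoc, hcs, hσs]
    have h2 : b₁ ≫ pr' ≫ F = b₂ ≫ F := by
      calc b₁ ≫ pr' ≫ F = (c ≫ a₁) ≫ F := by rw [hca₁, Category.assoc]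
        _ = c ≫ a₁ ≫ F := Category.assoc _ _ _
        _ = c ≫ a₂ ≫ F := by rw [hcoc]
        _ = (c ≫ a₂) ≫ F := (Category.assoc _ _ _).symm
        _ = b₂ ≫ F := by rw [hca₂]
    apply hPB'.hom_ext
    · rw [Category.assoc, Category.assoc, hγ'ϖ, hb]
      apply hPBZ.hom_ext
      · rw [Category.assoc, hγX, Category.assoc, Category.assoc, hγX, h1]
      · rw [Category.assoc, hγY, Category.assoc, Category.assoc, hγY, h2]
    · rw [Category.assoc, Category.assoc, hγ'pr, Category.comp_id]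
  -- saturation, at the level of sets
  have hsat : ϖ.base ⁻¹' (Set.range γ.base) = Set.range γ'.base := by
    ext z'
    constructor
    · rintro ⟨x₁, hx₁⟩
      obtain ⟨t, ht1, -⟩ := Scheme.Pullback.exists_preimage_pullback (f := ϖ) (g := γ) z' x₁
        hx₁.symm
      refine ⟨pr'.base ((pullback.fst ϖ γ).base t), ?_⟩
      have h3 := congrArg (fun m => m.base t) hsat_mor
      rw [← ht1]
      exact h3.symm
    · rintro ⟨x', rfl⟩
      refine ⟨x', ?_⟩
      rw [← hγ'ϖ]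
      rfl
  have hopen : IsOpen (Set.range γ.base) := by
    rw [← hϖquot.isOpen_preimage, hsat]
    exact γ'.isOpenEmbedding.isOpen_range
  obtain ⟨U, hU⟩ : ∃ U : (pullback p q).Opens, SetLike.coe U = Set.range γ.base :=
    ⟨⟨Set.range γ.base, hopen⟩, rfl⟩
  have hrange : Set.range γ.base ⊆ Set.range U.ι.base := by
    rw [Scheme.Opens.range_ι, hU]
  obtain ⟨γU, hγU⟩ : ∃ γU : pullback p g ⟶ (U : Scheme.{u}), γU ≫ U.ι = γ :=
    ⟨IsOpenImmersion.lift U.ι γ hrange, IsOpenImmersion.lift_fac _ _ _⟩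
  obtain ⟨e, he⟩ : ∃ e : (U : Scheme.{u}) ⟶ X, e = U.ι ≫ prX := ⟨_, rfl⟩
  have hγUe : γU ≫ e = π := by rw [he, ← Category.assoc, hγU, hγX]
  haveI : Etale e := by rw [he]; infer_instance
  haveI : Surjective e := ⟨fun x => by
    obtain ⟨x', rfl⟩ := hπsurj x
    exact ⟨γU.base x', by rw [← hγUe]; rfl⟩⟩
  -- the base change of `e` along `π` is an isomorphism
  have hfstiso : IsIso (pullback.fst π e) := by
    obtain ⟨a, ha⟩ : ∃ a : pullback π e ⟶ pullback p g, a = pullback.fst π e := ⟨_, rfl⟩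
    obtain ⟨b, hb⟩ : ∃ b : pullback π e ⟶ (U : Scheme.{u}), b = pullback.snd π e := ⟨_, rfl⟩
    rw [← ha]
    have hab : a ≫ π = b ≫ e := by rw [ha, hb]; exact pullback.condition
    have hζc : (b ≫ U.ι) ≫ prX = a ≫ π := by
      rw [Category.assoc, ← he]
      exact hab.symm
    obtain ⟨ζ, hζϖ, hζpr⟩ : ∃ ζ : pullback π e ⟶ pullback prX π,
        ζ ≫ ϖ = b ≫ U.ι ∧ ζ ≫ pr' = a := by
      refine ⟨pullback.lift _ _ hζc, ?_, ?_⟩
      · rw [hϖ]; exact pullback.lift_fst _ _ _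
      · rw [hpr']; exact pullback.lift_snd _ _ _
    have hζrange : Set.range ζ.base ⊆ Set.range γ'.base := by
      rintro _ ⟨t, rfl⟩
      rw [← hsat]
      show ϖ.base (ζ.base t) ∈ Set.range γ.base
      have h4 : ϖ.base (ζ.base t) = U.ι.base (b.base t) :=
        congrArg (fun m => m.base t) hζϖ
      rw [h4, ← hU]
      exact (b.base t).2
    obtain ⟨w, hw⟩ : ∃ w : pullback π e ⟶ pullback p g, w ≫ γ' = ζ :=
      ⟨IsOpenImmersion.lift γ' ζ hζrange, IsOpenImmersion.lift_fac _ _ _⟩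
    have hwa : w = a := by
      have h5 := congrArg (fun m => m ≫ pr') hw
      simp only [Category.assoc, hγ'pr, Category.comp_id, hζpr] at h5
      exact h5
    have hbU : b ≫ U.ι = a ≫ γ := by
      have h5 := congrArg (fun m => m ≫ ϖ) hw
      simp only [Category.assoc, hγ'ϖ, hζϖ] at h5
      rw [← h5, hwa]
    obtain ⟨δ, hδa, hδb⟩ : ∃ δ : pullback p g ⟶ pullback π e, δ ≫ a = 𝟙 _ ∧ δ ≫ b = γU := by
      refine ⟨pullback.lift (𝟙 _) γU (by rw [Category.id_comp, hγUe]), ?_, ?_⟩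
      · rw [ha]; exact pullback.lift_fst _ _ _
      · rw [hb]; exact pullback.lift_snd _ _ _
    refine ⟨δ, ?_, hδa⟩
    rw [ha, hb] at *
    apply pullback.hom_ext
    · rw [Category.assoc, hδa, Category.comp_id, Category.id_comp]
    · rw [Category.assoc, hδb, Category.id_comp, ← cancel_mono U.ι, Category.assoc, hγU, hbU]
  haveI : UniversallyInjective e :=
    descendsAlong_universallyInjective_surjective.of_isPullback
      (IsPullback.of_hasPullback π e) ⟨hπsurj⟩ inferInstance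
  haveI : IsOpenImmersion e := isOpenImmersion_of_etale_of_universallyInjective e
  haveI : IsIso e := (isIso_iff_isOpenImmersion_and_surjective e).mpr ⟨inferInstance, inferInstance⟩
  have hγUinv : γU = π ≫ inv e := by rw [← hγUe, Category.assoc, IsIso.hom_inv_id, Category.comp_id]
  refine ⟨inv e ≫ U.ι ≫ prY, ⟨?_, ?_⟩, ?_⟩
  · rw [Category.assoc, Category.assoc, ← hZc, ← Category.assoc U.ι, ← he, IsIso.inv_hom_id_assoc]
  · rw [← Category.assoc, ← hγUinv, ← Category.assoc, hγU, hγY]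
  · rintro u' ⟨hu'q, hu'F⟩
    refine eq_of_surjective_comp π hπsurj q ?_ ?_
    · rw [hu'q, Category.assoc, Category.assoc, ← hZc, ← Category.assoc U.ι, ← he,
        IsIso.inv_hom_id_assoc]
    · rw [← hu'F, ← Category.assoc, ← hγUinv, ← Category.assoc, hγU, hγY]

end Groth.Agent.Helper21.DescEt
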