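import Mathlib
import Groth.Agent.Lib.Helper21.DescFF

/-!
# Pullback of descent data along a refinement: full faithfulness from general cover data (helper21)
-/

set_option autoImplicit false
set_option backward.isDefEq.respectTransparency false
set_option backward.isDefEq.respectTransparency.types false

open CategoryTheory CategoryTheory.Limits AlgebraicGeometry

universe w w' w'' u

namespace Groth.Agent.Helper21.DescFF2

open Desc Groth.Agent.Helper21.DescA Groth.Agent.Helper21.DescFF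

section

variable {S : Scheme.{u}} {ι : Type w} {X : ι → Scheme.{u}} {f : ∀ i, X i ⟶ S}
  {κ : Type w'} {X' : κ → Scheme.{u}} {f' : ∀ k, X' k ⟶ S} {α : κ → ι}
  {q : ∀ k, X' k ⟶ X (α k)} (w : ∀ k, q k ≫ f (α k) = f' k ≫ 𝟙 S)

/-- Cover data: each `V¹_i` is covered (fpqc) by schemes carrying a point of some `X'_k`. -/
structure CovData (D₁ : SchDDFam f) (f' : ∀ k, X' k ⟶ S) where
  L : ι → Type w''
  T : ∀ i, L i → Scheme.{u}
  t : ∀ i l, T i l ⟶ (D₁.obj i).left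
  k : ∀ i, L i → κ
  x : ∀ i l, T i l ⟶ X' (k i l)
  hx : ∀ i l, (t i l ≫ (D₁.obj i).hom) ≫ f i = x i l ≫ f' (k i l)
  mem : ∀ i, Presieve.ofArrows (T i) (t i) ∈ Scheme.fpqcPrecoverage (D₁.obj i).left

variable {D₁ D₂ : SchDDFam f} (a : (pullDDFam w).obj D₁ ⟶ (pullDDFam w).obj D₂)

theorem cov_pt (C : CovData.{w, w', w''} D₁ f') {T : Scheme.{u}} (i : ι)
    (t : T ⟶ (D₁.obj i).left) :
    Presieve.ofArrows (fun l => pullback t (C.t i l))
      (fun l => pullback.fst t (C.t i l)) ∈ Scheme.fpqcPrecoverage T :=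
  Precoverage.mem_coverings_of_isPullback _ (C.mem i) t _
    (fun l => pullback.snd _ _) (fun l => IsPullback.of_hasPullback _ _)

variable (C : CovData.{w, w', w''} D₁ f')

theorem exists_b (i : ι) : ∃! b : (D₁.obj i).left ⟶ (D₂.obj i).left,
    ∀ l, C.t i l ≫ b =
      (G w a (C.t i l ≫ (D₁.obj i).hom) ⟨C.t i l, rfl⟩ (C.k i l) (C.x i l) (C.hx i l)).1 := by
  refine glue_fpqc _ (C.mem i) _ (fun l l' T' a' b' hab => ?_)
  have hk : (a' ≫ C.t i l ≫ (D₁.obj i).hom) ≫ f i = (a' ≫ C.x i l) ≫ f' (C.k i l) := by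
    rw [Category.assoc, C.hx i l, Category.assoc]
  have hl : (b' ≫ C.t i l' ≫ (D₁.obj i).hom) ≫ f i = (b' ≫ C.x i l') ≫ f' (C.k i l') := by
    rw [Category.assoc, C.hx i l', Category.assoc]
  have e0 : a' ≫ C.t i l ≫ (D₁.obj i).hom = b' ≫ C.t i l' ≫ (D₁.obj i).hom := by
    rw [← Category.assoc, hab, Category.assoc]
  have hk' : (b' ≫ C.t i l' ≫ (D₁.obj i).hom) ≫ f i = (a' ≫ C.x i l) ≫ f' (C.k i l) := by
    rw [← e0]; exact hk
  rw [G_nat w a a', G_nat w a b']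
  exact (G_congr w a e0 _ ⟨b' ≫ C.t i l', by rw [Category.assoc]⟩ hab (C.k i l) rfl hk hk').trans
    (G_indep w a _ _ (C.k i l) (C.k i l') _ _ hk' hl)

/-- The descended morphism `V¹_i ⟶ V²_i`. -/
noncomputable def bmap (i : ι) : (D₁.obj i).left ⟶ (D₂.obj i).left :=
  (exists_b w a C i).exists.choose

theorem t_bmap (i : ι) (l : C.L i) : C.t i l ≫ bmap w a C i =
      (G w a (C.t i l ≫ (D₁.obj i).hom) ⟨C.t i l, rfl⟩ (C.k i l) (C.x i l) (C.hx i l)).1 :=
  (exists_b w a C i).exists.choose_spec l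

theorem pt_bmap {T : Scheme.{u}} {i : ι} (x₀ : T ⟶ X i) (v : Lifts (D₁.obj i) x₀) (k : κ)
    (x' : T ⟶ X' k) (hx : x₀ ≫ f i = x' ≫ f' k) :
    v.1 ≫ bmap w a C i = (G w a x₀ v k x' hx).1 := by
  have hv : v.1 ≫ (D₁.obj i).hom = x₀ := v.2
  refine hom_ext_fpqc _ (cov_pt C i v.1) _ _ (fun l => ?_)
  have e1 : pullback.fst v.1 (C.t i l) ≫ v.1 ≫ bmap w a C i =
      pullback.snd v.1 (C.t i l) ≫ C.t i l ≫ bmap w a C i := by
    rw [← Category.assoc, pullback.condition, Category.assoc]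
  rw [e1, t_bmap, G_nat w a (pullback.snd v.1 (C.t i l)), G_nat w a (pullback.fst v.1 (C.t i l))]
  have e0 : pullback.snd v.1 (C.t i l) ≫ C.t i l ≫ (D₁.obj i).hom =
      pullback.fst v.1 (C.t i l) ≫ x₀ := by
    rw [← Category.assoc, ← pullback.condition, Category.assoc, hv]
  have hk : (pullback.snd v.1 (C.t i l) ≫ C.t i l ≫ (D₁.obj i).hom) ≫ f i =
      (pullback.snd v.1 (C.t i l) ≫ C.x i l) ≫ f' (C.k i l) := by
    rw [Category.assoc, C.hx i l, Category.assoc]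
  have hk' : (pullback.fst v.1 (C.t i l) ≫ x₀) ≫ f i =
      (pullback.snd v.1 (C.t i l) ≫ C.x i l) ≫ f' (C.k i l) := by
    rw [← e0]; exact hk
  have hl : (pullback.fst v.1 (C.t i l) ≫ x₀) ≫ f i =
      (pullback.fst v.1 (C.t i l) ≫ x') ≫ f' k := by
    rw [Category.assoc, hx, Category.assoc]
  exact (G_congr w a e0 _ ⟨pullback.fst v.1 (C.t i l) ≫ v.1, by rw [Category.assoc, hv]⟩
    pullback.condition.symm (C.k i l) rfl hk hk').trans
    (G_indep w a _ _ (C.k i l) k _ _ hk' hl)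

theorem bmap_hom (i : ι) : bmap w a C i ≫ (D₂.obj i).hom = (D₁.obj i).hom := by
  refine hom_ext_fpqc _ (C.mem i) _ _ (fun l => ?_)
  rw [← Category.assoc, t_bmap]
  exact (G w a _ _ (C.k i l) _ _).2

theorem comm_aux {T T' : Scheme.{u}} {i j : ι} (x₀ : T ⟶ X i) (x₁ : T ⟶ X j)
    (h : x₀ ≫ f i = x₁ ≫ f j) (v : Lifts (D₁.obj i) x₀) (ww : Lifts (D₂.obj i) x₀)
    (hww' : ww.1 = v.1 ≫ bmap w a C i) (k : κ) (r : T' ⟶ T) (x' : T' ⟶ X' k)
    (hx0 : (r ≫ x₀) ≫ f i = x' ≫ f' k) :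
    r ≫ (D₂.φ x₀ x₁ h ww).1 = r ≫ (D₁.φ x₀ x₁ h v).1 ≫ bmap w a C j := by
  have hv : v.1 ≫ (D₁.obj i).hom = x₀ := v.2
  have hx1 : (r ≫ x₁) ≫ f j = x' ≫ f' k := by
    rw [Category.assoc, ← h, ← Category.assoc]; exact hx0
  have hL1 : r ≫ ww.1 = (G w a (r ≫ x₀) ⟨r ≫ v.1, by rw [Category.assoc, hv]⟩ k x' hx0).1 := by
    rw [hww', ← Category.assoc]
    exact pt_bmap w a C (r ≫ x₀) ⟨r ≫ v.1, by rw [Category.assoc, hv]⟩ k x' hx0
  have hL : r ≫ (D₂.φ x₀ x₁ h ww).1 = (D₂.φ (x' ≫ q k) (r ≫ x₁) (h₁ w hx1).symm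
      (mid w a (r ≫ x₀) ⟨r ≫ v.1, by rw [Category.assoc, hv]⟩ k x' hx0)).1 := by
    rw [φ_nat D₂ r]
    exact φ_comp_val D₂ (x' ≫ q k) (r ≫ x₀) (r ≫ x₁) (h₁ w hx0).symm _
      (mid w a (r ≫ x₀) ⟨r ≫ v.1, by rw [Category.assoc, hv]⟩ k x' hx0) _ hL1
  have hR : r ≫ (D₁.φ x₀ x₁ h v).1 ≫ bmap w a C j = (D₂.φ (x' ≫ q k) (r ≫ x₁)
      (h₁ w hx1).symm (mid w a (r ≫ x₁) ⟨r ≫ (D₁.φ x₀ x₁ h v).1, by
        rw [Category.assoc, (D₁.φ x₀ x₁ h v).2]⟩ k x' hx1)).1 := by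
    rw [← Category.assoc]
    exact pt_bmap w a C (r ≫ x₁) ⟨r ≫ (D₁.φ x₀ x₁ h v).1, by
      rw [Category.assoc, (D₁.φ x₀ x₁ h v).2]⟩ k x' hx1
  rw [hL, hR]
  refine φ_congr D₂ _ _ rfl rfl _ _ (mid_congr_of w a _ _ k x' hx0 hx1 ?_)
  refine (φ_comp_val D₁ (r ≫ x₀) (r ≫ x₁) (x' ≫ q k) (by rw [Category.assoc, h, Category.assoc])
    (h₁ w hx1) ⟨r ≫ v.1, by rw [Category.assoc, hv]⟩ _ ?_).symm
  exact φ_nat D₁ r x₀ x₁ h v

/-- The descended morphism of descent data. -/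
noncomputable def bHom : D₁ ⟶ D₂ :=
  ⟨fun i => Over.homMk (bmap w a C i) (bmap_hom w a C i), fun T i j x₀ x₁ h v ww hww => by
    have hww' : ww.1 = v.1 ≫ bmap w a C i := hww
    change _ = _ ≫ bmap w a C j
    have hv : v.1 ≫ (D₁.obj i).hom = x₀ := v.2
    refine hom_ext_fpqc _ (cov_pt C i v.1) _ _ (fun l => ?_)
    refine comm_aux w a C x₀ x₁ h v ww hww' (C.k i l) _ (pullback.snd _ _ ≫ C.x i l) ?_
    have e : pullback.fst v.1 (C.t i l) ≫ x₀ =
        pullback.snd v.1 (C.t i l) ≫ C.t i l ≫ (D₁.obj i).hom := by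
      rw [← Category.assoc, ← pullback.condition, Category.assoc, hv]
    rw [e, Category.assoc, C.hx i l, Category.assoc]⟩

theorem map_bHom : (pullDDFam w).map (bHom w a C) = a := by
  apply SchDDFam.hom_ext
  funext k
  apply Over.OverMorphism.ext
  change pullback.map (D₁.obj (α k)).hom (q k) (D₂.obj (α k)).hom (q k) (bmap w a C (α k))
    (𝟙 _) (𝟙 _) (by simp [bmap_hom]) (by simp) = (a.hom k).left
  apply pullback.hom_ext
  · rw [pullback.lift_fst]
    have hx : (pullback.fst (D₁.obj (α k)).hom (q k) ≫ (D₁.obj (α k)).hom) ≫ f (α k) =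
        pullback.snd (D₁.obj (α k)).hom (q k) ≫ f' k := by
      rw [pullback.condition, Category.assoc, hw w]
    rw [pt_bmap w a C (pullback.fst (D₁.obj (α k)).hom (q k) ≫ (D₁.obj (α k)).hom)
      ⟨pullback.fst _ _, rfl⟩ k (pullback.snd _ _) hx]
    have hm : (mid w a (pullback.fst (D₁.obj (α k)).hom (q k) ≫ (D₁.obj (α k)).hom)
        ⟨pullback.fst _ _, rfl⟩ k (pullback.snd _ _) hx).1 =
        (a.hom k).left ≫ pullback.fst (D₂.obj (α k)).hom (q k) := by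
      unfold mid
      dsimp only
      have e1 : (D₁.φ (pullback.fst (D₁.obj (α k)).hom (q k) ≫ (D₁.obj (α k)).hom)
          (pullback.snd (D₁.obj (α k)).hom (q k) ≫ q k) (h₁ w hx) ⟨pullback.fst _ _, rfl⟩).1 =
          pullback.fst _ _ :=
        (φ_congr D₁ _ rfl rfl pullback.condition.symm _ ⟨pullback.fst _ _, rfl⟩ rfl).trans
          (φ_self_val D₁ _ _)
      have e2 : pullback.lift (D₁.φ (pullback.fst (D₁.obj (α k)).hom (q k) ≫ (D₁.obj (α k)).hom)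
          (pullback.snd (D₁.obj (α k)).hom (q k) ≫ q k) (h₁ w hx) ⟨pullback.fst _ _, rfl⟩).1
          (pullback.snd (D₁.obj (α k)).hom (q k)) (D₁.φ _ _ (h₁ w hx) ⟨pullback.fst _ _, rfl⟩).2 =
          𝟙 _ := by
        apply pullback.hom_ext
        · rw [pullback.lift_fst, e1, Category.id_comp]
        · rw [pullback.lift_snd, Category.id_comp]
      rw [e2, Category.id_comp]
    unfold G
    refine (φ_congr D₂ _ rfl pullback.condition.symm rfl _
      ⟨(a.hom k).left ≫ pullback.fst (D₂.obj (α k)).hom (q k), by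
        rw [Category.assoc, pullback.condition, ← Category.assoc, a_snd]
        exact pullback.condition.symm⟩ hm).trans ?_
    exact φ_self_val D₂ _ _
  · rw [pullback.lift_snd, Category.comp_id, a_snd]

omit a in
include C in
theorem map_injective (b b' : D₁ ⟶ D₂) (h : (pullDDFam w).map b = (pullDDFam w).map b') :
    b = b' := by
  apply SchDDFam.hom_ext
  funext i
  apply Over.OverMorphism.ext
  refine hom_ext_fpqc _ (C.mem i) _ _ (fun l => ?_)
  have e1 := G_map w b (C.t i l ≫ (D₁.obj i).hom) ⟨C.t i l, rfl⟩ (C.k i l) (C.x i l) (C.hx i l)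
  have e2 := G_map w b' (C.t i l ≫ (D₁.obj i).hom) ⟨C.t i l, rfl⟩ (C.k i l) (C.x i l) (C.hx i l)
  rw [h] at e1
  exact e1.symm.trans e2

omit a in
include C in
/-- Pullback along a refinement which covers the source is bijective on morphisms. -/
theorem map_bijective : Function.Bijective
    (fun b : D₁ ⟶ D₂ => (pullDDFam w).map b) :=
  ⟨fun b b' h => map_injective w C b b' h, fun a => ⟨bHom w a C, map_bHom w a C⟩⟩

end

end Groth.Agent.Helper21.DescFF2
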