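import Mathlib

/-!
# A norm for finite projective algebras (helper21)

For a commutative `A`-algebra `C` which is finite projective as a module and `h : C`, there is
`n : A` such that a prime `𝔭` of `A` does not contain `n` iff no prime of `C` over `𝔭` contains `h`.
-/

set_option autoImplicit false

namespace Groth.Agent.Helper21.ProjNorm

open TensorProduct

section Psi

variable {A : Type*} [CommRing A] {F P : Type*} [AddCommGroup F] [Module A F]
  [AddCommGroup P] [Module A P] (f : F →ₗ[A] P) (g : P →ₗ[A] F)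

/-- Extend an endomorphism of a retract `P` of `F` to `F` by the identity on the complement. -/
def Psi (φ : P →ₗ[A] P) : F →ₗ[A] F := g ∘ₗ φ ∘ₗ f + (LinearMap.id - g ∘ₗ f)

theorem Psi_apply (φ : P →ₗ[A] P) (x : F) : Psi f g φ x = g (φ (f x)) + (x - g (f x)) := rfl

theorem Psi_id : Psi f g LinearMap.id = LinearMap.id := by
  ext x
  simp [Psi_apply]

variable (hfg : ∀ y, f (g y) = y)

include hfg in
theorem Psi_comp (φ φ' : P →ₗ[A] P) : Psi f g (φ ∘ₗ φ') = Psi f g φ ∘ₗ Psi f g φ' := by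
  ext x
  simp only [Psi_apply, LinearMap.comp_apply, map_add, map_sub, hfg]
  abel_nf

include hfg in
theorem f_Psi (φ : P →ₗ[A] P) (x : F) : f (Psi f g φ x) = φ (f x) := by
  simp [Psi_apply, hfg]

include hfg in
theorem Psi_g (φ : P →ₗ[A] P) (y : P) : Psi f g φ (g y) = g (φ y) := by
  simp [Psi_apply, hfg]

include hfg in
theorem isUnit_Psi_iff (φ : P →ₗ[A] P) : IsUnit (Psi f g φ) ↔ IsUnit φ := by
  constructor
  · intro h
    obtain ⟨u, hu⟩ := h
    have h1 : ∀ x, Psi f g φ (((u⁻¹ : (F →ₗ[A] F)ˣ) : F →ₗ[A] F) x) = x := fun x => by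
      rw [← hu]; exact congrArg (fun m : F →ₗ[A] F => m x) u.mul_inv
    have h2 : ∀ x, ((u⁻¹ : (F →ₗ[A] F)ˣ) : F →ₗ[A] F) (Psi f g φ x) = x := fun x => by
      rw [← hu]; exact congrArg (fun m : F →ₗ[A] F => m x) u.inv_mul
    refine ⟨⟨φ, f ∘ₗ ((u⁻¹ : (F →ₗ[A] F)ˣ) : F →ₗ[A] F) ∘ₗ g, ?_, ?_⟩, rfl⟩
    · ext y
      change φ (f (((u⁻¹ : (F →ₗ[A] F)ˣ) : F →ₗ[A] F) (g y))) = y
      rw [← f_Psi f g hfg, h1, hfg]
    · ext y
      change f (((u⁻¹ : (F →ₗ[A] F)ˣ) : F →ₗ[A] F) (g (φ y))) = y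
      rw [← Psi_g f g hfg, h2, hfg]
  · intro h
    obtain ⟨u, hu⟩ := h
    refine ⟨⟨Psi f g φ, Psi f g ((u⁻¹ : (P →ₗ[A] P)ˣ) : P →ₗ[A] P), ?_, ?_⟩, rfl⟩
    · rw [Module.End.mul_eq_comp, ← Psi_comp f g hfg, ← hu, ← Module.End.mul_eq_comp, u.mul_inv]
      exact Psi_id f g
    · rw [Module.End.mul_eq_comp, ← Psi_comp f g hfg, ← hu, ← Module.End.mul_eq_comp, u.inv_mul]
      exact Psi_id f g

theorem Psi_baseChange (A' : Type*) [CommRing A'] [Algebra A A'] (φ : P →ₗ[A] P) :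
    (Psi f g φ).baseChange A' = Psi (f.baseChange A') (g.baseChange A') (φ.baseChange A') := by
  unfold Psi
  rw [LinearMap.baseChange_add, LinearMap.baseChange_sub, LinearMap.baseChange_comp,
    LinearMap.baseChange_comp, LinearMap.baseChange_comp, LinearMap.baseChange_id]

end Psi

section Norm

variable {A : Type*} [CommRing A] {C : Type*} [CommRing C] [Algebra A C]
  {F : Type*} [AddCommGroup F] [Module A F]
  (f : F →ₗ[A] C) (g : C →ₗ[A] F)

/-- The norm of `h` with respect to a presentation of `C` as a retract of a free module. -/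
noncomputable def nrm (h : C) : A := LinearMap.det (Psi f g (LinearMap.mulLeft A h))

theorem isUnit_mulLeft_iff (h : C) : IsUnit (LinearMap.mulLeft A h) ↔ IsUnit h := by
  constructor
  · rintro ⟨u, hu⟩
    have h1 : LinearMap.mulLeft A h (((u⁻¹ : (C →ₗ[A] C)ˣ) : C →ₗ[A] C) 1) = 1 := by
      rw [← hu]; exact congrArg (fun m : C →ₗ[A] C => m 1) u.mul_inv
    exact IsUnit.of_mul_eq_one _ h1
  · rintro ⟨u, rfl⟩
    refine ⟨⟨LinearMap.mulLeft A (u : C), LinearMap.mulLeft A ((u⁻¹ : Cˣ) : C), ?_, ?_⟩, rfl⟩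
    · ext; simp
    · ext; simp

variable [Module.Free A F] [Module.Finite A F]

theorem isUnit_nrm_iff (hfg : ∀ y, f (g y) = y) (h : C) : IsUnit (nrm f g h) ↔ IsUnit h := by
  rw [nrm, ← LinearMap.isUnit_iff_isUnit_det, isUnit_Psi_iff f g hfg, isUnit_mulLeft_iff]

theorem mulLeft_baseChange (A' : Type*) [CommRing A'] [Algebra A A'] (h : C) :
    (LinearMap.mulLeft A h).baseChange A' = LinearMap.mulLeft A' ((1 : A') ⊗ₜ[A] h) := by
  ext c
  simp

theorem algebraMap_nrm (A' : Type*) [CommRing A'] [Algebra A A'] (h : C) :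
    algebraMap A A' (nrm f g h) =
      nrm (f.baseChange A') (g.baseChange A') ((1 : A') ⊗ₜ[A] h) := by
  rw [nrm, nrm, ← LinearMap.det_baseChange, Psi_baseChange, mulLeft_baseChange]

theorem isUnit_algebraMap_nrm_iff (hfg : ∀ y, f (g y) = y) (A' : Type*) [CommRing A']
    [Algebra A A'] (h : C) :
    IsUnit (algebraMap A A' (nrm f g h)) ↔ IsUnit ((1 : A') ⊗ₜ[A] h : A' ⊗[A] C) := by
  rw [algebraMap_nrm]
  refine isUnit_nrm_iff _ _ (fun y => ?_) _
  have : (f.baseChange A') ∘ₗ (g.baseChange A') = LinearMap.id := by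
    rw [← LinearMap.baseChange_comp]
    have : f ∘ₗ g = LinearMap.id := LinearMap.ext hfg
    rw [this, LinearMap.baseChange_id]
  exact congrArg (fun m : A' ⊗[A] C →ₗ[A'] A' ⊗[A] C => m y) this

end Norm

section Main

variable {A : Type*} [CommRing A] {C : Type*} [CommRing C] [Algebra A C]

theorem isUnit_fiber_iff (h : C) (𝔭 : PrimeSpectrum A) :
    IsUnit ((1 : 𝔭.asIdeal.ResidueField) ⊗ₜ[A] h : 𝔭.asIdeal.Fiber C) ↔
      ∀ 𝔮 : PrimeSpectrum C, PrimeSpectrum.comap (algebraMap A C) 𝔮 = 𝔭 → h ∉ 𝔮.asIdeal := by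
  constructor
  · intro hu 𝔮 h𝔮 hh
    let Q := PrimeSpectrum.preimageEquivFiber A C 𝔭 ⟨𝔮, h𝔮⟩
    have e : (PrimeSpectrum.preimageEquivFiber A C 𝔭).symm Q = ⟨𝔮, h𝔮⟩ :=
      (PrimeSpectrum.preimageEquivFiber A C 𝔭).symm_apply_apply _
    have e' : Q.comap Algebra.TensorProduct.includeRight.toRingHom = 𝔮 :=
      congrArg Subtype.val e
    have hm : (1 : 𝔭.asIdeal.ResidueField) ⊗ₜ[A] h ∈ Q.asIdeal := by
      have : h ∈ (Q.comap Algebra.TensorProduct.includeRight.toRingHom).asIdeal := by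
        rw [e']; exact hh
      exact this
    exact Q.2.ne_top (Ideal.eq_top_of_isUnit_mem _ hm hu)
  · intro H
    by_contra hu
    obtain ⟨M, hM, hhM⟩ := exists_max_ideal_of_mem_nonunits (mem_nonunits_iff.mpr hu)
    let Q : PrimeSpectrum (𝔭.asIdeal.Fiber C) := ⟨M, hM.isPrime⟩
    have := ((PrimeSpectrum.preimageEquivFiber A C 𝔭).symm Q).2
    refine H ((PrimeSpectrum.preimageEquivFiber A C 𝔭).symm Q).1 this ?_
    exact hhM

/-- **Norm for finite projective algebras**: the image of `V(h)` in `Spec A` is a principal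
closed set. -/
theorem exists_norm [Module.Finite A C] [Module.Projective A C] (h : C) :
    ∃ n : A, ∀ 𝔭 : PrimeSpectrum A, n ∉ 𝔭.asIdeal ↔
      ∀ 𝔮 : PrimeSpectrum C, PrimeSpectrum.comap (algebraMap A C) 𝔮 = 𝔭 → h ∉ 𝔮.asIdeal := by
  obtain ⟨m, f, g, -, -, hfg⟩ := Module.Finite.exists_comp_eq_id_of_projective A C
  have hfg' : ∀ y, f (g y) = y := fun y => congrArg (fun l : C →ₗ[A] C => l y) hfg
  refine ⟨nrm f g h, fun 𝔭 => ?_⟩
  rw [← isUnit_fiber_iff, ← isUnit_algebraMap_nrm_iff f g hfg' 𝔭.asIdeal.ResidueField,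
    isUnit_iff_ne_zero, ne_eq, Ideal.algebraMap_residueField_eq_zero]

end Main

end Groth.Agent.Helper21.ProjNorm
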