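import Mathlib
import Groth.Agent.Lib.Helper21.ProjNorm

/-!
# Finite locally free morphisms: principal opens from norms; prime avoidance on affine opens
(helper21)
-/

set_option autoImplicit false
set_option backward.isDefEq.respectTransparency false
set_option backward.isDefEq.respectTransparency.types false
set_option linter.style.haveILetI false

open CategoryTheory CategoryTheory.Limits AlgebraicGeometry

universe u

namespace Groth.Agent.Helper21.DescFinA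


theorem exists_norm_section {R V : Scheme.{u}} (s : R ⟶ V) [IsFinite s] [Flat s]
    [LocallyOfFinitePresentation s] (U₁ : V.Opens) (hU₁ : IsAffineOpen U₁)
    (h : Γ(R, s ⁻¹ᵁ U₁)) :
    ∃ n : Γ(V, U₁), ∀ u : V, u ∈ U₁ →
      (u ∈ V.basicOpen n ↔ ∀ r : R, s r = u → r ∈ R.basicOpen h) := by
  have hR₁ : IsAffineOpen (s ⁻¹ᵁ U₁) := hU₁.preimage s
  have hfin : (s.app U₁).hom.Finite := s.finite_app U₁ hU₁
  have hflat : (s.appLE U₁ (s ⁻¹ᵁ U₁) le_rfl).hom.Flat := s.flat_appLE hU₁ hR₁ le_rfl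
  have hfp : (s.appLE U₁ (s ⁻¹ᵁ U₁) le_rfl).hom.FinitePresentation :=
    s.finitePresentation_appLE hU₁ hR₁ le_rfl
  rw [Scheme.Hom.appLE_eq_app] at hflat hfp
  algebraize [(s.app U₁).hom]
  haveI := Module.FinitePresentation.of_finite_of_finitePresentation (R := Γ(V, U₁))
    (S := Γ(R, s ⁻¹ᵁ U₁))
  haveI : Module.Projective Γ(V, U₁) Γ(R, s ⁻¹ᵁ U₁) :=
    Module.Flat.projective_of_finitePresentation
  obtain ⟨n, hn⟩ := Groth.Agent.Helper21.ProjNorm.exists_norm (A := Γ(V, U₁))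
    (C := Γ(R, s ⁻¹ᵁ U₁)) h
  refine ⟨n, fun u hu => ?_⟩
  have hsq : Spec.map (s.app U₁) ≫ hU₁.fromSpec = hR₁.fromSpec ≫ s := by
    have := IsAffineOpen.SpecMap_appLE_fromSpec s hU₁ hR₁ le_rfl
    rwa [Scheme.Hom.appLE_eq_app] at this
  obtain ⟨𝔭, rfl⟩ : ∃ 𝔭, hU₁.fromSpec 𝔭 = u := by
    have : u ∈ Set.range hU₁.fromSpec := by rw [hU₁.range_fromSpec]; exact hu
    exact this
  have e1 : hU₁.fromSpec 𝔭 ∈ V.basicOpen n ↔ n ∉ 𝔭.asIdeal := by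
    change 𝔭 ∈ hU₁.fromSpec ⁻¹ᵁ V.basicOpen n ↔ _
    rw [hU₁.fromSpec_preimage_basicOpen]
    rfl
  rw [e1, hn 𝔭]
  constructor
  · intro H r hr
    have hr' : r ∈ s ⁻¹ᵁ U₁ := by
      change s r ∈ U₁
      rw [hr]; exact hu
    obtain ⟨𝔮, rfl⟩ : ∃ 𝔮, hR₁.fromSpec 𝔮 = r := by
      have : r ∈ Set.range hR₁.fromSpec := by rw [hR₁.range_fromSpec]; exact hr'
      exact this
    have h1 : hU₁.fromSpec ((Spec.map (s.app U₁)) 𝔮) = hU₁.fromSpec 𝔭 := by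
      rw [← Scheme.Hom.comp_apply, hsq, Scheme.Hom.comp_apply, hr]
    have h2 : (Spec.map (s.app U₁)) 𝔮 = 𝔭 := hU₁.fromSpec.isOpenEmbedding.injective h1
    have h3 := H 𝔮 h2
    change 𝔮 ∈ hR₁.fromSpec ⁻¹ᵁ R.basicOpen h
    rw [hR₁.fromSpec_preimage_basicOpen]
    exact h3
  · intro H 𝔮 h𝔮
    have h1 : s (hR₁.fromSpec 𝔮) = hU₁.fromSpec 𝔭 := by
      rw [← Scheme.Hom.comp_apply, ← hsq, Scheme.Hom.comp_apply]
      exact congrArg _ h𝔮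
    have h2 := H _ h1
    change 𝔮 ∈ hR₁.fromSpec ⁻¹ᵁ R.basicOpen h at h2
    rw [hR₁.fromSpec_preimage_basicOpen] at h2
    exact h2



theorem exists_basicOpen_finite {A : Type*} [CommRing A] (F : Set (PrimeSpectrum A))
    (hF : F.Finite) (O : TopologicalSpace.Opens (PrimeSpectrum A)) (hFO : F ⊆ O) :
    ∃ f : A, (∀ 𝔭 ∈ F, f ∉ 𝔭.asIdeal) ∧ PrimeSpectrum.basicOpen f ≤ O := by
  classical
  rcases F.eq_empty_or_nonempty with rfl | ⟨a, ha⟩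
  · refine ⟨0, fun 𝔭 h𝔭 => (h𝔭 : 𝔭 ∈ (∅ : Set _)).elim, ?_⟩
    rw [PrimeSpectrum.basicOpen_zero]
    exact bot_le
  let I := PrimeSpectrum.vanishingIdeal ((O : Set (PrimeSpectrum A))ᶜ)
  have hI : PrimeSpectrum.zeroLocus (I : Set A) = (O : Set (PrimeSpectrum A))ᶜ := by
    rw [PrimeSpectrum.zeroLocus_vanishingIdeal_eq_closure]
    exact (O.2.isClosed_compl).closure_eq
  have hnot : ¬ ((I : Set A) ⊆ ⋃ 𝔭 ∈ (hF.toFinset : Set (PrimeSpectrum A)), (𝔭.asIdeal : Set A)) := by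
    rw [Ideal.subset_union_prime (s := hF.toFinset) (f := fun 𝔭 => 𝔭.asIdeal) a a
      (fun i _ _ _ => i.2)]
    rintro ⟨𝔭, h𝔭, hle⟩
    have h1 : 𝔭 ∈ PrimeSpectrum.zeroLocus (I : Set A) := hle
    rw [hI] at h1
    exact h1 (hFO (hF.mem_toFinset.mp h𝔭))
  rw [Set.not_subset] at hnot
  obtain ⟨f, hfI, hf⟩ := hnot
  refine ⟨f, fun 𝔭 h𝔭 hf𝔭 => hf ?_, fun 𝔮 h𝔮 => ?_⟩
  · simp only [Set.mem_iUnion]
    exact ⟨𝔭, by simpa using h𝔭, hf𝔭⟩
  · by_contra hq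
    have h1 : 𝔮 ∈ PrimeSpectrum.zeroLocus (I : Set A) := by rw [hI]; exact hq
    exact h𝔮 (h1 hfI)

theorem exists_basicOpen_finite' {V : Scheme.{u}} (U : V.Opens) (hU : IsAffineOpen U)
    (F : Set V) (hF : F.Finite) (hFU : F ⊆ U) (O : V.Opens) (hFO : F ⊆ O) :
    ∃ f : Γ(V, U), F ⊆ V.basicOpen f ∧ V.basicOpen f ≤ O := by
  have hinj : Function.Injective hU.fromSpec := hU.fromSpec.isOpenEmbedding.injective
  obtain ⟨f, hf1, hf2⟩ := exists_basicOpen_finite (hU.fromSpec ⁻¹' F)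
    (hF.preimage hinj.injOn) (hU.fromSpec ⁻¹ᵁ O) (fun 𝔭 h𝔭 => hFO h𝔭)
  refine ⟨f, fun u hu => ?_, fun x hx => ?_⟩
  · obtain ⟨𝔭, rfl⟩ : ∃ 𝔭, hU.fromSpec 𝔭 = u := by
      have : u ∈ Set.range hU.fromSpec := by rw [hU.range_fromSpec]; exact hFU hu
      exact this
    have : 𝔭 ∈ hU.fromSpec ⁻¹ᵁ V.basicOpen f := by
      rw [hU.fromSpec_preimage_basicOpen]
      exact hf1 𝔭 hu
    exact this
  · obtain ⟨𝔮, rfl⟩ : ∃ 𝔮, hU.fromSpec 𝔮 = x := by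
      have : x ∈ Set.range hU.fromSpec := by
        rw [hU.range_fromSpec]; exact V.basicOpen_le f hx
      exact this
    have h1 : 𝔮 ∈ hU.fromSpec ⁻¹ᵁ V.basicOpen f := hx
    rw [hU.fromSpec_preimage_basicOpen] at h1
    exact hf2 h1

end Groth.Agent.Helper21.DescFinA
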