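import Mathlib
import Groth.Agent.Lib.Helper21.DescFinA
import Groth.Agent.Lib.Helper21.DescFinB
import Groth.Agent.Lib.Helper21.DescProp
import Groth.Agent.Lib.Helper21.DescUI
import Groth.Agent.Lib.Helper21.DescZ

/-!
# Descent along finite locally free morphisms when orbits lie in affine opens (helper21)
-/

set_option autoImplicit false
set_option backward.isDefEq.respectTransparency false
set_option backward.isDefEq.respectTransparency.types false
set_option linter.style.haveILetI false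

open CategoryTheory CategoryTheory.Limits AlgebraicGeometry

universe u

namespace Groth.Agent.Helper21.DescFinC

open Desc Groth.Agent.Helper21.DescA Groth.Agent.Helper21.DescGlue Groth.Agent.Helper21.DescZ
  Groth.Agent.Helper21.DescFinA Groth.Agent.Helper21.DescFinB Groth.Agent.Helper21.DescLQF

section comp

variable {S : Scheme.{u}} {ι : Type u} {X : ι → Scheme.{u}} {f : ∀ i, X i ⟶ S}

/-- A partial cone of an open sub-datum is a partial cone. -/
noncomputable def pconeComp {D' D : SchDDFam f} (j : D' ⟶ D)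
    (hj : ∀ i, IsOpenImmersion (j.hom i).left) (E : PCone D') : PCone D where
  Y := E.Y
  j i := E.j i ≫ (j.hom i).left
  hj i := by haveI := hj i; infer_instance
  U := E.U
  π := E.π
  isPullback i := by rw [Category.assoc, Over.w (j.hom i)]; exact E.isPullback i
  rel T i k x₀ x₁ h v y hy := by
    have hv : v.1 ≫ (D.obj i).hom = x₀ := v.2
    have hy' : (y ≫ E.j i) ≫ (D'.obj i).hom = x₀ := by
      rw [← Over.w (j.hom i), ← Category.assoc, Category.assoc y, hy, hv]
    obtain ⟨y', h1, h2⟩ := E.rel x₀ x₁ h ⟨y ≫ E.j i, hy'⟩ y rfl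
    refine ⟨y', ?_, h2⟩
    rw [← Category.assoc, h1]
    exact (j.comm x₀ x₁ h ⟨y ≫ E.j i, hy'⟩ v (by rw [← hy, Category.assoc])).symm

end comp

section main

variable {X Y : Scheme.{u}} (p : X ⟶ Y) (D : SchDDFam (fun _ : PUnit.{u + 1} => p))

theorem finite_orb [IsFinite p] (v : (D.obj PUnit.unit).left) :
    (orb D PUnit.unit {v} PUnit.unit).Finite := by
  haveI : IsFinite (pullback.fst ((D.obj PUnit.unit).hom ≫ p) p) := inferInstance
  exact ((pullback.fst ((D.obj PUnit.unit).hom ≫ p) p).finite_preimage_singleton v).image _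

theorem exists_stable_affine [IsFinite p] [Flat p] [LocallyOfFinitePresentation p]
    (v : (D.obj PUnit.unit).left) (U : (D.obj PUnit.unit).left.Opens) (hU : IsAffineOpen U)
    (hvU : orb D PUnit.unit {v} PUnit.unit ⊆ U) (O : (D.obj PUnit.unit).left.Opens)
    (hO : ∀ r : ↥(pullback ((D.obj PUnit.unit).hom ≫ p) p),
      (pullback.fst ((D.obj PUnit.unit).hom ≫ p) p).base r ∈ O ↔
        (act D PUnit.unit PUnit.unit).base r ∈ O)
    (hvO : v ∈ O) :
    ∃ (Z U₁ : (D.obj PUnit.unit).left.Opens), IsAffineOpen Z ∧ v ∈ Z ∧ Z ≤ O ∧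
      (Z : Set (D.obj PUnit.unit).left) = core D PUnit.unit (U₁ : Set _) PUnit.unit := by
  haveI hUC : ∀ k : PUnit.{u + 1}, UniversallyClosed ((fun _ : PUnit.{u + 1} => p) k) :=
    fun _ => inferInstance
  let s := pullback.fst ((D.obj PUnit.unit).hom ≫ p) p
  let t : pullback ((D.obj PUnit.unit).hom ≫ p) p ⟶ (D.obj PUnit.unit).left :=
    act D PUnit.unit PUnit.unit
  haveI : IsFinite s := inferInstance
  haveI : Flat s := inferInstance
  haveI : LocallyOfFinitePresentation s := inferInstance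
  -- the core of `U`
  let cU : (D.obj PUnit.unit).left.Opens :=
    ⟨core D PUnit.unit (U : Set _) PUnit.unit, isOpen_core D PUnit.unit _ U.2 PUnit.unit⟩
  have hvc : v ∈ core D PUnit.unit (U : Set _) PUnit.unit := by
    rw [mem_core_iff]; exact hvU
  have horbO : orb D PUnit.unit {v} PUnit.unit ⊆ O := by
    rintro _ ⟨r, hr, rfl⟩
    have hr' : s.base r = v := hr
    have : s.base r ∈ O := by rw [hr']; exact hvO
    exact (hO r).mp this
  have h1 : orb D PUnit.unit {v} PUnit.unit ⊆ ((cU ⊓ O : (D.obj PUnit.unit).left.Opens) : Set _) :=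
    fun w hw => ⟨orb_subset_core D PUnit.unit _ PUnit.unit v hvc PUnit.unit hw, horbO hw⟩
  obtain ⟨fU, hf1, hf2⟩ := exists_basicOpen_finite' U hU _ (finite_orb p D v) hvU (cU ⊓ O) h1
  let U₁ := (D.obj PUnit.unit).left.basicOpen fU
  have hU₁ : IsAffineOpen U₁ := hU.basicOpen fU
  have hle : s ⁻¹ᵁ U₁ ≤ t ⁻¹ᵁ U := by
    intro r hr
    have h2 : s.base r ∈ core D PUnit.unit (U : Set _) PUnit.unit := (hf2 hr).1
    rw [mem_core_iff] at h2
    exact h2 ⟨r, rfl, rfl⟩
  let h := (pullback ((D.obj PUnit.unit).hom ≫ p) p).presheaf.map (homOfLE hle).op (t.app U fU)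
  have hbo : (pullback ((D.obj PUnit.unit).hom ≫ p) p).basicOpen h = s ⁻¹ᵁ U₁ ⊓ t ⁻¹ᵁ U₁ := by
    rw [Scheme.basicOpen_res, Scheme.preimage_basicOpen, Scheme.preimage_basicOpen]
  obtain ⟨n, hn⟩ := exists_norm_section s U₁ hU₁ h
  have hZ : ∀ u : (D.obj PUnit.unit).left, u ∈ (D.obj PUnit.unit).left.basicOpen n ↔
      u ∈ core D PUnit.unit (U₁ : Set _) PUnit.unit := by
    intro u
    rw [mem_core_iff]
    constructor
    · intro hu
      have huU₁ : u ∈ U₁ := (D.obj PUnit.unit).left.basicOpen_le n hu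
      rintro _ ⟨r, hr, rfl⟩
      have h3 := (hn u huU₁).mp hu r hr
      rw [hbo] at h3
      exact h3.2
    · intro hu
      have huU₁ : u ∈ U₁ := hu (mem_orb_self D PUnit.unit {u} u rfl)
      refine (hn u huU₁).mpr (fun r hr => ?_)
      rw [hbo]
      refine ⟨?_, hu ⟨r, hr, rfl⟩⟩
      change s.base r ∈ U₁
      rw [hr]; exact huU₁
  refine ⟨(D.obj PUnit.unit).left.basicOpen n, U₁, hU₁.basicOpen n, ?_, ?_, ?_⟩
  · rw [hZ, mem_core_iff]
    exact hf1
  · exact ((D.obj PUnit.unit).left.basicOpen_le n).trans (hf2.trans inf_le_right)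
  · ext u
    exact hZ u

theorem exists_pcone [IsFinite p] [Flat p] [Surjective p]
    (Z : (D.obj PUnit.unit).left.Opens) (hZa : IsAffineOpen Z)
    (U₁ : Set (D.obj PUnit.unit).left) (hZc : (Z : Set _) = core D PUnit.unit U₁ PUnit.unit)
    (W : Y.Opens) (hW : IsAffineOpen W) (hZW : Z ≤ ((D.obj PUnit.unit).hom ≫ p) ⁻¹ᵁ W) :
    ∃ E : PCone D, Set.range (E.j PUnit.unit).base = (Z : Set _) := by
  have hf : Presieve.ofArrows (fun _ : PUnit.{u + 1} => X) (fun _ => p) ∈
      Scheme.fpqcPrecoverage Y := by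
    rw [Presieve.ofArrows_pUnit]; exact Scheme.Hom.singleton_mem_fpqcPrecoverage p
  let Zf : ∀ i : PUnit.{u + 1}, (D.obj i).left.Opens := fun _ => Z
  have hZ : ∀ ⦃T : Scheme.{u}⦄ ⦃i k : PUnit.{u + 1}⦄ (x₀ : T ⟶ X) (x₁ : T ⟶ X)
      (h : x₀ ≫ p = x₁ ≫ p) (w : Lifts (D.obj i) x₀),
      Set.range w.1.base ⊆ (Zf i : Set (D.obj i).left) →
      Set.range (D.φ x₀ x₁ h w).1.base ⊆ (Zf k : Set (D.obj k).left) := by
    intro T i k x₀ x₁ h w hw
    change Set.range (D.φ x₀ x₁ h w).1.base ⊆ (Z : Set (D.obj PUnit.unit).left)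
    rw [hZc]
    refine core_stable D PUnit.unit U₁ x₀ x₁ h w ?_
    have : Set.range w.1.base ⊆ (Z : Set (D.obj PUnit.unit).left) := hw
    rw [hZc] at this
    exact this
  let DZ := Groth.Agent.Helper21.DescUI.restrict D Zf hZ
  let jZ : DZ ⟶ D := Groth.Agent.Helper21.DescUI.restrictHom D Zf hZ
  haveI : IsAffine ((W : Y.Opens) : Scheme.{u}) := hW
  haveI : IsAffine ((Z : (D.obj PUnit.unit).left.Opens) : Scheme.{u}) := hZa
  have hcov : Presieve.ofArrows _ (fun i : PUnit.{u + 1} => pullback.snd p W.ι) ∈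
      Scheme.fpqcPrecoverage ((W : Y.Opens) : Scheme.{u}) :=
    Precoverage.mem_coverings_of_isPullback (fun _ : PUnit.{u + 1} => p) hf W.ι _
      (fun i => pullback.fst _ _) (fun i => (IsPullback.of_hasPullback _ _).flip)
  have hpre : ∀ (i : PUnit.{u + 1}) (z : (DZ.obj i).left),
      ((DZ.obj i).hom ≫ p).base z ∈ Set.range W.ι.base := by
    intro i z
    rw [Scheme.Opens.range_ι]
    have hz : (Z.ι).base z ∈ Z := by
      have : (Z.ι).base z ∈ Set.range (Z.ι).base := ⟨z, rfl⟩
      rwa [Scheme.Opens.range_ι] at this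
    exact hZW hz
  have hB : ∀ i, IsAffineHom ((baseChange DZ W.ι).obj i).hom := by
    intro i
    haveI : IsAffine (pullback p W.ι) := isAffine_of_isAffineHom (pullback.snd p W.ι)
    -- the source is isomorphic to `Z`
    haveI : Surjective (pullback.fst (DZ.obj i).hom (pullback.fst p W.ι)) := by
      refine ⟨fun z => ?_⟩
      have : z ∈ Set.range (pullback.fst (DZ.obj i).hom (pullback.fst p W.ι)).base := by
        rw [Scheme.Pullback.range_fst, Scheme.Pullback.range_fst]
        exact hpre i z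
      exact this
    haveI : IsIso (pullback.fst (DZ.obj i).hom (pullback.fst p W.ι)) :=
      (isIso_iff_isOpenImmersion_and_surjective _).mpr ⟨inferInstance, inferInstance⟩
    haveI : IsAffine (DZ.obj i).left := hZa
    haveI : IsAffine ((baseChange DZ W.ι).obj i).left :=
      IsAffine.of_isIso (pullback.fst (DZ.obj i).hom (pullback.fst p W.ι))
    exact isAffineHom_of_isAffine _
  obtain ⟨c⟩ := nonempty_cone_of_isEffective
    (Groth.Agent.Helper21.DescProp.affine_isEffective _ hcov (baseChange DZ W.ι) hB)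
  refine ⟨pconeComp jZ (fun i => by change IsOpenImmersion (Zf i).ι; infer_instance)
    (pconeOfBaseChange DZ W.ι c), ?_⟩
  change Set.range ((pconeOfBaseChange DZ W.ι c).j PUnit.unit ≫ Z.ι).base = _
  rw [Scheme.Hom.comp_base, TopCat.coe_comp, Set.range_comp, pconeOfBaseChange_range]
  have : ((DZ.obj PUnit.unit).hom ≫ p).base ⁻¹' Set.range W.ι.base = Set.univ :=
    Set.eq_univ_of_forall (hpre PUnit.unit)
  rw [this, Set.image_univ]
  exact Scheme.Opens.range_ι Z

/-- **Descent along a finite locally free morphism**: a descent datum all of whose orbits lie in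
affine opens is effective. -/
theorem cone_of_orbits [IsFinite p] [Flat p] [LocallyOfFinitePresentation p] [Surjective p]
    (H : ∀ v : (D.obj PUnit.unit).left, ∃ U : (D.obj PUnit.unit).left.Opens,
      IsAffineOpen U ∧ orb D PUnit.unit {v} PUnit.unit ⊆ U) : Nonempty (Cone D) := by
  have hf : Presieve.ofArrows (fun _ : PUnit.{u + 1} => X) (fun _ => p) ∈
      Scheme.fpqcPrecoverage Y := by
    rw [Presieve.ofArrows_pUnit]; exact Scheme.Hom.singleton_mem_fpqcPrecoverage p
  refine nonempty_cone_of_pcones hf D (fun i v => ?_)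
  obtain ⟨U, hU, hvU⟩ := H v
  obtain ⟨_, ⟨W, hW, rfl⟩, hyW, -⟩ := Y.isBasis_affineOpens.exists_subset_of_mem_open
    (Set.mem_univ (((D.obj PUnit.unit).hom ≫ p).base v)) isOpen_univ
  have hO : ∀ r : ↥(pullback ((D.obj PUnit.unit).hom ≫ p) p),
      (pullback.fst ((D.obj PUnit.unit).hom ≫ p) p).base r ∈
        ((D.obj PUnit.unit).hom ≫ p) ⁻¹ᵁ W ↔
      (act D PUnit.unit PUnit.unit).base r ∈ ((D.obj PUnit.unit).hom ≫ p) ⁻¹ᵁ W := by
    intro r
    change ((D.obj PUnit.unit).hom ≫ p).base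
        ((pullback.fst ((D.obj PUnit.unit).hom ≫ p) p).base r) ∈ W ↔
      ((D.obj PUnit.unit).hom ≫ p).base ((act D PUnit.unit PUnit.unit).base r) ∈ W
    have e : pullback.fst ((D.obj PUnit.unit).hom ≫ p) p ≫ (D.obj PUnit.unit).hom ≫ p =
        act D PUnit.unit PUnit.unit ≫ (D.obj PUnit.unit).hom ≫ p := by
      rw [pullback.condition, act_hom_assoc]
    rw [← Scheme.Hom.comp_apply, ← Scheme.Hom.comp_apply, e]
  obtain ⟨Z, U₁, hZa, hvZ, hZO, hZc⟩ := exists_stable_affine p D v U hU hvU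
    (((D.obj PUnit.unit).hom ≫ p) ⁻¹ᵁ W) hO hyW
  obtain ⟨E, hE⟩ := exists_pcone p D Z hZa U₁ hZc W hW hZO
  exact ⟨E, by rw [hE]; exact hvZ⟩

end main

end Groth.Agent.Helper21.DescFinC
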