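import Mathlib

/-!
# Fibres of a base change of a finite morphism with at most `d` geometric points (helper21)
-/

set_option autoImplicit false
set_option backward.isDefEq.respectTransparency false
set_option backward.isDefEq.respectTransparency.types false
set_option linter.style.haveILetI false

open CategoryTheory CategoryTheory.Limits AlgebraicGeometry

universe u

namespace Groth.Agent.Helper21.DescFinD

theorem encard_fibre_le {X Y : Scheme.{u}} (p : X ⟶ Y) [IsFinite p] (d : ℕ)
    (hfib : ∀ (k : Type u) [Field k] [IsAlgClosed k] (y : Spec (CommRingCat.of k) ⟶ Y),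
      Set.encard {x : Spec (CommRingCat.of k) ⟶ X | x ≫ p = y} ≤ d)
    {V : Scheme.{u}} (g : V ⟶ Y) (v : V) :
    Set.encard ((pullback.fst g p).base ⁻¹' {v}) ≤ d := by
  let K := V.residueField v
  let k := AlgebraicClosure K
  let Ω := Spec (CommRingCat.of k)
  let vt : Ω ⟶ V := Spec.map (CommRingCat.ofHom (algebraMap K k)) ≫ V.fromSpecResidueField v
  let s := pullback.fst g p
  let Z := pullback vt s
  let π : Z ⟶ Ω := pullback.fst vt s
  haveI : IsFinite π := inferInstance
  haveI : DiscreteTopology Z := by
    have h1 := π.isDiscrete_preimage_singleton (IsLocalRing.closedPoint k)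
    have h2 : π.base ⁻¹' {IsLocalRing.closedPoint k} = Set.univ := by
      ext z
      simp only [Set.mem_preimage, Set.mem_singleton_iff, Set.mem_univ, iff_true]
      exact Subsingleton.elim _ _
    rw [h2] at h1
    exact isDiscrete_univ_iff.mp h1
  -- sections through each point
  let σ : Z → (Ω ⟶ Z) := fun z => pointOfClosedPoint π z (isClosed_discrete _)
  have hσ1 : ∀ z, σ z ≫ π = 𝟙 _ := fun z => pointOfClosedPoint_comp π z _
  have hσ2 : ∀ z, (σ z).base (IsLocalRing.closedPoint k) = z :=
    fun z => pointOfClosedPoint_apply π z _ _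
  let xx : Z → (Ω ⟶ X) := fun z => σ z ≫ pullback.snd vt s ≫ pullback.snd g p
  have hxx : ∀ z, xx z ≫ p = vt ≫ g := by
    intro z
    change (σ z ≫ pullback.snd vt s ≫ pullback.snd g p) ≫ p = _
    rw [Category.assoc, Category.assoc, ← pullback.condition (f := g) (g := p),
      ← Category.assoc (pullback.snd vt s), ← pullback.condition (f := vt) (g := s),
      Category.assoc, ← Category.assoc (σ z)]
    change (σ z ≫ π) ≫ vt ≫ g = _
    rw [hσ1, Category.id_comp]
  have hinj : Function.Injective xx := by
    intro z z' h
    have h1 : σ z ≫ pullback.snd vt s = σ z' ≫ pullback.snd vt s := by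
      apply pullback.hom_ext
      · rw [Category.assoc, Category.assoc, ← pullback.condition (f := vt) (g := s),
          ← Category.assoc, ← Category.assoc]
        change (σ z ≫ π) ≫ vt = (σ z' ≫ π) ≫ vt
        rw [hσ1, hσ1]
      · rw [Category.assoc, Category.assoc]; exact h
    have h2 : σ z = σ z' := by
      apply pullback.hom_ext
      · change σ z ≫ π = σ z' ≫ π
        rw [hσ1, hσ1]
      · exact h1
    rw [← hσ2 z, ← hσ2 z', h2]
  have hsurj : s.base ⁻¹' {v} ⊆ (pullback.snd vt s).base '' Set.univ := by
    intro r hr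
    have hr' : s.base r = v := hr
    have hv : vt.base (IsLocalRing.closedPoint k) = v := by
      change (Spec.map (CommRingCat.ofHom (algebraMap K k)) ≫ V.fromSpecResidueField v).base _ = v
      rw [Scheme.Hom.comp_apply]
      exact V.fromSpecResidueField_apply v _
    obtain ⟨z, -, hz⟩ := Scheme.Pullback.exists_preimage_pullback
      (f := vt) (g := s) (IsLocalRing.closedPoint k) r (hv.trans hr'.symm)
    exact ⟨z, trivial, hz⟩
  calc Set.encard (s.base ⁻¹' {v}) ≤ Set.encard ((pullback.snd vt s).base '' Set.univ) :=
        Set.encard_le_encard hsurj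
    _ ≤ Set.encard (Set.univ : Set Z) := Set.encard_image_le _ _
    _ = Set.encard (xx '' Set.univ) := (hinj.encard_image _).symm
    _ ≤ Set.encard {x : Ω ⟶ X | x ≫ p = vt ≫ g} := Set.encard_le_encard (by
        rintro _ ⟨z, -, rfl⟩
        exact hxx z)
    _ ≤ d := hfib k (vt ≫ g)

end Groth.Agent.Helper21.DescFinD
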