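import Mathlib

/-!
Descent of morphisms of schemes along a topological quotient map `p : X ⟶ Y` which is injective
on sections: a morphism `h : X ⟶ Z` constant on the fibres of `p` whose pulled back sections
descend to `Y` factors uniquely through `p`.
-/

open AlgebraicGeometry CategoryTheory Limits TopologicalSpace Opposite

universe u

namespace Groth.Agent.Helper21.DescMor

/-- Lifting a ring hom through an injective ring hom containing its range. -/
noncomputable def liftInj {A B C : Type*} [CommRing A] [CommRing B] [CommRing C] (ι : A →+* B)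
    (hι : Function.Injective ι) (f : C →+* B) (hf : ∀ c, f c ∈ Set.range ι) : C →+* A where
  toFun c := (hf c).choose
  map_one' := hι (by rw [(hf 1).choose_spec, map_one, map_one])
  map_mul' x y := hι (by
    rw [(hf _).choose_spec, map_mul, map_mul, (hf x).choose_spec, (hf y).choose_spec])
  map_zero' := hι (by rw [(hf 0).choose_spec, map_zero, map_zero])
  map_add' x y := hι (by
    rw [(hf _).choose_spec, map_add, map_add, (hf x).choose_spec, (hf y).choose_spec])

theorem liftInj_spec {A B C : Type*} [CommRing A] [CommRing B] [CommRing C] (ι : A →+* B)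
    (hι : Function.Injective ι) (f : C →+* B) (hf : ∀ c, f c ∈ Set.range ι) (c : C) :
    ι (liftInj ι hι f hf c) = f c := (hf c).choose_spec

theorem appLE_congr_hom {X Y : Scheme.{u}} {a b : X ⟶ Y} (h : a = b) (U : Y.Opens) (V : X.Opens)
    (e : V ≤ a ⁻¹ᵁ U) : a.appLE U V e = b.appLE U V (h ▸ e) := by
  subst h; rfl

theorem map_eq_id {X : Scheme.{u}} {U : X.Opens} (i : op U ⟶ op U) :
    X.presheaf.map i = 𝟙 _ := by
  have : i = 𝟙 _ := Subsingleton.elim _ _
  rw [this, X.presheaf.map_id]

/-- A morphism which is surjective on points and injective on sections is an epimorphism. -/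
theorem epi_of_surjective_of_injective {X Y : Scheme.{u}} (p : X ⟶ Y)
    (hs : Function.Surjective p.base)
    (hinj : ∀ U : Y.Opens, Function.Injective (p.app U).hom) : Epi p := by
  refine ⟨fun {Z} a b hab => ?_⟩
  have hbase : a.base = b.base := by
    ext y
    obtain ⟨x, rfl⟩ := hs y
    have := congrArg (fun m => m.base x) hab
    exact this
  refine Scheme.Hom.ext hbase (fun W => ?_)
  haveI : Mono (p.app (b ⁻¹ᵁ W)) := ConcreteCategory.mono_of_injective _ (hinj _)
  rw [← cancel_mono (p.app (b ⁻¹ᵁ W))]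
  have e1 : b ⁻¹ᵁ W = a ⁻¹ᵁ W := congr((Opens.map $hbase.symm).obj W)
  have e2 : p ⁻¹ᵁ b ⁻¹ᵁ W = p ⁻¹ᵁ a ⁻¹ᵁ W := congrArg (fun V => p ⁻¹ᵁ V) e1
  have h1 : a.app W ≫ p.app (a ⁻¹ᵁ W) =
      (b.app W ≫ p.app (b ⁻¹ᵁ W)) ≫ X.presheaf.map (eqToHom e2.symm).op :=
    Scheme.Hom.congr_app hab W
  have h4 : Y.presheaf.map (eqToHom e1).op ≫ p.app (b ⁻¹ᵁ W) =
      p.app (a ⁻¹ᵁ W) ≫ X.presheaf.map (eqToHom e2).op :=
    p.naturality _
  calc (a.app W ≫ Y.presheaf.map (eqToHom e1).op) ≫ p.app (b ⁻¹ᵁ W)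
      = a.app W ≫ (Y.presheaf.map (eqToHom e1).op ≫ p.app (b ⁻¹ᵁ W)) := Category.assoc _ _ _
    _ = a.app W ≫ p.app (a ⁻¹ᵁ W) ≫ X.presheaf.map (eqToHom e2).op := by rw [h4]
    _ = (a.app W ≫ p.app (a ⁻¹ᵁ W)) ≫ X.presheaf.map (eqToHom e2).op :=
          (Category.assoc _ _ _).symm
    _ = ((b.app W ≫ p.app (b ⁻¹ᵁ W)) ≫ X.presheaf.map (eqToHom e2.symm).op) ≫
          X.presheaf.map (eqToHom e2).op := by rw [h1]
    _ = (b.app W ≫ p.app (b ⁻¹ᵁ W)) ≫ (X.presheaf.map (eqToHom e2.symm).op ≫
          X.presheaf.map (eqToHom e2).op) := Category.assoc _ _ _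
    _ = b.app W ≫ p.app (b ⁻¹ᵁ W) := by
          rw [← Functor.map_comp]
          exact (congrArg _ (map_eq_id _)).trans (Category.comp_id _)

section Exists

variable {X Y Z : Scheme.{u}} (p : X ⟶ Y) (h : X ⟶ Z)
  (hq : Topology.IsQuotientMap p.base)
  (hinj : ∀ U : Y.Opens, Function.Injective (p.app U).hom)
  (hfib : ∀ x x' : X, p.base x = p.base x' → h.base x = h.base x')
  (hdesc : ∀ (W : Z.Opens) (U : Y.Opens) (e : p ⁻¹ᵁ U = h ⁻¹ᵁ W) (s : Γ(Z, W)),
      (h.appLE W (p ⁻¹ᵁ U) e.le).hom s ∈ Set.range (p.app U).hom)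

/-- The underlying function of the descended morphism. -/
noncomputable def bfun : Y → Z := fun y => h.base (Function.surjInv hq.surjective y)

include hfib in
theorem bfun_comp (x : X) : bfun p h hq (p.base x) = h.base x :=
  hfib _ _ (Function.surjInv_eq hq.surjective (p.base x))

include hfib in
theorem bfun_continuous : Continuous (bfun p h hq) := by
  rw [hq.continuous_iff]
  have : bfun p h hq ∘ p.base = h.base := funext (bfun_comp p h hq hfib)
  rw [this]; exact h.continuous

/-- The underlying continuous map of the descended morphism. -/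
noncomputable def bmap : Y.toPresheafedSpace.carrier ⟶ Z.toPresheafedSpace.carrier :=
  TopCat.ofHom ⟨bfun p h hq, bfun_continuous p h hq hfib⟩

theorem preimage_eq (W : Z.Opens) :
    p ⁻¹ᵁ ((Opens.map (bmap p h hq hfib)).obj W) = h ⁻¹ᵁ W := by
  ext x
  show bfun p h hq (p.base x) ∈ W ↔ h.base x ∈ W
  rw [bfun_comp p h hq hfib]

/-- The component of the descended morphism on sections. -/
noncomputable def cW (W : Z.Opens) : Γ(Z, W) →+* Γ(Y, (Opens.map (bmap p h hq hfib)).obj W) :=
  liftInj (p.app ((Opens.map (bmap p h hq hfib)).obj W)).hom (hinj _)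
    (h.appLE W (p ⁻¹ᵁ ((Opens.map (bmap p h hq hfib)).obj W)) (preimage_eq p h hq hfib W).le).hom
    (hdesc W _ (preimage_eq p h hq hfib W))

theorem cW_comp (W : Z.Opens) :
    CommRingCat.ofHom (cW p h hq hinj hfib hdesc W) ≫
      p.app ((Opens.map (bmap p h hq hfib)).obj W) =
    h.appLE W (p ⁻¹ᵁ ((Opens.map (bmap p h hq hfib)).obj W)) (preimage_eq p h hq hfib W).le := by
  ext s
  exact liftInj_spec (p.app ((Opens.map (bmap p h hq hfib)).obj W)).hom (hinj _)
    (h.appLE W (p ⁻¹ᵁ ((Opens.map (bmap p h hq hfib)).obj W)) (preimage_eq p h hq hfib W).le).hom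
    (hdesc W _ (preimage_eq p h hq hfib W)) s

/-- The descended morphism of presheafed spaces. -/
noncomputable def h0 : Y.toPresheafedSpace.Hom Z.toPresheafedSpace where
  base := bmap p h hq hfib
  c :=
    { app := fun W => CommRingCat.ofHom (cW p h hq hinj hfib hdesc W.unop)
      naturality := by
        intro W W' f
        haveI : Mono (p.app ((Opens.map (bmap p h hq hfib)).obj W'.unop)) :=
          ConcreteCategory.mono_of_injective _ (hinj _)
        rw [← cancel_mono (p.app ((Opens.map (bmap p h hq hfib)).obj W'.unop))]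
        rw [Category.assoc, Category.assoc, cW_comp]
        have hn : (bmap p h hq hfib _* Y.presheaf).map f ≫
            p.app ((Opens.map (bmap p h hq hfib)).obj W'.unop) =
            p.app ((Opens.map (bmap p h hq hfib)).obj W.unop) ≫
              X.presheaf.map ((Opens.map p.base).map
                ((Opens.map (bmap p h hq hfib)).map f.unop)).op := p.naturality _
        rw [hn, ← Category.assoc, cW_comp, Scheme.Hom.map_appLE, Scheme.Hom.appLE_map] }

theorem h0_isLocalHom (y : Y) :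
    IsLocalHom ((h0 p h hq hinj hfib hdesc).stalkMap y).hom := by
  constructor
  intro t ht
  obtain ⟨W, m, s, rfl⟩ := TopCat.Presheaf.exists_germ_eq Z.presheaf t
  have h1 := PresheafedSpace.stalkMap_germ_apply (h0 p h hq hinj hfib hdesc) W y m s
  rw [h1] at ht
  obtain ⟨x, rfl⟩ := hq.surjective y
  have h2 : p.base x ∈ Y.basicOpen (cW p h hq hinj hfib hdesc W s) :=
    (Scheme.mem_basicOpen Y _ _ m).mpr ht
  have h3 : x ∈ p ⁻¹ᵁ (Y.basicOpen (cW p h hq hinj hfib hdesc W s)) := h2
  rw [Scheme.preimage_basicOpen] at h3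
  have h4 : (p.app ((Opens.map (bmap p h hq hfib)).obj W)).hom (cW p h hq hinj hfib hdesc W s) =
      (h.appLE W (p ⁻¹ᵁ ((Opens.map (bmap p h hq hfib)).obj W))
        (preimage_eq p h hq hfib W).le).hom s :=
    congrArg (fun m => m.hom s) (cW_comp p h hq hinj hfib hdesc W)
  rw [h4] at h3
  have h5 : X.basicOpen ((h.appLE W (p ⁻¹ᵁ ((Opens.map (bmap p h hq hfib)).obj W))
        (preimage_eq p h hq hfib W).le).hom s) =
      (p ⁻¹ᵁ ((Opens.map (bmap p h hq hfib)).obj W)) ⊓ X.basicOpen ((h.app W).hom s) :=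
    Scheme.basicOpen_res _ _ _
  rw [h5] at h3
  have h6 : x ∈ h ⁻¹ᵁ (Z.basicOpen s) := by
    rw [Scheme.preimage_basicOpen]; exact h3.2
  have h7 : h.base x ∈ Z.basicOpen s := h6
  rw [← bfun_comp p h hq hfib x] at h7
  exact (Scheme.mem_basicOpen Z s _ m).mp h7

include hq hinj hfib hdesc in
theorem exists_desc : ∃ h' : Y ⟶ Z, p ≫ h' = h := by
  let h' : Y ⟶ Z := ⟨⟨h0 p h hq hinj hfib hdesc, h0_isLocalHom p h hq hinj hfib hdesc⟩⟩
  refine ⟨h', ?_⟩
  have hbase : (p ≫ h').base = h.base := by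
    ext x
    exact bfun_comp p h hq hfib x
  refine Scheme.Hom.ext hbase (fun W => ?_)
  have key : (CommRingCat.ofHom (cW p h hq hinj hfib hdesc W) ≫
      p.app ((Opens.map (bmap p h hq hfib)).obj W)) ≫
      X.presheaf.map (eqToHom (preimage_eq p h hq hfib W).symm).op = h.app W := by
    rw [cW_comp, Scheme.Hom.appLE_map]
    exact h.appLE_eq_app
  exact key

include hq hinj hfib hdesc in
theorem existsUnique_desc : ∃! h' : Y ⟶ Z, p ≫ h' = h := by
  obtain ⟨h', hh'⟩ := exists_desc p h hq hinj hfib hdesc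
  haveI := epi_of_surjective_of_injective p hq.surjective hinj
  exact ⟨h', hh', fun h'' hh'' => (cancel_epi p).mp (hh''.trans hh'.symm)⟩

end Exists

end Groth.Agent.Helper21.DescMor
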