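import Mathlib
import Groth.Agent.Lib.Helper21.DescZ
import Groth.Agent.Lib.Helper21.DescR
import Groth.Agent.Lib.Helper21.DescTo

/-!
# Zariski refinements induce equivalences of categories of descent data (helper21)
-/

set_option autoImplicit false
set_option backward.isDefEq.respectTransparency false
set_option backward.isDefEq.respectTransparency.types false
set_option linter.style.haveILetI false

open CategoryTheory CategoryTheory.Limits AlgebraicGeometry

universe u

namespace Groth.Agent.Helper21.DescZar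

open Desc Groth.Agent.Helper21.DescA Groth.Agent.Helper21.DescFF Groth.Agent.Helper21.DescOpen
  Groth.Agent.Helper21.DescZ Groth.Agent.Helper21.DescR Groth.Agent.Helper21.DescTo

/-- Every descent datum relative to an identity morphism has a cone. -/
theorem cone_of_id {Z : Scheme.{u}} (D : SchDDFam (fun _ : PUnit.{u + 1} => 𝟙 Z)) :
    Nonempty (Cone D) :=
  ⟨{ U := D.obj PUnit.unit
     π := fun _ => 𝟙 _
     isPullback := fun _ => IsPullback.of_vert_isIso ⟨by simp⟩
     inv := fun T i j x₀ x₁ h v => by
        obtain rfl : x₀ = x₁ := by simpa using h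
        cases i; cases j
        rw [D.φ_self] }⟩

/-- Descent data relative to a Zariski covering are effective. -/
theorem zariski_cone {S : Scheme.{u}} {ι : Type u} {X : ι → Scheme.{u}} (f : ∀ i, X i ⟶ S)
    (hf : Presieve.ofArrows X f ∈ Scheme.zariskiPrecoverage S) (D : SchDDFam f) :
    Nonempty (Cone D) := by
  have hf' : Presieve.ofArrows X f ∈ Scheme.fpqcPrecoverage S :=
    Scheme.zariskiPrecoverage_le_fpqcPrecoverage _ hf
  rw [Scheme.ofArrows_mem_precoverage_iff] at hf
  obtain ⟨hsurj, himm⟩ := hf
  haveI := himm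
  refine nonempty_cone_of_baseChange hf' D X f hsurj (fun a => ?_)
  have w : ∀ _ : PUnit.{u + 1}, (pullback.lift (𝟙 (X a)) (𝟙 (X a)) rfl : X a ⟶ pullback (f a) (f a)) ≫
      pullback.snd (f a) (f a) = 𝟙 (X a) ≫ 𝟙 (X a) := fun _ => by simp
  have hid : Presieve.ofArrows (fun _ : PUnit.{u + 1} => X a) (fun _ => 𝟙 (X a)) ∈
      Scheme.fpqcPrecoverage (X a) := by
    rw [Presieve.ofArrows_pUnit]; exact Scheme.Hom.singleton_mem_fpqcPrecoverage _
  obtain ⟨c'⟩ := cone_of_id ((pullDDFam (f := fun i => pullback.snd (f i) (f a))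
    (f' := fun _ : PUnit.{u + 1} => 𝟙 (X a)) (α := fun _ => a) (p := 𝟙 _)
    (p' := fun _ => pullback.lift (𝟙 _) (𝟙 _) rfl) w).obj (baseChange D (f a)))
  exact nonempty_cone_of_pull w hid _ c'

end Groth.Agent.Helper21.DescZar
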