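import Mathlib
import Groth.Agent.Lib.Helper21.DescZar

/-!
# Zariski refinements: the descended datum (helper21)
-/

set_option autoImplicit false
set_option backward.isDefEq.respectTransparency false
set_option backward.isDefEq.respectTransparency.types false
set_option linter.style.haveILetI false
set_option linter.unusedVariables false

open CategoryTheory CategoryTheory.Limits AlgebraicGeometry

universe u

namespace Groth.Agent.Helper21.DescZar

open Desc Groth.Agent.Helper21.DescA Groth.Agent.Helper21.DescFF Groth.Agent.Helper21.DescOpen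
  Groth.Agent.Helper21.DescZ Groth.Agent.Helper21.DescR Groth.Agent.Helper21.DescTo

variable {S : Scheme.{u}} {ι κ : Type u} {U : ι → Scheme.{u}} {V : κ → Scheme.{u}}
  (u : ∀ i, U i ⟶ S) (v : ∀ j, V j ⟶ S) (α : ι → κ) (g : ∀ i, U i ⟶ V (α i))
  (w : ∀ i, g i ≫ v (α i) = u i)

/-- The members of the refinement lying over `V j`. -/
noncomputable abbrev Gf (j : κ) (l : {i // α i = j}) : U l.1 ⟶ V j :=
  g l.1 ≫ eqToHom (congrArg V l.2)

include w in
theorem Gf_v (j : κ) (l : {i // α i = j}) : Gf α g j l ≫ v j = u l.1 := by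
  obtain ⟨i, rfl⟩ := l
  simp [w]

include w in
theorem Gf_cond {j : κ} {l l' : {i // α i = j}} {T : Scheme.{u}} (x₀ : T ⟶ U l.1) (x₁ : T ⟶ U l'.1)
    (h : x₀ ≫ Gf α g j l = x₁ ≫ Gf α g j l') : x₀ ≫ u l.1 = x₁ ≫ u l'.1 := by
  rw [← Gf_v u v α g w j l, ← Gf_v u v α g w j l', ← Category.assoc, h, Category.assoc]

/-- The restriction of a descent datum relative to `u` to the members lying over `V j`, as a
descent datum relative to the covering of `V j`. -/
noncomputable def restr (D' : SchDDFam u) (j : κ) : SchDDFam (Gf α g j) where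
  obj l := D'.obj l.1
  φ T l l' x₀ x₁ h := D'.φ x₀ x₁ (Gf_cond u v α g w x₀ x₁ h)
  φ_natural T T' k l l' x₀ x₁ h y₀ y₁ hy₀ hy₁ h' a a' ha :=
    D'.φ_natural k x₀ x₁ _ y₀ y₁ hy₀ hy₁ _ a a' ha
  φ_self T l x a := D'.φ_self x a
  φ_comp T l l' l'' x₀ x₁ x₂ h₀₁ h₁₂ a := D'.φ_comp x₀ x₁ x₂ _ _ a

variable (hcov : ∀ j, Presieve.ofArrows (fun i : {i // α i = j} => U i.1)
  (fun i => g i.1 ≫ eqToHom (congrArg V i.2)) ∈ Scheme.zariskiPrecoverage (V j))

/-- The chosen cone of the restricted datum. -/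
noncomputable def cn (D' : SchDDFam u) (j : κ) : Cone (restr u v α g w D' j) :=
  (zariski_cone _ (hcov j) _).some

variable {u v α g}

section main

variable (D' : SchDDFam u)

/-- The descended objects. -/
noncomputable abbrev Yo (j : κ) : Over (V j) := (cn u v α g w hcov D' j).U

/-- The projections. -/
noncomputable abbrev pi (j : κ) (l : {i // α i = j}) :
    (D'.obj l.1).left ⟶ (Yo w hcov D' j).left := (cn u v α g w hcov D' j).π l

theorem pi_isPullback (j : κ) (l : {i // α i = j}) :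
    IsPullback (D'.obj l.1).hom (pi w hcov D' j l) (Gf α g j l) (Yo w hcov D' j).hom :=
  (cn u v α g w hcov D' j).isPullback l

theorem pi_inv {j : κ} {l l' : {i // α i = j}} {T : Scheme.{u}} (x₀ : T ⟶ U l.1) (x₁ : T ⟶ U l'.1)
    (h : x₀ ≫ Gf α g j l = x₁ ≫ Gf α g j l') (a : Lifts (D'.obj l.1) x₀) :
    (D'.φ x₀ x₁ (Gf_cond u v α g w x₀ x₁ h) a).1 ≫ pi w hcov D' j l' = a.1 ≫ pi w hcov D' j l :=
  (cn u v α g w hcov D' j).inv x₀ x₁ h a

include hcov in
theorem isOpenImmersion_Gf (j : κ) (l : {i // α i = j}) : IsOpenImmersion (Gf α g j l) := by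
  have := hcov j
  rw [Scheme.ofArrows_mem_precoverage_iff] at this
  exact this.2 l

include hcov in
theorem surj_Gf (j : κ) (x : V j) : ∃ l : {i // α i = j}, x ∈ Set.range (Gf α g j l).base := by
  have := hcov j
  rw [Scheme.ofArrows_mem_precoverage_iff] at this
  exact this.1 x

include hcov in
theorem Gf_mem (j : κ) : Presieve.ofArrows (fun i : {i // α i = j} => U i.1) (Gf α g j) ∈
    Scheme.fpqcPrecoverage (V j) :=
  Scheme.zariskiPrecoverage_le_fpqcPrecoverage _ (hcov j)

instance isOpenImmersion_pi (j : κ) (l : {i // α i = j}) :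
    IsOpenImmersion (pi w hcov D' j l) :=
  MorphismProperty.of_isPullback (P := @IsOpenImmersion) (pi_isPullback w hcov D' j l)
    (isOpenImmersion_Gf hcov j l)

theorem pi_mem (j : κ) : Presieve.ofArrows (fun l : {i // α i = j} => (D'.obj l.1).left)
    (pi w hcov D' j) ∈ Scheme.fpqcPrecoverage (Yo w hcov D' j).left :=
  π_mem (Gf_mem hcov j) (cn u v α g w hcov D' j)

theorem surj_pi (j : κ) (y : (Yo w hcov D' j).left) :
    ∃ l : {i // α i = j}, y ∈ Set.range (pi w hcov D' j l).base :=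
  (fpqc_data _ (pi_mem w hcov D' j)).2.1 y

theorem pi_hom_v (j : κ) (l : {i // α i = j}) :
    pi w hcov D' j l ≫ (Yo w hcov D' j).hom ≫ v j = (D'.obj l.1).hom ≫ u l.1 := by
  rw [← Category.assoc, ← (pi_isPullback w hcov D' j l).w, Category.assoc, Gf_v u v α g w]

/-- The charts of `Y j ×_S V j'`. -/
noncomputable def ch {j j' : κ} (l : {i // α i = j}) (l' : {i // α i = j'}) :
    pullback ((D'.obj l.1).hom ≫ u l.1) (u l'.1) ⟶
      pullback ((Yo w hcov D' j).hom ≫ v j) (v j') :=
  pullback.map _ _ _ _ (pi w hcov D' j l) (Gf α g j' l') (𝟙 S)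
    (by rw [Category.comp_id, pi_hom_v]) (by rw [Category.comp_id, Gf_v u v α g w])

instance {j j' : κ} (l : {i // α i = j}) (l' : {i // α i = j'}) :
    IsOpenImmersion (ch w hcov D' l l') := by
  haveI := isOpenImmersion_Gf hcov j' l'
  unfold ch; infer_instance

@[reassoc (attr := simp)]
theorem ch_fst {j j' : κ} (l : {i // α i = j}) (l' : {i // α i = j'}) :
    ch w hcov D' l l' ≫ pullback.fst _ _ = pullback.fst _ _ ≫ pi w hcov D' j l := by
  unfold ch; simp

@[reassoc (attr := simp)]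
theorem ch_snd {j j' : κ} (l : {i // α i = j}) (l' : {i // α i = j'}) :
    ch w hcov D' l l' ≫ pullback.snd _ _ = pullback.snd _ _ ≫ Gf α g j' l' := by
  unfold ch; simp

theorem ch_cover (j j' : κ) :
    Presieve.ofArrows (fun ll : {i // α i = j} × {i // α i = j'} =>
      pullback ((D'.obj ll.1.1).hom ≫ u ll.1.1) (u ll.2.1)) (fun ll => ch w hcov D' ll.1 ll.2) ∈
      Scheme.fpqcPrecoverage (pullback ((Yo w hcov D' j).hom ≫ v j) (v j')) := by
  apply Scheme.zariskiPrecoverage_le_fpqcPrecoverage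
  rw [Scheme.ofArrows_mem_precoverage_iff]
  refine ⟨fun z => ?_, fun ll => inferInstance⟩
  obtain ⟨l, y₀, hy₀⟩ := surj_pi w hcov D' j
    ((pullback.fst ((Yo w hcov D' j).hom ≫ v j) (v j')).base z)
  obtain ⟨l', x₀, hx₀⟩ := surj_Gf hcov j'
    ((pullback.snd ((Yo w hcov D' j).hom ≫ v j) (v j')).base z)
  refine ⟨(l, l'), ?_⟩
  change z ∈ Set.range (ch w hcov D' l l').base
  unfold ch
  rw [Scheme.Pullback.range_map]
  exact ⟨⟨y₀, hy₀⟩, ⟨x₀, hx₀⟩⟩

end main

end Groth.Agent.Helper21.DescZar
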