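import Mathlib
import Groth.Agent.Lib.Helper21.DescZar2

/-!
# Zariski refinements: the gluing maps of the descended datum (helper21)
-/

set_option autoImplicit false
set_option backward.isDefEq.respectTransparency false
set_option backward.isDefEq.respectTransparency.types false
set_option linter.style.haveILetI false
set_option linter.unusedVariables false

open CategoryTheory CategoryTheory.Limits AlgebraicGeometry

universe u

namespace Groth.Agent.Helper21.DescZar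

open Desc Groth.Agent.Helper21.DescA Groth.Agent.Helper21.DescFF Groth.Agent.Helper21.DescOpen
  Groth.Agent.Helper21.DescZ Groth.Agent.Helper21.DescR Groth.Agent.Helper21.DescTo

variable {S : Scheme.{u}} {ι κ : Type u} {U : ι → Scheme.{u}} {V : κ → Scheme.{u}}
  {u : ∀ i, U i ⟶ S} {v : ∀ j, V j ⟶ S} {α : ι → κ} {g : ∀ i, U i ⟶ V (α i)}
  (w : ∀ i, g i ≫ v (α i) = u i)
  (hcov : ∀ j, Presieve.ofArrows (fun i : {i // α i = j} => U i.1)
    (fun i => g i.1 ≫ eqToHom (congrArg V i.2)) ∈ Scheme.zariskiPrecoverage (V j))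
  (D' : SchDDFam u)

theorem exists_Act (j j' : κ) :
    ∃! A : pullback ((Yo w hcov D' j).hom ≫ v j) (v j') ⟶ (Yo w hcov D' j').left,
      ∀ ll : {i // α i = j} × {i // α i = j'}, ch w hcov D' ll.1 ll.2 ≫ A =
        act D' ll.1.1 ll.2.1 ≫ pi w hcov D' j' ll.2 := by
  refine glue_fpqc _ (ch_cover w hcov D' j j') _ (fun ll kk T' a b hab => ?_)
  obtain ⟨l, l'⟩ := ll
  obtain ⟨k, k'⟩ := kk
  dsimp only at a b hab ⊢
  obtain ⟨a₁, ha₁⟩ : ∃ a₁ : T' ⟶ (D'.obj l.1).left,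
      a₁ = a ≫ pullback.fst ((D'.obj l.1).hom ≫ u l.1) (u l'.1) := ⟨_, rfl⟩
  obtain ⟨a₂, ha₂⟩ : ∃ a₂ : T' ⟶ U l'.1,
      a₂ = a ≫ pullback.snd ((D'.obj l.1).hom ≫ u l.1) (u l'.1) := ⟨_, rfl⟩
  obtain ⟨b₁, hb₁⟩ : ∃ b₁ : T' ⟶ (D'.obj k.1).left,
      b₁ = b ≫ pullback.fst ((D'.obj k.1).hom ≫ u k.1) (u k'.1) := ⟨_, rfl⟩
  obtain ⟨b₂, hb₂⟩ : ∃ b₂ : T' ⟶ U k'.1,
      b₂ = b ≫ pullback.snd ((D'.obj k.1).hom ≫ u k.1) (u k'.1) := ⟨_, rfl⟩
  have h1 : a₁ ≫ pi w hcov D' j l = b₁ ≫ pi w hcov D' j k := by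
    have := congrArg (fun t => t ≫ pullback.fst ((Yo w hcov D' j).hom ≫ v j) (v j')) hab
    rw [ha₁, hb₁]
    simpa only [Category.assoc, ch_fst] using this
  have h2 : a₂ ≫ Gf α g j' l' = b₂ ≫ Gf α g j' k' := by
    have := congrArg (fun t => t ≫ pullback.snd ((Yo w hcov D' j).hom ≫ v j) (v j')) hab
    rw [ha₂, hb₂]
    simpa only [Category.assoc, ch_snd] using this
  have ca : (a₁ ≫ (D'.obj l.1).hom) ≫ u l.1 = a₂ ≫ u l'.1 := by
    rw [ha₁, ha₂]; simp only [Category.assoc]; rw [pullback.condition]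
  have cb : (b₁ ≫ (D'.obj k.1).hom) ≫ u k.1 = b₂ ≫ u k'.1 := by
    rw [hb₁, hb₂]; simp only [Category.assoc]; rw [pullback.condition]
  have E1 : a ≫ act D' l.1 l'.1 = (D'.φ (a₁ ≫ (D'.obj l.1).hom) a₂ ca ⟨a₁, rfl⟩).1 := by
    rw [φ_eq]
    congr 1
    apply pullback.hom_ext
    · rw [pullback.lift_fst, ha₁]
    · rw [pullback.lift_snd, ha₂]
  have E2 : b ≫ act D' k.1 k'.1 = (D'.φ (b₁ ≫ (D'.obj k.1).hom) b₂ cb ⟨b₁, rfl⟩).1 := by
    rw [φ_eq]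
    congr 1
    apply pullback.hom_ext
    · rw [pullback.lift_fst, hb₁]
    · rw [pullback.lift_snd, hb₂]
  have hh : (a₁ ≫ (D'.obj l.1).hom) ≫ Gf α g j l = (b₁ ≫ (D'.obj k.1).hom) ≫ Gf α g j k :=
    cond_of_π (cn u v α g w hcov D' j) a₁ b₁ h1
  have E3 : (D'.φ (a₁ ≫ (D'.obj l.1).hom) (b₁ ≫ (D'.obj k.1).hom)
      (Gf_cond u v α g w _ _ hh) ⟨a₁, rfl⟩).1 = b₁ :=
    φ_eq_of_π (cn u v α g w hcov D' j) a₁ b₁ h1 hh
  have E4 := φ_comp_val D' (a₁ ≫ (D'.obj l.1).hom) (b₁ ≫ (D'.obj k.1).hom) b₂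
    (Gf_cond u v α g w _ _ hh) cb ⟨a₁, rfl⟩ ⟨b₁, rfl⟩ E3.symm
  have E5 := D'.φ_comp (a₁ ≫ (D'.obj l.1).hom) a₂ b₂ ca (Gf_cond u v α g w _ _ h2) ⟨a₁, rfl⟩
  have E6 := pi_inv w hcov D' a₂ b₂ h2 (D'.φ (a₁ ≫ (D'.obj l.1).hom) a₂ ca ⟨a₁, rfl⟩)
  rw [← Category.assoc, ← Category.assoc, E1, E2, E4, ← E6, E5]

/-- The action map `Y j ×_S V j' ⟶ Y j'`. -/
noncomputable def Act (j j' : κ) :
    pullback ((Yo w hcov D' j).hom ≫ v j) (v j') ⟶ (Yo w hcov D' j').left :=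
  (exists_Act w hcov D' j j').exists.choose

@[reassoc]
theorem ch_Act {j j' : κ} (l : {i // α i = j}) (l' : {i // α i = j'}) :
    ch w hcov D' l l' ≫ Act w hcov D' j j' = act D' l.1 l'.1 ≫ pi w hcov D' j' l' :=
  (exists_Act w hcov D' j j').exists.choose_spec (l, l')

theorem Act_hom (j j' : κ) : Act w hcov D' j j' ≫ (Yo w hcov D' j').hom =
    pullback.snd ((Yo w hcov D' j).hom ≫ v j) (v j') := by
  refine hom_ext_fpqc _ (ch_cover w hcov D' j j') _ _ (fun ll => ?_)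
  rw [ch_Act_assoc, ch_snd, ← (pi_isPullback w hcov D' j' ll.2).w, act_hom_assoc]

/-- The gluing maps of the descended datum. -/
noncomputable def Φ {T : Scheme.{u}} {j j' : κ} (y₀ : T ⟶ V j) (y₁ : T ⟶ V j')
    (h : y₀ ≫ v j = y₁ ≫ v j') (a : Lifts (Yo w hcov D' j) y₀) : Lifts (Yo w hcov D' j') y₁ :=
  ⟨pullback.lift a.1 y₁ (by rw [← Category.assoc, a.2]; exact h) ≫ Act w hcov D' j j', by
    rw [Category.assoc, Act_hom, pullback.lift_snd]⟩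

theorem Φ_val {T : Scheme.{u}} {j j' : κ} (y₀ : T ⟶ V j) (y₁ : T ⟶ V j')
    (h : y₀ ≫ v j = y₁ ≫ v j') (a : Lifts (Yo w hcov D' j) y₀) :
    (Φ w hcov D' y₀ y₁ h a).1 =
      pullback.lift a.1 y₁ (by rw [← Category.assoc, a.2]; exact h) ≫ Act w hcov D' j j' := rfl

/-- The local formula for the gluing maps. -/
theorem Φ_local {T T' : Scheme.{u}} {j j' : κ} (y₀ : T ⟶ V j) (y₁ : T ⟶ V j')
    (h : y₀ ≫ v j = y₁ ≫ v j') (a : Lifts (Yo w hcov D' j) y₀) (G : T' ⟶ T)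
    (l : {i // α i = j}) (l' : {i // α i = j'}) (x₀ : T' ⟶ U l.1) (x₁ : T' ⟶ U l'.1)
    (b : Lifts (D'.obj l.1) x₀) (hb : b.1 ≫ pi w hcov D' j l = G ≫ a.1)
    (hx₁ : x₁ ≫ Gf α g j' l' = G ≫ y₁) (hc : x₀ ≫ u l.1 = x₁ ≫ u l'.1) :
    G ≫ (Φ w hcov D' y₀ y₁ h a).1 = (D'.φ x₀ x₁ hc b).1 ≫ pi w hcov D' j' l' := by
  have key : G ≫ pullback.lift a.1 y₁ (by rw [← Category.assoc, a.2]; exact h) =
      pullback.lift b.1 x₁ (by rw [← Category.assoc, b.2]; exact hc) ≫ ch w hcov D' l l' := by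
    apply pullback.hom_ext
    · rw [Category.assoc, pullback.lift_fst, Category.assoc, ch_fst, pullback.lift_fst_assoc, hb]
    · rw [Category.assoc, pullback.lift_snd, Category.assoc, ch_snd, pullback.lift_snd_assoc, hx₁]
  rw [Φ_val, φ_eq]
  calc G ≫ pullback.lift a.1 y₁ _ ≫ Act w hcov D' j j'
      = (G ≫ pullback.lift a.1 y₁ _) ≫ Act w hcov D' j j' := (Category.assoc _ _ _).symm
    _ = (pullback.lift b.1 x₁ _ ≫ ch w hcov D' l l') ≫ Act w hcov D' j j' := by rw [key]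
    _ = pullback.lift b.1 x₁ _ ≫ act D' l.1 l'.1 ≫ pi w hcov D' j' l' := by
        rw [Category.assoc, ch_Act]
    _ = _ := (Category.assoc _ _ _).symm

theorem Φ_natural {T T' : Scheme.{u}} (G : T' ⟶ T) {j j' : κ} (y₀ : T ⟶ V j) (y₁ : T ⟶ V j')
    (h : y₀ ≫ v j = y₁ ≫ v j') (z₀ : T' ⟶ V j) (z₁ : T' ⟶ V j') (hz₀ : G ≫ y₀ = z₀)
    (hz₁ : G ≫ y₁ = z₁) (h' : z₀ ≫ v j = z₁ ≫ v j') (a : Lifts (Yo w hcov D' j) y₀)
    (a' : Lifts (Yo w hcov D' j) z₀) (ha : a'.1 = G ≫ a.1) :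
    (Φ w hcov D' z₀ z₁ h' a').1 = G ≫ (Φ w hcov D' y₀ y₁ h a).1 := by
  subst hz₀ hz₁
  rw [Φ_val, Φ_val]
  have key : pullback.lift a'.1 (G ≫ y₁) (by rw [← Category.assoc, a'.2]; exact h') =
      G ≫ pullback.lift a.1 y₁ (by rw [← Category.assoc, a.2]; exact h) := by
    apply pullback.hom_ext
    · rw [pullback.lift_fst, Category.assoc, pullback.lift_fst, ha]
    · rw [pullback.lift_snd, Category.assoc, pullback.lift_snd]
  rw [key]
  exact Category.assoc _ _ _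

theorem ext_Y {T Z : Scheme.{u}} {j : κ} (a : T ⟶ (Yo w hcov D' j).left) (t t' : T ⟶ Z)
    (H : ∀ l : {i // α i = j}, pullback.fst a (pi w hcov D' j l) ≫ t =
      pullback.fst a (pi w hcov D' j l) ≫ t') : t = t' :=
  hom_ext_fpqc (fun l : {i // α i = j} => pullback.fst a (pi w hcov D' j l))
    (Precoverage.mem_coverings_of_isPullback _ (pi_mem w hcov D' j) a _
      (fun l => pullback.snd _ _) (fun l => IsPullback.of_hasPullback _ _)) t t' H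

include hcov in
theorem ext_V {T Z : Scheme.{u}} {j : κ} (y : T ⟶ V j) (t t' : T ⟶ Z)
    (H : ∀ l : {i // α i = j}, pullback.fst y (Gf α g j l) ≫ t =
      pullback.fst y (Gf α g j l) ≫ t') : t = t' :=
  hom_ext_fpqc (fun l : {i // α i = j} => pullback.fst y (Gf α g j l))
    (Precoverage.mem_coverings_of_isPullback _ (Gf_mem hcov j) y _
      (fun l => pullback.snd _ _) (fun l => IsPullback.of_hasPullback _ _)) t t' H

end Groth.Agent.Helper21.DescZar
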