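import Mathlib
import Groth.Agent.Lib.Helper21.DescZar3

/-!
# Zariski refinements: the descended datum and essential surjectivity (helper21)
-/

set_option autoImplicit false
set_option backward.isDefEq.respectTransparency false
set_option backward.isDefEq.respectTransparency.types false
set_option linter.style.haveILetI false
set_option linter.unusedVariables false

open CategoryTheory CategoryTheory.Limits AlgebraicGeometry

universe u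

namespace Groth.Agent.Helper21.DescZar

open Desc Groth.Agent.Helper21.DescA Groth.Agent.Helper21.DescFF Groth.Agent.Helper21.DescOpen
  Groth.Agent.Helper21.DescZ Groth.Agent.Helper21.DescR Groth.Agent.Helper21.DescTo

variable {S : Scheme.{u}} {ι κ : Type u} {U : ι → Scheme.{u}} {V : κ → Scheme.{u}}
  {u : ∀ i, U i ⟶ S} {v : ∀ j, V j ⟶ S} {α : ι → κ} {g : ∀ i, U i ⟶ V (α i)}
  (w : ∀ i, g i ≫ v (α i) = u i)
  (hcov : ∀ j, Presieve.ofArrows (fun i : {i // α i = j} => U i.1)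
    (fun i => g i.1 ≫ eqToHom (congrArg V i.2)) ∈ Scheme.zariskiPrecoverage (V j))
  (D' : SchDDFam u)

theorem hom_Gf (j : κ) (l : {i // α i = j}) :
    (D'.obj l.1).hom ≫ Gf α g j l = pi w hcov D' j l ≫ (Yo w hcov D' j).hom :=
  (pi_isPullback w hcov D' j l).w

theorem Φ_self {T : Scheme.{u}} {j : κ} (y : T ⟶ V j) (a : Lifts (Yo w hcov D' j) y) :
    Φ w hcov D' y y rfl a = a := by
  apply Subtype.ext
  refine ext_Y w hcov D' a.1 _ _ (fun l => ?_)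
  have ha : a.1 ≫ (Yo w hcov D' j).hom = y := a.2
  have hx : (pullback.snd a.1 (pi w hcov D' j l) ≫ (D'.obj l.1).hom) ≫ Gf α g j l =
      pullback.fst a.1 (pi w hcov D' j l) ≫ y := by
    rw [Category.assoc, hom_Gf w hcov D', ← Category.assoc, ← pullback.condition, Category.assoc, ha]
  rw [Φ_local w hcov D' y y rfl a (pullback.fst a.1 (pi w hcov D' j l)) l l
    (pullback.snd a.1 (pi w hcov D' j l) ≫ (D'.obj l.1).hom)
    (pullback.snd a.1 (pi w hcov D' j l) ≫ (D'.obj l.1).hom)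
    ⟨pullback.snd a.1 (pi w hcov D' j l), rfl⟩ pullback.condition.symm hx rfl,
    φ_self_val, pullback.condition]

theorem Φ_comp_aux {T T₃ : Scheme.{u}} {j j' j'' : κ} (y₀ : T ⟶ V j) (y₁ : T ⟶ V j')
    (y₂ : T ⟶ V j'') (h₀₁ : y₀ ≫ v j = y₁ ≫ v j') (h₁₂ : y₁ ≫ v j' = y₂ ≫ v j'')
    (a : Lifts (Yo w hcov D' j) y₀) (G : T₃ ⟶ T) (l : {i // α i = j}) (l' : {i // α i = j'})
    (l'' : {i // α i = j''}) (b : T₃ ⟶ (D'.obj l.1).left) (x₁ : T₃ ⟶ U l'.1) (x₂ : T₃ ⟶ U l''.1)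
    (hb : b ≫ pi w hcov D' j l = G ≫ a.1) (e1 : x₁ ≫ Gf α g j' l' = G ≫ y₁)
    (e2 : x₂ ≫ Gf α g j'' l'' = G ≫ y₂) :
    G ≫ (Φ w hcov D' y₁ y₂ h₁₂ (Φ w hcov D' y₀ y₁ h₀₁ a)).1 =
      G ≫ (Φ w hcov D' y₀ y₂ (h₀₁.trans h₁₂) a).1 := by
  have ha : a.1 ≫ (Yo w hcov D' j).hom = y₀ := a.2
  have hx₀ : (b ≫ (D'.obj l.1).hom) ≫ Gf α g j l = G ≫ y₀ := by
    rw [Category.assoc, hom_Gf w hcov D', ← Category.assoc, hb, Category.assoc, ha]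
  have hc₀₁ : (b ≫ (D'.obj l.1).hom) ≫ u l.1 = x₁ ≫ u l'.1 := by
    rw [← Gf_v u v α g w j l, ← Gf_v u v α g w j' l', ← Category.assoc, hx₀,
      ← Category.assoc x₁, e1, Category.assoc, Category.assoc, h₀₁]
  have hc₁₂ : x₁ ≫ u l'.1 = x₂ ≫ u l''.1 := by
    rw [← Gf_v u v α g w j' l', ← Gf_v u v α g w j'' l'', ← Category.assoc, e1,
      ← Category.assoc x₂, e2, Category.assoc, Category.assoc, h₁₂]
  have L1 := Φ_local w hcov D' y₀ y₁ h₀₁ a G l l' _ x₁ ⟨b, rfl⟩ hb e1 hc₀₁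
  have L2 := Φ_local w hcov D' y₁ y₂ h₁₂ (Φ w hcov D' y₀ y₁ h₀₁ a) G l' l''
    x₁ x₂ (D'.φ _ _ hc₀₁ ⟨b, rfl⟩) L1.symm e2 hc₁₂
  have L3 := Φ_local w hcov D' y₀ y₂ (h₀₁.trans h₁₂) a G l l'' _ x₂
    ⟨b, rfl⟩ hb e2 (hc₀₁.trans hc₁₂)
  rw [D'.φ_comp] at L2
  rw [L2, L3]

theorem Φ_comp {T : Scheme.{u}} {j j' j'' : κ} (y₀ : T ⟶ V j) (y₁ : T ⟶ V j') (y₂ : T ⟶ V j'')
    (h₀₁ : y₀ ≫ v j = y₁ ≫ v j') (h₁₂ : y₁ ≫ v j' = y₂ ≫ v j'') (a : Lifts (Yo w hcov D' j) y₀) :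
    Φ w hcov D' y₁ y₂ h₁₂ (Φ w hcov D' y₀ y₁ h₀₁ a) = Φ w hcov D' y₀ y₂ (h₀₁.trans h₁₂) a := by
  apply Subtype.ext
  refine ext_Y w hcov D' a.1 _ _ (fun l => ?_)
  obtain ⟨G₁, hG₁⟩ : ∃ G₁, G₁ = pullback.fst a.1 (pi w hcov D' j l) := ⟨_, rfl⟩
  obtain ⟨b₁, hb₁⟩ : ∃ b₁, b₁ = pullback.snd a.1 (pi w hcov D' j l) := ⟨_, rfl⟩
  have c₁ : G₁ ≫ a.1 = b₁ ≫ pi w hcov D' j l := by rw [hG₁, hb₁]; exact pullback.condition
  rw [← hG₁]
  refine ext_V hcov (G₁ ≫ y₁) _ _ (fun l' => ?_)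
  obtain ⟨G₂, hG₂⟩ : ∃ G₂, G₂ = pullback.fst (G₁ ≫ y₁) (Gf α g j' l') := ⟨_, rfl⟩
  obtain ⟨x₁, hx₁⟩ : ∃ x₁, x₁ = pullback.snd (G₁ ≫ y₁) (Gf α g j' l') := ⟨_, rfl⟩
  have c₂ : G₂ ≫ G₁ ≫ y₁ = x₁ ≫ Gf α g j' l' := by rw [hG₂, hx₁]; exact pullback.condition
  rw [← hG₂]
  refine ext_V hcov (G₂ ≫ G₁ ≫ y₂) _ _ (fun l'' => ?_)
  obtain ⟨G₃, hG₃⟩ : ∃ G₃, G₃ = pullback.fst (G₂ ≫ G₁ ≫ y₂) (Gf α g j'' l'') := ⟨_, rfl⟩
  obtain ⟨x₂, hx₂⟩ : ∃ x₂, x₂ = pullback.snd (G₂ ≫ G₁ ≫ y₂) (Gf α g j'' l'') := ⟨_, rfl⟩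
  have c₃ : G₃ ≫ G₂ ≫ G₁ ≫ y₂ = x₂ ≫ Gf α g j'' l'' := by rw [hG₃, hx₂]; exact pullback.condition
  rw [← hG₃]
  have hb : (G₃ ≫ G₂ ≫ b₁) ≫ pi w hcov D' j l = (G₃ ≫ G₂ ≫ G₁) ≫ a.1 := by
    simp only [Category.assoc]; rw [c₁]
  have e1 : (G₃ ≫ x₁) ≫ Gf α g j' l' = (G₃ ≫ G₂ ≫ G₁) ≫ y₁ := by
    simp only [Category.assoc]; rw [c₂]
  have e2 : x₂ ≫ Gf α g j'' l'' = (G₃ ≫ G₂ ≫ G₁) ≫ y₂ := by
    simp only [Category.assoc]; rw [c₃]
  have key := Φ_comp_aux w hcov D' y₀ y₁ y₂ h₀₁ h₁₂ a (G₃ ≫ G₂ ≫ G₁) l l' l''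
    (G₃ ≫ G₂ ≫ b₁) (G₃ ≫ x₁) x₂ hb e1 e2
  simpa only [Category.assoc] using key

/-- The descended descent datum relative to the coarser family. -/
noncomputable def descended : SchDDFam v where
  obj j := Yo w hcov D' j
  φ T j j' y₀ y₁ h :=
    { toFun := Φ w hcov D' y₀ y₁ h
      invFun := Φ w hcov D' y₁ y₀ h.symm
      left_inv := fun a => by rw [Φ_comp, Φ_self]
      right_inv := fun a => by rw [Φ_comp, Φ_self] }
  φ_natural T T' G j j' y₀ y₁ h z₀ z₁ hz₀ hz₁ h' a a' ha :=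
    Φ_natural w hcov D' G y₀ y₁ h z₀ z₁ hz₀ hz₁ h' a a' ha
  φ_self T j y a := Φ_self w hcov D' y a
  φ_comp T j j' j'' y₀ y₁ y₂ h₀₁ h₁₂ a := Φ_comp w hcov D' y₀ y₁ y₂ h₀₁ h₁₂ a

theorem hp (i : ι) : IsPullback (pi w hcov D' (α i) ⟨i, rfl⟩) (D'.obj i).hom
    (Yo w hcov D' (α i)).hom (g i) := by
  have h := (pi_isPullback w hcov D' (α i) ⟨i, rfl⟩).flip
  have e : Gf α g (α i) ⟨i, rfl⟩ = g i := by simp [Gf]
  rw [e] at h
  exact h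

/-- The pullback functor along the refinement. -/
noncomputable abbrev PF : SchDDFam v ⥤ SchDDFam u :=
  pullDDFam (f := v) (f' := u) (α := α) (p := 𝟙 S) (p' := g)
    (fun i => (w i).trans (Category.comp_id (u i)).symm)

/-- The comparison isomorphisms on objects. -/
noncomputable def eObj (i : ι) : D'.obj i ≅ ((PF w).obj (descended w hcov D')).obj i :=
  Over.isoMk (hp w hcov D' i).isoPullback (by
    change (hp w hcov D' i).isoPullback.hom ≫ pullback.snd (Yo w hcov D' (α i)).hom (g i) = _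
    exact (hp w hcov D' i).isoPullback_hom_snd)

theorem eObj_fst (i : ι) : (eObj w hcov D' i).hom.left ≫
    pullback.fst (Yo w hcov D' (α i)).hom (g i) = pi w hcov D' (α i) ⟨i, rfl⟩ :=
  (hp w hcov D' i).isoPullback_hom_fst

theorem eObj_snd (i : ι) : (eObj w hcov D' i).hom.left ≫
    pullback.snd (Yo w hcov D' (α i)).hom (g i) = (D'.obj i).hom :=
  (hp w hcov D' i).isoPullback_hom_snd

/-- Every descent datum relative to the finer family is the pullback of the descended datum. -/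
theorem pull_iso : Nonempty (D' ≅ (PF w).obj (descended w hcov D')) := by
  refine ⟨isoMk D' _ (eObj w hcov D') (fun T i i' x₀ x₁ h b w' hw' => ?_)⟩
  have hb : b.1 ≫ pi w hcov D' (α i) ⟨i, rfl⟩ =
      𝟙 T ≫ w'.1 ≫ pullback.fst (Yo w hcov D' (α i)).hom (g i) := by
    rw [Category.id_comp, hw']
    exact (congrArg (b.1 ≫ ·) (eObj_fst w hcov D' i).symm).trans (Category.assoc _ _ _).symm
  have hx₁ : x₁ ≫ Gf α g (α i') ⟨i', rfl⟩ = 𝟙 T ≫ x₁ ≫ g i' := by simp [Gf]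
  have L := Φ_local w hcov D' (x₀ ≫ g i) (x₁ ≫ g i')
    (pull_compat (f := v) (f' := u) (α := α) (p := 𝟙 S) (p' := g)
      (fun i => (w i).trans (Category.comp_id (u i)).symm) x₀ x₁ h)
    ⟨w'.1 ≫ pullback.fst (Yo w hcov D' (α i)).hom (g i), by
      have e : w'.1 ≫ pullback.snd (Yo w hcov D' (α i)).hom (g i) = x₀ := w'.2
      rw [Category.assoc, pullback.condition, ← Category.assoc, e]⟩
    (𝟙 T) ⟨i, rfl⟩ ⟨i', rfl⟩ x₀ x₁ b hb hx₁ h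
  rw [Category.id_comp] at L
  rw [pull_φ_val]
  apply pullback.hom_ext
  · rw [pullback.lift_fst]
    refine L.trans ?_
    exact (congrArg ((D'.φ x₀ x₁ h b).1 ≫ ·) (eObj_fst w hcov D' i').symm).trans
      (Category.assoc _ _ _).symm
  · rw [pullback.lift_snd]
    refine Eq.trans ?_ (Category.assoc _ _ _).symm
    refine Eq.trans ?_ (congrArg ((D'.φ x₀ x₁ h b).1 ≫ ·) (eObj_snd w hcov D' i').symm)
    exact (D'.φ x₀ x₁ h b).2.symm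

include hcov in
theorem essSurj : (PF w).EssSurj :=
  ⟨fun D' => ⟨descended w hcov D', ⟨(pull_iso w hcov D').some.symm⟩⟩⟩

end Groth.Agent.Helper21.DescZar
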