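import Mathlib

/-! Free modules over the dual numbers `R[ε]`: `M` is free of rank `r` iff `M/εM` and `εM` are
free of rank `r` over `R`. -/

namespace Groth.Agent.Helper21.DN
universe u v
open DualNumber Pointwise

set_option linter.unusedSectionVars false

variable {R : Type u} [CommRing R] {M : Type v} [AddCommGroup M] [Module R[ε] M] [Module R M]
  [IsScalarTower R R[ε] M]

theorem smul_eq (s : R[ε]) (m : M) :
    s • m = (TrivSqZeroExt.fst s) • m + (TrivSqZeroExt.snd s) • ((ε : R[ε]) • m) := by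
  have h1 : s = algebraMap R R[ε] (TrivSqZeroExt.fst s) + (TrivSqZeroExt.snd s) • (ε : R[ε]) := by
    rw [← DualNumber.inr_eq_smul_eps, TrivSqZeroExt.algebraMap_eq_inl,
      TrivSqZeroExt.inl_fst_add_inr_snd_eq]
  conv_lhs => rw [h1]
  rw [add_smul, algebraMap_smul, smul_assoc]

theorem eps_eps_smul (m : M) : (ε : R[ε]) • ((ε : R[ε]) • m) = 0 := by
  rw [← mul_smul, DualNumber.eps_mul_eps, zero_smul]

theorem eps_smul_smul (s : R[ε]) (m : M) :
    (ε : R[ε]) • (s • m) = (TrivSqZeroExt.fst s) • ((ε : R[ε]) • m) := by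
  rw [smul_eq s m, smul_add, smul_comm (ε : R[ε]) (TrivSqZeroExt.fst s) m,
    smul_comm (ε : R[ε]) (TrivSqZeroExt.snd s) _, eps_eps_smul, smul_zero, add_zero]

theorem mem_E_iff (m : M) :
    m ∈ (ε : R[ε]) • (⊤ : Submodule R[ε] M) ↔ ∃ m', (ε : R[ε]) • m' = m := by
  rw [Submodule.mem_smul_pointwise_iff_exists]
  simp

theorem nonempty_basis_quot {r : ℕ} (b : Module.Basis (Fin r) R[ε] M) :
    Nonempty (Module.Basis (Fin r) R (M ⧸ ((ε : R[ε]) • (⊤ : Submodule R[ε] M)))) := by
  set E : Submodule R[ε] M := (ε : R[ε]) • (⊤ : Submodule R[ε] M) with hE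
  let π : M →ₗ[R] M ⧸ E := (E.mkQ).restrictScalars R
  have hπ0 : ∀ m, π m = 0 ↔ m ∈ E := fun m => Submodule.Quotient.mk_eq_zero E
  have hπeps : ∀ m : M, π ((ε : R[ε]) • m) = 0 := fun m =>
    (hπ0 _).mpr ((mem_E_iff _).mpr ⟨m, rfl⟩)
  have hπs : ∀ (s : R[ε]) (m : M), π (s • m) = (TrivSqZeroExt.fst s) • π m := by
    intro s m
    rw [smul_eq s m, map_add, map_smul, map_smul, hπeps, smul_zero, add_zero]
  refine ⟨Module.Basis.mk (v := fun i => π (b i)) ?_ ?_⟩
  · rw [Fintype.linearIndependent_iff]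
    intro g hg i
    have h1 : ∑ j, g j • b j ∈ E := by
      rw [← hπ0, map_sum]
      simpa [map_smul] using hg
    obtain ⟨m', hm'⟩ := (mem_E_iff _).mp h1
    have h3 : ∑ j, g j • b j = ∑ j, (algebraMap R R[ε] (g j)) • b j := by
      simp_rw [algebraMap_smul]
    have h2 := congrArg (fun x => b.repr x i) hm'
    simp only [h3, b.repr_sum_self, map_smul, Finsupp.smul_apply, smul_eq_mul] at h2
    have h4 := congrArg TrivSqZeroExt.fst h2
    rw [TrivSqZeroExt.algebraMap_eq_inl, TrivSqZeroExt.fst_inl, TrivSqZeroExt.fst_mul,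
      DualNumber.fst_eps, zero_mul] at h4
    exact h4.symm
  · rintro x -
    obtain ⟨m, rfl⟩ := Submodule.Quotient.mk_surjective E x
    have h1 : π m = ∑ i, (TrivSqZeroExt.fst (b.repr m i)) • π (b i) := by
      conv_lhs => rw [← b.sum_repr m]
      rw [map_sum]
      exact Finset.sum_congr rfl (fun i _ => hπs _ _)
    show π m ∈ _
    rw [h1]
    exact Submodule.sum_mem _ (fun i _ => Submodule.smul_mem _ _ (Submodule.subset_span ⟨i, rfl⟩))

theorem nonempty_basis_E {r : ℕ} (b : Module.Basis (Fin r) R[ε] M) :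
    Nonempty (Module.Basis (Fin r) R
      (((ε : R[ε]) • (⊤ : Submodule R[ε] M)).restrictScalars R)) := by
  set E : Submodule R[ε] M := (ε : R[ε]) • (⊤ : Submodule R[ε] M) with hE
  let v : Fin r → E.restrictScalars R :=
    fun i => ⟨(ε : R[ε]) • b i, (mem_E_iff _).mpr ⟨b i, rfl⟩⟩
  refine ⟨Module.Basis.mk (v := v) ?_ ?_⟩
  · rw [Fintype.linearIndependent_iff]
    intro g hg i
    have h1 : ∑ j, g j • ((ε : R[ε]) • b j) = 0 := by
      have := congrArg (Submodule.subtype (E.restrictScalars R)) hg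
      simpa [v, map_sum] using this
    have h2 : ∑ j, (g j • (ε : R[ε])) • b j = 0 := by
      rw [← h1]; exact Finset.sum_congr rfl (fun j _ => smul_assoc _ _ _)
    have h3 := Fintype.linearIndependent_iff.mp b.linearIndependent _ h2 i
    have h4 := congrArg TrivSqZeroExt.snd h3
    simpa using h4
  · rintro ⟨x, hx⟩ -
    obtain ⟨m, rfl⟩ := (mem_E_iff _).mp hx
    have h1 : (ε : R[ε]) • m = ∑ i, (TrivSqZeroExt.fst (b.repr m i)) • ((ε : R[ε]) • b i) := by
      conv_lhs => rw [← b.sum_repr m]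
      rw [Finset.smul_sum]
      exact Finset.sum_congr rfl (fun i _ => eps_smul_smul _ _)
    have h2 : (⟨(ε : R[ε]) • m, hx⟩ : E.restrictScalars R)
        = ∑ i, (TrivSqZeroExt.fst (b.repr m i)) • v i := by
      apply Subtype.ext
      rw [Submodule.coe_sum]
      exact h1
    rw [h2]
    exact Submodule.sum_mem _ (fun i _ => Submodule.smul_mem _ _ (Submodule.subset_span ⟨i, rfl⟩))

theorem nonempty_basis_of {r : ℕ}
    (cb : Module.Basis (Fin r) R (M ⧸ ((ε : R[ε]) • (⊤ : Submodule R[ε] M))))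
    (d : Module.Basis (Fin r) R (((ε : R[ε]) • (⊤ : Submodule R[ε] M)).restrictScalars R)) :
    Nonempty (Module.Basis (Fin r) R[ε] M) := by
  set E : Submodule R[ε] M := (ε : R[ε]) • (⊤ : Submodule R[ε] M) with hE
  let π : M →ₗ[R] M ⧸ E := (E.mkQ).restrictScalars R
  have hπ0 : ∀ m, π m = 0 ↔ m ∈ E := fun m => Submodule.Quotient.mk_eq_zero E
  have hπeps : ∀ m : M, π ((ε : R[ε]) • m) = 0 := fun m =>
    (hπ0 _).mpr ((mem_E_iff _).mpr ⟨m, rfl⟩)
  have hπs : ∀ (s : R[ε]) (m : M), π (s • m) = (TrivSqZeroExt.fst s) • π m := by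
    intro s m
    rw [smul_eq s m, map_add, map_smul, map_smul, hπeps, smul_zero, add_zero]
  have hsurj : Function.Surjective π := Submodule.Quotient.mk_surjective E
  choose c hc using fun i => hsurj (cb i)
  have hA : ∀ m : M, ∃ x : Fin r → R, ∃ m' : M, m = ∑ i, x i • c i + (ε : R[ε]) • m' := by
    intro m
    have h1 : m - ∑ i, (cb.repr (π m) i) • c i ∈ E := by
      rw [← hπ0, map_sub, map_sum]
      simp only [map_smul, hc]
      rw [cb.sum_repr, sub_self]
    obtain ⟨m', hm'⟩ := (mem_E_iff _).mp h1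
    exact ⟨fun i => cb.repr (π m) i, m', by rw [hm']; abel⟩
  have hB : ∀ m : M, ∃ x : Fin r → R, (ε : R[ε]) • m = ∑ i, x i • ((ε : R[ε]) • c i) := by
    intro m
    obtain ⟨x, m', hm⟩ := hA m
    refine ⟨x, ?_⟩
    conv_lhs => rw [hm]
    rw [smul_add, eps_eps_smul, add_zero, Finset.smul_sum]
    exact Finset.sum_congr rfl (fun i _ => smul_comm _ _ _)
  let v : Fin r → E.restrictScalars R :=
    fun i => ⟨(ε : R[ε]) • c i, (mem_E_iff _).mpr ⟨c i, rfl⟩⟩
  have hvspan : Function.Surjective (Fintype.linearCombination R v) := by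
    rintro ⟨x, hx⟩
    obtain ⟨m, rfl⟩ := (mem_E_iff _).mp hx
    obtain ⟨y, hy⟩ := hB m
    refine ⟨y, Subtype.ext ?_⟩
    rw [Fintype.linearCombination_apply, Submodule.coe_sum]
    exact hy.symm
  have hvli : LinearIndependent R v := by
    rw [linearIndependent_iff_injective_fintypeLinearCombination]
    have h1 : Function.Surjective
        ((d.equivFun.toLinearMap) ∘ₗ (Fintype.linearCombination R v)) :=
      d.equivFun.surjective.comp hvspan
    have h2 := OrzechProperty.injective_of_surjective_endomorphism _ h1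
    rw [LinearMap.coe_comp] at h2
    exact Function.Injective.of_comp h2
  refine ⟨Module.Basis.mk (v := c) ?_ ?_⟩
  · rw [Fintype.linearIndependent_iff]
    intro g hg
    have h1 : ∀ i, TrivSqZeroExt.fst (g i) = 0 := by
      have h2 : ∑ i, TrivSqZeroExt.fst (g i) • cb i = 0 := by
        have := congrArg π hg
        rw [map_sum, map_zero] at this
        rw [← this]
        exact Finset.sum_congr rfl (fun i _ => by rw [hπs, hc])
      exact Fintype.linearIndependent_iff.mp cb.linearIndependent _ h2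
    have h3 : ∀ i, TrivSqZeroExt.snd (g i) = 0 := by
      have h4 : ∑ i, TrivSqZeroExt.snd (g i) • v i = 0 := by
        apply Subtype.ext
        rw [Submodule.coe_sum, ZeroMemClass.coe_zero, ← hg]
        refine Finset.sum_congr rfl (fun i _ => ?_)
        rw [smul_eq (g i) (c i), h1 i, zero_smul, zero_add]
        rfl
      exact Fintype.linearIndependent_iff.mp hvli _ h4
    intro i
    exact TrivSqZeroExt.ext (by rw [h1 i]; rfl) (by rw [h3 i]; rfl)
  · rintro m -
    obtain ⟨x, m', hm⟩ := hA m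
    obtain ⟨y, hy⟩ := hB m'
    rw [hm, hy]
    refine Submodule.add_mem _ (Submodule.sum_mem _ fun i _ => ?_)
      (Submodule.sum_mem _ fun i _ => ?_)
    · rw [← algebraMap_smul R[ε] (x i) (c i)]
      exact Submodule.smul_mem _ _ (Submodule.subset_span ⟨i, rfl⟩)
    · rw [← smul_assoc]
      exact Submodule.smul_mem _ _ (Submodule.subset_span ⟨i, rfl⟩)

end Groth.Agent.Helper21.DN
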