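import Mathlib
import Groth.Prelude
import Groth.Agent.Lib.Helper21.EssFP1

/-!
# Universally injective multiplication maps on flat modules over ess. f.p. local algebras

`univInj_main`: Let `R → S` be a local homomorphism of local rings, essentially of finite
presentation, `N` a finitely presented `S`-module flat over `R`.  Then multiplication by any element
acting injectively on the closed fibre of `N` is universally injective over `R`, and so is the
localization map of `N` at the set of all these elements.
-/

set_option autoImplicit false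
set_option linter.style.haveILetI false
set_option linter.unusedSectionVars false

universe u

open TensorProduct Function Pointwise IsLocalRing

namespace Groth.Agent.Helper21.EssFP

attribute [local instance] Algebra.TensorProduct.rightAlgebra

set_option maxHeartbeats 6400000 in
set_option synthInstance.maxHeartbeats 400000 in
theorem univInj_smul {R S : Type u} [CommRing R] [IsLocalRing R] [CommRing S] [IsLocalRing S]
    [Algebra R S] [IsLocalHom (algebraMap R S)] (hS : FlatCA.EssFinitePresentation R S)
    (N : Type u) [AddCommGroup N] [Module S N] [Module R N] [IsScalarTower R S N]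
    [Module.FinitePresentation S N] [Module.Flat R N] (s : S)
    (hs : s ∈ FlatCA.nzdFiber R S N) (Q' : Type u) [AddCommGroup Q'] [Module R Q'] :
    Injective (((LinearMap.lsmul S N s).restrictScalars R).lTensor Q') := by
  classical
  by_cases hu : IsUnit s
  · obtain ⟨u, rfl⟩ := hu
    refine lTensor_injective_of_leftInverse _
      ((LinearMap.lsmul S N (↑u⁻¹ : S)).restrictScalars R) ?_ Q'
    ext n
    simp [smul_smul]
  · have hsm : s ∈ maximalIdeal S := (IsLocalRing.mem_maximalIdeal s).mpr hu
    obtain ⟨S₀, _, _, _, _, T, hfp, hloc⟩ := hS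
    haveI := hfp
    haveI := hloc
    let Q : Ideal S₀ := (maximalIdeal S).comap (algebraMap S₀ S)
    haveI : Q.IsPrime := Ideal.comap_isPrime _ _
    haveI hAt : IsLocalization.AtPrime S Q := atPrime_of_isLocalRing T Q rfl
    letI mN : Module S₀ N := Module.compHom N (algebraMap S₀ S)
    haveI t1 : IsScalarTower S₀ S N := IsScalarTower.of_algebraMap_smul fun _ _ => rfl
    haveI t2 : IsScalarTower R S₀ N := IsScalarTower.of_algebraMap_smul fun r n => by
      change algebraMap S₀ S (algebraMap R S₀ r) • n = r • n
      rw [← IsScalarTower.algebraMap_apply R S₀ S, algebraMap_smul]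
    obtain ⟨M₀, _, _, _, f, hf⟩ := exists_fp_isLocalizedModule Q.primeCompl S N
    letI : Module R M₀ := Module.compHom M₀ (algebraMap R S₀)
    haveI : IsScalarTower R S₀ M₀ := IsScalarTower.of_algebraMap_smul fun _ _ => rfl
    obtain ⟨⟨c, t⟩, hct⟩ := IsLocalization.surj Q.primeCompl s
    have hct' : s * algebraMap S₀ S (t : S₀) = algebraMap S₀ S c := hct
    have hcQ : c ∈ Q := by
      change algebraMap S₀ S c ∈ maximalIdeal S
      rw [← hct']
      exact Ideal.mul_mem_right _ _ hsm
    have hut : IsUnit (algebraMap S₀ S (t : S₀)) := IsLocalization.map_units S t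
    obtain ⟨u, hu'⟩ := hut
    have h𝔭 : Q.comap (algebraMap R S₀) = maximalIdeal R := by
      change ((maximalIdeal S).comap (algebraMap S₀ S)).comap (algebraMap R S₀) = _
      rw [Ideal.comap_comap, ← IsScalarTower.algebraMap_eq]
      exact IsLocalRing.maximalIdeal_comap (algebraMap R S)
    have hcs : ∀ n : N, c • n = s • ((u : S) • n) := by
      intro n
      rw [smul_smul, hu', hct']
      rfl
    have hreg : ∀ n : N,
        c • n ∈ ((Q.comap (algebraMap R S₀)).map (algebraMap R S)) • (⊤ : Submodule S N) →
        n ∈ ((Q.comap (algebraMap R S₀)).map (algebraMap R S)) • (⊤ : Submodule S N) := by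
      intro n hn
      rw [h𝔭] at hn ⊢
      rw [hcs] at hn
      have h0 := (fiber_one_tmul_eq_zero_iff (maximalIdeal R) N _).mpr hn
      have h1 : s • ((1 : (maximalIdeal R).Fiber S) ⊗ₜ[S] ((u : S) • n) :
          FlatCA.fiberMod (maximalIdeal R) S N) = 0 := by
        have e : s • ((1 : (maximalIdeal R).Fiber S) ⊗ₜ[S] ((u : S) • n) :
            (maximalIdeal R).Fiber S ⊗[S] N) =
            (1 : (maximalIdeal R).Fiber S) ⊗ₜ[S] (s • ((u : S) • n)) :=
          (TensorProduct.tmul_smul s _ _).symm
        exact e.trans h0
      have h2 := (mem_nonZeroSMulDivisors_iff.mp hs) _ h1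
      have h3 := (fiber_one_tmul_eq_zero_iff (maximalIdeal R) N _).mp h2
      have h4 : n = (↑u⁻¹ : S) • ((u : S) • n) := by
        rw [smul_smul, Units.inv_mul, one_smul]
      rw [h4]
      exact Submodule.smul_mem _ _ h3
    obtain ⟨hreg', hflat⟩ := MCPF.slice_mod Q f c hcQ hreg
    haveI := hflat
    have hUI : Injective
        (((LinearMap.lsmul S N (algebraMap S₀ S c)).restrictScalars R).lTensor Q') := by
      refine lTensor_injective_of_exact_flat
        ((LinearMap.lsmul S N (algebraMap S₀ S c)).restrictScalars R)
        ((Submodule.mkQ ((algebraMap S₀ S c) • (⊤ : Submodule S N))).restrictScalars R)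
        ?_ ?_ ?_ Q'
      · exact hreg'
      · exact Submodule.mkQ_surjective _
      · intro y
        simp only [LinearMap.coe_restrictScalars, Submodule.mkQ_apply,
          Submodule.Quotient.mk_eq_zero, Set.mem_range, LinearMap.lsmul_apply]
        rw [Submodule.mem_smul_pointwise_iff_exists]
        constructor
        · rintro ⟨b, -, hb⟩
          exact ⟨b, hb⟩
        · rintro ⟨b, hb⟩
          exact ⟨b, trivial, hb⟩
    have hcomp : ((LinearMap.lsmul S N (algebraMap S₀ S c)).restrictScalars R) =
        ((LinearMap.lsmul S N s).restrictScalars R) ∘ₗ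
          ((LinearMap.lsmul S N (u : S)).restrictScalars R) := by
      ext n
      simp only [LinearMap.coe_restrictScalars, LinearMap.lsmul_apply, LinearMap.coe_comp,
        Function.comp_apply]
      exact hcs n
    rw [hcomp, LinearMap.lTensor_comp, LinearMap.coe_comp] at hUI
    refine Function.Injective.of_comp_right hUI ?_
    refine lTensor_surjective_of_rightInverse _
      ((LinearMap.lsmul S N (↑u⁻¹ : S)).restrictScalars R) ?_ Q'
    ext n
    simp [smul_smul]

set_option maxHeartbeats 6400000 in
set_option synthInstance.maxHeartbeats 400000 in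
theorem univInj_main {R S : Type u} [CommRing R] [IsLocalRing R] [CommRing S] [IsLocalRing S]
    [Algebra R S] [IsLocalHom (algebraMap R S)] (hS : FlatCA.EssFinitePresentation R S)
    (N : Type u) [AddCommGroup N] [Module S N] [Module R N] [IsScalarTower R S N]
    [Module.FinitePresentation S N] [Module.Flat R N] :
    (∀ s ∈ FlatCA.nzdFiber R S N,
      FlatCA.UnivInj R ((LinearMap.lsmul S N s).restrictScalars R)) ∧
    FlatCA.UnivInj R
      ((LocalizedModule.mkLinearMap (FlatCA.nzdFiber R S N) N).restrictScalars R) := by
  have part1 : ∀ s ∈ FlatCA.nzdFiber R S N,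
      FlatCA.UnivInj R ((LinearMap.lsmul S N s).restrictScalars R) :=
    fun s hs Q' _ _ => univInj_smul hS N s hs Q'
  refine ⟨part1, ?_⟩
  intro Q' _ _
  rw [LinearMap.lTensor_inj_iff_rTensor_inj]
  haveI hloc : IsLocalizedModule (FlatCA.nzdFiber R S N)
      (TensorProduct.AlgebraTensorModule.rTensor R Q'
        (LocalizedModule.mkLinearMap (FlatCA.nzdFiber R S N) N)) :=
    IsLocalizedModule.rTensor (R := R) (A := S) (S := FlatCA.nzdFiber R S N) (N := Q')
      (LocalizedModule.mkLinearMap (FlatCA.nzdFiber R S N) N)
  rw [injective_iff_map_eq_zero]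
  intro x hx
  have hx' : TensorProduct.AlgebraTensorModule.rTensor R Q'
      (LocalizedModule.mkLinearMap (FlatCA.nzdFiber R S N) N) x = 0 := hx
  obtain ⟨⟨σ, hσ⟩, hσx⟩ := (IsLocalizedModule.eq_zero_iff (FlatCA.nzdFiber R S N) _).mp hx'
  have hσx' : σ • x = 0 := hσx
  have key : ∀ x : N ⊗[R] Q',
      (((LinearMap.lsmul S N σ).restrictScalars R).rTensor Q') x = σ • x := by
    intro x
    induction x using TensorProduct.induction_on with
    | zero => rw [map_zero, smul_zero]
    | tmul n q => rw [LinearMap.rTensor_tmul, TensorProduct.smul_tmul']; rfl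
    | add a b ha hb => rw [map_add, smul_add, ha, hb]
  have h1 : (((LinearMap.lsmul S N σ).restrictScalars R).rTensor Q') x = 0 := by
    rw [key, hσx']
  exact (injective_iff_map_eq_zero _).mp
    ((LinearMap.lTensor_inj_iff_rTensor_inj _ _).mp (part1 σ hσ Q')) x h1

end Groth.Agent.Helper21.EssFP
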