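import Mathlib
import Groth.Prelude
import Groth.Agent.Lib.Helper21.EssFP1
import Groth.Agent.Lib.Helper21.EssFP3
import Groth.Agent.Lib.Helper21.MCPF9

/-!
# Critère de platitude par fibres for essentially finitely presented local algebras (helper21)

`flat_of_fibre_essFP`: `R → S → S'` local homomorphisms of local rings with `S`, `S'` essentially
of finite presentation over `R`, `M` a nonzero finitely presented `S'`-module flat over `R` with
`M/𝔪_R M` flat over `S/𝔪_R S`.  Then `S` is flat over `R` and `M` is flat over `S`.
-/

set_option autoImplicit false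
set_option linter.style.haveILetI false
set_option linter.unusedSectionVars false

universe u

open TensorProduct Function Pointwise IsLocalRing

namespace Groth.Agent.Helper21.EssFP

set_option maxHeartbeats 6400000 in
set_option synthInstance.maxHeartbeats 400000 in
theorem flat_of_fibre_essFP {R S S' M : Type u} [CommRing R] [CommRing S] [CommRing S']
    [IsLocalRing R] [IsLocalRing S] [IsLocalRing S'] [Algebra R S] [Algebra S S'] [Algebra R S']
    [IsScalarTower R S S'] [IsLocalHom (algebraMap R S)] [IsLocalHom (algebraMap S S')]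
    (hS : CAlgX.IsEssFinitePresentation R S) (hS' : CAlgX.IsEssFinitePresentation R S')
    [AddCommGroup M] [Module S' M] [Module S M] [Module R M] [IsScalarTower S S' M]
    [IsScalarTower R S' M] [IsScalarTower R S M] [Module.FinitePresentation S' M] [Nontrivial M]
    [Module.Flat R M]
    (hfib : Module.Flat (S ⧸ (maximalIdeal R).map (algebraMap R S))
      (M ⧸ (maximalIdeal R).map (algebraMap R S) • (⊤ : Submodule S M))) :
    Module.Flat R S ∧ Module.Flat S M := by
  classical
  obtain ⟨S₀, _, _, _, _, T₀, hfp₀, hloc₀⟩ := hS
  obtain ⟨S'₀, _, _, _, _, T', hfp', hloc'⟩ := hS'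
  haveI := hfp₀
  haveI := hloc₀
  haveI := hfp'
  haveI := hloc'
  let q₀ : Ideal S₀ := (maximalIdeal S).comap (algebraMap S₀ S)
  haveI : q₀.IsPrime := Ideal.comap_isPrime _ _
  haveI hAt₀ : IsLocalization.AtPrime S q₀ := atPrime_of_isLocalRing T₀ q₀ rfl
  let χ : S₀ →ₐ[R] S' := (IsScalarTower.toAlgHom R S S').comp (IsScalarTower.toAlgHom R S₀ S)
  obtain ⟨t, ht, χ', lam, hlam, hχ⟩ := exists_factor_away T' χ
  haveI : Algebra.FinitePresentation S'₀ (Localization.Away t) :=
    IsLocalization.Away.finitePresentation t
  haveI : Algebra.FinitePresentation R (Localization.Away t) :=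
    Algebra.FinitePresentation.trans R S'₀ (Localization.Away t)
  letI aCS' : Algebra (Localization.Away t) S' := lam.toRingHom.toAlgebra
  haveI : IsScalarTower S'₀ (Localization.Away t) S' :=
    IsScalarTower.of_algebraMap_eq fun c => (hlam c).symm
  haveI : IsScalarTower R (Localization.Away t) S' :=
    IsScalarTower.of_algebraMap_eq fun r => (lam.commutes r).symm
  haveI hlocC : IsLocalization (T'.map (algebraMap S'₀ (Localization.Away t))) S' :=
    IsLocalization.isLocalization_of_submonoid_le (Localization.Away t) S' (Submonoid.powers t) T'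
      (Submonoid.powers_le.mpr ht)
  let Q : Ideal (Localization.Away t) :=
    (maximalIdeal S').comap (algebraMap (Localization.Away t) S')
  haveI : Q.IsPrime := Ideal.comap_isPrime _ _
  haveI hAt : IsLocalization.AtPrime S' Q :=
    atPrime_of_isLocalRing (T'.map (algebraMap S'₀ (Localization.Away t))) Q rfl
  letI aBC : Algebra S₀ (Localization.Away t) := χ'.toRingHom.toAlgebra
  haveI : IsScalarTower R S₀ (Localization.Away t) :=
    IsScalarTower.of_algebraMap_eq fun r => (χ'.commutes r).symm
  letI mBM : Module S₀ M := Module.compHom M (algebraMap S₀ S)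
  haveI : IsScalarTower S₀ S M := IsScalarTower.of_algebraMap_smul fun _ _ => rfl
  letI mCM : Module (Localization.Away t) M :=
    Module.compHom M (algebraMap (Localization.Away t) S')
  haveI : IsScalarTower (Localization.Away t) S' M :=
    IsScalarTower.of_algebraMap_smul fun _ _ => rfl
  haveI : IsScalarTower S₀ (Localization.Away t) M :=
    IsScalarTower.of_algebraMap_smul fun b m => by
      change lam (χ' b) • m = algebraMap S₀ S b • m
      rw [hχ]
      change algebraMap S S' (algebraMap S₀ S b) • m = _
      rw [algebraMap_smul]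
  haveI : IsScalarTower R (Localization.Away t) M :=
    IsScalarTower.of_algebraMap_smul fun r m => by
      change lam (algebraMap R (Localization.Away t) r) • m = r • m
      rw [lam.commutes, algebraMap_smul]
  obtain ⟨M₀, _, _, _, f, hf⟩ := exists_fp_isLocalizedModule Q.primeCompl S' M
  letI : Module S₀ M₀ := Module.compHom M₀ (algebraMap S₀ (Localization.Away t))
  haveI : IsScalarTower S₀ (Localization.Away t) M₀ :=
    IsScalarTower.of_algebraMap_smul fun _ _ => rfl
  letI : Module R M₀ := Module.compHom M₀ (algebraMap R (Localization.Away t))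
  haveI : IsScalarTower R (Localization.Away t) M₀ :=
    IsScalarTower.of_algebraMap_smul fun _ _ => rfl
  haveI : IsLocalHom (algebraMap R S') := by
    rw [IsScalarTower.algebraMap_eq R S S']
    infer_instance
  have h𝔭 : maximalIdeal R = Q.comap (algebraMap R (Localization.Away t)) := by
    change _ = ((maximalIdeal S').comap (algebraMap (Localization.Away t) S')).comap
      (algebraMap R (Localization.Away t))
    rw [Ideal.comap_comap, ← IsScalarTower.algebraMap_eq]
    exact (IsLocalRing.maximalIdeal_comap (algebraMap R S')).symm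
  let e : LocalizedModule Q.primeCompl M₀ ≃ₗ[Localization.Away t] M :=
    IsLocalizedModule.iso Q.primeCompl f
  haveI : Module.Flat R (LocalizedModule Q.primeCompl M₀) :=
    Module.Flat.of_linearEquiv (e.restrictScalars R)
  have hI : (maximalIdeal R).map (algebraMap R S) =
      ((maximalIdeal R).map (algebraMap R S₀)).map (algebraMap S₀ S) := by
    rw [Ideal.map_map, ← IsScalarTower.algebraMap_eq]
  haveI hfibB : Module.Flat (S₀ ⧸ (maximalIdeal R).map (algebraMap R S₀))
      ((S₀ ⧸ (maximalIdeal R).map (algebraMap R S₀)) ⊗[S₀] M) :=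
    (MCPF.flat_quotient_stalk_iff q₀.primeCompl ((maximalIdeal R).map (algebraMap R S₀))
      ((maximalIdeal R).map (algebraMap R S)) hI (X := M)).mp hfib
  haveI : Module.Flat (S₀ ⧸ (maximalIdeal R).map (algebraMap R S₀))
      ((S₀ ⧸ (maximalIdeal R).map (algebraMap R S₀)) ⊗[S₀]
        LocalizedModule Q.primeCompl M₀) :=
    Module.Flat.of_linearEquiv
      (AlgebraTensorModule.congr (LinearEquiv.refl _ _) (e.restrictScalars S₀))
  have hB : Module.Flat S₀ (LocalizedModule Q.primeCompl M₀) :=
    MCPF.cpf_fp_mod (R := R) (B := S₀) (C := Localization.Away t) (M := M₀) Q (maximalIdeal R) h𝔭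
  haveI hB' : Module.Flat S₀ M := Module.Flat.of_linearEquiv (e.symm.restrictScalars S₀)
  haveI hSM : Module.Flat S M := (Module.flat_iff_of_isLocalization S q₀.primeCompl M).mpr hB'
  refine ⟨?_, hSM⟩
  haveI : Module.Finite S' M := inferInstance
  haveI : Module.FaithfullyFlat S M :=
    MCPF.faithfullyFlat_of_isLocalHom_of_finite (L := S) (P := S') (N := M)
  exact MCPF.flat_of_faithfullyFlat_module (T := R) (V' := S) (X := M)

end Groth.Agent.Helper21.EssFP
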