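import Mathlib
import Groth.Prelude
import Groth.Agent.Lib.Helper21.EssFP2

/-!
# Universal injectivity of flat base change covering the fibrewise associated primes (helper21)

`univInj_baseChange`: `R → S` local, essentially of finite presentation, `N` a finitely presented
`S`-module flat over `R`, `S'` a flat `S`-algebra such that every associated prime of `N/𝔪_R N` is
the contraction of a prime of `S'`.  Then `N → S' ⊗_S N` is universally injective over `R`.
-/

set_option autoImplicit false
set_option linter.style.haveILetI false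
set_option linter.unusedSectionVars false

universe u

open TensorProduct Function Pointwise IsLocalRing

namespace Groth.Agent.Helper21.EssFP

/-- An ideal contained in no associated prime of a Noetherian module contains a
non-zero-divisor. -/
theorem exists_mem_nonZeroSMulDivisors_of_forall_not_le {S F E : Type*} [CommRing S] [CommRing F]
    [Algebra S F] [IsNoetherianRing F] [AddCommGroup E] [Module F E] [Module S E]
    [IsScalarTower S F E] [Module.Finite F E] (𝔞 : Ideal S)
    (h𝔞 : ∀ q ∈ associatedPrimes S E, ¬ 𝔞 ≤ q) : ∃ s ∈ 𝔞, s ∈ nonZeroSMulDivisors S E := by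
  classical
  have hfin : (associatedPrimes F E).Finite := associatedPrimes.finite F E
  have hcomap : ∀ p ∈ associatedPrimes F E, p.comap (algebraMap S F) ∈ associatedPrimes S E := by
    intro p hp
    obtain ⟨hprime, x, hx⟩ := (Submodule.isAssociatedPrime_def).mp hp
    haveI := hprime
    refine (Submodule.isAssociatedPrime_def).mpr ⟨Ideal.comap_isPrime _ _, x, ?_⟩
    rw [hx, Ideal.comap_radical]
    congr 1
    ext s
    simp only [Ideal.mem_comap, Submodule.mem_colon_singleton, Submodule.mem_bot, algebraMap_smul]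
  have hnot : ¬ ((𝔞 : Set S) ⊆
      ⋃ p ∈ (hfin.toFinset : Set (Ideal F)), ((p.comap (algebraMap S F) : Ideal S) : Set S)) := by
    rw [Ideal.subset_union_prime (⊥ : Ideal F) ⊥ (fun p hp _ _ => by
      haveI : p.IsPrime := IsAssociatedPrime.isPrime ((hfin.mem_toFinset).mp hp)
      exact Ideal.comap_isPrime _ _)]
    rintro ⟨p, hp, hle⟩
    exact h𝔞 _ (hcomap p ((hfin.mem_toFinset).mp hp)) hle
  obtain ⟨s, hs𝔞, hsU⟩ := Set.not_subset.mp hnot
  refine ⟨s, hs𝔞, ?_⟩
  rw [mem_nonZeroSMulDivisors_iff]
  intro e he
  by_contra hne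
  apply hsU
  have hz : algebraMap S F s ∈ {r : F | ∃ x : E, x ≠ 0 ∧ r • x = 0} :=
    ⟨e, hne, by rw [algebraMap_smul]; exact he⟩
  rw [← biUnion_associatedPrimes_eq_zero_divisors F E] at hz
  simp only [Set.mem_iUnion] at hz
  obtain ⟨p, hp, hsp⟩ := hz
  simp only [Set.mem_iUnion]
  exact ⟨p, Finset.mem_coe.mpr ((hfin.mem_toFinset).mpr hp), hsp⟩

/-- If `1 ⊗ x = 0` in `S' ⊗_S W` with `S'` flat over `S`, the annihilator of `x` is contained in
no prime of `S` in the image of `Spec S'`. -/
theorem not_ker_toSpanSingleton_le_comap {S S' W : Type*} [CommRing S] [CommRing S']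
    [Algebra S S'] [Module.Flat S S'] [AddCommGroup W] [Module S W] (x : W)
    (hx : (1 : S') ⊗ₜ[S] x = 0) (q' : Ideal S') [q'.IsPrime] :
    ¬ (LinearMap.ker (LinearMap.toSpanSingleton S W x) ≤ q'.comap (algebraMap S S')) := by
  intro hle
  let ι : (S ⧸ LinearMap.ker (LinearMap.toSpanSingleton S W x)) →ₗ[S] W :=
    Submodule.liftQ _ (LinearMap.toSpanSingleton S W x) le_rfl
  have hι : Function.Injective ι := by
    rw [← LinearMap.ker_eq_bot]
    exact Submodule.ker_liftQ_eq_bot _ _ _ le_rfl
  have hinj : Function.Injective (ι.lTensor S') :=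
    Module.Flat.lTensor_preserves_injective_linearMap ι hι
  have h1 : (1 : S') ⊗ₜ[S]
      (Ideal.Quotient.mk (LinearMap.ker (LinearMap.toSpanSingleton S W x)) (1 : S)) = 0 := by
    apply hinj
    rw [LinearMap.lTensor_tmul, map_zero]
    change (1 : S') ⊗ₜ[S] (LinearMap.toSpanSingleton S W x 1) = 0
    rw [LinearMap.toSpanSingleton_apply, one_smul]
    exact hx
  have h2 := congrArg (TensorProduct.tensorQuotEquivQuotSMul S'
    (LinearMap.ker (LinearMap.toSpanSingleton S W x))) h1
  rw [map_zero, TensorProduct.tensorQuotEquivQuotSMul_tmul_mk, one_smul] at h2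
  have h3 : (1 : S') ∈ (LinearMap.ker (LinearMap.toSpanSingleton S W x)) •
      (⊤ : Submodule S S') := (Submodule.Quotient.mk_eq_zero _).mp h2
  have h4 : (LinearMap.ker (LinearMap.toSpanSingleton S W x)) • (⊤ : Submodule S S') ≤
      q'.restrictScalars S := by
    rw [Submodule.smul_le]
    intro a ha s' _
    change a • s' ∈ q'
    rw [Algebra.smul_def]
    exact q'.mul_mem_right _ (hle ha)
  exact (Ideal.IsPrime.ne_top ‹_›) ((Ideal.eq_top_iff_one _).mpr (h4 h3))

/-- `(s • ·) ⊗ Q'` is multiplication by `s`. -/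
theorem rTensor_lsmul_apply {R S N Q' : Type*} [CommRing R] [CommRing S] [Algebra R S]
    [AddCommGroup N] [Module S N] [Module R N] [IsScalarTower R S N] [AddCommGroup Q']
    [Module R Q'] (s : S) (x : N ⊗[R] Q') :
    (((LinearMap.lsmul S N s).restrictScalars R).rTensor Q') x = s • x := by
  induction x using TensorProduct.induction_on with
  | zero => rw [map_zero, smul_zero]
  | tmul n q => rw [LinearMap.rTensor_tmul, TensorProduct.smul_tmul']; rfl
  | add a b ha hb => rw [map_add, smul_add, ha, hb]

attribute [local instance] Algebra.TensorProduct.rightAlgebra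

set_option maxHeartbeats 6400000 in
set_option synthInstance.maxHeartbeats 400000 in
theorem univInj_baseChange {R S S' : Type u} [CommRing R] [IsLocalRing R] [CommRing S]
    [IsLocalRing S] [CommRing S'] [Algebra R S] [IsLocalHom (algebraMap R S)] [Algebra S S']
    [Algebra R S'] [IsScalarTower R S S']
    (hS : FlatCA.EssFinitePresentation R S) [Module.Flat S S']
    (N : Type u) [AddCommGroup N] [Module S N] [Module R N] [IsScalarTower R S N]
    [Module.FinitePresentation S N] [Module.Flat R N]
    (h : ∀ q ∈ associatedPrimes S (FlatCA.fiberMod (maximalIdeal R) S N),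
      ∃ q' : Ideal S', q'.IsPrime ∧ q'.comap (algebraMap S S') = q) :
    FlatCA.UnivInj R ((TensorProduct.mk S S' N 1).restrictScalars R) := by
  classical
  intro Q' _ _
  rw [LinearMap.lTensor_inj_iff_rTensor_inj, injective_iff_map_eq_zero]
  intro x hx
  have key : ∀ w : N ⊗[R] Q', TensorProduct.AlgebraTensorModule.assoc R S S S' N Q'
      ((((TensorProduct.mk S S' N 1).restrictScalars R).rTensor Q') w) = (1 : S') ⊗ₜ[S] w := by
    intro w
    induction w using TensorProduct.induction_on with
    | zero => rw [map_zero, map_zero, TensorProduct.tmul_zero]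
    | tmul n q => rfl
    | add a b ha hb => rw [map_add, map_add, ha, hb, TensorProduct.tmul_add]
  have h1 : (1 : S') ⊗ₜ[S] x = 0 := by rw [← key, hx, map_zero]
  have hS2 := hS
  obtain ⟨S₀, _, _, _, _, T, hfp, hloc⟩ := hS2
  haveI := hfp
  haveI := hloc
  haveI : Algebra.EssFiniteType R S := by
    haveI : Algebra.EssFiniteType S₀ S := Algebra.EssFiniteType.of_isLocalization S T
    exact Algebra.EssFiniteType.comp R S₀ S
  haveI : IsNoetherianRing ((maximalIdeal R).Fiber S) :=
    Algebra.EssFiniteType.isNoetherianRing (maximalIdeal R).ResidueField _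
  obtain ⟨s, hs𝔞, hsS⟩ := exists_mem_nonZeroSMulDivisors_of_forall_not_le (S := S)
    (F := (maximalIdeal R).Fiber S) (E := (maximalIdeal R).Fiber S ⊗[S] N)
    (LinearMap.ker (LinearMap.toSpanSingleton S (N ⊗[R] Q') x)) (fun q hq hle => by
      obtain ⟨q', hq', hqq'⟩ := h q hq
      haveI := hq'
      exact not_ker_toSpanSingleton_le_comap x h1 q' (hqq' ▸ hle))
  have hsx : s • x = 0 := by
    have := LinearMap.mem_ker.mp hs𝔞
    rwa [LinearMap.toSpanSingleton_apply] at this
  have hinj := (LinearMap.lTensor_inj_iff_rTensor_inj _ _).mp (univInj_smul hS N s hsS Q')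
  exact (injective_iff_map_eq_zero _).mp hinj x (by rw [rTensor_lsmul_apply, hsx])

end Groth.Agent.Helper21.EssFP
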