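import Mathlib
import Groth.Prelude
import Groth.Agent.Lib.Helper21.EssFP5

/-!
# Universal injectivity of flat base change covering the fibrewise associated primes, global form
(helper21)

`univInj_baseChange_global`: `S` a finitely presented `R`-algebra, `N` a finitely presented
`S`-module flat over `R`, `S'` a flat `S`-algebra such that every prime `q` of `S` whose extension
to the fibre ring over `p = q ∩ R` is an associated prime of the fibre module of `N` is the
contraction of a prime of `S'`.  Then `N → S' ⊗_S N` is universally injective over `R`.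
-/

set_option autoImplicit false
set_option linter.style.haveILetI false
set_option linter.unusedSectionVars false

universe u

open TensorProduct Function Pointwise

namespace Groth.Agent.Helper21.EssFP

/-- An ideal of `S` contained in the contraction of no associated prime of a finite module `E`
over a Noetherian `S`-algebra `F` contains a non-zero-divisor of `E`. -/
theorem exists_mem_nonZeroSMulDivisors_of_forall_not_le_comap {S F E : Type*} [CommRing S]
    [CommRing F] [Algebra S F] [IsNoetherianRing F] [AddCommGroup E] [Module F E] [Module S E]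
    [IsScalarTower S F E] [Module.Finite F E] (𝔞 : Ideal S)
    (h𝔞 : ∀ P ∈ associatedPrimes F E, ¬ 𝔞 ≤ P.comap (algebraMap S F)) :
    ∃ s ∈ 𝔞, s ∈ nonZeroSMulDivisors S E := by
  classical
  have hfin : (associatedPrimes F E).Finite := associatedPrimes.finite F E
  have hnot : ¬ ((𝔞 : Set S) ⊆
      ⋃ p ∈ (hfin.toFinset : Set (Ideal F)), ((p.comap (algebraMap S F) : Ideal S) : Set S)) := by
    rw [Ideal.subset_union_prime (⊥ : Ideal F) ⊥ (fun p hp _ _ => by
      haveI : p.IsPrime := IsAssociatedPrime.isPrime ((hfin.mem_toFinset).mp hp)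
      exact Ideal.comap_isPrime _ _)]
    rintro ⟨p, hp, hle⟩
    exact h𝔞 p ((hfin.mem_toFinset).mp hp) hle
  obtain ⟨s, hs𝔞, hsU⟩ := Set.not_subset.mp hnot
  refine ⟨s, hs𝔞, ?_⟩
  rw [mem_nonZeroSMulDivisors_iff]
  intro e he
  by_contra hne
  apply hsU
  have hz : algebraMap S F s ∈ {r : F | ∃ x : E, x ≠ 0 ∧ r • x = 0} :=
    ⟨e, hne, by rw [algebraMap_smul]; exact he⟩
  rw [← biUnion_associatedPrimes_eq_zero_divisors F E] at hz
  simp only [Set.mem_iUnion] at hz
  obtain ⟨p, hp, hsp⟩ := hz
  simp only [Set.mem_iUnion]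
  exact ⟨p, Finset.mem_coe.mpr ((hfin.mem_toFinset).mpr hp), hsp⟩

/-- If `1 ⊗ x` dies in `S' ⊗_S (N ⊗_R Q')` then ... (the associativity bookkeeping). -/
theorem one_tmul_eq_zero_of_rTensor_mk_eq_zero {R S S' N Q' : Type*} [CommRing R] [CommRing S]
    [CommRing S'] [Algebra R S] [Algebra S S'] [Algebra R S'] [IsScalarTower R S S']
    [AddCommGroup N] [Module S N] [Module R N] [IsScalarTower R S N] [AddCommGroup Q']
    [Module R Q'] (x : N ⊗[R] Q')
    (hx : (((TensorProduct.mk S S' N 1).restrictScalars R).rTensor Q') x = 0) :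
    (1 : S') ⊗ₜ[S] x = 0 := by
  have key : ∀ w : N ⊗[R] Q', TensorProduct.AlgebraTensorModule.assoc R S S S' N Q'
      ((((TensorProduct.mk S S' N 1).restrictScalars R).rTensor Q') w) = (1 : S') ⊗ₜ[S] w := by
    intro w
    induction w using TensorProduct.induction_on with
    | zero => rw [map_zero, map_zero, TensorProduct.tmul_zero]
    | tmul n q => rfl
    | add a b ha hb => rw [map_add, map_add, ha, hb, TensorProduct.tmul_add]
  rw [← key, hx, map_zero]

/-- A regular element with flat quotient acts universally injectively. -/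
theorem lTensor_lsmul_injective_of_isSMulRegular {R L N : Type u} [CommRing R] [CommRing L]
    [Algebra R L] [AddCommGroup N] [Module L N] [Module R N] [IsScalarTower R L N] (a : L)
    (hreg : IsSMulRegular N a) [Module.Flat R (QuotSMulTop a N)] (Q' : Type u) [AddCommGroup Q']
    [Module R Q'] :
    Injective (((LinearMap.lsmul L N a).restrictScalars R).lTensor Q') := by
  refine lTensor_injective_of_exact_flat ((LinearMap.lsmul L N a).restrictScalars R)
    ((Submodule.mkQ (a • (⊤ : Submodule L N))).restrictScalars R) ?_ ?_ ?_ Q'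
  · exact hreg
  · exact Submodule.mkQ_surjective _
  · intro y
    simp only [LinearMap.coe_restrictScalars, Submodule.mkQ_apply,
      Submodule.Quotient.mk_eq_zero, Set.mem_range, LinearMap.lsmul_apply]
    rw [Submodule.mem_smul_pointwise_iff_exists]
    constructor
    · rintro ⟨b, -, hb⟩
      exact ⟨b, hb⟩
    · rintro ⟨b, hb⟩
      exact ⟨b, trivial, hb⟩

section Fiber

attribute [local instance] Algebra.TensorProduct.rightAlgebra

/-- A prime of the fibre ring `κ(p) ⊗ S` is the extension of its contraction to `S`. -/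
theorem fiber_map_comap_eq {R S : Type*} [CommRing R] [CommRing S] [Algebra R S] (p : Ideal R)
    [p.IsPrime] (P : Ideal (p.Fiber S)) :
    (P.comap (algebraMap S (p.Fiber S))).map (algebraMap S (p.Fiber S)) = P := by
  apply le_antisymm Ideal.map_comap_le
  intro x hx
  obtain ⟨r, hr, s, e⟩ := Ideal.Fiber.exists_smul_eq_one_tmul p x
  have hs : (1 : p.ResidueField) ⊗ₜ[R] s ∈ P := by
    rw [← e, Algebra.smul_def]
    exact P.mul_mem_left _ hx
  have hs' : s ∈ P.comap (algebraMap S (p.Fiber S)) := hs
  have hmem : algebraMap S (p.Fiber S) s ∈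
      (P.comap (algebraMap S (p.Fiber S))).map (algebraMap S (p.Fiber S)) :=
    Ideal.mem_map_of_mem _ hs'
  have hu : IsUnit (algebraMap R (p.Fiber S) r) := by
    rw [IsScalarTower.algebraMap_apply R p.ResidueField (p.Fiber S)]
    apply IsUnit.map
    rw [isUnit_iff_ne_zero, Ne, Ideal.algebraMap_residueField_eq_zero]
    exact hr
  obtain ⟨u, hu'⟩ := hu
  have hxe : x = (↑u⁻¹ : p.Fiber S) * (r • x) := by
    rw [Algebra.smul_def, ← hu', ← mul_assoc, Units.inv_mul, one_mul]
  rw [hxe, e]
  exact Ideal.mul_mem_left _ _ hmem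

/-- The slicing hypothesis at a prime `𝔫` from a fibrewise non-zero-divisor. -/
theorem hreg_of_nzd {R S : Type u} [CommRing R] [CommRing S] [Algebra R S] (𝔫 : Ideal S)
    [𝔫.IsPrime] (N : Type u) [AddCommGroup N] [Module S N] [Module R N] [IsScalarTower R S N]
    [Module.Flat R N] (s : S)
    (hs : s ∈ nonZeroSMulDivisors S ((𝔫.comap (algebraMap R S)).Fiber S ⊗[S] N))
    (n : LocalizedModule 𝔫.primeCompl N)
    (hn : s • n ∈ ((𝔫.comap (algebraMap R S)).map (algebraMap R (Localization.AtPrime 𝔫))) •
      (⊤ : Submodule (Localization.AtPrime 𝔫) (LocalizedModule 𝔫.primeCompl N))) :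
    n ∈ ((𝔫.comap (algebraMap R S)).map (algebraMap R (Localization.AtPrime 𝔫))) •
      (⊤ : Submodule (Localization.AtPrime 𝔫) (LocalizedModule 𝔫.primeCompl N)) := by
  have hloc : (((𝔫.comap (algebraMap R S)).map (algebraMap R (Localization.AtPrime 𝔫))) •
      (⊤ : Submodule (Localization.AtPrime 𝔫) (LocalizedModule 𝔫.primeCompl N))) =
      Submodule.localized 𝔫.primeCompl
        (((𝔫.comap (algebraMap R S)).map (algebraMap R S)) • (⊤ : Submodule S N)) := by
    rw [Submodule.localized, Submodule.localized'_smul, Ideal.localized'_eq_map,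
      Submodule.localized'_top, Ideal.map_map, ← IsScalarTower.algebraMap_eq]
  rw [hloc] at hn ⊢
  induction n using LocalizedModule.induction_on with
  | h m t =>
    rw [LocalizedModule.smul'_mk] at hn
    obtain ⟨m', hm', t', ht'⟩ := (Submodule.mem_localized' _ _ _ _ _).mp hn
    rw [← IsLocalizedModule.mk_eq_mk', LocalizedModule.mk_eq] at ht'
    obtain ⟨c, hc⟩ := ht'
    -- hc : c • t • m' = c • t' • (s • m)
    have h1 : s • (((c * t' : 𝔫.primeCompl) : S) • m) ∈
        ((𝔫.comap (algebraMap R S)).map (algebraMap R S)) • (⊤ : Submodule S N) := by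
      have : s • (((c * t' : 𝔫.primeCompl) : S) • m) = c • t • m' := by
        rw [hc, Submonoid.smul_def, Submonoid.smul_def, Submonoid.coe_mul, smul_smul, smul_smul,
          smul_smul]
        congr 1
        ring
      rw [this]
      exact Submodule.smul_mem _ _ (Submodule.smul_mem _ _ hm')
    have h2 := (fiber_one_tmul_eq_zero_iff (𝔫.comap (algebraMap R S)) N _).mpr h1
    have h3 : s • ((1 : (𝔫.comap (algebraMap R S)).Fiber S) ⊗ₜ[S]
        (((c * t' : 𝔫.primeCompl) : S) • m)) = 0 := by
      rw [← h2]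
      exact (TensorProduct.tmul_smul s _ _).symm
    have h4 := (mem_nonZeroSMulDivisors_iff.mp hs) _ h3
    have h5 := (fiber_one_tmul_eq_zero_iff (𝔫.comap (algebraMap R S)) N _).mp h4
    refine (Submodule.mem_localized' _ _ _ _ _).mpr
      ⟨((c * t' : 𝔫.primeCompl) : S) • m, h5, c * t' * t, ?_⟩
    rw [← IsLocalizedModule.mk_eq_mk', LocalizedModule.mk_eq]
    refine ⟨1, ?_⟩
    have e : ((c * t' * t : 𝔫.primeCompl) : S) = (t : S) * ((c * t' : 𝔫.primeCompl) : S) := by
      rw [Submonoid.coe_mul, mul_comm]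
    rw [one_smul, one_smul, Submonoid.smul_def, Submonoid.smul_def, e, smul_smul]

set_option maxHeartbeats 6400000 in
set_option synthInstance.maxHeartbeats 400000 in
theorem univInj_baseChange_global {R S S' : Type u} [CommRing R] [CommRing S] [CommRing S']
    [Algebra R S] [Algebra S S'] [Algebra R S'] [IsScalarTower R S S']
    [Algebra.FinitePresentation R S] [Module.Flat S S']
    (N : Type u) [AddCommGroup N] [Module S N] [Module R N] [IsScalarTower R S N]
    [Module.FinitePresentation S N] [Module.Flat R N]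
    (h : ∀ (p : Ideal R) (q : Ideal S) [p.IsPrime] [q.IsPrime] [q.LiesOver p],
      FlatCA.fiberIdeal p q ∈ associatedPrimes (p.Fiber S) (FlatCA.fiberMod p S N) →
      ∃ q' : Ideal S', q'.IsPrime ∧ q'.comap (algebraMap S S') = q) :
    FlatCA.UnivInj R ((TensorProduct.mk S S' N 1).restrictScalars R) := by
  classical
  intro Q' _ _
  rw [LinearMap.lTensor_inj_iff_rTensor_inj, injective_iff_map_eq_zero]
  intro x hx
  have h1 : (1 : S') ⊗ₜ[S] x = 0 := one_tmul_eq_zero_of_rTensor_mk_eq_zero x hx
  by_contra hx0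
  have h𝔞 : LinearMap.ker (LinearMap.toSpanSingleton S (N ⊗[R] Q') x) ≠ ⊤ := by
    intro htop
    apply hx0
    have h1mem : (1 : S) ∈ LinearMap.ker (LinearMap.toSpanSingleton S (N ⊗[R] Q') x) := by
      rw [htop]
      trivial
    have := LinearMap.mem_ker.mp h1mem
    rwa [LinearMap.toSpanSingleton_apply, one_smul] at this
  obtain ⟨𝔫, h𝔫max, h𝔞𝔫⟩ := Ideal.exists_le_maximal _ h𝔞
  haveI : 𝔫.IsPrime := h𝔫max.isPrime
  haveI : (𝔫.comap (algebraMap R S)).IsPrime := Ideal.comap_isPrime _ _
  haveI : IsNoetherianRing ((𝔫.comap (algebraMap R S)).Fiber S) :=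
    Algebra.EssFiniteType.isNoetherianRing (𝔫.comap (algebraMap R S)).ResidueField _
  obtain ⟨s, hs𝔞, hsnzd⟩ := exists_mem_nonZeroSMulDivisors_of_forall_not_le_comap (S := S)
    (F := (𝔫.comap (algebraMap R S)).Fiber S) (E := (𝔫.comap (algebraMap R S)).Fiber S ⊗[S] N)
    (LinearMap.ker (LinearMap.toSpanSingleton S (N ⊗[R] Q') x)) (fun P hP hle => by
      haveI : P.IsPrime := IsAssociatedPrime.isPrime hP
      haveI : (P.comap (algebraMap S ((𝔫.comap (algebraMap R S)).Fiber S))).IsPrime :=
        Ideal.comap_isPrime _ _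
      haveI : (P.comap (algebraMap S ((𝔫.comap (algebraMap R S)).Fiber S))).LiesOver
          (𝔫.comap (algebraMap R S)) :=
        inferInstanceAs ((P.under S).LiesOver (𝔫.comap (algebraMap R S)))
      have hfi : FlatCA.fiberIdeal (𝔫.comap (algebraMap R S))
          (P.comap (algebraMap S ((𝔫.comap (algebraMap R S)).Fiber S))) = P :=
        fiber_map_comap_eq (𝔫.comap (algebraMap R S)) P
      obtain ⟨q', hq', hqq'⟩ := h (𝔫.comap (algebraMap R S))
        (P.comap (algebraMap S ((𝔫.comap (algebraMap R S)).Fiber S))) (by rw [hfi]; exact hP)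
      haveI := hq'
      exact not_ker_toSpanSingleton_le_comap x h1 q' (hqq' ▸ hle))
  have hsx : s • x = 0 := by
    have := LinearMap.mem_ker.mp hs𝔞
    rwa [LinearMap.toSpanSingleton_apply] at this
  have hs𝔫 : s ∈ 𝔫 := h𝔞𝔫 hs𝔞
  -- slice at `𝔫`
  haveI : Module.Flat R (LocalizedModule 𝔫.primeCompl N) :=
    FL.flat_of_isLocalizedModule 𝔫.primeCompl (LocalizedModule.mkLinearMap 𝔫.primeCompl N)
  obtain ⟨hreg', hflat⟩ := MCPF.slice_mod 𝔫 (LocalizedModule.mkLinearMap 𝔫.primeCompl N) s hs𝔫
    (hreg_of_nzd 𝔫 N s hsnzd)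
  haveI := hflat
  have hUI := (LinearMap.lTensor_inj_iff_rTensor_inj _ _).mp
    (lTensor_lsmul_injective_of_isSMulRegular (R := R)
      (algebraMap S (Localization.AtPrime 𝔫) s) hreg' Q')
  -- the localization map on `N ⊗ Q'`
  haveI hlocT : IsLocalizedModule 𝔫.primeCompl
      (TensorProduct.AlgebraTensorModule.rTensor R Q'
        (LocalizedModule.mkLinearMap 𝔫.primeCompl N)) :=
    IsLocalizedModule.rTensor (R := R) (A := S) (S := 𝔫.primeCompl) (N := Q')
      (LocalizedModule.mkLinearMap 𝔫.primeCompl N)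
  have hcomm : ∀ w : N ⊗[R] Q',
      (((LinearMap.lsmul (Localization.AtPrime 𝔫) (LocalizedModule 𝔫.primeCompl N)
        (algebraMap S (Localization.AtPrime 𝔫) s)).restrictScalars R).rTensor Q')
        (TensorProduct.AlgebraTensorModule.rTensor R Q'
          (LocalizedModule.mkLinearMap 𝔫.primeCompl N) w) =
      TensorProduct.AlgebraTensorModule.rTensor R Q'
          (LocalizedModule.mkLinearMap 𝔫.primeCompl N) (s • w) := by
    intro w
    induction w using TensorProduct.induction_on with
    | zero => simp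
    | tmul n q =>
      rw [TensorProduct.smul_tmul', TensorProduct.AlgebraTensorModule.rTensor_tmul,
        TensorProduct.AlgebraTensorModule.rTensor_tmul, LinearMap.rTensor_tmul, map_smul]
      congr 1
      exact algebraMap_smul (Localization.AtPrime 𝔫) s
        (LocalizedModule.mkLinearMap 𝔫.primeCompl N n)
    | add a b ha hb => rw [map_add, map_add, ha, hb, smul_add, map_add]
  have hy : TensorProduct.AlgebraTensorModule.rTensor R Q'
      (LocalizedModule.mkLinearMap 𝔫.primeCompl N) x = 0 := by
    apply (injective_iff_map_eq_zero _).mp hUI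
    rw [hcomm, hsx, map_zero]
  obtain ⟨⟨t, ht⟩, htx⟩ := (IsLocalizedModule.eq_zero_iff 𝔫.primeCompl _).mp hy
  have htx' : t • x = 0 := htx
  exact ht (h𝔞𝔫 (by rw [LinearMap.mem_ker, LinearMap.toSpanSingleton_apply]; exact htx'))

end Fiber

end Groth.Agent.Helper21.EssFP
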