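import Mathlib

/-!
# Splitting algebras of monic polynomials and matching of primes

* `exists_splitting`: a monic polynomial of degree `d` over `R` splits into linear factors over a
  finite free `R`-algebra `R'` with `R → R'` injective (iterated `AdjoinRoot`).
* `exists_prime_tensorProduct`: a prime of `S ⊗[R] T` over two compatible primes.
* `exists_root_matching`: for a standard étale `R`-algebra `A₁` (presentation `Q`), `R'` an
  `R`-algebra over which `Q.f` splits with roots `α i`, and primes `𝔲` of `A₁`, `𝔱` of `R'` over the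
  same prime of `R`, some root `α i` has `g(α i) ∉ 𝔱` and every `R`-algebra map `A₁ → D`, `x ↦ α i`
  pulls every prime of `D` over `𝔱` back to `𝔲`.
-/

set_option autoImplicit false
universe u
open CategoryTheory CategoryTheory.Limits AlgebraicGeometry TensorProduct Polynomial

namespace Groth.Agent.Helper21.SplitAlg

theorem exists_splitting (d : ℕ) : ∀ (R : Type u) [CommRing R] (f : R[X]), f.Monic →
    f.natDegree = d →
    ∃ (R' : Type u) (_ : CommRing R') (_ : Algebra R R') (α : Fin d → R'),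
      Module.Finite R R' ∧ Module.Free R R' ∧ Function.Injective (algebraMap R R') ∧
      f.map (algebraMap R R') = ∏ i, (X - C (α i)) := by
  induction d with
  | zero =>
    intro R _ f hf hd
    refine ⟨R, inferInstance, inferInstance, Fin.elim0, inferInstance, inferInstance,
      fun _ _ h => h, ?_⟩
    have : f = 1 := hf.natDegree_eq_zero.mp hd
    simp [this]
  | succ d ih =>
    intro R _ f hf hd
    haveI : Nontrivial R := by
      by_contra h
      rw [not_nontrivial_iff_subsingleton] at h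
      have : f.natDegree = 0 := by rw [Subsingleton.elim f 0]; simp
      omega
    have hfin : Module.Finite R (AdjoinRoot f) := hf.finite_adjoinRoot
    have hfree : Module.Free R (AdjoinRoot f) := hf.free_adjoinRoot
    have hinj : Function.Injective (algebraMap R (AdjoinRoot f)) := by
      rw [injective_iff_map_eq_zero]
      intro a ha
      by_contra hne
      have h1 : f ∣ C a := AdjoinRoot.mk_eq_zero.mp ha
      exact hf.not_dvd_of_natDegree_lt (by simpa using hne) (by simp [hd]) h1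
    haveI : Nontrivial (AdjoinRoot f) := hinj.nontrivial
    obtain ⟨r, hr⟩ : ∃ r : AdjoinRoot f, r = AdjoinRoot.root f := ⟨_, rfl⟩
    have hroot : (f.map (algebraMap R (AdjoinRoot f))).IsRoot r := by
      rw [Polynomial.IsRoot, Polynomial.eval_map, hr]
      exact AdjoinRoot.eval₂_root f
    obtain ⟨f₁, hf₁⟩ : ∃ f₁, f₁ = (f.map (algebraMap R (AdjoinRoot f))) /ₘ (X - C r) := ⟨_, rfl⟩
    have hmul : (X - C r) * f₁ = f.map (algebraMap R (AdjoinRoot f)) := by
      rw [hf₁]; exact Polynomial.mul_divByMonic_eq_iff_isRoot.mpr hroot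
    have hmon₁ : f₁.Monic :=
      (Polynomial.monic_X_sub_C r).of_mul_monic_left (by rw [hmul]; exact hf.map _)
    have hdeg₁ : f₁.natDegree = d := by
      have := congrArg Polynomial.natDegree hmul
      rw [(Polynomial.monic_X_sub_C r).natDegree_mul hmon₁, Polynomial.natDegree_X_sub_C,
        hf.natDegree_map, hd] at this
      omega
    obtain ⟨R', _, _, α', hfin', hfree', hinj', hsplit'⟩ := ih (AdjoinRoot f) f₁ hmon₁ hdeg₁
    letI : Algebra R R' := ((algebraMap (AdjoinRoot f) R').comp (algebraMap R (AdjoinRoot f))).toAlgebra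
    haveI : IsScalarTower R (AdjoinRoot f) R' := IsScalarTower.of_algebraMap_eq (fun _ => rfl)
    refine ⟨R', inferInstance, inferInstance, Fin.cons (algebraMap (AdjoinRoot f) R' r) α',
      Module.Finite.trans (AdjoinRoot f) R', Module.Free.trans (S := AdjoinRoot f),
      hinj'.comp hinj, ?_⟩
    have h1 : f.map (algebraMap R R') =
        (f.map (algebraMap R (AdjoinRoot f))).map (algebraMap (AdjoinRoot f) R') := by
      rw [Polynomial.map_map]; rfl
    rw [h1, ← hmul, Polynomial.map_mul, hsplit', Fin.prod_univ_succ]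
    simp

section Prime

variable (R S T : Type u) [CommRing R] [CommRing S] [CommRing T] [Algebra R S] [Algebra R T]

/-- Points of `Spec (S ⊗[R] T)` with prescribed images in `Spec S` and `Spec T`
(copied from `Helper4.UOpen8`). -/
theorem exists_prime_tensorProduct (p : PrimeSpectrum S) (q : PrimeSpectrum T)
    (hpq : PrimeSpectrum.comap (algebraMap R S) p = PrimeSpectrum.comap (algebraMap R T) q) :
    ∃ P : PrimeSpectrum (S ⊗[R] T),
      PrimeSpectrum.comap (Algebra.TensorProduct.includeLeftRingHom : S →+* S ⊗[R] T) P = p ∧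
      PrimeSpectrum.comap
        (Algebra.TensorProduct.includeRight : T →ₐ[R] S ⊗[R] T).toRingHom P = q := by
  obtain ⟨z, hz₁, hz₂⟩ := Scheme.Pullback.exists_preimage_pullback
    (f := Spec.map (CommRingCat.ofHom (algebraMap R S)))
    (g := Spec.map (CommRingCat.ofHom (algebraMap R T))) p q hpq
  refine ⟨(pullbackSpecIso R S T).hom.base z, ?_, ?_⟩
  · have h := pullbackSpecIso_hom_fst R S T
    have h2 := congrArg (fun φ => φ.base z) h
    exact h2.trans hz₁
  · have h := pullbackSpecIso_hom_snd R S T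
    have h2 := congrArg (fun φ => φ.base z) h
    exact h2.trans hz₂

end Prime

theorem exists_root_matching {R A₁ R' : Type u} [CommRing R] [CommRing A₁] [CommRing R']
    [Algebra R A₁] [Algebra R R'] (Q : StandardEtalePresentation R A₁) {d : ℕ} (α : Fin d → R')
    (hα : Q.f.map (algebraMap R R') = ∏ i, (X - C (α i)))
    (𝔲 : PrimeSpectrum A₁) (𝔱 : PrimeSpectrum R')
    (h : PrimeSpectrum.comap (algebraMap R A₁) 𝔲 = PrimeSpectrum.comap (algebraMap R R') 𝔱) :
    ∃ i : Fin d, aeval (α i) Q.g ∉ 𝔱.asIdeal ∧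
      ∀ (D : Type u) [CommRing D] [Algebra R D] [Algebra R' D] [IsScalarTower R R' D]
        (L : A₁ →ₐ[R] D), L Q.x = algebraMap R' D (α i) → ∀ (𝔱' : PrimeSpectrum D),
        PrimeSpectrum.comap (algebraMap R' D) 𝔱' = 𝔱 →
        PrimeSpectrum.comap L.toRingHom 𝔱' = 𝔲 := by
  classical
  obtain ⟨𝔷, hz1, hz2⟩ := exists_prime_tensorProduct R A₁ R' 𝔲 𝔱 h
  -- membership translations
  have hL : ∀ y : A₁, y ∈ 𝔲.asIdeal ↔ (y ⊗ₜ[R] (1 : R')) ∈ 𝔷.asIdeal := by
    intro y
    rw [← hz1]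
    rfl
  have hR : ∀ y : R', y ∈ 𝔱.asIdeal ↔ ((1 : A₁) ⊗ₜ[R] y) ∈ 𝔷.asIdeal := by
    intro y
    rw [← hz2]
    rfl
  -- evaluation of polynomials
  have evL : ∀ p : R[X], aeval (Q.x ⊗ₜ[R] (1 : R')) p = (aeval Q.x p) ⊗ₜ[R] (1 : R') := by
    intro p
    exact (Polynomial.aeval_algHom_apply
      (Algebra.TensorProduct.includeLeft : A₁ →ₐ[R] A₁ ⊗[R] R') Q.x p)
  have evR : ∀ (p : R[X]) (c : R'), aeval ((1 : A₁) ⊗ₜ[R] c) p = (1 : A₁) ⊗ₜ[R] (aeval c p) := by
    intro p c
    exact (Polynomial.aeval_algHom_apply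
      (Algebra.TensorProduct.includeRight : R' →ₐ[R] A₁ ⊗[R] R') c p)
  have hdvd : ∀ (p : R[X]) (c : R'), (Q.x ⊗ₜ[R] (1 : R') - (1 : A₁) ⊗ₜ[R] c) ∣
      ((aeval Q.x p) ⊗ₜ[R] (1 : R') - (1 : A₁) ⊗ₜ[R] (aeval c p)) := by
    intro p c
    rw [← evL, ← evR, Polynomial.aeval_def, Polynomial.aeval_def, Polynomial.eval₂_eq_eval_map,
      Polynomial.eval₂_eq_eval_map]
    exact Polynomial.sub_dvd_eval_sub _ _ _
  -- the product vanishes
  have hprod : ∏ i, (Q.x ⊗ₜ[R] (1 : R') - (1 : A₁) ⊗ₜ[R] (α i)) = 0 := by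
    have h0 : aeval (Q.x ⊗ₜ[R] (1 : R')) Q.f = 0 := by
      rw [evL, Q.hasMap.1, TensorProduct.zero_tmul]
    have h1 : Q.f.map (algebraMap R (A₁ ⊗[R] R')) =
        (Q.f.map (algebraMap R R')).map
          (Algebra.TensorProduct.includeRight : R' →ₐ[R] A₁ ⊗[R] R').toRingHom := by
      rw [Polynomial.map_map]
      congr 1
      exact ((Algebra.TensorProduct.includeRight : R' →ₐ[R] A₁ ⊗[R] R').comp_algebraMap).symm
    rw [Polynomial.aeval_def, Polynomial.eval₂_eq_eval_map, h1, hα, Polynomial.map_prod,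
      Polynomial.eval_prod] at h0
    rw [← h0]
    refine Finset.prod_congr rfl (fun i _ => ?_)
    simp
  obtain ⟨i, -, hi⟩ := (Ideal.IsPrime.prod_mem_iff (p := 𝔷.asIdeal)).mp
    (hprod ▸ 𝔷.asIdeal.zero_mem : ∏ i ∈ Finset.univ,
      (Q.x ⊗ₜ[R] (1 : R') - (1 : A₁) ⊗ₜ[R] (α i)) ∈ 𝔷.asIdeal)
  have hE : ∀ p : R[X], aeval Q.x p ∈ 𝔲.asIdeal ↔ aeval (α i) p ∈ 𝔱.asIdeal := by
    intro p
    rw [hL, hR]
    have hmem : ((aeval Q.x p) ⊗ₜ[R] (1 : R') - (1 : A₁) ⊗ₜ[R] (aeval (α i) p)) ∈ 𝔷.asIdeal :=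
      Ideal.mem_of_dvd _ (hdvd p (α i)) hi
    constructor
    · intro h1
      have := 𝔷.asIdeal.sub_mem h1 hmem
      simpa using this
    · intro h1
      have := 𝔷.asIdeal.add_mem hmem h1
      simpa using this
  have hgu : aeval Q.x Q.g ∉ 𝔲.asIdeal := fun hmem =>
    𝔲.isPrime.ne_top (Ideal.eq_top_of_isUnit_mem _ hmem Q.hasMap.2)
  have hgt : aeval (α i) Q.g ∉ 𝔱.asIdeal := fun hmem => hgu ((hE _).mpr hmem)
  refine ⟨i, hgt, ?_⟩
  intro D _ _ _ _ L hLx 𝔱' h𝔱'
  have hD : ∀ y : R', algebraMap R' D y ∈ 𝔱'.asIdeal ↔ y ∈ 𝔱.asIdeal := by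
    intro y
    rw [← h𝔱']
    rfl
  have hLp : ∀ p : R[X], L (aeval Q.x p) = algebraMap R' D (aeval (α i) p) := by
    intro p
    rw [← Polynomial.aeval_algHom_apply, hLx, Polynomial.aeval_algebraMap_apply]
  apply PrimeSpectrum.ext
  ext y
  change L y ∈ 𝔱'.asIdeal ↔ y ∈ 𝔲.asIdeal
  obtain ⟨p, n, hy⟩ := Q.exists_mul_aeval_x_g_pow_eq_aeval_x y
  have h1 : L y ∈ 𝔱'.asIdeal ↔ L y * (L (aeval Q.x Q.g)) ^ n ∈ 𝔱'.asIdeal := by
    constructor
    · intro h; exact 𝔱'.asIdeal.mul_mem_right _ h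
    · intro h
      rcases 𝔱'.isPrime.mem_or_mem h with h | h
      · exact h
      · exfalso
        have := 𝔱'.isPrime.mem_of_pow_mem _ h
        rw [hLp, hD] at this
        exact hgt this
  have h2 : y ∈ 𝔲.asIdeal ↔ y * (aeval Q.x Q.g) ^ n ∈ 𝔲.asIdeal := by
    constructor
    · intro h; exact 𝔲.asIdeal.mul_mem_right _ h
    · intro h
      rcases 𝔲.isPrime.mem_or_mem h with h | h
      · exact h
      · exact absurd (𝔲.isPrime.mem_of_pow_mem _ h) hgu
  rw [h1, h2, hy, ← map_pow, ← map_mul, hy, hLp, hD, hE]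

end Groth.Agent.Helper21.SplitAlg
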