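import Mathlib
import Groth.Agent.Lib.Helper21.SplitAlg

/-!
# Étale neighbourhoods are dominated Zariski-locally by finite locally free covers

`main1390`: for `e : U ⟶ S` étale and `u ↦ s`, there are an affine open `V ∋ s` and a finite free
surjective `π : T ⟶ V` such that every point of `T` over `s` has an open neighbourhood mapping to `U`
over `S`, sending the point to `u`.  (`T` is the spectrum of a splitting algebra of the monic
polynomial of a standard étale presentation of `U` near `u`.)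
-/

set_option autoImplicit false
set_option backward.isDefEq.respectTransparency false
set_option backward.isDefEq.respectTransparency.types false
universe u
open CategoryTheory CategoryTheory.Limits AlgebraicGeometry TensorProduct Polynomial

namespace Groth.Agent.Helper21.EtDom

open Groth.Agent.Helper21.SplitAlg

/-- ring-level data near a point of an étale algebra: a standard étale localization. -/
theorem exists_standard {R A₀ : Type u} [CommRing R] [CommRing A₀] [Algebra R A₀]
    [Algebra.Etale R A₀] (𝔮 : PrimeSpectrum A₀) :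
    ∃ a : A₀, a ∉ 𝔮.asIdeal ∧ Nonempty (StandardEtalePresentation R (Localization.Away a)) := by
  haveI : Algebra.FormallyEtale A₀ (Localization.AtPrime 𝔮.asIdeal) :=
    .of_isLocalization 𝔮.asIdeal.primeCompl
  haveI : Algebra.IsEtaleAt R 𝔮.asIdeal := Algebra.FormallyEtale.comp R A₀ _
  obtain ⟨a, ha, hstd⟩ := Algebra.IsEtaleAt.exists_isStandardEtale (R := R) 𝔮.asIdeal
  exact ⟨a, ha, hstd.nonempty_standardEtalePresentation⟩

theorem hasMap_root {R R' D : Type u} [CommRing R] [CommRing R'] [CommRing D] [Algebra R R']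
    [Algebra R D] [Algebra R' D] [IsScalarTower R R' D]
    (P : StandardEtalePair R) {d : ℕ} (α : Fin d → R')
    (hα : P.f.map (algebraMap R R') = ∏ i, (X - C (α i))) (i : Fin d)
    (hunit : IsUnit (algebraMap R' D (aeval (α i) P.g))) :
    P.HasMap (algebraMap R' D (α i)) := by
  constructor
  · rw [Polynomial.aeval_algebraMap_apply]
    have : aeval (α i) P.f = 0 := by
      rw [Polynomial.aeval_def, Polynomial.eval₂_eq_eval_map, hα, Polynomial.eval_prod]
      exact Finset.prod_eq_zero (Finset.mem_univ i) (by simp)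
    rw [this, map_zero]
  · rw [Polynomial.aeval_algebraMap_apply]
    exact hunit

theorem main1390 {U S : Scheme.{u}} (e : U ⟶ S) [Etale e] (u : U) (s : S) (hu : e u = s) :
    ∃ (V : S.Opens) (T : Scheme.{u}) (π : T ⟶ (V : Scheme.{u})), s ∈ V ∧ IsAffineOpen V ∧
      Surjective π ∧ IsFinite π ∧ Flat π ∧ LocallyOfFinitePresentation π ∧
      ∀ t : T, V.ι (π t) = s → ∃ (W : T.Opens) (h : (W : Scheme.{u}) ⟶ U), t ∈ W ∧
        h ≫ e = W.ι ≫ π ≫ V.ι ∧ ∀ ht : t ∈ W, h ⟨t, ht⟩ = u := by
  subst hu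
  obtain ⟨V, hV, hsV⟩ : ∃ V : S.Opens, IsAffineOpen V ∧ e u ∈ V := by
    obtain ⟨V, hV, hsV, -⟩ := TopologicalSpace.Opens.isBasis_iff_nbhd.mp S.isBasis_affineOpens
      (TopologicalSpace.Opens.mem_top (e u))
    exact ⟨V, hV, hsV⟩
  obtain ⟨U₀, hU₀, huU₀, hU₀le⟩ : ∃ U₀ : U.Opens, IsAffineOpen U₀ ∧ u ∈ U₀ ∧ U₀ ≤ e ⁻¹ᵁ V := by
    obtain ⟨U₀, hU₀, huU₀, hU₀le⟩ := TopologicalSpace.Opens.isBasis_iff_nbhd.mp
      U.isBasis_affineOpens (show u ∈ e ⁻¹ᵁ V from hsV)
    exact ⟨U₀, hU₀, huU₀, hU₀le⟩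
  have hφ : (e.appLE V U₀ hU₀le).hom.Etale :=
    HasRingHomProperty.appLE @Etale e inferInstance ⟨V, hV⟩ ⟨U₀, hU₀⟩ hU₀le
  letI : Algebra Γ(S, V) Γ(U, U₀) := (e.appLE V U₀ hU₀le).hom.toAlgebra
  haveI : Algebra.Etale Γ(S, V) Γ(U, U₀) := hφ
  obtain ⟨𝔮, h𝔮⟩ : ∃ 𝔮 : PrimeSpectrum Γ(U, U₀), hU₀.fromSpec 𝔮 = u :=
    ⟨hU₀.primeIdealOf ⟨u, huU₀⟩, hU₀.fromSpec_primeIdealOf ⟨u, huU₀⟩⟩
  obtain ⟨a, ha, ⟨Q⟩⟩ := exists_standard (R := Γ(S, V)) 𝔮
  -- the prime of the localization
  obtain ⟨𝔲, h𝔲⟩ : ∃ 𝔲 : PrimeSpectrum (Localization.Away a),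
      PrimeSpectrum.comap (algebraMap Γ(U, U₀) (Localization.Away a)) 𝔲 = 𝔮 := by
    have : 𝔮 ∈ Set.range (PrimeSpectrum.comap (algebraMap Γ(U, U₀) (Localization.Away a))) := by
      rw [PrimeSpectrum.localization_away_comap_range (Localization.Away a) a]
      exact ha
    exact this
  -- the map `Spec A₁ ⟶ U`
  have hι₁e : (Spec.map (CommRingCat.ofHom (algebraMap Γ(U, U₀) (Localization.Away a))) ≫
      hU₀.fromSpec) ≫ e =
      Spec.map (CommRingCat.ofHom (algebraMap Γ(S, V) (Localization.Away a))) ≫ hV.fromSpec := by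
    rw [Category.assoc, ← IsAffineOpen.SpecMap_appLE_fromSpec e hV hU₀ hU₀le, ← Spec.map_comp_assoc]
    congr 2
  have hι₁u : (Spec.map (CommRingCat.ofHom (algebraMap Γ(U, U₀) (Localization.Away a))) ≫
      hU₀.fromSpec) 𝔲 = u := by
    rw [Scheme.Hom.comp_apply]
    exact (congrArg (fun z => hU₀.fromSpec z) h𝔲).trans h𝔮
  -- the splitting algebra
  obtain ⟨R', _, _, α, hfin, hfree, hinj, hsplit⟩ :=
    exists_splitting Q.f.natDegree Γ(S, V) Q.f Q.monic_f rfl
  have hπι : (Spec.map (CommRingCat.ofHom (algebraMap Γ(S, V) R')) ≫ hV.isoSpec.inv) ≫ V.ι =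
      Spec.map (CommRingCat.ofHom (algebraMap Γ(S, V) R')) ≫ hV.fromSpec := by
    rw [Category.assoc]; rfl
  haveI hfinite : IsFinite (Spec.map (CommRingCat.ofHom (algebraMap Γ(S, V) R'))) := by
    rw [IsFinite.SpecMap_iff]
    exact RingHom.finite_algebraMap.mpr hfin
  haveI hflat : Flat (Spec.map (CommRingCat.ofHom (algebraMap Γ(S, V) R'))) := by
    rw [HasRingHomProperty.Spec_iff (P := @Flat)]
    exact RingHom.flat_algebraMap_iff.mpr inferInstance
  haveI hlfp : LocallyOfFinitePresentation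
      (Spec.map (CommRingCat.ofHom (algebraMap Γ(S, V) R'))) := by
    rw [HasRingHomProperty.Spec_iff (P := @LocallyOfFinitePresentation)]
    haveI : Module.FinitePresentation Γ(S, V) R' := Module.finitePresentation_of_projective _ _
    have hfp : Algebra.FinitePresentation Γ(S, V) R' := inferInstance
    exact RingHom.finitePresentation_algebraMap.mpr hfp
  haveI hsurj : Surjective (Spec.map (CommRingCat.ofHom (algebraMap Γ(S, V) R'))) := by
    refine ⟨fun 𝔭 => ?_⟩
    haveI : Algebra.IsIntegral Γ(S, V) R' := Algebra.IsIntegral.of_finite _ _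
    have hker : RingHom.ker (algebraMap Γ(S, V) R') = ⊥ :=
      (RingHom.injective_iff_ker_eq_bot _).mp hinj
    have hle : (⊥ : Ideal R').comap (algebraMap Γ(S, V) R') ≤ 𝔭.asIdeal := by
      change RingHom.ker (algebraMap Γ(S, V) R') ≤ _
      rw [hker]; exact bot_le
    obtain ⟨𝔓, -, h𝔓, h𝔓'⟩ := Ideal.exists_ideal_over_prime_of_isIntegral
      (R := Γ(S, V)) (S := R') 𝔭.asIdeal ⊥ hle
    exact ⟨⟨𝔓, h𝔓⟩, PrimeSpectrum.ext h𝔓'⟩
  refine ⟨V, Spec (.of R'), Spec.map (CommRingCat.ofHom (algebraMap Γ(S, V) R')) ≫ hV.isoSpec.inv,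
    hsV, hV, inferInstance, inferInstance, inferInstance, inferInstance, ?_⟩
  intro t ht
  -- compatibility of the primes
  have hcompat : PrimeSpectrum.comap (algebraMap Γ(S, V) (Localization.Away a)) 𝔲 =
      PrimeSpectrum.comap (algebraMap Γ(S, V) R') t := by
    apply hV.fromSpec.isOpenEmbedding.injective
    have h1 : hV.fromSpec (PrimeSpectrum.comap (algebraMap Γ(S, V) (Localization.Away a)) 𝔲) =
        e u := by
      have := congrArg (fun f => f 𝔲) hι₁e
      simp only [Scheme.Hom.comp_apply] at this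
      rw [← hι₁u]
      exact this.symm
    have h2 : hV.fromSpec (PrimeSpectrum.comap (algebraMap Γ(S, V) R') t) = e u := by
      have := congrArg (fun f => f t) hπι
      simp only [Scheme.Hom.comp_apply] at this
      rw [← ht]
      exact this.symm
    exact h1.trans h2.symm
  obtain ⟨i, hgt, hmatch⟩ := exists_root_matching Q α hsplit 𝔲 t hcompat
  obtain ⟨b, hb⟩ : ∃ b : R', b = aeval (α i) Q.g := ⟨_, rfl⟩
  rw [← hb] at hgt
  have hHM : Q.P.HasMap (algebraMap R' (Localization.Away b) (α i)) :=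
    hasMap_root Q.P α hsplit i (by rw [← hb]; exact IsLocalization.Away.algebraMap_isUnit b)
  obtain ⟨L, hLx⟩ : ∃ L : Localization.Away a →ₐ[Γ(S, V)] Localization.Away b,
      L Q.x = algebraMap R' (Localization.Away b) (α i) :=
    ⟨(Q.P.lift _ hHM).comp Q.equivRing.toAlgHom, by
      simp [StandardEtalePair.lift_X]⟩
  have hLalg : CommRingCat.ofHom (algebraMap Γ(S, V) (Localization.Away a)) ≫
      CommRingCat.ofHom L.toRingHom =
      CommRingCat.ofHom (algebraMap Γ(S, V) R') ≫
        CommRingCat.ofHom (algebraMap R' (Localization.Away b)) := by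
    ext x
    change L (algebraMap _ _ x) = algebraMap R' _ (algebraMap _ R' x)
    rw [L.commutes, ← IsScalarTower.algebraMap_apply]
  refine ⟨(Spec.map (CommRingCat.ofHom (algebraMap R' (Localization.Away b)))).opensRange,
    (Spec.map (CommRingCat.ofHom (algebraMap R' (Localization.Away b)))).isoOpensRange.inv ≫
      Spec.map (CommRingCat.ofHom L.toRingHom) ≫
      (Spec.map (CommRingCat.ofHom (algebraMap Γ(U, U₀) (Localization.Away a))) ≫ hU₀.fromSpec),
    ?_, ?_, ?_⟩
  · change t ∈ Set.range _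
    have : t ∈ Set.range (PrimeSpectrum.comap (algebraMap R' (Localization.Away b))) := by
      rw [PrimeSpectrum.localization_away_comap_range (Localization.Away b) b]
      exact hgt
    exact this
  · rw [Category.assoc, Category.assoc, hι₁e, ← Spec.map_comp_assoc, hLalg, Spec.map_comp_assoc,
      Scheme.Hom.isoOpensRange_inv_comp_assoc, ← hπι, Category.assoc]
  · intro htW
    obtain ⟨w, hw⟩ : ∃ w : Spec (.of (Localization.Away b)),
        w = (Spec.map (CommRingCat.ofHom (algebraMap R' (Localization.Away b)))).isoOpensRange.inv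
          ⟨t, htW⟩ := ⟨_, rfl⟩
    have hw' : PrimeSpectrum.comap (algebraMap R' (Localization.Away b)) w = t := by
      have h1 := congrArg (fun f => f ⟨t, htW⟩)
        (Scheme.Hom.isoOpensRange_inv_comp
          (Spec.map (CommRingCat.ofHom (algebraMap R' (Localization.Away b)))))
      simp only [Scheme.Hom.comp_apply] at h1
      rw [← hw] at h1
      exact h1
    have hm := hmatch (Localization.Away b) L hLx w hw'
    rw [Scheme.Hom.comp_apply, Scheme.Hom.comp_apply, ← hw]
    have : (Spec.map (CommRingCat.ofHom L.toRingHom)) w = 𝔲 := hm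
    rw [this]
    exact hι₁u

end Groth.Agent.Helper21.EtDom
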