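import Mathlib
import Groth.Prelude.Def_SGA1

/-!
# fpqc morphisms are universally submersive (helper21)
-/

set_option autoImplicit false

open CategoryTheory CategoryTheory.Limits AlgebraicGeometry

universe u

namespace Groth.Agent.Helper21.EtFpqc

/-- Faithfully flat quasi-compact morphisms are universally submersive. -/
theorem univSubmersive_of_fpqc {X Y : Scheme.{u}} (p : X ⟶ Y) [Flat p] [Surjective p]
    [QuasiCompact p] : SGA1.UnivSubmersive p := by
  intro X' Y' i₁ i₂ f' h
  have h1 : Flat f' := MorphismProperty.of_isPullback h.flip inferInstance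
  have h2 : Surjective f' := MorphismProperty.of_isPullback h.flip inferInstance
  have h3 : QuasiCompact f' := MorphismProperty.of_isPullback h.flip inferInstance
  exact Flat.isQuotientMap_of_surjective f'

/-- Base change of a universally submersive morphism. -/
theorem univSubmersive_snd {S S' S₁ : Scheme.{u}} (g : S' ⟶ S) (hg : SGA1.UnivSubmersive g)
    (p : S₁ ⟶ S) : SGA1.UnivSubmersive (pullback.snd g p) := by
  intro X' Y' i₁ i₂ f' h
  have h1 : IsPullback f' (i₁ ≫ pullback.fst g p) (i₂ ≫ p) g :=
    h.paste_vert (IsPullback.of_hasPullback g p).flip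
  exact hg _ _ _ h1

end Groth.Agent.Helper21.EtFpqc
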