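import Mathlib
import Groth.Agent.Lib.Helper21.DescFF
import Groth.Agent.Lib.Helper21.DescOpen
import Groth.Agent.Lib.Helper21.DescEt2

/-!
# Partial cones with étale vertex of a descent datum relative to a universally submersive morphism (helper21)
-/

set_option autoImplicit false
set_option backward.isDefEq.respectTransparency false
set_option backward.isDefEq.respectTransparency.types false
set_option linter.style.haveILetI false
set_option linter.unusedSectionVars false

open CategoryTheory CategoryTheory.Limits AlgebraicGeometry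

universe u

namespace Groth.Agent.Helper21.EtLoc

open Desc Groth.Agent.Helper21.DescA Groth.Agent.Helper21.DescFF Groth.Agent.Helper21.DescOpen

/-- Gluing morphisms to an étale target along a base change of a universally submersive
morphism. -/
theorem glue_subm {S X T Y Z : Scheme.{u}} (g : X ⟶ S) (hg : SGA1.UnivSubmersive g) (p : T ⟶ S)
    (π : Y ⟶ T) (s : Y ⟶ X) (hpb : IsPullback π s p g) (q : Z ⟶ S) [Etale q] (G : Y ⟶ Z)
    (hGq : G ≫ q = π ≫ p)
    (hc : ∀ (T' : Scheme.{u}) (a b : T' ⟶ Y), a ≫ π = b ≫ π → a ≫ G = b ≫ G) :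
    ∃! t : T ⟶ Z, t ≫ q = p ∧ π ≫ t = G := by
  have e1 : hpb.isoPullback.inv ≫ π = pullback.fst p g := hpb.isoPullback_inv_fst
  have e2 : hpb.isoPullback.inv ≫ s = pullback.snd p g := hpb.isoPullback_inv_snd
  have hcond : (hpb.isoPullback.inv ≫ G) ≫ q = pullback.snd p g ≫ g := by
    rw [Category.assoc, hGq, ← Category.assoc, e1, pullback.condition]
  have hA₁ : pullback.fst p (pullback.fst g g ≫ g) ≫ p =
      (pullback.snd p (pullback.fst g g ≫ g) ≫ pullback.fst g g) ≫ g := by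
    rw [Category.assoc]; exact pullback.condition
  have hA₂ : pullback.fst p (pullback.fst g g ≫ g) ≫ p =
      (pullback.snd p (pullback.fst g g ≫ g) ≫ pullback.snd g g) ≫ g := by
    rw [Category.assoc, ← pullback.condition (f := g) (g := g)]; exact pullback.condition
  obtain ⟨u, ⟨hu1, hu2⟩, huu⟩ := Groth.Agent.Helper21.DescEt.desc_etale g hg p q
    (pullback.lift (hpb.isoPullback.inv ≫ G) (pullback.snd p g) hcond) (pullback.lift_snd _ _ _)
    (pullback.lift _ _ hA₁) (pullback.lift _ _ hA₂)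
    (pullback.lift_fst _ _ _) (pullback.lift_snd _ _ _)
    (pullback.lift_fst _ _ _) (pullback.lift_snd _ _ _)
    (by
      rw [pullback.lift_fst]
      simp only [← Category.assoc]
      apply hc
      simp only [Category.assoc, e1, pullback.lift_fst])
  rw [pullback.lift_fst] at hu2
  have hu2' : π ≫ u = G := by
    rw [← cancel_epi hpb.isoPullback.inv, ← Category.assoc, e1, hu2]
  refine ⟨u, ⟨hu1, hu2'⟩, fun t ht => huu t ⟨ht.1, ?_⟩⟩
  rw [pullback.lift_fst, ← e1, Category.assoc, ht.2]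

variable {S : Scheme.{u}} {ι : Type} [Unique ι] {X : ι → Scheme.{u}} {f : ∀ i, X i ⟶ S}


/-- A partial cone of a descent datum: open subschemes `Y i` of the `V i`, stable under the
gluing bijections, together with a scheme `U` over `S` and invariant cartesian maps `Y i ⟶ U`. -/
structure PCone (D : SchDDFam f) where
  /-- the open pieces -/
  Y : ι → Scheme.{u}
  /-- the inclusions -/
  j : ∀ i, Y i ⟶ (D.obj i).left
  hj : ∀ i, IsOpenImmersion (j i)
  /-- the descended scheme -/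
  U : Over S
  et : Etale U.hom
  /-- the projections -/
  π : ∀ i, Y i ⟶ U.left
  isPullback : ∀ i, IsPullback (j i ≫ (D.obj i).hom) (π i) (f i) U.hom
  rel : ∀ ⦃T : Scheme.{u}⦄ ⦃i k : ι⦄ (x₀ : T ⟶ X i) (x₁ : T ⟶ X k) (h : x₀ ≫ f i = x₁ ≫ f k)
    (v : Lifts (D.obj i) x₀) (y : T ⟶ Y i), y ≫ j i = v.1 →
    ∃ y' : T ⟶ Y k, y' ≫ j k = (D.φ x₀ x₁ h v).1 ∧ y' ≫ π k = y ≫ π i

namespace PCone

variable {D : SchDDFam f}

instance (E : PCone D) (i : ι) : IsOpenImmersion (E.j i) := E.hj i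

instance (E : PCone D) : Etale E.U.hom := E.et

/-- A cone is a partial cone. -/
noncomputable def ofCone (c : Cone D) (hc : Etale c.U.hom) : PCone D where
  Y i := (D.obj i).left
  j i := 𝟙 _
  hj i := inferInstance
  U := c.U
  et := hc
  π := c.π
  isPullback i := by rw [Category.id_comp]; exact c.isPullback i
  rel T i k x₀ x₁ h v y hy := by
    rw [Category.comp_id] at hy
    subst hy
    exact ⟨(D.φ x₀ x₁ h v).1, Category.comp_id _, c.inv x₀ x₁ h v⟩

/-- An open sub-datum with a cone is a partial cone. -/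
noncomputable def ofSub {D' : SchDDFam f} (j : D' ⟶ D)
    (hj : ∀ i, IsOpenImmersion (j.hom i).left) (c : Cone D') (hc : Etale c.U.hom) : PCone D where
  Y i := (D'.obj i).left
  j i := (j.hom i).left
  hj := hj
  U := c.U
  et := hc
  π := c.π
  isPullback i := by rw [Over.w (j.hom i)]; exact c.isPullback i
  rel T i k x₀ x₁ h v y hy := by
    have hv : v.1 ≫ (D.obj i).hom = x₀ := v.2
    have hy' : y ≫ (D'.obj i).hom = x₀ := by
      rw [← Over.w (j.hom i), ← Category.assoc, hy, hv]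
    exact ⟨(D'.φ x₀ x₁ h ⟨y, hy'⟩).1, (j.comm x₀ x₁ h ⟨y, hy'⟩ v hy.symm).symm,
      c.inv x₀ x₁ h ⟨y, hy'⟩⟩

variable (E : PCone D)

theorem quot (hf : ∀ i, SGA1.UnivSubmersive (f i)) (i : ι) :
    Topology.IsQuotientMap (E.π i).base :=
  hf i _ _ _ (E.isPullback i).flip

theorem cond_of_π_eq {T : Scheme.{u}} {i k : ι} (a : T ⟶ E.Y i) (b : T ⟶ E.Y k)
    (h : a ≫ E.π i = b ≫ E.π k) :
    (a ≫ E.j i ≫ (D.obj i).hom) ≫ f i = (b ≫ E.j k ≫ (D.obj k).hom) ≫ f k := by
  have e1 := (E.isPullback i).w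
  have e2 := (E.isPullback k).w
  simp only [Category.assoc] at e1 e2 ⊢
  rw [e1, e2, ← Category.assoc, h, Category.assoc]

theorem rel_of_π_eq {T : Scheme.{u}} {i k : ι} (a : T ⟶ E.Y i) (b : T ⟶ E.Y k)
    (h : a ≫ E.π i = b ≫ E.π k) :
    b ≫ E.j k = (D.φ (a ≫ E.j i ≫ (D.obj i).hom) (b ≫ E.j k ≫ (D.obj k).hom)
      (E.cond_of_π_eq a b h) ⟨a ≫ E.j i, Category.assoc _ _ _⟩).1 := by
  obtain ⟨y', hy1, hy2⟩ := E.rel _ _ (E.cond_of_π_eq a b h)
    ⟨a ≫ E.j i, Category.assoc _ _ _⟩ a rfl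
  have hyb : y' = b := by
    apply (E.isPullback k).hom_ext
    · rw [← Category.assoc, hy1]
      exact (D.φ _ _ _ _).2
    · rw [hy2, h]
  rw [← hy1, hyb]

theorem π_eq_of_rel {T : Scheme.{u}} {i k : ι} (a : T ⟶ E.Y i) (b : T ⟶ E.Y k)
    (x₀ : T ⟶ X i) (x₁ : T ⟶ X k) (h : x₀ ≫ f i = x₁ ≫ f k) (v : Lifts (D.obj i) x₀)
    (hv : a ≫ E.j i = v.1) (hb : b ≫ E.j k = (D.φ x₀ x₁ h v).1) :
    a ≫ E.π i = b ≫ E.π k := by
  obtain ⟨y', hy1, hy2⟩ := E.rel x₀ x₁ h v a hv
  have hyb : y' = b := by rw [← cancel_mono (E.j k), hy1, hb]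
  rw [← hy2, hyb]

theorem range_stable {T : Scheme.{u}} {i k : ι} (x₀ : T ⟶ X i) (x₁ : T ⟶ X k)
    (h : x₀ ≫ f i = x₁ ≫ f k) (v : Lifts (D.obj i) x₀)
    (hv : Set.range v.1.base ⊆ Set.range (E.j i).base) :
    Set.range (D.φ x₀ x₁ h v).1.base ⊆ Set.range (E.j k).base := by
  obtain ⟨y', hy1, -⟩ := E.rel x₀ x₁ h v (IsOpenImmersion.lift (E.j i) v.1 hv)
    (IsOpenImmersion.lift_fac _ _ _)
  rw [← hy1]
  rintro _ ⟨t, rfl⟩
  exact ⟨y'.base t, by rw [Scheme.Hom.comp_apply]⟩

section tmap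

variable (hf : ∀ i, SGA1.UnivSubmersive (f i)) (E' : PCone D)
  (hle : ∀ i, Set.range (E.j i).base ⊆ Set.range (E'.j i).base)

/-- The inclusion of the pieces of a smaller partial cone. -/
noncomputable def incl (i : ι) : E.Y i ⟶ E'.Y i := IsOpenImmersion.lift (E'.j i) (E.j i) (hle i)

@[reassoc (attr := simp)]
theorem incl_j (i : ι) : incl E E' hle i ≫ E'.j i = E.j i := IsOpenImmersion.lift_fac _ _ _

theorem incl_π_hom (i : ι) :
    (incl E E' hle i ≫ E'.π i) ≫ E'.U.hom = E.π i ≫ E.U.hom := by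
  have e1 := (E.isPullback i).w
  have e2 := (E'.isPullback i).w
  rw [Category.assoc, ← e1, ← e2, Category.assoc, Category.assoc, incl_j_assoc]

include hf in
theorem exists_tmap : ∃! t : E.U.left ⟶ E'.U.left,
    t ≫ E'.U.hom = E.U.hom ∧ ∀ i, E.π i ≫ t = incl E E' hle i ≫ E'.π i := by
  obtain ⟨t, ⟨ht1, ht2⟩, htu⟩ := glue_subm (f default) (hf default) E.U.hom (E.π default) _
    (E.isPullback default).flip E'.U.hom (incl E E' hle default ≫ E'.π default)
    (incl_π_hom E E' hle default)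
    (fun T a b hab => by
      have h1 := E.rel_of_π_eq a b hab
      have := E'.π_eq_of_rel (a ≫ incl E E' hle default) (b ≫ incl E E' hle default) _ _
        (E.cond_of_π_eq a b hab) ⟨a ≫ E.j default, Category.assoc _ _ _⟩
        (by rw [Category.assoc, incl_j]) (by rw [Category.assoc, incl_j]; exact h1)
      simpa only [Category.assoc] using this)
  refine ⟨t, ⟨ht1, fun i => ?_⟩, fun t' ht' => htu t' ⟨ht'.1, ht'.2 default⟩⟩
  obtain rfl := Unique.eq_default i
  exact ht2

/-- The comparison map between the vertices of two partial cones. -/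
noncomputable def tmap : E.U.left ⟶ E'.U.left := (exists_tmap E hf E' hle).exists.choose

@[reassoc]
theorem π_tmap (i : ι) : E.π i ≫ tmap E hf E' hle = incl E E' hle i ≫ E'.π i :=
  (exists_tmap E hf E' hle).exists.choose_spec.2 i

@[reassoc]
theorem tmap_hom : tmap E hf E' hle ≫ E'.U.hom = E.U.hom :=
  (exists_tmap E hf E' hle).exists.choose_spec.1

theorem tmap_uniq (t : E.U.left ⟶ E'.U.left) (ht0 : t ≫ E'.U.hom = E.U.hom)
    (ht : ∀ i, E.π i ≫ t = incl E E' hle i ≫ E'.π i) : t = tmap E hf E' hle :=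
  (exists_tmap E hf E' hle).unique ⟨ht0, ht⟩
    ⟨tmap_hom E hf E' hle, fun i => π_tmap E hf E' hle i⟩

end tmap

section functoriality

variable (hf : ∀ i, SGA1.UnivSubmersive (f i))

theorem tmap_id (hle : ∀ i, Set.range (E.j i).base ⊆ Set.range (E.j i).base) :
    tmap E hf E hle = 𝟙 _ := by
  symm
  apply tmap_uniq
  · rw [Category.id_comp]
  intro i
  have : incl E E hle i = 𝟙 _ := by rw [← cancel_mono (E.j i), incl_j, Category.id_comp]
  rw [this, Category.comp_id, Category.id_comp]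

theorem tmap_comp (E' E'' : PCone D)
    (h1 : ∀ i, Set.range (E.j i).base ⊆ Set.range (E'.j i).base)
    (h2 : ∀ i, Set.range (E'.j i).base ⊆ Set.range (E''.j i).base)
    (h3 : ∀ i, Set.range (E.j i).base ⊆ Set.range (E''.j i).base) :
    tmap E hf E' h1 ≫ tmap E' hf E'' h2 = tmap E hf E'' h3 := by
  apply tmap_uniq
  · rw [Category.assoc, tmap_hom, tmap_hom]
  intro i
  have : incl E E' h1 i ≫ incl E' E'' h2 i = incl E E'' h3 i := by
    rw [← cancel_mono (E''.j i), Category.assoc, incl_j, incl_j, incl_j]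
  rw [π_tmap_assoc, π_tmap, ← Category.assoc, this]

theorem isIso_tmap (E' : PCone D)
    (h1 : ∀ i, Set.range (E.j i).base ⊆ Set.range (E'.j i).base)
    (h2 : ∀ i, Set.range (E'.j i).base ⊆ Set.range (E.j i).base) :
    IsIso (tmap E hf E' h1) :=
  ⟨tmap E' hf E h2, by rw [tmap_comp, tmap_id]; exact fun i => le_rfl,
    by rw [tmap_comp, tmap_id]; exact fun i => le_rfl⟩

end functoriality

section opens

variable (hf : ∀ i, SGA1.UnivSubmersive (f i))

include hf in
/-- A stable family of opens of the `V i` descends to an open of the vertex of a partial cone. -/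
theorem exists_opens (Z : ∀ i, (D.obj i).left.Opens)
    (hZ : ∀ ⦃T : Scheme.{u}⦄ ⦃i k : ι⦄ (x₀ : T ⟶ X i) (x₁ : T ⟶ X k) (h : x₀ ≫ f i = x₁ ≫ f k)
      (v : Lifts (D.obj i) x₀), Set.range v.1.base ⊆ (Z i : Set (D.obj i).left) →
      Set.range (D.φ x₀ x₁ h v).1.base ⊆ (Z k : Set (D.obj k).left)) :
    ∃ W : E.U.left.Opens, ∀ i, (E.π i).base ⁻¹' (W : Set E.U.left) =
      (E.j i).base ⁻¹' (Z i : Set (D.obj i).left) := by
  let A : Set E.U.left := ⋃ i, (E.π i).base '' ((E.j i).base ⁻¹' (Z i : Set (D.obj i).left))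
  have key : ∀ k, (E.π k).base ⁻¹' A = (E.j k).base ⁻¹' (Z k : Set (D.obj k).left) := by
    intro k
    apply Set.Subset.antisymm
    · intro z hz
      obtain ⟨i, y, hy, hyz⟩ : ∃ i y, y ∈ (E.j i).base ⁻¹' (Z i : Set (D.obj i).left) ∧
          (E.π i).base y = (E.π k).base z := by
        obtain ⟨i, hi⟩ := Set.mem_iUnion.mp hz
        obtain ⟨y, hy, hyz⟩ := hi
        exact ⟨i, y, hy, hyz⟩
      obtain ⟨τ, hτ1, hτ2⟩ := Scheme.Pullback.exists_preimage_pullback
        (f := E.π i) (g := E.π k) y z hyz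
      let O : (pullback (E.π i) (E.π k)).Opens :=
        (pullback.fst (E.π i) (E.π k) ≫ E.j i) ⁻¹ᵁ (Z i)
      have hτO : τ ∈ O := by
        change (pullback.fst (E.π i) (E.π k) ≫ E.j i).base τ ∈ (Z i : Set (D.obj i).left)
        rw [Scheme.Hom.comp_apply, hτ1]
        exact hy
      obtain ⟨t, ht⟩ : ∃ t : (O : Scheme.{u}), O.ι.base t = τ := by
        have : τ ∈ Set.range O.ι.base := by rw [Scheme.Opens.range_ι]; exact hτO
        exact this
      have hab : (O.ι ≫ pullback.fst (E.π i) (E.π k)) ≫ E.π i =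
          (O.ι ≫ pullback.snd (E.π i) (E.π k)) ≫ E.π k := by
        rw [Category.assoc, Category.assoc, pullback.condition]
      have h1 := E.rel_of_π_eq _ _ hab
      have hr : Set.range ((O.ι ≫ pullback.fst (E.π i) (E.π k)) ≫ E.j i).base ⊆
          (Z i : Set (D.obj i).left) := by
        rintro _ ⟨s, rfl⟩
        have hs : O.ι.base s ∈ O := by
          have : O.ι.base s ∈ Set.range O.ι.base := ⟨s, rfl⟩
          rw [Scheme.Opens.range_ι] at this
          exact this
        rw [Category.assoc, Scheme.Hom.comp_apply]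
        exact hs
      have h2 := hZ _ _ (E.cond_of_π_eq _ _ hab)
        ⟨(O.ι ≫ pullback.fst (E.π i) (E.π k)) ≫ E.j i, Category.assoc _ _ _⟩ hr
      rw [← h1] at h2
      have h3 : ((O.ι ≫ pullback.snd (E.π i) (E.π k)) ≫ E.j k).base t ∈
          (Z k : Set (D.obj k).left) := h2 ⟨t, rfl⟩
      rw [Scheme.Hom.comp_apply, Scheme.Hom.comp_apply, ht, hτ2] at h3
      exact h3
    · intro z hz
      exact Set.mem_iUnion.mpr ⟨k, z, hz, rfl⟩
  have hA : IsOpen A := (E.quot hf default).isOpen_preimage.mp (by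
    rw [key]; exact (Z default).2.preimage (E.j default).continuous)
  exact ⟨⟨A, hA⟩, key⟩

/-- The restriction of a partial cone to an open of its vertex. -/
noncomputable def ofOpen (W : E.U.left.Opens) : PCone D where
  Y i := ((E.π i) ⁻¹ᵁ W : (E.Y i).Opens)
  j i := ((E.π i) ⁻¹ᵁ W).ι ≫ E.j i
  hj i := inferInstance
  U := Over.mk (W.ι ≫ E.U.hom)
  et := by change Etale (W.ι ≫ E.U.hom); infer_instance
  π i := E.π i ∣_ W
  isPullback i := by
    have h1 := (isPullback_morphismRestrict (E.π i) W).flip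
    have h2 := h1.paste_horiz (E.isPullback i)
    rw [← Category.assoc] at h2
    exact h2
  rel T i k x₀ x₁ h v y hy := by
    obtain ⟨y', hy1, hy2⟩ := E.rel x₀ x₁ h v (y ≫ ((E.π i) ⁻¹ᵁ W).ι)
      (by rw [Category.assoc]; exact hy)
    refine ⟨(isPullback_morphismRestrict (E.π k) W).lift (y ≫ (E.π i ∣_ W)) y' ?_, ?_, ?_⟩
    · rw [Category.assoc, morphismRestrict_ι, hy2, Category.assoc]
    · rw [← Category.assoc, IsPullback.lift_snd, hy1]
    · rw [IsPullback.lift_fst]

theorem ofOpen_range (W : E.U.left.Opens) (i : ι) :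
    Set.range ((E.ofOpen W).j i).base =
      (E.j i).base '' ((E.π i).base ⁻¹' (W : Set E.U.left)) := by
  change Set.range (((E.π i) ⁻¹ᵁ W).ι ≫ E.j i).base = _
  ext v
  constructor
  · rintro ⟨s, rfl⟩
    refine ⟨((E.π i) ⁻¹ᵁ W).ι.base s, ?_, by rw [Scheme.Hom.comp_apply]⟩
    have hs : ((E.π i) ⁻¹ᵁ W).ι.base s ∈ (((E.π i) ⁻¹ᵁ W : (E.Y i).Opens) : Set (E.Y i)) := by
      rw [← Scheme.Opens.range_ι]; exact ⟨s, rfl⟩
    exact hs
  · rintro ⟨y, hy, rfl⟩
    have : y ∈ Set.range ((E.π i) ⁻¹ᵁ W).ι.base := by rw [Scheme.Opens.range_ι]; exact hy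
    obtain ⟨s, rfl⟩ := this
    exact ⟨s, by rw [Scheme.Hom.comp_apply]⟩

include hf in
/-- The intersection of two partial cones is a partial cone. -/
theorem exists_inter (E' : PCone D) : ∃ E'' : PCone D, ∀ i,
    Set.range (E''.j i).base = Set.range (E.j i).base ∩ Set.range (E'.j i).base := by
  obtain ⟨W, hW⟩ := E.exists_opens hf (fun i => (E'.j i).opensRange)
    (fun T i k x₀ x₁ h v hv => by
      have := E'.range_stable x₀ x₁ h v (by simpa using hv)
      simpa using this)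
  refine ⟨E.ofOpen W, fun i => ?_⟩
  rw [ofOpen_range, hW i]
  ext v
  constructor
  · rintro ⟨y, hy, rfl⟩
    exact ⟨⟨y, rfl⟩, by simpa using hy⟩
  · rintro ⟨⟨y, rfl⟩, hy⟩
    exact ⟨y, by simpa using hy, rfl⟩

include hf in
/-- The comparison map of partial cones is an open immersion, with the expected range. -/
theorem tmap_props (E' : PCone D)
    (hle : ∀ i, Set.range (E.j i).base ⊆ Set.range (E'.j i).base) :
    IsOpenImmersion (tmap E hf E' hle) ∧ ∀ i,
      (E'.π i).base ⁻¹' (Set.range (tmap E hf E' hle).base) =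
        (E'.j i).base ⁻¹' (Set.range (E.j i).base) := by
  obtain ⟨W, hW⟩ := E'.exists_opens hf (fun i => (E.j i).opensRange)
    (fun T i k x₀ x₁ h v hv => by
      have := E.range_stable x₀ x₁ h v (by simpa using hv)
      simpa using this)
  have hr : ∀ i, Set.range ((E'.ofOpen W).j i).base = Set.range (E.j i).base := by
    intro i
    rw [ofOpen_range, hW i]
    ext v
    constructor
    · rintro ⟨y, hy, rfl⟩
      simpa using hy
    · intro hv
      obtain ⟨y, rfl⟩ := hle i hv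
      exact ⟨y, by simpa using hv, rfl⟩
  have h1 : ∀ i, Set.range (E.j i).base ⊆ Set.range ((E'.ofOpen W).j i).base :=
    fun i => (hr i).ge
  have h2 : ∀ i, Set.range ((E'.ofOpen W).j i).base ⊆ Set.range (E.j i).base :=
    fun i => (hr i).le
  have h3 : ∀ i, Set.range ((E'.ofOpen W).j i).base ⊆ Set.range (E'.j i).base :=
    fun i => (h2 i).trans (hle i)
  have e1 : tmap E hf E' hle = tmap E hf (E'.ofOpen W) h1 ≫ tmap (E'.ofOpen W) hf E' h3 :=
    (tmap_comp E hf _ _ h1 h3 hle).symm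
  have e2 : tmap (E'.ofOpen W) hf E' h3 = W.ι := by
    refine (tmap_uniq (E'.ofOpen W) hf E' h3 W.ι rfl (fun i => ?_)).symm
    have : incl (E'.ofOpen W) E' h3 i = ((E'.π i) ⁻¹ᵁ W).ι := by
      rw [← cancel_mono (E'.j i), incl_j]
      rfl
    rw [this]
    exact morphismRestrict_ι (E'.π i) W
  haveI := isIso_tmap E hf (E'.ofOpen W) h1 h2
  have hrange : Set.range (tmap E hf E' hle).base = (W : Set E'.U.left) := by
    rw [e1, e2]
    have : Set.range (tmap E hf (E'.ofOpen W) h1 ≫ W.ι).base = Set.range W.ι.base := by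
      apply Set.Subset.antisymm
      · rintro _ ⟨s, rfl⟩
        exact ⟨(tmap E hf (E'.ofOpen W) h1).base s, rfl⟩
      · rintro _ ⟨s, rfl⟩
        refine ⟨(inv (tmap E hf (E'.ofOpen W) h1)).base s, ?_⟩
        rw [← Scheme.Hom.comp_apply, IsIso.inv_hom_id_assoc]
        rfl
    rw [this, Scheme.Opens.range_ι]
  refine ⟨?_, fun i => ?_⟩
  · rw [e1, e2]
    infer_instance
  · rw [hrange, hW i]
    simp

end opens

end PCone

end Groth.Agent.Helper21.EtLoc
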