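import Mathlib
import Groth.Agent.Lib.Helper21.EtLoc2

/-!
# Effectiveness of étale descent data relative to a universally submersive morphism is
Zariski-local on the base (helper21)
-/

set_option autoImplicit false
set_option backward.isDefEq.respectTransparency false
set_option backward.isDefEq.respectTransparency.types false
set_option linter.style.haveILetI false
set_option linter.unusedSectionVars false

open CategoryTheory CategoryTheory.Limits AlgebraicGeometry

universe w u

namespace Groth.Agent.Helper21.EtLoc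

open Desc Groth.Agent.Helper21.DescA Groth.Agent.Helper21.DescFF Groth.Agent.Helper21.DescOpen

section general

variable {S : Scheme.{u}} {ι : Type w} {X : ι → Scheme.{u}} {f : ∀ i, X i ⟶ S}

/-- The base change of a descent datum along `p : S' ⟶ S`. -/
noncomputable abbrev baseChange (D : SchDDFam f) {S' : Scheme.{u}} (p : S' ⟶ S) :
    SchDDFam (fun i => pullback.snd (f i) p) :=
  (pullDDFam (f := f) (f' := fun i => pullback.snd (f i) p) (α := id) (p := p)
    (p' := fun i => pullback.fst (f i) p) (fun _ => pullback.condition)).obj D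

theorem baseChange_φ_val (D : SchDDFam f) {S' : Scheme.{u}} (p : S' ⟶ S) {T : Scheme.{u}}
    {i k : ι} (x₀ : T ⟶ pullback (f i) p) (x₁ : T ⟶ pullback (f k) p)
    (h : x₀ ≫ pullback.snd (f i) p = x₁ ≫ pullback.snd (f k) p)
    (v : Lifts ((baseChange D p).obj i) x₀) :
    ((baseChange D p).φ x₀ x₁ h v).1 =
      pullback.lift (D.φ (x₀ ≫ pullback.fst (f i) p) (x₁ ≫ pullback.fst (f k) p)
        (pull_compat (f := f) (f' := fun i => pullback.snd (f i) p) (α := id) (p := p)
          (p' := fun i => pullback.fst (f i) p) (fun _ => pullback.condition) x₀ x₁ h)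
        ⟨v.1 ≫ pullback.fst (D.obj i).hom (pullback.fst (f i) p), by
          have e : v.1 ≫ pullback.snd (D.obj i).hom (pullback.fst (f i) p) = x₀ := v.2
          rw [Category.assoc, pullback.condition, ← Category.assoc, e]⟩).1 x₁
        (D.φ _ _ _ _).2 := rfl

/-- A descent datum isomorphic to the canonical datum of `U` has a cone with vertex `U`. -/
theorem exists_cone_of_iso {D : SchDDFam f} (U : Over S) (e : D ≅ (toDDFam f).obj U) :
    ∃ c : Cone D, c.U = U := by
  have hinv : ∀ i, e.hom.hom i ≫ e.inv.hom i = 𝟙 _ := fun i => by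
    rw [← SchDDFam.comp_hom, e.hom_inv_id, SchDDFam.id_hom]
  have hinv' : ∀ i, e.inv.hom i ≫ e.hom.hom i = 𝟙 _ := fun i => by
    rw [← SchDDFam.comp_hom, e.inv_hom_id, SchDDFam.id_hom]
  have hl : ∀ i, (e.inv.hom i).left ≫ (e.hom.hom i).left = 𝟙 _ := fun i => by
    rw [← Over.comp_left, hinv', Over.id_left]
  have hl' : ∀ i, (e.hom.hom i).left ≫ (e.inv.hom i).left = 𝟙 _ := fun i => by
    rw [← Over.comp_left, hinv, Over.id_left]
  refine ⟨⟨U, fun i => (e.hom.hom i).left ≫ pullback.snd (f i) U.hom, fun i => ?_, ?_⟩, rfl⟩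
  · have hw : (e.hom.hom i).left ≫ pullback.fst (f i) U.hom = (D.obj i).hom := Over.w (e.hom.hom i)
    refine IsPullback.of_iso_pullback ⟨?_⟩ ⟨(e.hom.hom i).left, (e.inv.hom i).left, hl' i, hl i⟩
      hw rfl
    rw [Category.assoc, ← pullback.condition, ← Category.assoc, hw]
  · intro T i j x₀ x₁ h v
    have key := e.hom.comm x₀ x₁ h v ⟨v.1 ≫ (e.hom.hom i).left, by
      rw [Category.assoc, Over.w (e.hom.hom i)]; exact v.2⟩ rfl
    change (canMapFam f U x₀ x₁ h _).1 = _ at key
    rw [canMapFam_val] at key
    rw [← Category.assoc, ← key, pullback.lift_snd, Category.assoc]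

/-- The base change of a cone. -/
noncomputable def baseChangeCone (D : SchDDFam f) (c : Cone D) {S' : Scheme.{u}} (p : S' ⟶ S) :
    Cone (baseChange D p) where
  U := Over.mk (pullback.snd c.U.hom p)
  π i := pullback.lift (pullback.fst (D.obj i).hom (pullback.fst (f i) p) ≫ c.π i)
      (pullback.snd (D.obj i).hom (pullback.fst (f i) p) ≫ pullback.snd (f i) p) (by
        rw [Category.assoc, ← (c.isPullback i).w, ← Category.assoc, pullback.condition,
          Category.assoc, Category.assoc, pullback.condition])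
  isPullback i := by
    have h1 := ((IsPullback.of_hasPullback (D.obj i).hom (pullback.fst (f i) p)).paste_horiz
      (c.isPullback i).flip).flip
    rw [pullback.condition] at h1
    refine IsPullback.of_bot ?_ ?_ (IsPullback.of_hasPullback c.U.hom p).flip
    · rw [pullback.lift_fst]
      exact h1
    · exact (pullback.lift_snd _ _ _).symm
  inv T i k x₀ x₁ h v := by
    have e : v.1 ≫ pullback.snd (D.obj i).hom (pullback.fst (f i) p) = x₀ := v.2
    apply pullback.hom_ext
    · rw [Category.assoc, pullback.lift_fst, Category.assoc, pullback.lift_fst,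
        baseChange_φ_val, pullback.lift_fst_assoc, c.inv, Category.assoc]
    · rw [Category.assoc, pullback.lift_snd, Category.assoc, pullback.lift_snd,
        baseChange_φ_val, pullback.lift_snd_assoc, ← Category.assoc, e, h]

end general

section unique

variable {S : Scheme.{u}} {ι : Type} [Unique ι] {X : ι → Scheme.{u}} {f : ∀ i, X i ⟶ S}

/-- A cone with étale vertex of the base change of `D` along an open immersion gives a partial
cone of `D`. -/
noncomputable def pconeOfBaseChange (D : SchDDFam f) {S' : Scheme.{u}} (p : S' ⟶ S)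
    [IsOpenImmersion p] (c : Cone (baseChange D p)) (hc : Etale c.U.hom) : PCone D where
  Y i := pullback (D.obj i).hom (pullback.fst (f i) p)
  j i := pullback.fst (D.obj i).hom (pullback.fst (f i) p)
  hj i := inferInstance
  U := Over.mk (c.U.hom ≫ p)
  et := by
    haveI := hc
    change Etale (c.U.hom ≫ p)
    infer_instance
  π := c.π
  isPullback i := by
    have h1 := (c.isPullback i).paste_horiz (IsPullback.of_hasPullback (f i) p)
    have e : ((baseChange D p).obj i).hom ≫ pullback.fst (f i) p =
        pullback.fst (D.obj i).hom (pullback.fst (f i) p) ≫ (D.obj i).hom :=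
      pullback.condition.symm
    rw [e] at h1
    exact h1
  rel T i k x₀ x₁ h v y hy := by
    have hv : v.1 ≫ (D.obj i).hom = x₀ := v.2
    have e0 : (y ≫ pullback.snd (D.obj i).hom (pullback.fst (f i) p)) ≫ pullback.fst (f i) p =
        x₀ := by
      rw [Category.assoc, ← pullback.condition, ← Category.assoc, hy, hv]
    have hs : x₁ ≫ f k = ((y ≫ pullback.snd (D.obj i).hom (pullback.fst (f i) p)) ≫
        pullback.snd (f i) p) ≫ p := by
      rw [Category.assoc, ← pullback.condition, ← Category.assoc, e0, h]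
    have h' : (y ≫ pullback.snd (D.obj i).hom (pullback.fst (f i) p)) ≫ pullback.snd (f i) p =
        pullback.lift x₁ ((y ≫ pullback.snd (D.obj i).hom (pullback.fst (f i) p)) ≫
          pullback.snd (f i) p) hs ≫ pullback.snd (f k) p := by
      rw [pullback.lift_snd]
    refine ⟨((baseChange D p).φ (y ≫ pullback.snd (D.obj i).hom (pullback.fst (f i) p))
      (pullback.lift x₁ _ hs) h' ⟨y, rfl⟩).1, ?_, c.inv _ _ h' ⟨y, rfl⟩⟩
    rw [baseChange_φ_val, pullback.lift_fst]
    exact φ_congr D _ _ e0 (pullback.lift_fst _ _ _) _ _ hy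

theorem pconeOfBaseChange_range (D : SchDDFam f) {S' : Scheme.{u}} (p : S' ⟶ S)
    [IsOpenImmersion p] (c : Cone (baseChange D p)) (hc : Etale c.U.hom) (i : ι) :
    Set.range ((pconeOfBaseChange D p c hc).j i).base =
      ((D.obj i).hom ≫ f i).base ⁻¹' (Set.range p.base) := by
  change Set.range (pullback.fst (D.obj i).hom (pullback.fst (f i) p)).base = _
  rw [Scheme.Pullback.range_fst, Scheme.Pullback.range_fst]
  rfl

/-- **Lemma Z, étale version**: the existence of a cone with étale vertex is local on the base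
for the Zariski topology. -/
theorem exists_cone_of_baseChange (hf : ∀ i, SGA1.UnivSubmersive (f i))
    (D : SchDDFam f) {A : Type*} (S' : A → Scheme.{u}) (p : ∀ a, S' a ⟶ S)
    [∀ a, IsOpenImmersion (p a)] (hp : ∀ s : S, ∃ a, s ∈ Set.range (p a).base)
    (hc : ∀ a, ∃ c : Cone (baseChange D (p a)), Etale c.U.hom) :
    ∃ c : Cone D, Etale c.U.hom := by
  refine exists_cone_of_pcones hf D (fun i v => ?_)
  obtain ⟨a, ha⟩ := hp (((D.obj i).hom ≫ f i).base v)
  obtain ⟨c, hc'⟩ := hc a
  exact ⟨pconeOfBaseChange D (p a) c hc', by rw [pconeOfBaseChange_range]; exact ha⟩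

end unique

/-- **S5123**: an étale descent datum relative to a universally submersive morphism is effective
(in étale schemes) iff it is so locally on the base. -/
theorem main5123 {S S' : Scheme.{u}} (g : S' ⟶ S) (hg : SGA1.UnivSubmersive g)
    (D : Desc.SchDDFam (fun _ : PUnit.{1} => g))
    {ι : Type u} (V : ι → S.Opens) (hV : ⨆ i, V i = ⊤) :
    (∃ U : Over S, Etale U.hom ∧ Nonempty ((Desc.toDDFam (fun _ : PUnit.{1} => g)).obj U ≅ D)) ↔
      ∀ i : ι, (∃ U : Over (V i : Scheme.{u}), Etale U.hom ∧
        Nonempty ((Desc.toDDFam (fun _ : PUnit.{1} => pullback.snd g (V i).ι)).obj U ≅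
          (Desc.pullDDFam (f := fun _ : PUnit.{1} => g)
            (f' := fun _ : PUnit.{1} => pullback.snd g (V i).ι)
        (α := id) (p := (V i).ι) (p' := fun _ => pullback.fst g (V i).ι)
        (fun _ => pullback.condition)).obj D)) := by
  constructor
  · rintro ⟨U, hU, ⟨e⟩⟩ i
    obtain ⟨c, hc⟩ := exists_cone_of_iso U e.symm
    subst hc
    refine ⟨(baseChangeCone D c (V i).ι).U, ?_, ⟨(baseChangeCone D c (V i).ι).iso.symm⟩⟩
    change Etale (pullback.snd c.U.hom (V i).ι)
    infer_instance
  · intro h
    obtain ⟨c, hc⟩ := exists_cone_of_baseChange (f := fun _ : PUnit.{1} => g) (fun _ => hg) D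
      (fun i => ((V i : S.Opens) : Scheme.{u})) (fun i => (V i).ι)
      (fun s => by
        have hs : s ∈ (⨆ i, V i : S.Opens) := by rw [hV]; trivial
        obtain ⟨i, hi⟩ := TopologicalSpace.Opens.mem_iSup.mp hs
        exact ⟨i, by rw [Scheme.Opens.range_ι]; exact hi⟩)
      (fun i => by
        obtain ⟨U, hU, ⟨e⟩⟩ := h i
        obtain ⟨c, hc⟩ := exists_cone_of_iso (D := baseChange D (V i).ι) U e.symm
        exact ⟨c, by rw [hc]; exact hU⟩)
    exact ⟨c.U, hc, ⟨c.iso.symm⟩⟩

end Groth.Agent.Helper21.EtLoc
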