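import Mathlib
import Groth.Agent.Lib.Helper21.EtLoc3
import Groth.Agent.Lib.Helper21.EtFpqc0
import Groth.Agent.Lib.Helper21.DescTo

/-!
# Étale descent data relative to a universally submersive morphism: the descent datum induced on
the vertex of a cone of a base change (helper21)
-/

set_option autoImplicit false
set_option backward.isDefEq.respectTransparency false
set_option backward.isDefEq.respectTransparency.types false
set_option linter.style.haveILetI false
set_option linter.unusedSectionVars false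

open CategoryTheory CategoryTheory.Limits AlgebraicGeometry

universe u

namespace Groth.Agent.Helper21.EtFpqc

open Desc Groth.Agent.Helper21.DescA Groth.Agent.Helper21.DescFF Groth.Agent.Helper21.EtLoc

variable {S S' S₁ : Scheme.{u}} {g : S' ⟶ S} (p : S₁ ⟶ S)
  (D : SchDDFam (fun _ : PUnit.{1} => g)) (c₁ : Cone (baseChange D p))

theorem hpb₁ : IsPullback (pullback.snd (D.obj PUnit.unit).hom (pullback.fst g p))
    (c₁.π PUnit.unit) (pullback.snd g p) c₁.U.hom := c₁.isPullback PUnit.unit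

/-- The point of `V₁` over `(r, u ≫ hom)` with image `u` in the vertex. -/
noncomputable def ypt {T : Scheme.{u}} (r : T ⟶ S') (u : T ⟶ c₁.U.left)
    (hru : r ≫ g = (u ≫ c₁.U.hom) ≫ p) :
    T ⟶ pullback (D.obj PUnit.unit).hom (pullback.fst g p) :=
  (hpb₁ p D c₁).lift (pullback.lift r (u ≫ c₁.U.hom) hru) u (pullback.lift_snd _ _ _)

theorem comp_cond {T T' : Scheme.{u}} (r : T ⟶ S') (u : T ⟶ c₁.U.left)
    (hru : r ≫ g = (u ≫ c₁.U.hom) ≫ p) (t : T' ⟶ T) :
    (t ≫ r) ≫ g = ((t ≫ u) ≫ c₁.U.hom) ≫ p := by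
  simp only [Category.assoc] at hru ⊢
  rw [hru]

section
variable {T : Scheme.{u}} (r : T ⟶ S') (u : T ⟶ c₁.U.left)
  (hru : r ≫ g = (u ≫ c₁.U.hom) ≫ p)

@[reassoc]
theorem ypt_π : ypt p D c₁ r u hru ≫ c₁.π PUnit.unit = u := (hpb₁ p D c₁).lift_snd _ _ _

@[reassoc]
theorem ypt_snd : ypt p D c₁ r u hru ≫ pullback.snd (D.obj PUnit.unit).hom (pullback.fst g p) =
    pullback.lift r (u ≫ c₁.U.hom) hru := (hpb₁ p D c₁).lift_fst _ _ _

@[reassoc]
theorem ypt_snd_fst : ypt p D c₁ r u hru ≫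
    pullback.snd (D.obj PUnit.unit).hom (pullback.fst g p) ≫ pullback.fst g p = r := by
  rw [ypt_snd_assoc, pullback.lift_fst]

theorem ypt_ext (y : T ⟶ pullback (D.obj PUnit.unit).hom (pullback.fst g p))
    (hy1 : y ≫ pullback.snd (D.obj PUnit.unit).hom (pullback.fst g p) ≫ pullback.fst g p = r)
    (hy2 : y ≫ c₁.π PUnit.unit = u) : y = ypt p D c₁ r u hru := by
  apply (hpb₁ p D c₁).hom_ext
  · rw [ypt_snd]
    apply pullback.hom_ext
    · rw [Category.assoc, hy1, pullback.lift_fst]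
    · rw [Category.assoc, (hpb₁ p D c₁).w, ← Category.assoc, hy2, pullback.lift_snd]
  · rw [hy2, ypt_π]

/-- The `V`-component of `ypt`. -/
noncomputable def vpt : T ⟶ (D.obj PUnit.unit).left :=
  ypt p D c₁ r u hru ≫ pullback.fst (D.obj PUnit.unit).hom (pullback.fst g p)

@[reassoc]
theorem vpt_hom : vpt p D c₁ r u hru ≫ (D.obj PUnit.unit).hom = r := by
  unfold vpt
  rw [Category.assoc, pullback.condition, ypt_snd_fst]

theorem ypt_eq_lift : ypt p D c₁ r u hru =
    pullback.lift (vpt p D c₁ r u hru) (pullback.lift r (u ≫ c₁.U.hom) hru)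
      (by rw [vpt_hom, pullback.lift_fst]) := by
  apply pullback.hom_ext
  · rw [pullback.lift_fst]; rfl
  · rw [pullback.lift_snd, ypt_snd]

theorem ypt_comp {T' : Scheme.{u}} (t : T' ⟶ T) :
    t ≫ ypt p D c₁ r u hru = ypt p D c₁ (t ≫ r) (t ≫ u) (comp_cond p D c₁ r u hru t) := by
  apply ypt_ext
  · rw [Category.assoc, ypt_snd_fst]
  · rw [Category.assoc, ypt_π]

theorem vpt_comp {T' : Scheme.{u}} (t : T' ⟶ T) :
    t ≫ vpt p D c₁ r u hru = vpt p D c₁ (t ≫ r) (t ≫ u) (comp_cond p D c₁ r u hru t) := by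
  unfold vpt
  rw [← Category.assoc, ypt_comp]

end

theorem vpt_congr {T : Scheme.{u}} {r r' : T ⟶ S'} {u u' : T ⟶ c₁.U.left} (er : r = r')
    (eu : u = u') (hru : r ≫ g = (u ≫ c₁.U.hom) ≫ p) (hru' : r' ≫ g = (u' ≫ c₁.U.hom) ≫ p) :
    vpt p D c₁ r u hru = vpt p D c₁ r' u' hru' := by
  subst er eu; rfl

/-- Changing the `S'`-component of `vpt` amounts to applying the gluing bijection of `D`. -/
theorem φ_vpt {T : Scheme.{u}} (r r' : T ⟶ S') (u : T ⟶ c₁.U.left)
    (hru : r ≫ g = (u ≫ c₁.U.hom) ≫ p) (hru' : r' ≫ g = (u ≫ c₁.U.hom) ≫ p) :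
    (D.φ (i := PUnit.unit) (j := PUnit.unit) r r' (hru.trans hru'.symm)
      ⟨vpt p D c₁ r u hru, vpt_hom p D c₁ r u hru⟩).1 = vpt p D c₁ r' u hru' := by
  have hab : ypt p D c₁ r u hru ≫ c₁.π PUnit.unit = ypt p D c₁ r' u hru' ≫ c₁.π PUnit.unit := by
    rw [ypt_π, ypt_π]
  have h := Groth.Agent.Helper21.DescTo.cond_of_π c₁ (i := PUnit.unit) (j := PUnit.unit) _ _ hab
  have key := Groth.Agent.Helper21.DescTo.φ_eq_of_π c₁ (i := PUnit.unit) (j := PUnit.unit)
    _ _ hab h
  rw [baseChange_φ_val] at key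
  have key2 := congrArg (fun m => m ≫ pullback.fst (D.obj PUnit.unit).hom (pullback.fst g p)) key
  simp only [pullback.lift_fst] at key2
  change _ = vpt p D c₁ r' u hru' at key2
  rw [← key2]
  refine φ_congr D _ _ ?_ ?_ _ _ rfl
  · exact (ypt_snd_fst p D c₁ r u hru).symm
  · exact (ypt_snd_fst p D c₁ r' u hru').symm

end Groth.Agent.Helper21.EtFpqc
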