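import Mathlib
import Groth.Agent.Lib.Helper21.EtFpqc1

/-!
# The descent datum (relative to the fpqc base change) induced on the vertex of a cone of the
base-changed étale descent datum (helper21)
-/

set_option autoImplicit false
set_option backward.isDefEq.respectTransparency false
set_option backward.isDefEq.respectTransparency.types false
set_option linter.style.haveILetI false
set_option linter.unusedSectionVars false

open CategoryTheory CategoryTheory.Limits AlgebraicGeometry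

universe u

namespace Groth.Agent.Helper21.EtFpqc

open Desc Groth.Agent.Helper21.DescA Groth.Agent.Helper21.DescFF Groth.Agent.Helper21.EtLoc

variable {S S' S₁ : Scheme.{u}} {g : S' ⟶ S} (p : S₁ ⟶ S)
  (D : SchDDFam (fun _ : PUnit.{1} => g)) (c₁ : Cone (baseChange D p))

/-- Two points of the vertex are related when they give the same points of `V`. -/
def Rel {T : Scheme.{u}} (u₀ u₁ : T ⟶ c₁.U.left) : Prop :=
  (u₀ ≫ c₁.U.hom) ≫ p = (u₁ ≫ c₁.U.hom) ≫ p ∧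
  ∀ (T' : Scheme.{u}) (t : T' ⟶ T) (r : T' ⟶ S') (h₀ : r ≫ g = ((t ≫ u₀) ≫ c₁.U.hom) ≫ p)
    (h₁ : r ≫ g = ((t ≫ u₁) ≫ c₁.U.hom) ≫ p),
    vpt p D c₁ r (t ≫ u₀) h₀ = vpt p D c₁ r (t ≫ u₁) h₁

variable {p D c₁}

theorem Rel.refl {T : Scheme.{u}} (u : T ⟶ c₁.U.left) : Rel p D c₁ u u :=
  ⟨rfl, fun _ _ _ _ _ => rfl⟩

theorem Rel.symm {T : Scheme.{u}} {u₀ u₁ : T ⟶ c₁.U.left} (h : Rel p D c₁ u₀ u₁) :
    Rel p D c₁ u₁ u₀ :=
  ⟨h.1.symm, fun T' t r h₀ h₁ => (h.2 T' t r h₁ h₀).symm⟩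

theorem Rel.trans {T : Scheme.{u}} {u₀ u₁ u₂ : T ⟶ c₁.U.left} (h : Rel p D c₁ u₀ u₁)
    (h' : Rel p D c₁ u₁ u₂) : Rel p D c₁ u₀ u₂ := by
  refine ⟨h.1.trans h'.1, fun T' t r h₀ h₂ => ?_⟩
  have h₁ : r ≫ g = ((t ≫ u₁) ≫ c₁.U.hom) ≫ p := by
    rw [h₀]
    simp only [Category.assoc]
    have := h.1
    simp only [Category.assoc] at this
    rw [this]
  exact (h.2 T' t r h₀ h₁).trans (h'.2 T' t r h₁ h₂)

theorem Rel.comp {T T₂ : Scheme.{u}} {u₀ u₁ : T ⟶ c₁.U.left} (h : Rel p D c₁ u₀ u₁)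
    (a : T₂ ⟶ T) : Rel p D c₁ (a ≫ u₀) (a ≫ u₁) := by
  refine ⟨?_, fun T' t r h₀ h₁ => ?_⟩
  · have := h.1
    simp only [Category.assoc] at this ⊢
    rw [this]
  · have e₀ : t ≫ a ≫ u₀ = (t ≫ a) ≫ u₀ := (Category.assoc _ _ _).symm
    have e₁ : t ≫ a ≫ u₁ = (t ≫ a) ≫ u₁ := (Category.assoc _ _ _).symm
    have h₀' : r ≫ g = (((t ≫ a) ≫ u₀) ≫ c₁.U.hom) ≫ p := by rw [← e₀]; exact h₀
    have h₁' : r ≫ g = (((t ≫ a) ≫ u₁) ≫ c₁.U.hom) ≫ p := by rw [← e₁]; exact h₁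
    exact (vpt_congr p D c₁ rfl e₀ h₀ h₀').trans ((h.2 T' (t ≫ a) r h₀' h₁').trans
      (vpt_congr p D c₁ rfl e₁.symm h₁' h₁))

section

variable (hg : SGA1.UnivSubmersive g) [Etale c₁.U.hom]

include hg in
/-- Related points over the same point of `S₁` are equal. -/
theorem Rel.eq_of_hom_eq {T : Scheme.{u}} {u₁ u₁' : T ⟶ c₁.U.left} (h : Rel p D c₁ u₁ u₁')
    (hs : u₁ ≫ c₁.U.hom = u₁' ≫ c₁.U.hom) : u₁ = u₁' := by
  obtain ⟨σ, hσ⟩ : ∃ σ : T ⟶ S, σ = (u₁ ≫ c₁.U.hom) ≫ p := ⟨_, rfl⟩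
  obtain ⟨t, ht⟩ : ∃ t : pullback σ g ⟶ T, t = pullback.fst σ g := ⟨_, rfl⟩
  obtain ⟨r, hr⟩ : ∃ r : pullback σ g ⟶ S', r = pullback.snd σ g := ⟨_, rfl⟩
  have hPB : IsPullback t r σ g := by
    rw [ht, hr]; exact IsPullback.of_hasPullback _ _
  have hsurj : Function.Surjective t.base := (hg _ _ _ hPB).surjective
  have hs' : u₁ ≫ c₁.U.hom ≫ p = u₁' ≫ c₁.U.hom ≫ p := by
    rw [← Category.assoc, hs, Category.assoc]
  have h₀ : r ≫ g = ((t ≫ u₁) ≫ c₁.U.hom) ≫ p := by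
    rw [← hPB.w]
    exact (congrArg (t ≫ ·) hσ).trans (by simp only [Category.assoc])
  have h₁ : r ≫ g = ((t ≫ u₁') ≫ c₁.U.hom) ≫ p := by
    rw [← hPB.w]
    exact (congrArg (t ≫ ·) hσ).trans (by simp only [Category.assoc]; rw [hs'])
  refine Groth.Agent.Helper21.DescEt.eq_of_surjective_comp t hsurj c₁.U.hom hs ?_
  have e : ypt p D c₁ r (t ≫ u₁) h₀ = ypt p D c₁ r (t ≫ u₁') h₁ := by
    apply pullback.hom_ext
    · exact h.2 _ t r h₀ h₁
    · rw [ypt_snd, ypt_snd]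
      apply pullback.hom_ext
      · rw [pullback.lift_fst, pullback.lift_fst]
      · rw [pullback.lift_snd, pullback.lift_snd, Category.assoc, Category.assoc, hs]
  rw [← ypt_π p D c₁ r (t ≫ u₁) h₀, e, ypt_π]

include hg in
/-- Existence of a related point over a prescribed point of `S₁`. -/
theorem exists_rel {T : Scheme.{u}} (u₀ : T ⟶ c₁.U.left) (s₁ : T ⟶ S₁)
    (h : (u₀ ≫ c₁.U.hom) ≫ p = s₁ ≫ p) :
    ∃ u₁ : T ⟶ c₁.U.left, u₁ ≫ c₁.U.hom = s₁ ∧ Rel p D c₁ u₀ u₁ := by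
  obtain ⟨t, ht⟩ : ∃ t : pullback (s₁ ≫ p) g ⟶ T, t = pullback.fst (s₁ ≫ p) g := ⟨_, rfl⟩
  obtain ⟨r, hr⟩ : ∃ r : pullback (s₁ ≫ p) g ⟶ S', r = pullback.snd (s₁ ≫ p) g := ⟨_, rfl⟩
  have hPB : IsPullback t r (s₁ ≫ p) g := by
    rw [ht, hr]; exact IsPullback.of_hasPullback _ _
  have hc : r ≫ g = (t ≫ s₁) ≫ p := by rw [Category.assoc]; exact hPB.w.symm
  have h₀ : r ≫ g = ((t ≫ u₀) ≫ c₁.U.hom) ≫ p := by
    rw [hc]
    simp only [Category.assoc] at h ⊢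
    rw [h]
  have hy : vpt p D c₁ r (t ≫ u₀) h₀ ≫ (D.obj PUnit.unit).hom =
      pullback.lift r (t ≫ s₁) hc ≫ pullback.fst g p := by
    rw [vpt_hom, pullback.lift_fst]
  obtain ⟨y₁, hy₁⟩ : ∃ y₁ : pullback (s₁ ≫ p) g ⟶
      pullback (D.obj PUnit.unit).hom (pullback.fst g p),
      y₁ = pullback.lift (vpt p D c₁ r (t ≫ u₀) h₀) (pullback.lift r (t ≫ s₁) hc) hy := ⟨_, rfl⟩
  have hy₁f : y₁ ≫ pullback.fst (D.obj PUnit.unit).hom (pullback.fst g p) =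
      vpt p D c₁ r (t ≫ u₀) h₀ := by rw [hy₁, pullback.lift_fst]
  have hy₁s : y₁ ≫ pullback.snd (D.obj PUnit.unit).hom (pullback.fst g p) =
      pullback.lift r (t ≫ s₁) hc := by rw [hy₁, pullback.lift_snd]
  have hw : (y₁ ≫ c₁.π PUnit.unit) ≫ c₁.U.hom = t ≫ s₁ := by
    rw [Category.assoc, ← (hpb₁ p D c₁).w, ← Category.assoc, hy₁s, pullback.lift_snd]
  have hpbT : IsPullback t (pullback.lift r (t ≫ s₁) hc) s₁ (pullback.snd g p) := by
    refine (IsPullback.of_right ?_ (pullback.lift_snd _ _ _)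
      (IsPullback.of_hasPullback g p)).flip
    rw [pullback.lift_fst]
    exact hPB.flip
  obtain ⟨u₁, ⟨hu₁s, hu₁w⟩, -⟩ := glue_subm (pullback.snd g p) (univSubmersive_snd g hg p) s₁ t
    (pullback.lift r (t ≫ s₁) hc) hpbT c₁.U.hom (y₁ ≫ c₁.π PUnit.unit) hw
    (fun T'' a b hab => by
      have hh : ((a ≫ y₁) ≫ pullback.snd (D.obj PUnit.unit).hom (pullback.fst g p)) ≫
          pullback.snd g p = ((b ≫ y₁) ≫
            pullback.snd (D.obj PUnit.unit).hom (pullback.fst g p)) ≫ pullback.snd g p := by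
        simp only [Category.assoc, hy₁s, pullback.lift_snd]
        rw [← Category.assoc, hab, Category.assoc]
      have key := c₁.inv (i := PUnit.unit) (j := PUnit.unit) _ _ hh ⟨a ≫ y₁, rfl⟩
      have e : ((baseChange D p).φ (i := PUnit.unit) (j := PUnit.unit) _ _ hh
          ⟨a ≫ y₁, rfl⟩).1 = b ≫ y₁ := by
        rw [baseChange_φ_val]
        have hb : (b ≫ r) ≫ g = ((a ≫ t ≫ u₀) ≫ c₁.U.hom) ≫ p := by
          have := comp_cond p D c₁ r (t ≫ u₀) h₀ b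
          rw [← Category.assoc b, ← hab, Category.assoc] at this
          exact this
        have eA : (a ≫ y₁) ≫ pullback.fst (D.obj PUnit.unit).hom (pullback.fst g p) =
            vpt p D c₁ (a ≫ r) (a ≫ t ≫ u₀) (comp_cond p D c₁ r (t ≫ u₀) h₀ a) := by
          rw [Category.assoc, hy₁f, vpt_comp]
        have eB : (b ≫ y₁) ≫ pullback.fst (D.obj PUnit.unit).hom (pullback.fst g p) =
            vpt p D c₁ (b ≫ r) (a ≫ t ≫ u₀) hb := by
          rw [Category.assoc, hy₁f, vpt_comp]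
          exact vpt_congr p D c₁ rfl (by rw [← Category.assoc, ← hab, Category.assoc]) _ _
        have h1 := φ_vpt p D c₁ (a ≫ r) (b ≫ r) (a ≫ t ≫ u₀)
          (comp_cond p D c₁ r (t ≫ u₀) h₀ a) hb
        have eX₀ : ((a ≫ y₁) ≫ pullback.snd (D.obj PUnit.unit).hom (pullback.fst g p)) ≫
            pullback.fst g p = a ≫ r := by
          simp only [Category.assoc, hy₁s, pullback.lift_fst]
        have eX₁ : ((b ≫ y₁) ≫ pullback.snd (D.obj PUnit.unit).hom (pullback.fst g p)) ≫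
            pullback.fst g p = b ≫ r := by
          simp only [Category.assoc, hy₁s, pullback.lift_fst]
        apply pullback.hom_ext
        · refine (pullback.lift_fst _ _ _).trans ?_
          exact (φ_congr D _ _ eX₀ eX₁ _ _ eA).trans (h1.trans eB.symm)
        · rw [pullback.lift_snd]
      rw [e] at key
      simpa only [Category.assoc] using key.symm)
  refine ⟨u₁, hu₁s, ?_, fun T'' t'' r'' h₀'' h₁'' => ?_⟩
  · rw [h, hu₁s]
  · have hu₁s' : u₁ ≫ c₁.U.hom ≫ p = s₁ ≫ p := by rw [← Category.assoc, hu₁s]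
    have hm : t'' ≫ s₁ ≫ p = r'' ≫ g := by
      rw [h₁'']
      simp only [Category.assoc]
      rw [hu₁s']
    obtain ⟨m, hmt, hmr⟩ : ∃ m : T'' ⟶ pullback (s₁ ≫ p) g, m ≫ t = t'' ∧ m ≫ r = r'' :=
      ⟨hPB.lift t'' r'' hm, hPB.lift_fst _ _ _, hPB.lift_snd _ _ _⟩
    have h₁ : r ≫ g = ((t ≫ u₁) ≫ c₁.U.hom) ≫ p := by
      rw [hc]
      simp only [Category.assoc]
      rw [hu₁s']
    have e1 : vpt p D c₁ r'' (t'' ≫ u₀) h₀'' = m ≫ vpt p D c₁ r (t ≫ u₀) h₀ := by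
      rw [vpt_comp]
      exact vpt_congr p D c₁ hmr.symm (by rw [← hmt, Category.assoc]) _ _
    have e2 : vpt p D c₁ r'' (t'' ≫ u₁) h₁'' = m ≫ vpt p D c₁ r (t ≫ u₁) h₁ := by
      rw [vpt_comp]
      exact vpt_congr p D c₁ hmr.symm (by rw [← hmt, Category.assoc]) _ _
    have e3 : vpt p D c₁ r (t ≫ u₁) h₁ = vpt p D c₁ r (t ≫ u₀) h₀ := by
      have e4 : y₁ = ypt p D c₁ r (t ≫ u₁) h₁ := by
        apply ypt_ext
        · rw [← Category.assoc, hy₁s, pullback.lift_fst]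
        · exact hu₁w.symm
      unfold vpt
      rw [← e4, hy₁f]
      rfl
    rw [e1, e2, e3]

end

end Groth.Agent.Helper21.EtFpqc
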