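import Mathlib
import Groth.Agent.Lib.Helper21.EtFpqc2
import Groth.Agent.Lib.Helper21.DescQA4

/-!
# Descending the vertex of a cone of the base-changed datum along the fpqc base change
(helper21)
-/

set_option autoImplicit false
set_option backward.isDefEq.respectTransparency false
set_option backward.isDefEq.respectTransparency.types false
set_option linter.style.haveILetI false
set_option linter.unusedSectionVars false

open CategoryTheory CategoryTheory.Limits AlgebraicGeometry MorphismProperty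

universe u

namespace Groth.Agent.Helper21.EtFpqc

open Desc Groth.Agent.Helper21.DescA Groth.Agent.Helper21.DescFF Groth.Agent.Helper21.EtLoc

/-- fpqc descent for étale, separated, quasi-compact schemes, cone form. -/
theorem etale_sep_qc_cone {S' S : Scheme.{u}} (g : S' ⟶ S) [Flat g] [Surjective g]
    [QuasiCompact g] (D : Desc.SchDD g) [QuasiCompact D.obj.hom] [IsSeparated D.obj.hom]
    [Etale D.obj.hom] :
    ∃ c : Cone ((SchDDFam.ofSchDD.{u} g).obj D),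
      QuasiCompact c.U.hom ∧ IsSeparated c.U.hom ∧ Etale c.U.hom := by
  have hf : Presieve.ofArrows (fun _ : PUnit.{u + 1} => S') (fun _ => g) ∈
      Scheme.fpqcPrecoverage S := by
    rw [Presieve.ofArrows_pUnit]
    exact Scheme.Hom.singleton_mem_fpqcPrecoverage g
  haveI : LocallyQuasiFinite D.obj.hom := DescQA.locallyQuasiFinite_of_etale D.obj.hom
  have heff := DescQA.qa_isEffective (fun _ : PUnit.{u + 1} => g) hf
    ((SchDDFam.ofSchDD g).obj D) (fun _ => DescQA.QA.of_zmt D.obj.hom)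
  obtain ⟨c⟩ := nonempty_cone_of_isEffective heff
  have hpb : IsPullback D.obj.hom (c.π PUnit.unit) g c.U.hom := c.isPullback PUnit.unit
  have hQ : (@Surjective ⊓ @Flat ⊓ @QuasiCompact : MorphismProperty Scheme.{u}) g :=
    ⟨⟨inferInstance, inferInstance⟩, inferInstance⟩
  exact ⟨c, DescQA.quasiCompact_of_isPullback_surj hpb, DescQA.isSeparated_of_isPullback_fpqc hpb,
    of_isPullback_of_descendsAlong (P := @Etale)
      (Q := @Surjective ⊓ @Flat ⊓ @QuasiCompact) hpb hQ inferInstance⟩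

variable {S S' S₁ : Scheme.{u}} {g : S' ⟶ S} (hg : SGA1.UnivSubmersive g) (p : S₁ ⟶ S)
  (D : SchDDFam (fun _ : PUnit.{1} => g)) (c₁ : Cone (baseChange D p)) [Etale c₁.U.hom]

/-- The gluing map of the induced descent datum on the vertex. -/
noncomputable def φE {T : Scheme.{u}} (s₀ s₁ : T ⟶ S₁) (h : s₀ ≫ p = s₁ ≫ p)
    (u : Lifts c₁.U s₀) : Lifts c₁.U s₁ :=
  ⟨(exists_rel (p := p) (D := D) (c₁ := c₁) hg u.1 s₁ (by rw [u.2]; exact h)).choose,
    (exists_rel (p := p) (D := D) (c₁ := c₁) hg u.1 s₁ (by rw [u.2]; exact h)).choose_spec.1⟩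

theorem φE_rel {T : Scheme.{u}} (s₀ s₁ : T ⟶ S₁) (h : s₀ ≫ p = s₁ ≫ p) (u : Lifts c₁.U s₀) :
    Rel p D c₁ u.1 (φE hg p D c₁ s₀ s₁ h u).1 :=
  (exists_rel (p := p) (D := D) (c₁ := c₁) hg u.1 s₁ (by rw [u.2]; exact h)).choose_spec.2

theorem φE_uniq {T : Scheme.{u}} (s₀ s₁ : T ⟶ S₁) (h : s₀ ≫ p = s₁ ≫ p) (u : Lifts c₁.U s₀)
    (u' : T ⟶ c₁.U.left) (h1 : u' ≫ c₁.U.hom = s₁) (h2 : Rel p D c₁ u.1 u') :
    (φE hg p D c₁ s₀ s₁ h u).1 = u' :=
  Rel.eq_of_hom_eq hg ((φE_rel hg p D c₁ s₀ s₁ h u).symm.trans h2)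
    (by rw [(φE hg p D c₁ s₀ s₁ h u).2, h1])

/-- The induced descent datum on the vertex, relative to the base change morphism. -/
noncomputable def EE : Desc.SchDD p where
  obj := c₁.U
  φ T s₀ s₁ h :=
    { toFun := φE hg p D c₁ s₀ s₁ h
      invFun := φE hg p D c₁ s₁ s₀ h.symm
      left_inv := fun u => Subtype.ext (φE_uniq hg p D c₁ s₁ s₀ h.symm _ u.1 u.2
        (φE_rel hg p D c₁ s₀ s₁ h u).symm)
      right_inv := fun u => Subtype.ext (φE_uniq hg p D c₁ s₀ s₁ h _ u.1 u.2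
        (φE_rel hg p D c₁ s₁ s₀ h.symm u).symm) }
  φ_natural T T' a s₀ s₁ h h' v v' hv' :=
    φE_uniq hg p D c₁ (a ≫ s₀) (a ≫ s₁) h' v' (a ≫ (φE hg p D c₁ s₀ s₁ h v).1)
      (by rw [Category.assoc, (φE hg p D c₁ s₀ s₁ h v).2])
      (by rw [hv']; exact (φE_rel hg p D c₁ s₀ s₁ h v).comp a)
  φ_self T s v := Subtype.ext (φE_uniq hg p D c₁ s s rfl v v.1 v.2 (Rel.refl _))
  φ_comp T s₀ s₁ s₂ h₀₁ h₁₂ v := Subtype.ext
    (φE_uniq hg p D c₁ s₀ s₂ (h₀₁.trans h₁₂) v _ (φE hg p D c₁ s₁ s₂ h₁₂ _).2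
      ((φE_rel hg p D c₁ s₀ s₁ h₀₁ v).trans (φE_rel hg p D c₁ s₁ s₂ h₁₂ _))).symm

instance : Etale (EE hg p D c₁).obj.hom := ‹Etale c₁.U.hom›

/-- A cone of the induced descent datum identifies related points. -/
theorem cone_rel (cE : Cone ((SchDDFam.ofSchDD.{u} p).obj (EE hg p D c₁))) {T : Scheme.{u}}
    (u₀ u₁ : T ⟶ c₁.U.left) (h : Rel p D c₁ u₀ u₁) :
    u₀ ≫ cE.π PUnit.unit = u₁ ≫ cE.π PUnit.unit := by
  have h' : (u₀ ≫ c₁.U.hom) ≫ p = (u₁ ≫ c₁.U.hom) ≫ p := h.1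
  have key := cE.inv (i := PUnit.unit) (j := PUnit.unit) (u₀ ≫ c₁.U.hom) (u₁ ≫ c₁.U.hom) h'
    ⟨u₀, rfl⟩
  have e : (φE hg p D c₁ (u₀ ≫ c₁.U.hom) (u₁ ≫ c₁.U.hom) h' ⟨u₀, rfl⟩).1 = u₁ :=
    φE_uniq hg p D c₁ _ _ h' ⟨u₀, rfl⟩ u₁ rfl h
  change (φE hg p D c₁ (u₀ ≫ c₁.U.hom) (u₁ ≫ c₁.U.hom) h' ⟨u₀, rfl⟩).1 ≫ _ = _ at key
  rw [e] at key
  exact key.symm

end Groth.Agent.Helper21.EtFpqc
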