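import Mathlib
import Groth.Agent.Lib.Helper21.EtFpqc3

/-!
# The cone of the original datum obtained from a cone of the induced datum on the vertex
(helper21)
-/

set_option autoImplicit false
set_option backward.isDefEq.respectTransparency false
set_option backward.isDefEq.respectTransparency.types false
set_option linter.style.haveILetI false
set_option linter.unusedSectionVars false

open CategoryTheory CategoryTheory.Limits AlgebraicGeometry MorphismProperty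

universe u

namespace Groth.Agent.Helper21.EtFpqc

open Desc Groth.Agent.Helper21.DescA Groth.Agent.Helper21.DescFF Groth.Agent.Helper21.EtLoc

/-- Gluing along a single fpqc morphism. -/
theorem glue1 {Y T Z : Scheme.{u}} (π : Y ⟶ T) [Flat π] [Surjective π] [QuasiCompact π]
    (G : Y ⟶ Z) (hG : ∀ (T' : Scheme.{u}) (a b : T' ⟶ Y), a ≫ π = b ≫ π → a ≫ G = b ≫ G) :
    ∃! t : T ⟶ Z, π ≫ t = G := by
  have hπ : Presieve.ofArrows (fun _ : PUnit.{1} => Y) (fun _ => π) ∈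
      Scheme.fpqcPrecoverage T := by
    rw [Presieve.ofArrows_pUnit]
    exact Scheme.Hom.singleton_mem_fpqcPrecoverage π
  obtain ⟨t, ht, htu⟩ := glue_fpqc (fun _ : PUnit.{1} => π) hπ (fun _ => G)
    (fun _ _ T' a b hab => hG T' a b hab)
  exact ⟨t, ht PUnit.unit, fun t' ht' => htu t' (fun _ => ht')⟩

theorem ext1 {Y T Z : Scheme.{u}} (π : Y ⟶ T) [Flat π] [Surjective π] [QuasiCompact π]
    {t t' : T ⟶ Z} (h : π ≫ t = π ≫ t') : t = t' := by
  obtain ⟨s, -, hs⟩ := glue1 π (π ≫ t) (fun T' a b hab => by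
    rw [← Category.assoc, ← Category.assoc, hab])
  rw [hs t rfl, hs t' h.symm]

variable {S S' S₁ : Scheme.{u}} {g : S' ⟶ S} (hg : SGA1.UnivSubmersive g) (p : S₁ ⟶ S)
  (D : SchDDFam (fun _ : PUnit.{1} => g)) (c₁ : Cone (baseChange D p)) [Etale c₁.U.hom]

theorem π₁_hom_p : (c₁.π PUnit.unit ≫ c₁.U.hom) ≫ p =
    pullback.fst (D.obj PUnit.unit).hom (pullback.fst g p) ≫ (D.obj PUnit.unit).hom ≫ g := by
  rw [← (hpb₁ p D c₁).w, Category.assoc, ← pullback.condition (f := g) (g := p),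
    ← Category.assoc, ← pullback.condition, Category.assoc]

/-- `vpt` of the image of a point of `V₁`. -/
theorem vpt_of_pt {T : Scheme.{u}}
    (y : T ⟶ pullback (D.obj PUnit.unit).hom (pullback.fst g p)) (r : T ⟶ S')
    (hr : r ≫ g = ((y ≫ c₁.π PUnit.unit) ≫ c₁.U.hom) ≫ p)
    (hc : ((y ≫ pullback.fst (D.obj PUnit.unit).hom (pullback.fst g p)) ≫
      (D.obj PUnit.unit).hom) ≫ g = r ≫ g) :
    vpt p D c₁ r (y ≫ c₁.π PUnit.unit) hr =
      (D.φ (i := PUnit.unit) (j := PUnit.unit)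
        ((y ≫ pullback.fst (D.obj PUnit.unit).hom (pullback.fst g p)) ≫ (D.obj PUnit.unit).hom)
        r hc ⟨y ≫ pullback.fst (D.obj PUnit.unit).hom (pullback.fst g p), rfl⟩).1 := by
  have e0 : y ≫ pullback.snd (D.obj PUnit.unit).hom (pullback.fst g p) ≫ pullback.fst g p =
      (y ≫ pullback.fst (D.obj PUnit.unit).hom (pullback.fst g p)) ≫ (D.obj PUnit.unit).hom := by
    rw [Category.assoc, pullback.condition]
  have hry : (y ≫ pullback.snd (D.obj PUnit.unit).hom (pullback.fst g p) ≫ pullback.fst g p) ≫ g =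
      ((y ≫ c₁.π PUnit.unit) ≫ c₁.U.hom) ≫ p := by
    rw [e0, hc, hr]
  have e1 : y = ypt p D c₁ _ (y ≫ c₁.π PUnit.unit) hry := ypt_ext p D c₁ _ _ hry y rfl rfl
  have e2 : vpt p D c₁ _ (y ≫ c₁.π PUnit.unit) hry =
      y ≫ pullback.fst (D.obj PUnit.unit).hom (pullback.fst g p) := by
    unfold vpt
    rw [← e1]
  have h1 := φ_vpt p D c₁ _ r (y ≫ c₁.π PUnit.unit) hry hr
  rw [← h1]
  exact φ_congr D _ _ e0 rfl _ _ e2

/-- Points of `V₁` with the same image in `V` have related images in the vertex. -/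
theorem rel_of_fst_eq {T : Scheme.{u}}
    (a b : T ⟶ pullback (D.obj PUnit.unit).hom (pullback.fst g p))
    (hab : a ≫ pullback.fst (D.obj PUnit.unit).hom (pullback.fst g p) =
      b ≫ pullback.fst (D.obj PUnit.unit).hom (pullback.fst g p)) :
    Rel p D c₁ (a ≫ c₁.π PUnit.unit) (b ≫ c₁.π PUnit.unit) := by
  have hcond : ∀ {T' : Scheme.{u}}
      (y : T' ⟶ pullback (D.obj PUnit.unit).hom (pullback.fst g p)),
      ((y ≫ c₁.π PUnit.unit) ≫ c₁.U.hom) ≫ p =
        ((y ≫ pullback.fst (D.obj PUnit.unit).hom (pullback.fst g p)) ≫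
          (D.obj PUnit.unit).hom) ≫ g := by
    intro T' y
    have := π₁_hom_p p D c₁
    simp only [Category.assoc] at this ⊢
    rw [this]
  refine ⟨?_, fun T' t r h₀ h₁ => ?_⟩
  · rw [hcond a, hcond b, hab]
  · have ea : t ≫ a ≫ c₁.π PUnit.unit = (t ≫ a) ≫ c₁.π PUnit.unit :=
      (Category.assoc _ _ _).symm
    have eb : t ≫ b ≫ c₁.π PUnit.unit = (t ≫ b) ≫ c₁.π PUnit.unit :=
      (Category.assoc _ _ _).symm
    have h₀' : r ≫ g = (((t ≫ a) ≫ c₁.π PUnit.unit) ≫ c₁.U.hom) ≫ p := by rw [← ea]; exact h₀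
    have h₁' : r ≫ g = (((t ≫ b) ≫ c₁.π PUnit.unit) ≫ c₁.U.hom) ≫ p := by rw [← eb]; exact h₁
    have hca : (((t ≫ a) ≫ pullback.fst (D.obj PUnit.unit).hom (pullback.fst g p)) ≫
        (D.obj PUnit.unit).hom) ≫ g = r ≫ g := by rw [← hcond (t ≫ a), ← h₀']
    have hcb : (((t ≫ b) ≫ pullback.fst (D.obj PUnit.unit).hom (pullback.fst g p)) ≫
        (D.obj PUnit.unit).hom) ≫ g = r ≫ g := by rw [← hcond (t ≫ b), ← h₁']
    have hab' : (t ≫ a) ≫ pullback.fst (D.obj PUnit.unit).hom (pullback.fst g p) =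
        (t ≫ b) ≫ pullback.fst (D.obj PUnit.unit).hom (pullback.fst g p) := by
      rw [Category.assoc, hab, Category.assoc]
    calc vpt p D c₁ r (t ≫ a ≫ c₁.π PUnit.unit) h₀
        = vpt p D c₁ r ((t ≫ a) ≫ c₁.π PUnit.unit) h₀' := vpt_congr p D c₁ rfl ea _ _
      _ = _ := vpt_of_pt p D c₁ (t ≫ a) r h₀' hca
      _ = _ := φ_congr D _ _ (by rw [hab']) rfl _ _ hab'
      _ = vpt p D c₁ r ((t ≫ b) ≫ c₁.π PUnit.unit) h₁' := (vpt_of_pt p D c₁ (t ≫ b) r h₁' hcb).symm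
      _ = vpt p D c₁ r (t ≫ b ≫ c₁.π PUnit.unit) h₁ := vpt_congr p D c₁ rfl eb.symm _ _

end Groth.Agent.Helper21.EtFpqc
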