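import Mathlib
import Groth.Agent.Lib.Helper21.EtFpqc4

/-!
# Effectiveness of étale separated quasi-compact descent data relative to a universally submersive
morphism is fpqc-local on the base (helper21)
-/

set_option autoImplicit false
set_option backward.isDefEq.respectTransparency false
set_option backward.isDefEq.respectTransparency.types false
set_option linter.style.haveILetI false
set_option linter.unusedSectionVars false

open CategoryTheory CategoryTheory.Limits AlgebraicGeometry MorphismProperty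

universe u

namespace Groth.Agent.Helper21.EtFpqc

open Desc Groth.Agent.Helper21.DescA Groth.Agent.Helper21.DescFF Groth.Agent.Helper21.EtLoc

variable {S S' S₁ : Scheme.{u}} {g : S' ⟶ S} (hg : SGA1.UnivSubmersive g) (p : S₁ ⟶ S)
  [Flat p] [Surjective p] [QuasiCompact p]
  (D : SchDDFam (fun _ : PUnit.{1} => g)) (c₁ : Cone (baseChange D p)) [Etale c₁.U.hom]
  (cE : Cone ((SchDDFam.ofSchDD.{u} p).obj (EE hg p D c₁)))

theorem hpbE : IsPullback c₁.U.hom (cE.π PUnit.unit) p cE.U.hom := cE.isPullback PUnit.unit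

instance : Flat (cE.π PUnit.unit) :=
  MorphismProperty.of_isPullback (hpbE hg p D c₁ cE) inferInstance

instance : Surjective (cE.π PUnit.unit) :=
  MorphismProperty.of_isPullback (hpbE hg p D c₁ cE) inferInstance

instance : QuasiCompact (cE.π PUnit.unit) :=
  MorphismProperty.of_isPullback (hpbE hg p D c₁ cE) inferInstance

theorem exists_πD : ∃! πD : (D.obj PUnit.unit).left ⟶ cE.U.left,
    pullback.fst (D.obj PUnit.unit).hom (pullback.fst g p) ≫ πD =
      c₁.π PUnit.unit ≫ cE.π PUnit.unit :=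
  glue1 _ _ (fun T' a b hab => by
    have := cone_rel hg p D c₁ cE _ _ (rel_of_fst_eq p D c₁ a b hab)
    simpa only [Category.assoc] using this)

/-- The projection to the descended vertex. -/
noncomputable def πD : (D.obj PUnit.unit).left ⟶ cE.U.left :=
  (exists_πD hg p D c₁ cE).exists.choose

@[reassoc]
theorem fst_πD : pullback.fst (D.obj PUnit.unit).hom (pullback.fst g p) ≫ πD hg p D c₁ cE =
    c₁.π PUnit.unit ≫ cE.π PUnit.unit :=
  (exists_πD hg p D c₁ cE).exists.choose_spec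

theorem πD_comm : (D.obj PUnit.unit).hom ≫ g = πD hg p D c₁ cE ≫ cE.U.hom := by
  apply ext1 (pullback.fst (D.obj PUnit.unit).hom (pullback.fst g p))
  rw [fst_πD_assoc, ← (hpbE hg p D c₁ cE).w, ← π₁_hom_p p D c₁, Category.assoc]

/-- Points of the vertex with the same image in the descended vertex are related. -/
theorem rel_of_πE_eq {T : Scheme.{u}} (u₀ u₁ : T ⟶ c₁.U.left)
    (h : u₀ ≫ cE.π PUnit.unit = u₁ ≫ cE.π PUnit.unit) : Rel p D c₁ u₀ u₁ := by
  have h' : (u₀ ≫ c₁.U.hom) ≫ p = (u₁ ≫ c₁.U.hom) ≫ p := by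
    have e := (hpbE hg p D c₁ cE).w
    rw [Category.assoc, e, ← Category.assoc, h, Category.assoc, ← e, Category.assoc]
  have key := Groth.Agent.Helper21.DescTo.φ_eq_of_π cE (i := PUnit.unit) (j := PUnit.unit)
    u₀ u₁ h h'
  have hr := φE_rel hg p D c₁ (u₀ ≫ c₁.U.hom) (u₁ ≫ c₁.U.hom) h' ⟨u₀, rfl⟩
  change (φE hg p D c₁ (u₀ ≫ c₁.U.hom) (u₁ ≫ c₁.U.hom) h' ⟨u₀, rfl⟩).1 = u₁ at key
  rw [key] at hr
  exact hr

section lift

variable {T : Scheme.{u}} (x : T ⟶ S') (w : T ⟶ cE.U.left) (hxw : x ≫ g = w ≫ cE.U.hom)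

include hxw in
theorem lift_cond : (pullback.fst w (cE.π PUnit.unit) ≫ x) ≫ g =
    (pullback.snd w (cE.π PUnit.unit) ≫ c₁.U.hom) ≫ p := by
  rw [Category.assoc, hxw, ← Category.assoc, pullback.condition, Category.assoc,
    ← (hpbE hg p D c₁ cE).w, Category.assoc]

include hxw in
theorem exists_lift : ∃ v : T ⟶ (D.obj PUnit.unit).left,
    v ≫ (D.obj PUnit.unit).hom = x ∧ v ≫ πD hg p D c₁ cE = w := by
  obtain ⟨v, hv, -⟩ := glue1 (pullback.fst w (cE.π PUnit.unit))
    (vpt p D c₁ (pullback.fst w (cE.π PUnit.unit) ≫ x) (pullback.snd w (cE.π PUnit.unit))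
      (lift_cond hg p D c₁ cE x w hxw))
    (fun T' a b hab => by
      rw [vpt_comp, vpt_comp]
      have hrel : Rel p D c₁ (a ≫ pullback.snd w (cE.π PUnit.unit))
          (b ≫ pullback.snd w (cE.π PUnit.unit)) := by
        apply rel_of_πE_eq hg p D c₁ cE
        rw [Category.assoc, Category.assoc, ← pullback.condition, ← Category.assoc, hab,
          Category.assoc]
      have e1 : a ≫ pullback.fst w (cE.π PUnit.unit) ≫ x =
          b ≫ pullback.fst w (cE.π PUnit.unit) ≫ x := by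
        rw [← Category.assoc, hab, Category.assoc]
      have h2 := hrel.2 T' (𝟙 _) (a ≫ pullback.fst w (cE.π PUnit.unit) ≫ x)
        (by
          have := comp_cond p D c₁ _ _ (lift_cond hg p D c₁ cE x w hxw) a
          rw [Category.id_comp]; exact this)
        (by
          have := comp_cond p D c₁ _ _ (lift_cond hg p D c₁ cE x w hxw) b
          rw [Category.id_comp, e1]; exact this)
      exact (vpt_congr p D c₁ rfl (Category.id_comp _).symm _ _).trans
        (h2.trans (vpt_congr p D c₁ e1 (Category.id_comp _) _ _)))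
  refine ⟨v, ?_, ?_⟩
  · apply ext1 (pullback.fst w (cE.π PUnit.unit))
    rw [← Category.assoc, hv, vpt_hom]
  · apply ext1 (pullback.fst w (cE.π PUnit.unit))
    rw [← Category.assoc, hv]
    unfold vpt
    rw [Category.assoc, fst_πD, ypt_π_assoc, pullback.condition]

theorem lift_unique (v v' : T ⟶ (D.obj PUnit.unit).left)
    (h1 : v ≫ (D.obj PUnit.unit).hom = v' ≫ (D.obj PUnit.unit).hom)
    (h2 : v ≫ πD hg p D c₁ cE = v' ≫ πD hg p D c₁ cE) : v = v' := by
  obtain ⟨x, hx⟩ : ∃ x : T ⟶ S', x = v ≫ (D.obj PUnit.unit).hom := ⟨_, rfl⟩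
  obtain ⟨w, hw⟩ : ∃ w : T ⟶ cE.U.left, w = v ≫ πD hg p D c₁ cE := ⟨_, rfl⟩
  have hxw : x ≫ g = w ≫ cE.U.hom := by
    rw [hx, hw, Category.assoc, πD_comm hg p D c₁ cE, Category.assoc]
  have key : ∀ v'' : T ⟶ (D.obj PUnit.unit).left, v'' ≫ (D.obj PUnit.unit).hom = x →
      v'' ≫ πD hg p D c₁ cE = w → pullback.fst w (cE.π PUnit.unit) ≫ v'' =
        vpt p D c₁ (pullback.fst w (cE.π PUnit.unit) ≫ x) (pullback.snd w (cE.π PUnit.unit))
          (lift_cond hg p D c₁ cE x w hxw) := by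
    intro v'' hv1 hv2
    have hc1 : (pullback.fst w (cE.π PUnit.unit) ≫ x) ≫ g =
        (pullback.snd w (cE.π PUnit.unit) ≫ c₁.U.hom) ≫ p := lift_cond hg p D c₁ cE x w hxw
    have hc2 : (pullback.fst w (cE.π PUnit.unit) ≫ v'') ≫ (D.obj PUnit.unit).hom =
        pullback.lift (pullback.fst w (cE.π PUnit.unit) ≫ x)
          (pullback.snd w (cE.π PUnit.unit) ≫ c₁.U.hom) hc1 ≫ pullback.fst g p := by
      rw [pullback.lift_fst, Category.assoc, hv1]
    obtain ⟨Y, hY⟩ : ∃ Y : pullback w (cE.π PUnit.unit) ⟶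
        pullback (D.obj PUnit.unit).hom (pullback.fst g p),
        Y = pullback.lift (pullback.fst w (cE.π PUnit.unit) ≫ v'')
          (pullback.lift (pullback.fst w (cE.π PUnit.unit) ≫ x)
            (pullback.snd w (cE.π PUnit.unit) ≫ c₁.U.hom) hc1) hc2 := ⟨_, rfl⟩
    have hYf : Y ≫ pullback.fst (D.obj PUnit.unit).hom (pullback.fst g p) =
        pullback.fst w (cE.π PUnit.unit) ≫ v'' := by rw [hY, pullback.lift_fst]
    have hYs : Y ≫ pullback.snd (D.obj PUnit.unit).hom (pullback.fst g p) =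
        pullback.lift (pullback.fst w (cE.π PUnit.unit) ≫ x)
          (pullback.snd w (cE.π PUnit.unit) ≫ c₁.U.hom) hc1 := by rw [hY, pullback.lift_snd]
    have hYπ : Y ≫ c₁.π PUnit.unit = pullback.snd w (cE.π PUnit.unit) := by
      apply (hpbE hg p D c₁ cE).hom_ext
      · rw [Category.assoc, ← (hpb₁ p D c₁).w, ← Category.assoc, hYs, pullback.lift_snd]
      · rw [Category.assoc, ← fst_πD hg p D c₁ cE, ← Category.assoc, hYf, Category.assoc, hv2,
          pullback.condition]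
    have e : Y = ypt p D c₁ _ _ hc1 := by
      apply ypt_ext
      · rw [← Category.assoc, hYs, pullback.lift_fst]
      · exact hYπ
    unfold vpt
    rw [← e, hYf]
  apply ext1 (pullback.fst w (cE.π PUnit.unit))
  rw [key v hx.symm hw.symm, key v' (by rw [hx, h1]) (by rw [hw, h2])]

end lift

theorem isPullback_πD : IsPullback (D.obj PUnit.unit).hom (πD hg p D c₁ cE) g cE.U.hom := by
  refine ⟨⟨πD_comm hg p D c₁ cE⟩, ⟨PullbackCone.IsLimit.mk _
    (fun s => (exists_lift hg p D c₁ cE s.fst s.snd s.condition).choose)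
    (fun s => (exists_lift hg p D c₁ cE s.fst s.snd s.condition).choose_spec.1)
    (fun s => (exists_lift hg p D c₁ cE s.fst s.snd s.condition).choose_spec.2)
    (fun s m hm1 hm2 => ?_)⟩⟩
  apply lift_unique hg p D c₁ cE
  · rw [hm1, (exists_lift hg p D c₁ cE s.fst s.snd s.condition).choose_spec.1]
  · rw [hm2, (exists_lift hg p D c₁ cE s.fst s.snd s.condition).choose_spec.2]

theorem inv_πD ⦃T : Scheme.{u}⦄ (x₀ x₁ : T ⟶ S') (h : x₀ ≫ g = x₁ ≫ g)
    (v : Lifts (D.obj PUnit.unit) x₀) :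
    (D.φ (i := PUnit.unit) (j := PUnit.unit) x₀ x₁ h v).1 ≫ πD hg p D c₁ cE =
      v.1 ≫ πD hg p D c₁ cE := by
  obtain ⟨w, hw⟩ : ∃ w : Lifts (D.obj PUnit.unit) x₁,
    w = D.φ (i := PUnit.unit) (j := PUnit.unit) x₀ x₁ h v := ⟨_, rfl⟩
  rw [← hw]
  have hv : v.1 ≫ (D.obj PUnit.unit).hom = x₀ := v.2
  have hw2 : w.1 ≫ (D.obj PUnit.unit).hom = x₁ := w.2
  obtain ⟨τ, hτ⟩ : ∃ τ : pullback (x₀ ≫ g) p ⟶ T, τ = pullback.fst (x₀ ≫ g) p := ⟨_, rfl⟩
  obtain ⟨σ, hσ⟩ : ∃ σ : pullback (x₀ ≫ g) p ⟶ S₁, σ = pullback.snd (x₀ ≫ g) p := ⟨_, rfl⟩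
  have hτσ : τ ≫ x₀ ≫ g = σ ≫ p := by rw [hτ, hσ]; exact pullback.condition
  haveI : Flat τ := by rw [hτ]; infer_instance
  haveI : Surjective τ := by rw [hτ]; infer_instance
  haveI : QuasiCompact τ := by rw [hτ]; infer_instance
  apply ext1 τ
  have hc0 : (τ ≫ x₀) ≫ g = σ ≫ p := by rw [Category.assoc, hτσ]
  have hc1 : (τ ≫ x₁) ≫ g = σ ≫ p := by rw [Category.assoc, ← h, hτσ]
  have hA₀ : (τ ≫ v.1) ≫ (D.obj PUnit.unit).hom =
      pullback.lift (τ ≫ x₀) σ hc0 ≫ pullback.fst g p := by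
    rw [pullback.lift_fst, Category.assoc, hv]
  have hA₁ : (τ ≫ w.1) ≫ (D.obj PUnit.unit).hom =
      pullback.lift (τ ≫ x₁) σ hc1 ≫ pullback.fst g p := by
    rw [pullback.lift_fst, Category.assoc, hw2]
  obtain ⟨A₀, hA₀d⟩ : ∃ A₀ : pullback (x₀ ≫ g) p ⟶
      pullback (D.obj PUnit.unit).hom (pullback.fst g p),
      A₀ = pullback.lift (τ ≫ v.1) (pullback.lift (τ ≫ x₀) σ hc0) hA₀ := ⟨_, rfl⟩
  obtain ⟨A₁, hA₁d⟩ : ∃ A₁ : pullback (x₀ ≫ g) p ⟶
      pullback (D.obj PUnit.unit).hom (pullback.fst g p),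
      A₁ = pullback.lift (τ ≫ w.1) (pullback.lift (τ ≫ x₁) σ hc1) hA₁ := ⟨_, rfl⟩
  have hA₀f : A₀ ≫ pullback.fst (D.obj PUnit.unit).hom (pullback.fst g p) = τ ≫ v.1 := by
    rw [hA₀d, pullback.lift_fst]
  have hA₀s : A₀ ≫ pullback.snd (D.obj PUnit.unit).hom (pullback.fst g p) =
      pullback.lift (τ ≫ x₀) σ hc0 := by rw [hA₀d, pullback.lift_snd]
  have hA₁f : A₁ ≫ pullback.fst (D.obj PUnit.unit).hom (pullback.fst g p) = τ ≫ w.1 := by
    rw [hA₁d, pullback.lift_fst]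
  have hA₁s : A₁ ≫ pullback.snd (D.obj PUnit.unit).hom (pullback.fst g p) =
      pullback.lift (τ ≫ x₁) σ hc1 := by rw [hA₁d, pullback.lift_snd]
  have hh : (A₀ ≫ pullback.snd (D.obj PUnit.unit).hom (pullback.fst g p)) ≫ pullback.snd g p =
      (A₁ ≫ pullback.snd (D.obj PUnit.unit).hom (pullback.fst g p)) ≫ pullback.snd g p := by
    rw [hA₀s, hA₁s, pullback.lift_snd, pullback.lift_snd]
  have key := c₁.inv (i := PUnit.unit) (j := PUnit.unit) _ _ hh ⟨A₀, rfl⟩
  have e : ((baseChange D p).φ (i := PUnit.unit) (j := PUnit.unit) _ _ hh ⟨A₀, rfl⟩).1 = A₁ := by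
    rw [baseChange_φ_val]
    have eX₀ : (A₀ ≫ pullback.snd (D.obj PUnit.unit).hom (pullback.fst g p)) ≫
        pullback.fst g p = τ ≫ x₀ := by rw [hA₀s, pullback.lift_fst]
    have eX₁ : (A₁ ≫ pullback.snd (D.obj PUnit.unit).hom (pullback.fst g p)) ≫
        pullback.fst g p = τ ≫ x₁ := by rw [hA₁s, pullback.lift_fst]
    apply pullback.hom_ext
    · refine (pullback.lift_fst _ _ _).trans ?_
      rw [hA₁f, hw, φ_nat D τ x₀ x₁ h v]
      exact φ_congr D _ _ eX₀ eX₁ _ _ hA₀f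
    · rw [pullback.lift_snd]
  rw [e] at key
  have key' : A₁ ≫ c₁.π PUnit.unit = A₀ ≫ c₁.π PUnit.unit := key
  calc τ ≫ w.1 ≫ πD hg p D c₁ cE
      = A₁ ≫ pullback.fst (D.obj PUnit.unit).hom (pullback.fst g p) ≫ πD hg p D c₁ cE := by
        rw [← Category.assoc, ← hA₁f, Category.assoc]
    _ = A₀ ≫ pullback.fst (D.obj PUnit.unit).hom (pullback.fst g p) ≫ πD hg p D c₁ cE := by
        rw [fst_πD, ← Category.assoc, key', Category.assoc]
    _ = τ ≫ v.1 ≫ πD hg p D c₁ cE := by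
        rw [← Category.assoc, hA₀f, Category.assoc]

/-- The cone of `D` with the descended vertex. -/
noncomputable def coneD : Cone D where
  U := cE.U
  π := fun _ => πD hg p D c₁ cE
  isPullback := fun _ => isPullback_πD hg p D c₁ cE
  inv := fun T i j x₀ x₁ h v => inv_πD hg p D c₁ cE x₀ x₁ h v

end Groth.Agent.Helper21.EtFpqc
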