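import Mathlib
import Groth.Agent.Lib.Helper21.EtFpqc5

/-!
# S5122: effectiveness of étale separated quasi-compact descent data relative to a universally
submersive morphism is fpqc-local on the base (helper21)
-/

set_option autoImplicit false
set_option backward.isDefEq.respectTransparency false
set_option backward.isDefEq.respectTransparency.types false
set_option linter.style.haveILetI false
set_option linter.unusedSectionVars false

open CategoryTheory CategoryTheory.Limits AlgebraicGeometry MorphismProperty

universe u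

namespace Groth.Agent.Helper21.EtFpqc

open Desc Groth.Agent.Helper21.DescA Groth.Agent.Helper21.DescFF Groth.Agent.Helper21.EtLoc

theorem main5122 {S S' S₁ : Scheme.{u}} (g : S' ⟶ S) (hg : SGA1.UnivSubmersive g)
    (D : Desc.SchDDFam (fun _ : PUnit.{1} => g))
    (p : S₁ ⟶ S) [Flat p] [Surjective p] [QuasiCompact p] :
    (∃ U : Over S, Etale U.hom ∧ IsSeparated U.hom ∧ QuasiCompact U.hom ∧
      Nonempty ((Desc.toDDFam (fun _ : PUnit.{1} => g)).obj U ≅ D)) ↔
      (∃ U : Over S₁, Etale U.hom ∧ IsSeparated U.hom ∧ QuasiCompact U.hom ∧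
        Nonempty ((Desc.toDDFam (fun _ : PUnit.{1} => pullback.snd g p)).obj U ≅
          (Desc.pullDDFam (f := fun _ : PUnit.{1} => g)
            (f' := fun _ : PUnit.{1} => pullback.snd g p)
        (α := id) (p := p) (p' := fun _ => pullback.fst g p)
        (fun _ => pullback.condition)).obj D)) := by
  constructor
  · rintro ⟨U, h1, h2, h3, ⟨e⟩⟩
    obtain ⟨c, hc⟩ := exists_cone_of_iso U e.symm
    subst hc
    haveI := h1
    haveI := h2
    haveI := h3
    refine ⟨(baseChangeCone D c p).U, ?_, ?_, ?_, ⟨(baseChangeCone D c p).iso.symm⟩⟩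
    · change Etale (pullback.snd c.U.hom p)
      infer_instance
    · change IsSeparated (pullback.snd c.U.hom p)
      infer_instance
    · change QuasiCompact (pullback.snd c.U.hom p)
      infer_instance
  · rintro ⟨U₁, h1, h2, h3, ⟨e⟩⟩
    obtain ⟨c₁, hc₁⟩ := exists_cone_of_iso (D := baseChange D p) U₁ e.symm
    subst hc₁
    haveI : Etale c₁.U.hom := h1
    haveI : Etale (EE hg p D c₁).obj.hom := h1
    haveI : IsSeparated (EE hg p D c₁).obj.hom := h2
    haveI : QuasiCompact (EE hg p D c₁).obj.hom := h3
    obtain ⟨cE, hq, hs, he⟩ := etale_sep_qc_cone p (EE hg p D c₁)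
    exact ⟨cE.U, he, hs, hq, ⟨(coneD hg p D c₁ cE).iso.symm⟩⟩

end Groth.Agent.Helper21.EtFpqc
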