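import Mathlib
import Groth.Agent.Lib.Helper21.EtLoc3

/-!
# Plumbing for pulled back descent data: cones of pullbacks, transitivity, base change of
partial cones (helper21)
-/

set_option autoImplicit false
set_option backward.isDefEq.respectTransparency false
set_option backward.isDefEq.respectTransparency.types false
set_option linter.style.haveILetI false
set_option linter.unusedSectionVars false

open CategoryTheory CategoryTheory.Limits AlgebraicGeometry

universe u

namespace Groth.Agent.Helper21.EtStalk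

open Desc Groth.Agent.Helper21.DescA Groth.Agent.Helper21.EtLoc

section pull

variable {S : Scheme.{u}} {ι : Type} {X : ι → Scheme.{u}} {f : ∀ i, X i ⟶ S}
  {S₁ : Scheme.{u}} {X₁ : ι → Scheme.{u}} {f₁ : ∀ j, X₁ j ⟶ S₁}
  {p : S₁ ⟶ S} {p' : ∀ j, X₁ j ⟶ X j} (w : ∀ j, p' j ≫ f j = f₁ j ≫ p)

/-- pullback of a descent datum along a morphism of families (same index set). -/
noncomputable abbrev pull (D : SchDDFam f) : SchDDFam f₁ :=
  (pullDDFam (f := f) (f' := f₁) (α := id) (p := p) (p' := p') w).obj D

theorem pull_φ_val (D : SchDDFam f) {T : Scheme.{u}} {i k : ι} (x₀ : T ⟶ X₁ i) (x₁ : T ⟶ X₁ k)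
    (h : x₀ ≫ f₁ i = x₁ ≫ f₁ k) (v : Lifts ((pull w D).obj i) x₀) :
    ((pull w D).φ x₀ x₁ h v).1 =
      pullback.lift (D.φ (x₀ ≫ p' i) (x₁ ≫ p' k)
        (pull_compat (f := f) (f' := f₁) (α := id) (p := p) (p' := p') w x₀ x₁ h)
        ⟨v.1 ≫ pullback.fst (D.obj i).hom (p' i), by
          have e : v.1 ≫ pullback.snd (D.obj i).hom (p' i) = x₀ := v.2
          rw [Category.assoc, pullback.condition, ← Category.assoc, e]⟩).1 x₁
        (D.φ _ _ _ _).2 := rfl

/-- The pullback of a cone. -/
noncomputable def pullCone (D : SchDDFam f) (c : Cone D) : Cone (pull w D) where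
  U := Over.mk (pullback.snd c.U.hom p)
  π i := pullback.lift (pullback.fst (D.obj i).hom (p' i) ≫ c.π i)
      (pullback.snd (D.obj i).hom (p' i) ≫ f₁ i) (by
        rw [Category.assoc, ← (c.isPullback i).w, ← Category.assoc, pullback.condition,
          Category.assoc, Category.assoc, w])
  isPullback i := by
    have h1 := ((IsPullback.of_hasPullback (D.obj i).hom (p' i)).paste_horiz
      (c.isPullback i).flip).flip
    rw [w] at h1
    refine IsPullback.of_bot ?_ ?_ (IsPullback.of_hasPullback c.U.hom p).flip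
    · rw [pullback.lift_fst]
      exact h1
    · exact (pullback.lift_snd _ _ _).symm
  inv T i k x₀ x₁ h v := by
    have e : v.1 ≫ pullback.snd (D.obj i).hom (p' i) = x₀ := v.2
    apply pullback.hom_ext
    · rw [Category.assoc, pullback.lift_fst, Category.assoc, pullback.lift_fst,
        pull_φ_val, pullback.lift_fst_assoc, c.inv, Category.assoc]
    · rw [Category.assoc, pullback.lift_snd, Category.assoc, pullback.lift_snd,
        pull_φ_val, pullback.lift_snd_assoc, ← Category.assoc, e, h]

/-- Transport of cones along isomorphisms of descent data. -/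
theorem exists_cone_of_iso_cone {D D' : SchDDFam f} (e : D ≅ D') (c : Cone D) :
    ∃ c' : Cone D', c'.U = c.U :=
  exists_cone_of_iso c.U (e.symm ≪≫ c.iso)

/-- The pulled back datum only depends on the morphism of families. -/
theorem exists_cone_congr (D : SchDDFam f) {q : S₁ ⟶ S} {q' : ∀ j, X₁ j ⟶ X j}
    (w' : ∀ j, q' j ≫ f j = f₁ j ≫ q) (hp : p = q) (hp' : ∀ j, p' j = q' j)
    (c : Cone (pull w D)) : ∃ c' : Cone (pull w' D), c'.U = c.U := by
  have hp'' : p' = q' := funext hp'
  subst hp hp''
  exact ⟨c, rfl⟩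

variable {S₂ : Scheme.{u}} {X₂ : ι → Scheme.{u}} {f₂ : ∀ j, X₂ j ⟶ S₂}
  {q : S₂ ⟶ S₁} {q' : ∀ j, X₂ j ⟶ X₁ j} (w₂ : ∀ j, q' j ≫ f₁ j = f₂ j ≫ q)

include w w₂ in
theorem comp_compat (j : ι) : (q' j ≫ p' j) ≫ f j = f₂ j ≫ (q ≫ p) := by
  rw [Category.assoc, w, ← Category.assoc, w₂, Category.assoc]

theorem pullPull_aux_fst {A B C D' T : Scheme.{u}} (a : A ⟶ B) (b : C ⟶ B) (c : D' ⟶ C)
    (y : T ⟶ pullback a b) (x : T ⟶ D') (hy : y ≫ pullback.snd a b = x ≫ c) :
    (pullback.lift y x hy ≫ (pullbackLeftPullbackSndIso a b c).hom) ≫ pullback.fst a (c ≫ b) =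
      y ≫ pullback.fst a b := by
  rw [Category.assoc, pullbackLeftPullbackSndIso_hom_fst, pullback.lift_fst_assoc]

theorem pullPull_aux_snd {A B C D' T : Scheme.{u}} (a : A ⟶ B) (b : C ⟶ B) (c : D' ⟶ C)
    (y : T ⟶ pullback a b) (x : T ⟶ D') (hy : y ≫ pullback.snd a b = x ≫ c) :
    (pullback.lift y x hy ≫ (pullbackLeftPullbackSndIso a b c).hom) ≫ pullback.snd a (c ≫ b) =
      x := by
  rw [Category.assoc, pullbackLeftPullbackSndIso_hom_snd, pullback.lift_snd]

/-- Transitivity of pullbacks of descent data. -/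
noncomputable def pullPullIso (D : SchDDFam f) :
    pull w₂ (pull w D) ≅ pull (comp_compat w w₂) D :=
  isoMk _ _
    (fun i => Over.isoMk (pullbackLeftPullbackSndIso (D.obj i).hom (p' i) (q' i)) (by
      change (pullbackLeftPullbackSndIso (D.obj i).hom (p' i) (q' i)).hom ≫
        pullback.snd (D.obj i).hom (q' i ≫ p' i) = pullback.snd _ (q' i)
      exact pullbackLeftPullbackSndIso_hom_snd _ _ _))
    (fun T i k x₀ x₁ h v v' hv' => by
      have hv'' : v'.1 = v.1 ≫ (pullbackLeftPullbackSndIso (D.obj i).hom (p' i) (q' i)).hom := hv'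
      change _ = _ ≫ (pullbackLeftPullbackSndIso (D.obj k).hom (p' k) (q' k)).hom
      rw [pull_φ_val, pull_φ_val]
      apply pullback.hom_ext
      · refine (pullback.lift_fst _ _ _).trans (Eq.trans ?_ (pullPull_aux_fst _ _ _ _ _ _).symm)
        refine Eq.trans ?_ ((congrArg (· ≫ pullback.fst (D.obj k).hom (p' k))
          (pull_φ_val w D _ _ _ _)).trans (pullback.lift_fst _ _ _)).symm
        refine φ_congr D _ _ (Category.assoc _ _ _).symm (Category.assoc _ _ _).symm _ _ ?_
        change v'.1 ≫ pullback.fst _ _ = (v.1 ≫ pullback.fst _ _) ≫ pullback.fst _ _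
        rw [hv'']
        exact (Category.assoc _ _ _).trans ((congrArg (fun t => v.1 ≫ t)
          (pullbackLeftPullbackSndIso_hom_fst (D.obj i).hom (p' i) (q' i))).trans
          (Category.assoc _ _ _).symm)
      · exact (pullback.lift_snd _ _ _).trans (pullPull_aux_snd _ _ _ _ _ _).symm)

include w₂ in
/-- **Lemma T**: a cone of a pulled back datum pulls back further, along a composite. -/
theorem exists_cone_comp (D : SchDDFam f) (c : Cone (pull w D))
    {r : S₂ ⟶ S} {r' : ∀ j, X₂ j ⟶ X j} (w₃ : ∀ j, r' j ≫ f j = f₂ j ≫ r)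
    (hr : q ≫ p = r) (hr' : ∀ j, q' j ≫ p' j = r' j) :
    ∃ c' : Cone (pull w₃ D), c'.U = Over.mk (pullback.snd c.U.hom q) := by
  obtain ⟨c₁, hc₁⟩ := exists_cone_of_iso_cone (pullPullIso w w₂ D) (pullCone w₂ (pull w D) c)
  obtain ⟨c₂, hc₂⟩ := exists_cone_congr (comp_compat w w₂) D w₃ hr hr' c₁
  exact ⟨c₂, hc₂.trans hc₁⟩

/-- Conversely, a cone of the pullback along a composite gives a cone of the iterated
pullback. -/
theorem exists_cone_pull_pull (D : SchDDFam f) (c : Cone (pull (comp_compat w w₂) D)) :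
    ∃ c' : Cone (pull w₂ (pull w D)), c'.U = c.U :=
  exists_cone_of_iso_cone (pullPullIso w w₂ D).symm c

end pull

section pcone

variable {S : Scheme.{u}} {ι : Type} [Unique ι] {X : ι → Scheme.{u}} {f : ∀ i, X i ⟶ S}

/-- Base change of a partial cone. -/
noncomputable def pconeBaseChange (D : SchDDFam f) (E : PCone D) {S₁ : Scheme.{u}} (p : S₁ ⟶ S) :
    PCone (baseChange D p) where
  Y i := pullback (E.j i) (pullback.fst (D.obj i).hom (pullback.fst (f i) p))
  j i := pullback.snd _ _
  hj i := inferInstance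
  U := Over.mk (pullback.snd E.U.hom p)
  et := by
    change Etale (pullback.snd E.U.hom p)
    infer_instance
  π i := pullback.lift (pullback.fst _ _ ≫ E.π i)
    (pullback.snd _ _ ≫ pullback.snd (D.obj i).hom (pullback.fst (f i) p) ≫
      pullback.snd (f i) p) (by
      have h1 := (E.isPullback i).w
      rw [Category.assoc, ← h1, ← Category.assoc, ← Category.assoc, pullback.condition,
        Category.assoc, Category.assoc, Category.assoc, Category.assoc,
        ← pullback.condition (f := f i) (g := p),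
        ← pullback.condition_assoc (f := (D.obj i).hom) (g := pullback.fst (f i) p)])
  isPullback i := by
    have hA : IsPullback (pullback.fst (E.j i) (pullback.fst (D.obj i).hom (pullback.fst (f i) p)))
        (pullback.snd (E.j i) (pullback.fst (D.obj i).hom (pullback.fst (f i) p)) ≫
          pullback.snd (D.obj i).hom (pullback.fst (f i) p))
        (E.j i ≫ (D.obj i).hom) (pullback.fst (f i) p) :=
      (IsPullback.of_hasPullback (E.j i)
        (pullback.fst (D.obj i).hom (pullback.fst (f i) p))).paste_vert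
        (IsPullback.of_hasPullback (D.obj i).hom (pullback.fst (f i) p))
    have hB := (hA.paste_horiz (E.isPullback i).flip).flip
    rw [pullback.condition] at hB
    refine IsPullback.of_bot ?_ ?_ (IsPullback.of_hasPullback E.U.hom p).flip
    · rw [pullback.lift_fst]
      exact hB
    · exact (Category.assoc _ _ _).trans (pullback.lift_snd _ _ _).symm
  rel T i k x₀ x₁ h v y hy := by
    have hv : v.1 ≫ pullback.snd (D.obj i).hom (pullback.fst (f i) p) = x₀ := v.2
    have hy' : (y ≫ pullback.fst (E.j i) _) ≫ E.j i =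
        v.1 ≫ pullback.fst (D.obj i).hom (pullback.fst (f i) p) := by
      rw [Category.assoc, pullback.condition, ← Category.assoc, hy]
    have hφ1 : ((baseChange D p).φ x₀ x₁ h v).1 ≫
        pullback.fst (D.obj k).hom (pullback.fst (f k) p) = _ :=
      (congrArg (· ≫ pullback.fst (D.obj k).hom (pullback.fst (f k) p))
        (baseChange_φ_val D p x₀ x₁ h v)).trans (pullback.lift_fst _ _ _)
    have hφ2 : ((baseChange D p).φ x₀ x₁ h v).1 ≫
        pullback.snd (D.obj k).hom (pullback.fst (f k) p) = x₁ := ((baseChange D p).φ x₀ x₁ h v).2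
    obtain ⟨y'', h1, h2⟩ := E.rel (x₀ ≫ pullback.fst (f i) p) (x₁ ≫ pullback.fst (f k) p)
      (pull_compat (f := f) (f' := fun i => pullback.snd (f i) p) (α := id) (p := p)
          (p' := fun i => pullback.fst (f i) p) (fun _ => pullback.condition) x₀ x₁ h)
      ⟨v.1 ≫ pullback.fst (D.obj i).hom (pullback.fst (f i) p), by
        rw [Category.assoc, pullback.condition, ← Category.assoc, hv]⟩
      (y ≫ pullback.fst (E.j i) _) hy'
    rw [← hφ1] at h1
    obtain ⟨Φ, hΦ⟩ : ∃ Φ, Φ = ((baseChange D p).φ x₀ x₁ h v).1 := ⟨_, rfl⟩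
    rw [← hΦ] at h1 hφ2 ⊢
    refine ⟨pullback.lift y'' Φ h1, pullback.lift_snd _ _ _, ?_⟩
    apply pullback.hom_ext
    · rw [Category.assoc, pullback.lift_fst, pullback.lift_fst_assoc, h2, Category.assoc,
        Category.assoc, pullback.lift_fst]
    · rw [Category.assoc, pullback.lift_snd, pullback.lift_snd_assoc, Category.assoc,
        pullback.lift_snd, ← Category.assoc, ← Category.assoc, hy, ← Category.assoc, hφ2,
        hv, h]

theorem pconeBaseChange_range (D : SchDDFam f) (E : PCone D) {S₁ : Scheme.{u}} (p : S₁ ⟶ S)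
    (i : ι) : Set.range ((pconeBaseChange D E p).j i).base =
      (pullback.fst (D.obj i).hom (pullback.fst (f i) p)).base ⁻¹' (Set.range (E.j i).base) := by
  change Set.range (pullback.snd (E.j i) _).base = _
  rw [Scheme.Pullback.range_snd]
  rfl

end pcone

end Groth.Agent.Helper21.EtStalk
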