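import Mathlib

/-!
# `Z ×_S Spec O_{S,a}` as the limit of `Z ×_S W` over affine open neighbourhoods `W` of `a`
(helper21)
-/

set_option autoImplicit false
set_option backward.isDefEq.respectTransparency false
set_option backward.isDefEq.respectTransparency.types false
set_option linter.style.haveILetI false
set_option linter.unusedSectionVars false

open CategoryTheory CategoryTheory.Limits AlgebraicGeometry

universe u

namespace Groth.Agent.Helper21.EtStalk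

variable {S : Scheme.{u}}

/-- Lifting a morphism into an affine neighbourhood of `a` to `Spec O_{S,a}`. -/
theorem exists_lift_stalk {P : Scheme.{u}} {a : S} {W₀ : S.Opens} (hW₀ : IsAffineOpen W₀)
    (ha : a ∈ W₀) (w₀ : P ⟶ W₀)
    (hw : ∀ s : Γ(S, W₀), a ∈ S.basicOpen s → ∀ x : P, (W₀.ι (w₀ x)) ∈ S.basicOpen s) :
    ∃ τ : P ⟶ Spec (S.presheaf.stalk a), τ ≫ W₀.fromSpecStalkOfMem a ha = w₀ := by
  let ρ : Γ(S, W₀) ⟶ Γ(P, ⊤) := W₀.topIso.inv ≫ w₀.appTop
  have hN : w₀ ≫ W₀.toSpecΓ = P.toSpecΓ ≫ Spec.map ρ := by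
    rw [Scheme.Opens.toSpecΓ, ← Category.assoc, Scheme.toSpecΓ_naturality, Category.assoc,
      ← Spec.map_comp]
  letI : Algebra Γ(S, W₀) (S.presheaf.stalk a) :=
    TopCat.Presheaf.algebra_section_stalk S.presheaf ⟨a, ha⟩
  haveI := hW₀.isLocalization_stalk ⟨a, ha⟩
  have hunit : ∀ y : (hW₀.primeIdealOf ⟨a, ha⟩).asIdeal.primeCompl, IsUnit (ρ.hom y) := by
    intro y
    have h1 : IsUnit (algebraMap Γ(S, W₀) (S.presheaf.stalk a) y) :=
      (IsLocalization.AtPrime.isUnit_to_map_iff (S.presheaf.stalk a)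
        (hW₀.primeIdealOf ⟨a, ha⟩).asIdeal y.1).mpr y.2
    have h2 : a ∈ S.basicOpen (y : Γ(S, W₀)) := (S.mem_basicOpen _ a ha).mpr h1
    refine RingedSpace.isUnit_of_isUnit_germ _ _ _ (fun x hx => ?_)
    refine (P.mem_basicOpen _ x hx).mp ?_
    have h3 := hw y.1 h2 x
    rw [← Scheme.Opens.ι_image_basicOpen_topIso_inv] at h3
    obtain ⟨z, hz, hz'⟩ := h3
    have hz'' : z = w₀ x := W₀.ι.isOpenEmbedding.injective hz'
    subst hz''
    change x ∈ P.basicOpen (w₀.appTop.hom (W₀.topIso.inv.hom y.1))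
    rw [← Scheme.preimage_basicOpen_top]
    exact hz
  let lam : S.presheaf.stalk a ⟶ Γ(P, ⊤) :=
    CommRingCat.ofHom (IsLocalization.lift (S := ↑(S.presheaf.stalk a)) hunit)
  have hlam : S.presheaf.germ W₀ a ha ≫ lam = ρ := by
    ext x
    exact IsLocalization.lift_eq (S := ↑(S.presheaf.stalk a)) hunit x
  refine ⟨P.toSpecΓ ≫ Spec.map lam, ?_⟩
  haveI : IsIso W₀.toSpecΓ := by rw [← hW₀.isoSpec_hom]; infer_instance
  rw [← cancel_mono W₀.toSpecΓ, Category.assoc, Category.assoc,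
    Scheme.Opens.fromSpecStalkOfMem_toSpecΓ, ← Spec.map_comp, hlam, hN]

variable (a : S) (W₁ : S.Opens)

/-- Affine open neighbourhoods of `a` inside `W₁`. -/
abbrev NI : Type u := {W : S.Opens // IsAffineOpen W ∧ a ∈ W ∧ W ≤ W₁}

variable {a W₁}

theorem NI.le_iff {W W' : NI a W₁} : W ≤ W' ↔ W.1 ≤ W'.1 := Iff.rfl

theorem NI.exists_le (ha₁ : a ∈ W₁) (V : S.Opens) (hV : a ∈ V) :
    ∃ W : NI a W₁, W.1 ≤ V := by
  obtain ⟨W, hW, haW, hWV⟩ := exists_isAffineOpen_mem_and_subset (x := a) (U := V ⊓ W₁) ⟨hV, ha₁⟩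
  exact ⟨⟨W, hW, haW, fun x hx => (hWV hx).2⟩, fun x hx => (hWV hx).1⟩

theorem NI.nonempty (ha₁ : a ∈ W₁) : Nonempty (NI a W₁) :=
  let ⟨W, _⟩ := NI.exists_le ha₁ ⊤ trivial
  ⟨W⟩

theorem NI.exists_le_le (W W' : NI a W₁) : ∃ W'' : NI a W₁, W'' ≤ W ∧ W'' ≤ W' := by
  obtain ⟨W'', h⟩ := NI.exists_le (W₁ := W₁) (W.2.2.2 W.2.2.1) (W.1 ⊓ W'.1) ⟨W.2.2.1, W'.2.2.1⟩
  exact ⟨W'', fun x hx => (h hx).1, fun x hx => (h hx).2⟩

theorem NI.isCofiltered (ha₁ : a ∈ W₁) : IsCofiltered (NI a W₁) := by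
  haveI : Nonempty (NI a W₁) := NI.nonempty ha₁
  haveI : IsCodirectedOrder (NI a W₁) := ⟨fun W W' => by
    obtain ⟨W'', h1, h2⟩ := NI.exists_le_le W W'
    exact ⟨W'', h1, h2⟩⟩
  exact isCofiltered_of_directed_ge_nonempty _

variable {Z : Scheme.{u}} (h : Z ⟶ S)

variable (a W₁) in
/-- The diagram `W ↦ Z ×_S W`. -/
noncomputable def ZD : NI a W₁ ⥤ Scheme.{u} where
  obj W := pullback h W.1.ι
  map {W W'} f := pullback.lift (pullback.fst h W.1.ι)
    (pullback.snd h W.1.ι ≫ S.homOfLE (leOfHom f))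
    (by rw [Category.assoc, Scheme.homOfLE_ι, pullback.condition])
  map_id W := by apply pullback.hom_ext <;> simp
  map_comp f g := by apply pullback.hom_ext <;> simp

@[simp, reassoc] theorem ZD_map_fst {W W' : NI a W₁} (f : W ⟶ W') :
    (ZD a W₁ h).map f ≫ pullback.fst h W'.1.ι = pullback.fst h W.1.ι := by
  simp [ZD]

@[simp, reassoc] theorem ZD_map_snd {W W' : NI a W₁} (f : W ⟶ W') :
    (ZD a W₁ h).map f ≫ pullback.snd h W'.1.ι = pullback.snd h W.1.ι ≫ S.homOfLE (leOfHom f) := by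
  simp [ZD]

variable (a W₁) in
/-- The cone with vertex `Z ×_S Spec O_{S,a}`. -/
noncomputable def Zc : Cone (ZD a W₁ h) where
  pt := pullback h (S.fromSpecStalk a)
  π :=
    { app := fun W => pullback.lift (pullback.fst h (S.fromSpecStalk a))
        (pullback.snd h (S.fromSpecStalk a) ≫ W.1.fromSpecStalkOfMem a W.2.2.1)
        (by rw [Category.assoc, Scheme.Opens.fromSpecStalkOfMem_ι, pullback.condition])
      naturality := fun W W' f => by
        apply pullback.hom_ext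
        · simp
        · rw [← cancel_mono W'.1.ι]
          simp }

@[simp, reassoc] theorem Zc_π_fst (W : NI a W₁) :
    (Zc a W₁ h).π.app W ≫ pullback.fst h W.1.ι = pullback.fst h (S.fromSpecStalk a) := by
  simp [Zc]

@[simp, reassoc] theorem Zc_π_snd (W : NI a W₁) :
    (Zc a W₁ h).π.app W ≫ pullback.snd h W.1.ι =
      pullback.snd h (S.fromSpecStalk a) ≫ W.1.fromSpecStalkOfMem a W.2.2.1 := by
  simp [Zc]

instance (W : S.Opens) (ha : a ∈ W) : Mono (W.fromSpecStalkOfMem a ha) := by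
  have : Mono (W.fromSpecStalkOfMem a ha ≫ W.ι) := by
    rw [Scheme.Opens.fromSpecStalkOfMem_ι]; infer_instance
  exact mono_of_mono _ W.ι

theorem cone_fst_eq (s : Cone (ZD a W₁ h)) (W W' : NI a W₁) :
    s.π.app W ≫ pullback.fst h W.1.ι = s.π.app W' ≫ pullback.fst h W'.1.ι := by
  obtain ⟨W'', h1, h2⟩ := NI.exists_le_le W W'
  rw [← s.w (homOfLE h1), ← s.w (homOfLE h2), Category.assoc, Category.assoc, ZD_map_fst,
    ZD_map_fst]

theorem ι_homOfLE_apply {W W' : S.Opens} (hle : W ≤ W') (y : W) :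
    W'.ι (S.homOfLE hle y) = W.ι y := by
  rw [← Scheme.Hom.comp_apply, Scheme.homOfLE_ι]

theorem exists_tau (ha₁ : a ∈ W₁) (W₀ : NI a W₁) (s : Cone (ZD a W₁ h)) :
    ∃ τ : s.pt ⟶ Spec (S.presheaf.stalk a),
      τ ≫ W₀.1.fromSpecStalkOfMem a W₀.2.2.1 = s.π.app W₀ ≫ pullback.snd h W₀.1.ι := by
  refine exists_lift_stalk W₀.2.1 W₀.2.2.1 _ (fun r hr x => ?_)
  obtain ⟨W', hW'⟩ := NI.exists_le ha₁ (S.basicOpen r ⊓ W₀.1) ⟨hr, W₀.2.2.1⟩
  have hle : W' ≤ W₀ := fun y hy => (hW' hy).2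
  have e : s.π.app W₀ ≫ pullback.snd h W₀.1.ι =
      (s.π.app W' ≫ pullback.snd h W'.1.ι) ≫ S.homOfLE hle := by
    rw [← s.w (homOfLE hle), Category.assoc, ZD_map_snd, Category.assoc]
  rw [e, Scheme.Hom.comp_apply, ι_homOfLE_apply]
  exact (hW' ((s.π.app W' ≫ pullback.snd h W'.1.ι) x).2).1

/-- `Z ×_S Spec O_{S,a}` is the limit of the `Z ×_S W`. -/
noncomputable def Zlim (ha₁ : a ∈ W₁) : IsLimit (Zc a W₁ h) := by
  have hne := NI.nonempty ha₁
  let W₀ := hne.some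
  choose τ hτ using exists_tau h ha₁ W₀
  have hcond : ∀ s : Cone (ZD a W₁ h), (s.π.app W₀ ≫ pullback.fst h W₀.1.ι) ≫ h =
      τ s ≫ S.fromSpecStalk a := fun s => by
    rw [← Scheme.Opens.fromSpecStalkOfMem_ι W₀.1 a W₀.2.2.1, ← Category.assoc, hτ,
      Category.assoc, Category.assoc, pullback.condition]
  refine
  { lift := fun s => pullback.lift (s.π.app W₀ ≫ pullback.fst h W₀.1.ι) (τ s) (hcond s)
    fac := fun s W => ?_
    uniq := fun s m hm => ?_ }
  · apply pullback.hom_ext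
    · rw [Category.assoc, Zc_π_fst, pullback.lift_fst]
      exact cone_fst_eq h s W₀ W
    · rw [Category.assoc, Zc_π_snd, pullback.lift_snd_assoc, ← cancel_mono W.1.ι,
        Category.assoc, Scheme.Opens.fromSpecStalkOfMem_ι]
      calc τ s ≫ S.fromSpecStalk a = (s.π.app W₀ ≫ pullback.fst h W₀.1.ι) ≫ h := (hcond s).symm
        _ = (s.π.app W ≫ pullback.fst h W.1.ι) ≫ h := by rw [cone_fst_eq h s W₀ W]
        _ = (s.π.app W ≫ pullback.snd h W.1.ι) ≫ W.1.ι := by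
          rw [Category.assoc, pullback.condition, Category.assoc]
  · apply pullback.hom_ext
    · rw [pullback.lift_fst, ← hm W₀, Category.assoc, Zc_π_fst]
    · rw [pullback.lift_snd, ← cancel_mono (W₀.1.fromSpecStalkOfMem a W₀.2.2.1), hτ, ← hm W₀,
        Category.assoc, Category.assoc, Zc_π_snd]

theorem isPullback_ZD_map {W W' : NI a W₁} (f : W ⟶ W') :
    IsPullback ((ZD a W₁ h).map f) (pullback.snd h W.1.ι) (pullback.snd h W'.1.ι)
      (S.homOfLE (leOfHom f)) := by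
  refine IsPullback.of_right ?_ (ZD_map_snd h f) (IsPullback.of_hasPullback h W'.1.ι)
  rw [ZD_map_fst, Scheme.homOfLE_ι]
  exact IsPullback.of_hasPullback h W.1.ι

instance (W : NI a W₁) : IsAffine (W.1 : Scheme.{u}) := W.2.1

instance {W W' : NI a W₁} (f : W ⟶ W') : IsAffineHom ((ZD a W₁ h).map f) :=
  MorphismProperty.of_isPullback (P := @IsAffineHom) (isPullback_ZD_map h f).flip inferInstance

theorem compactSpace_of_quasiCompact [QuasiCompact h] (W : NI a W₁) :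
    CompactSpace ↥(pullback h W.1.ι) :=
  QuasiCompact.compactSpace_of_compactSpace (pullback.snd h W.1.ι)

theorem quasiSeparatedSpace_of_quasiSeparated [QuasiSeparated h] (W : NI a W₁) :
    QuasiSeparatedSpace ↥(pullback h W.1.ι) :=
  AlgebraicGeometry.quasiSeparatedSpace_of_quasiSeparated (pullback.snd h W.1.ι)

variable (a W₁) in
/-- The structure morphisms to a base `B`. -/
noncomputable def Zt {B : Scheme.{u}} (t₀ : Z ⟶ B) :
    ZD a W₁ h ⟶ (Functor.const (NI a W₁)).obj B where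
  app W := pullback.fst h W.1.ι ≫ t₀
  naturality W W' f := by
    simp only [Functor.const_obj_obj, Functor.const_obj_map, Category.comp_id]
    rw [← Category.assoc, ZD_map_fst]

/-- **Spreading out morphisms (existence)**. -/
theorem spread_exists (ha₁ : a ∈ W₁)
    [hqc : ∀ W : NI a W₁, CompactSpace ↥(pullback h W.1.ι)]
    [hqs : ∀ W : NI a W₁, QuasiSeparatedSpace ↥(pullback h W.1.ι)]
    {B X : Scheme.{u}} (f : X ⟶ B) [LocallyOfFinitePresentation f] (t₀ : Z ⟶ B)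
    (α : pullback h (S.fromSpecStalk a) ⟶ X)
    (hα : α ≫ f = pullback.fst h (S.fromSpecStalk a) ≫ t₀) :
    ∃ (W : NI a W₁) (m : pullback h W.1.ι ⟶ X),
      (Zc a W₁ h).π.app W ≫ m = α ∧ m ≫ f = pullback.fst h W.1.ι ≫ t₀ := by
  haveI := NI.isCofiltered ha₁
  haveI : ∀ W, CompactSpace ↥((ZD a W₁ h).obj W) := hqc
  haveI : ∀ W, QuasiSeparatedSpace ↥((ZD a W₁ h).obj W) := hqs
  obtain ⟨W, m, h1, h2⟩ := Scheme.exists_π_app_comp_eq_of_locallyOfFinitePresentation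
    (ZD a W₁ h) (Zt a W₁ h t₀) f (Zc a W₁ h) (Zlim h ha₁) α (by
      ext W
      simp only [NatTrans.comp_app, Functor.const_obj_obj, Functor.const_map_app, Zt]
      rw [← Category.assoc, Zc_π_fst, hα])
  exact ⟨W, m, h1, h2⟩

/-- **Spreading out morphisms (uniqueness)**. -/
theorem spread_unique (ha₁ : a ∈ W₁)
    [hqc : ∀ W : NI a W₁, CompactSpace ↥(pullback h W.1.ι)]
    {B X : Scheme.{u}} (f : X ⟶ B) [LocallyOfFiniteType f] (t₀ : Z ⟶ B) (W : NI a W₁)
    (m₁ m₂ : pullback h W.1.ι ⟶ X) (h₁ : m₁ ≫ f = pullback.fst h W.1.ι ≫ t₀)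
    (h₂ : m₂ ≫ f = pullback.fst h W.1.ι ≫ t₀)
    (heq : (Zc a W₁ h).π.app W ≫ m₁ = (Zc a W₁ h).π.app W ≫ m₂) :
    ∃ (W' : NI a W₁) (hle : W' ≤ W),
      (ZD a W₁ h).map (homOfLE hle) ≫ m₁ = (ZD a W₁ h).map (homOfLE hle) ≫ m₂ := by
  haveI := NI.isCofiltered ha₁
  haveI : ∀ W, CompactSpace ↥((ZD a W₁ h).obj W) := hqc
  obtain ⟨W', f', hf'⟩ := Scheme.exists_hom_comp_eq_comp_of_locallyOfFiniteType
    (ZD a W₁ h) (Zt a W₁ h t₀) f (Zc a W₁ h) (Zlim h ha₁) m₁ m₂ h₁.symm h₂.symm heq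
  exact ⟨W', leOfHom f', hf'⟩

/-- **Spreading out emptiness**. -/
theorem spread_empty (ha₁ : a ∈ W₁)
    [hqc : ∀ W : NI a W₁, CompactSpace ↥(pullback h W.1.ι)]
    (hempty : IsEmpty ↥(pullback h (S.fromSpecStalk a))) :
    ∃ W : NI a W₁, IsEmpty ↥(pullback h W.1.ι) := by
  by_contra hcon
  simp only [not_exists, not_isEmpty_iff] at hcon
  haveI := NI.isCofiltered ha₁
  haveI : ∀ W, CompactSpace ↥((ZD a W₁ h).obj W) := hqc
  haveI : ∀ W, Nonempty ↥((ZD a W₁ h).obj W) := hcon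
  have := Scheme.nonempty_of_isLimit (ZD a W₁ h) (Zc a W₁ h) (Zlim h ha₁)
  exact hempty.false this.some

end Groth.Agent.Helper21.EtStalk
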