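import Mathlib
import Groth.Agent.Lib.Helper21.EtStalk1

/-!
# Pro-open germ systems: abstract form of `Spec O_{S,a} = lim W` and spreading out (helper21)
-/

set_option autoImplicit false
set_option backward.isDefEq.respectTransparency false
set_option backward.isDefEq.respectTransparency.types false
set_option linter.style.haveILetI false
set_option linter.unusedSectionVars false

open CategoryTheory CategoryTheory.Limits AlgebraicGeometry

universe u

namespace Groth.Agent.Helper21.EtStalk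

/-- A pro-open germ system over `S₁`: a cofiltered system of affine schemes `V i ⟶ S₁` with limit
`T ⟶ S₁`. -/
structure ProOpen (S₁ : Scheme.{u}) where
  I : Type u
  [cat : Category.{u} I]
  [cof : IsCofiltered I]
  D₀ : I ⥤ Scheme.{u}
  aff : ∀ i, IsAffine (D₀.obj i)
  ν : D₀ ⟶ (Functor.const I).obj S₁
  c₀ : Cone D₀
  hc₀ : IsLimit c₀
  τ₀ : c₀.pt ⟶ S₁
  hτ₀ : ∀ i, c₀.π.app i ≫ ν.app i = τ₀

attribute [instance] ProOpen.cat ProOpen.cof ProOpen.aff

namespace ProOpen

variable {S₁ : Scheme.{u}} (P : ProOpen S₁) {Z : Scheme.{u}} (h : Z ⟶ S₁)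

@[reassoc] theorem ν_nat {i j : P.I} (f : i ⟶ j) : P.D₀.map f ≫ P.ν.app j = P.ν.app i := by
  have := P.ν.naturality f
  simpa using this

/-- The diagram `i ↦ Z ×_{S₁} V i`. -/
noncomputable def ZD : P.I ⥤ Scheme.{u} where
  obj i := pullback h (P.ν.app i)
  map {i j} f := pullback.lift (pullback.fst h (P.ν.app i))
    (pullback.snd h (P.ν.app i) ≫ P.D₀.map f)
    (by rw [Category.assoc, P.ν_nat, pullback.condition])
  map_id i := by apply pullback.hom_ext <;> simp
  map_comp f g := by apply pullback.hom_ext <;> simp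

@[simp, reassoc] theorem ZD_map_fst {i j : P.I} (f : i ⟶ j) :
    (P.ZD h).map f ≫ pullback.fst h (P.ν.app j) = pullback.fst h (P.ν.app i) := by
  simp [ZD]

@[simp, reassoc] theorem ZD_map_snd {i j : P.I} (f : i ⟶ j) :
    (P.ZD h).map f ≫ pullback.snd h (P.ν.app j) = pullback.snd h (P.ν.app i) ≫ P.D₀.map f := by
  simp [ZD]

/-- The cone with vertex `Z ×_{S₁} T`. -/
noncomputable def Zc : Cone (P.ZD h) where
  pt := pullback h P.τ₀
  π :=
    { app := fun i => pullback.lift (pullback.fst h P.τ₀) (pullback.snd h P.τ₀ ≫ P.c₀.π.app i)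
        (by rw [Category.assoc, P.hτ₀, pullback.condition])
      naturality := fun i j f => by
        apply pullback.hom_ext
        · simp
        · simp }

@[simp, reassoc] theorem Zc_π_fst (i : P.I) :
    (P.Zc h).π.app i ≫ pullback.fst h (P.ν.app i) = pullback.fst h P.τ₀ := by
  simp [Zc]

@[simp, reassoc] theorem Zc_π_snd (i : P.I) :
    (P.Zc h).π.app i ≫ pullback.snd h (P.ν.app i) = pullback.snd h P.τ₀ ≫ P.c₀.π.app i := by
  simp [Zc]

theorem cone_fst_eq (s : Cone (P.ZD h)) (i j : P.I) :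
    s.π.app i ≫ pullback.fst h (P.ν.app i) = s.π.app j ≫ pullback.fst h (P.ν.app j) := by
  rw [← s.w (IsCofiltered.minToLeft i j), ← s.w (IsCofiltered.minToRight i j), Category.assoc,
    Category.assoc, ZD_map_fst, ZD_map_fst]

/-- `Z ×_{S₁} T` is the limit of the `Z ×_{S₁} V i`. -/
noncomputable def Zlim : IsLimit (P.Zc h) := by
  let i₀ : P.I := Classical.choice (IsCofiltered.nonempty (C := P.I))
  let sc : Cone (P.ZD h) → Cone P.D₀ := fun s =>
    { pt := s.pt
      π :=
        { app := fun i => s.π.app i ≫ pullback.snd h (P.ν.app i)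
          naturality := fun i j f => by
            simp only [Functor.const_obj_obj, Functor.const_obj_map, Category.id_comp]
            rw [← s.w f, Category.assoc, ZD_map_snd, Category.assoc] } }
  have hcond : ∀ s : Cone (P.ZD h), (s.π.app i₀ ≫ pullback.fst h (P.ν.app i₀)) ≫ h =
      P.hc₀.lift (sc s) ≫ P.τ₀ := fun s => by
    rw [← P.hτ₀ i₀, ← Category.assoc, P.hc₀.fac]
    change _ = (s.π.app i₀ ≫ pullback.snd h (P.ν.app i₀)) ≫ _
    rw [Category.assoc, Category.assoc, pullback.condition]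
  refine
  { lift := fun s => pullback.lift (s.π.app i₀ ≫ pullback.fst h (P.ν.app i₀))
      (P.hc₀.lift (sc s)) (hcond s)
    fac := fun s i => ?_
    uniq := fun s m hm => ?_ }
  · apply pullback.hom_ext
    · rw [Category.assoc, Zc_π_fst, pullback.lift_fst]
      exact P.cone_fst_eq h s i₀ i
    · rw [Category.assoc, Zc_π_snd, pullback.lift_snd_assoc, P.hc₀.fac]
  · apply pullback.hom_ext
    · rw [pullback.lift_fst, ← hm i₀, Category.assoc, Zc_π_fst]
    · rw [pullback.lift_snd]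
      refine P.hc₀.hom_ext (fun i => ?_)
      rw [P.hc₀.fac, Category.assoc, ← Zc_π_snd, ← Category.assoc, hm i]

theorem isPullback_ZD_map {i j : P.I} (f : i ⟶ j) :
    IsPullback ((P.ZD h).map f) (pullback.snd h (P.ν.app i)) (pullback.snd h (P.ν.app j))
      (P.D₀.map f) := by
  refine IsPullback.of_right ?_ (P.ZD_map_snd h f) (IsPullback.of_hasPullback h (P.ν.app j))
  rw [ZD_map_fst, P.ν_nat]
  exact IsPullback.of_hasPullback h (P.ν.app i)

instance {i j : P.I} (f : i ⟶ j) : IsAffineHom ((P.ZD h).map f) :=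
  MorphismProperty.of_isPullback (P := @IsAffineHom) (P.isPullback_ZD_map h f).flip inferInstance

instance [QuasiCompact h] (i : P.I) : CompactSpace ↥((P.ZD h).obj i) :=
  QuasiCompact.compactSpace_of_compactSpace (pullback.snd h (P.ν.app i))

instance [QuasiSeparated h] (i : P.I) : QuasiSeparatedSpace ↥((P.ZD h).obj i) :=
  AlgebraicGeometry.quasiSeparatedSpace_of_quasiSeparated (pullback.snd h (P.ν.app i))

/-- The structure morphisms to a base `B`. -/
noncomputable def Zt {B : Scheme.{u}} (t₀ : Z ⟶ B) :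
    P.ZD h ⟶ (Functor.const P.I).obj B where
  app i := pullback.fst h (P.ν.app i) ≫ t₀
  naturality i j f := by
    simp only [Functor.const_obj_obj, Functor.const_obj_map, Category.comp_id]
    rw [← Category.assoc, ZD_map_fst]

/-- **Spreading out morphisms (existence)**. -/
theorem spread_exists [QuasiCompact h] [QuasiSeparated h]
    {B X : Scheme.{u}} (f : X ⟶ B) [LocallyOfFinitePresentation f] (t₀ : Z ⟶ B)
    (α : pullback h P.τ₀ ⟶ X) (hα : α ≫ f = pullback.fst h P.τ₀ ≫ t₀) :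
    ∃ (i : P.I) (m : pullback h (P.ν.app i) ⟶ X),
      (P.Zc h).π.app i ≫ m = α ∧ m ≫ f = pullback.fst h (P.ν.app i) ≫ t₀ := by
  obtain ⟨i, m, h1, h2⟩ := Scheme.exists_π_app_comp_eq_of_locallyOfFinitePresentation
    (P.ZD h) (P.Zt h t₀) f (P.Zc h) (P.Zlim h) α (by
      ext i
      simp only [NatTrans.comp_app, Functor.const_obj_obj, Functor.const_map_app, Zt]
      rw [← Category.assoc, Zc_π_fst, hα])
  exact ⟨i, m, h1, h2⟩

/-- **Spreading out morphisms (uniqueness)**. -/
theorem spread_unique [QuasiCompact h]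
    {B X : Scheme.{u}} (f : X ⟶ B) [LocallyOfFiniteType f] (t₀ : Z ⟶ B) (i : P.I)
    (m₁ m₂ : pullback h (P.ν.app i) ⟶ X) (h₁ : m₁ ≫ f = pullback.fst h (P.ν.app i) ≫ t₀)
    (h₂ : m₂ ≫ f = pullback.fst h (P.ν.app i) ≫ t₀)
    (heq : (P.Zc h).π.app i ≫ m₁ = (P.Zc h).π.app i ≫ m₂) :
    ∃ (j : P.I) (fji : j ⟶ i), (P.ZD h).map fji ≫ m₁ = (P.ZD h).map fji ≫ m₂ :=
  Scheme.exists_hom_comp_eq_comp_of_locallyOfFiniteType
    (P.ZD h) (P.Zt h t₀) f (P.Zc h) (P.Zlim h) m₁ m₂ h₁.symm h₂.symm heq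

/-- **Spreading out emptiness**. -/
theorem spread_empty [QuasiCompact h] (hempty : IsEmpty ↥(pullback h P.τ₀)) :
    ∃ i : P.I, IsEmpty ↥(pullback h (P.ν.app i)) := by
  by_contra hcon
  simp only [not_exists, not_isEmpty_iff] at hcon
  haveI : ∀ i, Nonempty ↥((P.ZD h).obj i) := hcon
  have := Scheme.nonempty_of_isLimit (P.ZD h) (P.Zc h) (P.Zlim h)
  exact hempty.false this.some

end ProOpen

section inst

variable {S : Scheme.{u}} (a : S) (W₀ : S.Opens)

/-- The diagram of affine open neighbourhoods of `a` inside `W₀`. -/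
noncomputable def nbhdD : NI a W₀ ⥤ Scheme.{u} where
  obj W := (W.1 : Scheme.{u})
  map {W W'} f := S.homOfLE (leOfHom f)
  map_id W := by simp
  map_comp f g := by simp

/-- The cone with vertex `Spec O_{S,a}`. -/
noncomputable def nbhdC : Cone (nbhdD a W₀) where
  pt := Spec (S.presheaf.stalk a)
  π :=
    { app := fun W => W.1.fromSpecStalkOfMem a W.2.2.1
      naturality := fun W W' f => by
        simp only [Functor.const_obj_obj, Functor.const_obj_map, Category.id_comp]
        rw [← cancel_mono W'.1.ι]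
        simp [nbhdD] }

variable {a W₀}

theorem nbhd_cone_ι_eq (s : Cone (nbhdD a W₀)) (W W' : NI a W₀) :
    s.π.app W ≫ W.1.ι = s.π.app W' ≫ W'.1.ι := by
  obtain ⟨W'', h1, h2⟩ := NI.exists_le_le W W'
  have e1 : (nbhdD a W₀).map (homOfLE h1) ≫ W.1.ι = W''.1.ι :=
    S.homOfLE_ι (show W''.1 ≤ W.1 from h1)
  have e2 : (nbhdD a W₀).map (homOfLE h2) ≫ W'.1.ι = W''.1.ι :=
    S.homOfLE_ι (show W''.1 ≤ W'.1 from h2)
  rw [← s.w (homOfLE h1), ← s.w (homOfLE h2), Category.assoc, Category.assoc, e1, e2]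

theorem exists_nbhd_lift (ha₀ : a ∈ W₀) (W' : NI a W₀) (s : Cone (nbhdD a W₀)) :
    ∃ τ : s.pt ⟶ Spec (S.presheaf.stalk a),
      τ ≫ W'.1.fromSpecStalkOfMem a W'.2.2.1 = s.π.app W' := by
  refine exists_lift_stalk W'.2.1 W'.2.2.1 _ (fun r hr x => ?_)
  obtain ⟨W'', hW''⟩ := NI.exists_le ha₀ (S.basicOpen r ⊓ W'.1) ⟨hr, W'.2.2.1⟩
  have e := congrArg (fun φ : s.pt ⟶ S => φ x) (nbhd_cone_ι_eq s W' W'')
  simp only [Scheme.Hom.comp_apply] at e
  exact (congrArg (· ∈ S.basicOpen r) e).mpr (hW'' ((s.π.app W'') x).2).1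

/-- `Spec O_{S,a}` is the limit of the affine open neighbourhoods of `a`. -/
noncomputable def nbhdLim (ha₀ : a ∈ W₀) : IsLimit (nbhdC a W₀) := by
  have hne := NI.nonempty ha₀
  let W' := hne.some
  choose τ hτ using exists_nbhd_lift ha₀ W'
  refine
  { lift := τ
    fac := fun s W => ?_
    uniq := fun s m hm => ?_ }
  · change τ s ≫ W.1.fromSpecStalkOfMem a W.2.2.1 = _
    rw [← cancel_mono W.1.ι, Category.assoc, Scheme.Opens.fromSpecStalkOfMem_ι,
      nbhd_cone_ι_eq s W W', ← hτ, Category.assoc, Scheme.Opens.fromSpecStalkOfMem_ι]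
  · rw [← cancel_mono (W'.1.fromSpecStalkOfMem a W'.2.2.1), hτ]
    exact hm W'

/-- The pro-open germ system of affine open neighbourhoods of `a` in the open `W₀`. -/
noncomputable def proOpenNI (ha₀ : a ∈ W₀) : ProOpen (W₀ : Scheme.{u}) where
  I := NI a W₀
  cof := NI.isCofiltered ha₀
  D₀ := nbhdD a W₀
  aff W := W.2.1
  ν :=
    { app := fun W => S.homOfLE W.2.2.2
      naturality := fun W W' f => by
        simp only [Functor.const_obj_obj, Functor.const_obj_map, Category.comp_id]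
        exact S.homOfLE_homOfLE (show W.1 ≤ W'.1 from leOfHom f) W'.2.2.2 }
  c₀ := nbhdC a W₀
  hc₀ := nbhdLim ha₀
  τ₀ := W₀.fromSpecStalkOfMem a ha₀
  hτ₀ W := by
    change W.1.fromSpecStalkOfMem a W.2.2.1 ≫ S.homOfLE W.2.2.2 = _
    rw [← cancel_mono W₀.ι, Category.assoc, Scheme.homOfLE_ι,
      Scheme.Opens.fromSpecStalkOfMem_ι, Scheme.Opens.fromSpecStalkOfMem_ι]

end inst

end Groth.Agent.Helper21.EtStalk
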