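import Mathlib
import Groth.Agent.Lib.Helper21.EtStalk4
import Groth.Agent.Lib.Helper21.EtStalk5

/-!
# Local partial cones from an affine étale piece over the germ (helper21)
-/

set_option autoImplicit false
set_option backward.isDefEq.respectTransparency false
set_option backward.isDefEq.respectTransparency.types false
set_option linter.style.haveILetI false
set_option linter.unusedSectionVars false

open CategoryTheory CategoryTheory.Limits AlgebraicGeometry

universe u

namespace Groth.Agent.Helper21.EtStalk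

open Desc Groth.Agent.Helper21.DescA Groth.Agent.Helper21.EtLoc

variable {S₁ : Scheme.{u}} (P : ProOpen S₁) {ι : Type} [Unique ι] {X : ι → Scheme.{u}}
  {f : ∀ i, X i ⟶ S₁} (D : SchDDFam f)

/-- Data for the local lemma: a cone over the germ, an open piece `V` of its vertex and a
spreading `Q` of `V`. -/
structure LPData where
  cT : Cone (baseChange D P.τ₀)
  V : Scheme.{u}
  k : V ⟶ cT.U.left
  Q : Scheme.{u}
  u : Q ⟶ S₁
  θ : V ⟶ Q
  hθ : IsPullback θ (k ≫ cT.U.hom) u P.τ₀

namespace LPData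

variable {P D} (L : LPData P D)

/-- `Y = X ×_{S₁} Q`. -/
noncomputable abbrev Ysch : Scheme.{u} := pullback (f default) L.u
noncomputable abbrev t₀ : L.Ysch ⟶ X default := pullback.fst (f default) L.u
noncomputable abbrev q₀ : L.Ysch ⟶ L.Q := pullback.snd (f default) L.u
noncomputable abbrev hY : L.Ysch ⟶ S₁ := L.q₀ ≫ L.u

theorem t₀_f : L.t₀ ≫ f default = L.hY := pullback.condition

/-- the component in `X ×_{S₁} T`. -/
noncomputable def σ : pullback L.hY P.τ₀ ⟶ pullback (f default) P.τ₀ :=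
  pullback.lift (pullback.fst L.hY P.τ₀ ≫ L.t₀) (pullback.snd L.hY P.τ₀) (by
    rw [Category.assoc, L.t₀_f, pullback.condition])

/-- the component in `V`. -/
noncomputable def β : pullback L.hY P.τ₀ ⟶ L.V :=
  L.hθ.lift (pullback.fst L.hY P.τ₀ ≫ L.q₀) (pullback.snd L.hY P.τ₀) (by
    rw [Category.assoc, pullback.condition])

@[reassoc] theorem β_θ : L.β ≫ L.θ = pullback.fst L.hY P.τ₀ ≫ L.q₀ := L.hθ.lift_fst _ _ _

@[reassoc] theorem β_k : L.β ≫ L.k ≫ L.cT.U.hom = pullback.snd L.hY P.τ₀ := L.hθ.lift_snd _ _ _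

@[reassoc] theorem σ_fst : L.σ ≫ pullback.fst (f default) P.τ₀ = pullback.fst L.hY P.τ₀ ≫ L.t₀ :=
  pullback.lift_fst _ _ _

@[reassoc] theorem σ_snd : L.σ ≫ pullback.snd (f default) P.τ₀ = pullback.snd L.hY P.τ₀ :=
  pullback.lift_snd _ _ _

/-- The map `Y_T ⟶ X'_T`. -/
noncomputable def a' : pullback L.hY P.τ₀ ⟶ ((baseChange D P.τ₀).obj default).left :=
  (L.cT.isPullback default).lift L.σ (L.β ≫ L.k) (by
    rw [L.σ_snd, Category.assoc, L.β_k])

@[reassoc] theorem a'_hom : L.a' ≫ ((baseChange D P.τ₀).obj default).hom = L.σ :=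
  (L.cT.isPullback default).lift_fst _ _ _

@[reassoc] theorem a'_π : L.a' ≫ L.cT.π default = L.β ≫ L.k :=
  (L.cT.isPullback default).lift_snd _ _ _

/-- The key cartesian square: `Y_T = X'_T ×_{U_T} V`. -/
theorem isPullback_a' : IsPullback L.a' L.β (L.cT.π default) L.k := by
  -- step 1
  have s1 : IsPullback L.β (pullback.fst L.hY P.τ₀) L.θ L.q₀ := by
    refine IsPullback.of_right ?_ L.β_θ L.hθ.flip
    rw [L.β_k]
    exact (IsPullback.of_hasPullback L.hY P.τ₀).flip
  -- step 2
  have s2 : IsPullback (pullback.fst L.hY P.τ₀ ≫ L.t₀) L.β (f default) (L.θ ≫ L.u) :=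
    s1.flip.paste_horiz (IsPullback.of_hasPullback (f default) L.u)
  -- step 3
  have s3 : IsPullback L.σ L.β (pullback.snd (f default) P.τ₀) (L.k ≫ L.cT.U.hom) := by
    refine IsPullback.of_right ?_ ?_ (IsPullback.of_hasPullback (f default) P.τ₀)
    · rw [L.σ_fst, ← L.hθ.w]
      exact s2
    · rw [L.σ_snd, L.β_k]
  -- step 4
  refine (IsPullback.of_bot ?_ L.a'_π.symm (L.cT.isPullback default).flip).flip
  rw [L.a'_hom]
  exact s3.flip

/-- The map `Y_T ⟶ X'`. -/
noncomputable def α : pullback L.hY P.τ₀ ⟶ (D.obj default).left :=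
  L.a' ≫ pullback.fst (D.obj default).hom (pullback.fst (f default) P.τ₀)

theorem α_hom : L.α ≫ (D.obj default).hom = pullback.fst L.hY P.τ₀ ≫ L.t₀ := by
  have h1 : L.a' ≫ pullback.snd (D.obj default).hom (pullback.fst (f default) P.τ₀) = L.σ :=
    L.a'_hom
  rw [α, Category.assoc, pullback.condition, ← Category.assoc, h1, L.σ_fst]

theorem mono_α [Mono P.τ₀] [Mono L.k] : Mono L.α := by
  haveI : Mono L.a' := L.isPullback_a'.mono_fst_of_mono
  haveI : Mono (pullback.fst (f default) P.τ₀) := inferInstance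
  haveI : Mono (pullback.fst (D.obj default).hom (pullback.fst (f default) P.τ₀)) := inferInstance
  exact mono_comp _ _

/-- Points of `X'_T` mapping into `V` come from `Y_T`. -/
theorem exists_preimage_a' (x : ((baseChange D P.τ₀).obj default).left)
    (hx : L.cT.π default x ∈ Set.range L.k) : ∃ y : ↥(pullback L.hY P.τ₀), L.a' y = x := by
  obtain ⟨b, hb⟩ := hx
  obtain ⟨z, hz1, hz2⟩ := Scheme.Pullback.exists_preimage_pullback x b hb.symm
  refine ⟨L.isPullback_a'.isoPullback.inv z, ?_⟩
  rw [← Scheme.Hom.comp_apply, L.isPullback_a'.isoPullback_inv_fst]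
  exact hz1

end LPData

end Groth.Agent.Helper21.EtStalk
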