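import Mathlib
import Groth.Agent.Lib.Helper21.EtStalk6

/-!
# Local partial cones: spreading out the map, injectivity and compatibility (helper21)
-/

set_option autoImplicit false
set_option backward.isDefEq.respectTransparency false
set_option backward.isDefEq.respectTransparency.types false
set_option linter.style.haveILetI false
set_option linter.unusedSectionVars false

open CategoryTheory CategoryTheory.Limits AlgebraicGeometry

universe u

namespace Groth.Agent.Helper21.EtStalk

open Desc Groth.Agent.Helper21.DescA Groth.Agent.Helper21.EtLoc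

variable {S₁ : Scheme.{u}} {P : ProOpen S₁} {ι : Type} [Unique ι] {X : ι → Scheme.{u}}
  {f : ∀ i, X i ⟶ S₁} {D : SchDDFam f}

instance ProOpen.isAffineHom_ν [IsAffine S₁] (i : P.I) : IsAffineHom (P.ν.app i) :=
  isAffineHom_of_isAffine (X := P.D₀.obj i) (Y := S₁) (f := P.ν.app i)

namespace LPData

variable [IsAffine S₁] [∀ i, IsOpenImmersion (P.ν.app i)] [Mono P.τ₀]
  [QuasiCompact (f default)] [QuasiSeparated (f default)]
  [Etale (D.obj default).hom] [QuasiCompact (D.obj default).hom]
  [QuasiSeparated (D.obj default).hom]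
  (L : LPData P D) [IsOpenImmersion L.k] [IsAffine L.Q] [Etale L.u]

instance : QuasiCompact L.hY :=
  inferInstanceAs (QuasiCompact (pullback.snd (f default) L.u ≫ L.u))

instance : QuasiSeparated L.hY :=
  inferInstanceAs (QuasiSeparated (pullback.snd (f default) L.u ≫ L.u))

theorem exists_m : ∃ (i : P.I) (m : pullback L.hY (P.ν.app i) ⟶ (D.obj default).left),
    (P.Zc L.hY).π.app i ≫ m = L.α ∧
      m ≫ (D.obj default).hom = pullback.fst L.hY (P.ν.app i) ≫ L.t₀ :=
  P.spread_exists L.hY (D.obj default).hom L.t₀ L.α L.α_hom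

section stage

variable {i : P.I} (m : pullback L.hY (P.ν.app i) ⟶ (D.obj default).left)
  (hm1 : (P.Zc L.hY).π.app i ≫ m = L.α)
  (hm2 : m ≫ (D.obj default).hom = pullback.fst L.hY (P.ν.app i) ≫ L.t₀)

include hm2 in
theorem snd_ν_eq : pullback.snd L.hY (P.ν.app i) ≫ P.ν.app i =
    m ≫ (D.obj default).hom ≫ f default := by
  rw [← Category.assoc m, hm2, Category.assoc, L.t₀_f, pullback.condition]

instance : QuasiSeparatedSpace ↥(D.obj default).left := by
  haveI : QuasiSeparated ((D.obj default).hom ≫ f default) := inferInstance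
  exact AlgebraicGeometry.quasiSeparatedSpace_of_quasiSeparated ((D.obj default).hom ≫ f default)

include hm1 hm2 in
theorem mono_stage : ∃ (j : P.I) (fj : j ⟶ i), ∀ (j' : P.I) (f' : j' ⟶ j),
    Mono ((P.ZD L.hY).map (f' ≫ fj) ≫ m) := by
  haveI : CompactSpace ↥(pullback L.hY (P.ν.app i)) :=
    inferInstanceAs (CompactSpace ↥((P.ZD L.hY).obj i))
  haveI : QuasiCompact m := inferInstance
  let hE : pullback m m ⟶ S₁ :=
    pullback.fst m m ≫ pullback.snd L.hY (P.ν.app i) ≫ P.ν.app i
  haveI : QuasiCompact hE :=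
    inferInstanceAs (QuasiCompact (pullback.fst m m ≫ pullback.snd L.hY (P.ν.app i) ≫ P.ν.app i))
  have hpr : pullback.fst m m ≫ pullback.snd L.hY (P.ν.app i) ≫ P.ν.app i =
      pullback.snd m m ≫ pullback.snd L.hY (P.ν.app i) ≫ P.ν.app i := by
    rw [L.snd_ν_eq m hm2, ← Category.assoc, pullback.condition, Category.assoc]
  have hpt : pullback.fst m m ≫ pullback.fst L.hY (P.ν.app i) ≫ L.t₀ =
      pullback.snd m m ≫ pullback.fst L.hY (P.ν.app i) ≫ L.t₀ := by
    rw [← hm2, ← Category.assoc, ← Category.assoc, pullback.condition]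
  -- the two maps
  obtain ⟨j, fj, hj⟩ := P.spread_unique hE L.t₀
    (pullback.fst m m ≫ pullback.fst L.hY (P.ν.app i) ≫ L.t₀) i
    (pullback.fst hE (P.ν.app i) ≫ pullback.fst m m ≫ pullback.fst L.hY (P.ν.app i))
    (pullback.fst hE (P.ν.app i) ≫ pullback.snd m m ≫ pullback.fst L.hY (P.ν.app i))
    (by simp only [Category.assoc])
    (by simp only [Category.assoc]; rw [hpt])
    (by
      rw [ProOpen.Zc_π_fst_assoc, ProOpen.Zc_π_fst_assoc]
      -- the two points of `Y_T`
      have c1 : (pullback.fst hE P.τ₀ ≫ pullback.fst m m ≫ pullback.fst L.hY (P.ν.app i)) ≫ L.hY =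
          pullback.snd hE P.τ₀ ≫ P.τ₀ := by
        rw [Category.assoc, Category.assoc, pullback.condition (f := L.hY)]
        exact pullback.condition
      have c2 : (pullback.fst hE P.τ₀ ≫ pullback.snd m m ≫ pullback.fst L.hY (P.ν.app i)) ≫ L.hY =
          pullback.snd hE P.τ₀ ≫ P.τ₀ := by
        rw [Category.assoc, Category.assoc, pullback.condition (f := L.hY), ← hpr]
        exact pullback.condition
      have k1 : pullback.lift _ _ c1 ≫ (P.Zc L.hY).π.app i = pullback.fst hE P.τ₀ ≫ pullback.fst m m := by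
        apply pullback.hom_ext
        · rw [Category.assoc, ProOpen.Zc_π_fst, pullback.lift_fst, Category.assoc]
        · rw [Category.assoc, ProOpen.Zc_π_snd, pullback.lift_snd_assoc, ← cancel_mono (P.ν.app i),
            Category.assoc, P.hτ₀, Category.assoc, Category.assoc, ← pullback.condition]
      have k2 : pullback.lift _ _ c2 ≫ (P.Zc L.hY).π.app i = pullback.fst hE P.τ₀ ≫ pullback.snd m m := by
        apply pullback.hom_ext
        · rw [Category.assoc, ProOpen.Zc_π_fst, pullback.lift_fst, Category.assoc]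
        · rw [Category.assoc, ProOpen.Zc_π_snd, pullback.lift_snd_assoc, ← cancel_mono (P.ν.app i),
            Category.assoc, P.hτ₀, Category.assoc, Category.assoc, ← hpr, ← pullback.condition]
      haveI := L.mono_α
      have e1 : pullback.lift _ _ c1 ≫ L.α = (pullback.fst hE P.τ₀ ≫ pullback.fst m m) ≫ m :=
        calc pullback.lift _ _ c1 ≫ L.α = pullback.lift _ _ c1 ≫ (P.Zc L.hY).π.app i ≫ m := by
              rw [hm1]
          _ = (pullback.lift _ _ c1 ≫ (P.Zc L.hY).π.app i) ≫ m := (Category.assoc _ _ _).symm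
          _ = _ := by rw [k1]
      have e2 : pullback.lift _ _ c2 ≫ L.α = (pullback.fst hE P.τ₀ ≫ pullback.snd m m) ≫ m :=
        calc pullback.lift _ _ c2 ≫ L.α = pullback.lift _ _ c2 ≫ (P.Zc L.hY).π.app i ≫ m := by
              rw [hm1]
          _ = (pullback.lift _ _ c2 ≫ (P.Zc L.hY).π.app i) ≫ m := (Category.assoc _ _ _).symm
          _ = _ := by rw [k2]
      have e : pullback.lift _ _ c1 = pullback.lift _ _ c2 := by
        refine (cancel_mono L.α).mp (e1.trans (Eq.trans ?_ e2.symm))
        rw [Category.assoc, Category.assoc, pullback.condition]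
      have := congrArg (· ≫ pullback.fst L.hY P.τ₀) e
      simpa only [pullback.lift_fst] using this)
  refine ⟨j, fj, fun j' f' => ⟨fun {T₀} x₁ x₂ hx => ?_⟩⟩
  have hx' : (x₁ ≫ (P.ZD L.hY).map (f' ≫ fj)) ≫ m = (x₂ ≫ (P.ZD L.hY).map (f' ≫ fj)) ≫ m := by
    simpa only [Category.assoc] using hx
  have ce : pullback.lift _ _ hx' ≫ hE =
      (x₁ ≫ pullback.snd L.hY (P.ν.app j') ≫ P.D₀.map f') ≫ P.ν.app j := by
    simp only [hE]
    rw [pullback.lift_fst_assoc, Category.assoc, ProOpen.ZD_map_snd_assoc, Category.assoc, Category.assoc,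
      P.ν_nat, P.ν_nat]
  have key := congrArg (fun t => pullback.lift (pullback.lift _ _ hx')
    (x₁ ≫ pullback.snd L.hY (P.ν.app j') ≫ P.D₀.map f') ce ≫ t) hj
  simp only [ProOpen.ZD_map_fst_assoc, pullback.lift_fst_assoc, Category.assoc, pullback.lift_snd_assoc,
    ProOpen.ZD_map_fst] at key
  apply pullback.hom_ext
  · exact key
  · have key' : (x₁ ≫ pullback.fst L.hY (P.ν.app j')) ≫ L.hY =
        (x₂ ≫ pullback.fst L.hY (P.ν.app j')) ≫ L.hY := by rw [key]
    rw [← cancel_mono (P.ν.app j')]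
    simpa only [Category.assoc, pullback.condition] using key'

end stage

end LPData

section actOn

variable (D)

/-- The gluing bijection through the universal action map. -/
noncomputable def actOn {T₀ : Scheme.{u}} (v : T₀ ⟶ (D.obj default).left) (x₁ : T₀ ⟶ X default)
    (hc : v ≫ (D.obj default).hom ≫ f default = x₁ ≫ f default) : T₀ ⟶ (D.obj default).left :=
  pullback.lift v x₁ hc ≫ act D default default

theorem actOn_comp {T₀ T₁ : Scheme.{u}} (g : T₁ ⟶ T₀) (v : T₀ ⟶ (D.obj default).left)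
    (x₁ : T₀ ⟶ X default) (hc : v ≫ (D.obj default).hom ≫ f default = x₁ ≫ f default) :
    g ≫ actOn D v x₁ hc = actOn D (g ≫ v) (g ≫ x₁) (by
      rw [Category.assoc, hc, Category.assoc]) := by
  unfold actOn
  rw [← Category.assoc]
  congr 1
  apply pullback.hom_ext
  · rw [Category.assoc, pullback.lift_fst, pullback.lift_fst]
  · rw [Category.assoc, pullback.lift_snd, pullback.lift_snd]

theorem actOn_congr {T₀ : Scheme.{u}} {v v' : T₀ ⟶ (D.obj default).left}
    {x₁ x₁' : T₀ ⟶ X default}
    (hc : v ≫ (D.obj default).hom ≫ f default = x₁ ≫ f default) (hv : v = v') (hx : x₁ = x₁') :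
    actOn D v x₁ hc = actOn D v' x₁' (by rw [← hv, ← hx]; exact hc) := by
  subst hv hx
  rfl

theorem actOn_eq_φ {T₀ : Scheme.{u}} (x₀ x₁ : T₀ ⟶ X default)
    (h : x₀ ≫ f default = x₁ ≫ f default) (v : Lifts (D.obj default) x₀) :
    actOn D v.1 x₁ (by
      have hv : v.1 ≫ (D.obj default).hom = x₀ := v.2
      rw [← Category.assoc, hv, h]) = (D.φ x₀ x₁ h v).1 :=
  (φ_eq D x₀ x₁ h v).symm

theorem actOn_hom {T₀ : Scheme.{u}} (v : T₀ ⟶ (D.obj default).left) (x₁ : T₀ ⟶ X default)
    (hc : v ≫ (D.obj default).hom ≫ f default = x₁ ≫ f default) :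
    actOn D v x₁ hc ≫ (D.obj default).hom = x₁ := by
  unfold actOn
  rw [Category.assoc, act_hom, pullback.lift_snd]

end actOn

end Groth.Agent.Helper21.EtStalk
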