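import Mathlib
import Groth.Agent.Lib.Helper21.EtStalk7

/-!
# Local partial cones: compatibility with the gluing bijections (helper21)
-/

set_option autoImplicit false
set_option backward.isDefEq.respectTransparency false
set_option backward.isDefEq.respectTransparency.types false
set_option linter.style.haveILetI false
set_option linter.unusedSectionVars false

open CategoryTheory CategoryTheory.Limits AlgebraicGeometry

universe u

namespace Groth.Agent.Helper21.EtStalk

open Desc Groth.Agent.Helper21.DescA Groth.Agent.Helper21.EtLoc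

variable {S₁ : Scheme.{u}} {P : ProOpen S₁} {ι : Type} [Unique ι] {X : ι → Scheme.{u}}
  {f : ∀ i, X i ⟶ S₁} {D : SchDDFam f}

namespace LPData

variable (L : LPData P D)

/-- The projection `Y_j ⟶ Q_j`. -/
noncomputable def πE (j : P.I) : pullback L.hY (P.ν.app j) ⟶ pullback L.u (P.ν.app j) :=
  pullback.lift (pullback.fst L.hY (P.ν.app j) ≫ L.q₀) (pullback.snd L.hY (P.ν.app j))
    (by rw [Category.assoc]; exact pullback.condition)

/-- `Z = Y ×_{S₁} X`. -/
noncomputable abbrev Zsch : Scheme.{u} := pullback L.hY (f default)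
noncomputable abbrev hZ : L.Zsch ⟶ S₁ := pullback.fst L.hY (f default) ≫ L.hY
noncomputable abbrev tZ : L.Zsch ⟶ X default := pullback.snd L.hY (f default)

theorem tZ_f : L.tZ ≫ f default = L.hZ := pullback.condition.symm

/-- The swap `Z ⟶ Y`. -/
noncomputable def sw : L.Zsch ⟶ L.Ysch :=
  pullback.lift L.tZ (pullback.fst L.hY (f default) ≫ L.q₀) (by rw [L.tZ_f, Category.assoc])

@[reassoc] theorem sw_t₀ : L.sw ≫ L.t₀ = L.tZ := pullback.lift_fst _ _ _

@[reassoc] theorem sw_q₀ : L.sw ≫ L.q₀ = pullback.fst L.hY (f default) ≫ L.q₀ :=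
  pullback.lift_snd _ _ _

@[reassoc] theorem sw_hY : L.sw ≫ L.hY = L.hZ := by
  rw [← Category.assoc, L.sw_q₀, Category.assoc]

/-- The first projection `Z_j ⟶ Y_j`. -/
noncomputable def p₀ (j : P.I) : pullback L.hZ (P.ν.app j) ⟶ pullback L.hY (P.ν.app j) :=
  pullback.lift (pullback.fst L.hZ (P.ν.app j) ≫ pullback.fst L.hY (f default))
    (pullback.snd L.hZ (P.ν.app j)) (by rw [Category.assoc]; exact pullback.condition)

/-- The swapped projection `Z_j ⟶ Y_j`. -/
noncomputable def p₀' (j : P.I) : pullback L.hZ (P.ν.app j) ⟶ pullback L.hY (P.ν.app j) :=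
  pullback.lift (pullback.fst L.hZ (P.ν.app j) ≫ L.sw)
    (pullback.snd L.hZ (P.ν.app j)) (by rw [Category.assoc, L.sw_hY]; exact pullback.condition)

@[reassoc] theorem p₀_fst (j : P.I) : L.p₀ j ≫ pullback.fst L.hY (P.ν.app j) =
    pullback.fst L.hZ (P.ν.app j) ≫ pullback.fst L.hY (f default) := pullback.lift_fst _ _ _

@[reassoc] theorem p₀_snd (j : P.I) : L.p₀ j ≫ pullback.snd L.hY (P.ν.app j) =
    pullback.snd L.hZ (P.ν.app j) := pullback.lift_snd _ _ _

@[reassoc] theorem p₀'_fst (j : P.I) : L.p₀' j ≫ pullback.fst L.hY (P.ν.app j) =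
    pullback.fst L.hZ (P.ν.app j) ≫ L.sw := pullback.lift_fst _ _ _

@[reassoc] theorem p₀'_snd (j : P.I) : L.p₀' j ≫ pullback.snd L.hY (P.ν.app j) =
    pullback.snd L.hZ (P.ν.app j) := pullback.lift_snd _ _ _

@[reassoc] theorem map_p₀ {i j : P.I} (g : j ⟶ i) :
    (P.ZD L.hZ).map g ≫ L.p₀ i = L.p₀ j ≫ (P.ZD L.hY).map g := by
  apply pullback.hom_ext
  · rw [Category.assoc, L.p₀_fst, ProOpen.ZD_map_fst_assoc, Category.assoc, ProOpen.ZD_map_fst,
      L.p₀_fst]
  · rw [Category.assoc, L.p₀_snd, ProOpen.ZD_map_snd, Category.assoc, ProOpen.ZD_map_snd,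
      L.p₀_snd_assoc]

@[reassoc] theorem map_p₀' {i j : P.I} (g : j ⟶ i) :
    (P.ZD L.hZ).map g ≫ L.p₀' i = L.p₀' j ≫ (P.ZD L.hY).map g := by
  apply pullback.hom_ext
  · rw [Category.assoc, L.p₀'_fst, ProOpen.ZD_map_fst_assoc, Category.assoc, ProOpen.ZD_map_fst,
      L.p₀'_fst]
  · rw [Category.assoc, L.p₀'_snd, ProOpen.ZD_map_snd, Category.assoc, ProOpen.ZD_map_snd,
      L.p₀'_snd_assoc]

/-- The compatibility property of a map `Y_j ⟶ X'` with the gluing bijections. -/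
def RelProp (j : P.I) (mj : pullback L.hY (P.ν.app j) ⟶ (D.obj default).left) : Prop :=
  ∀ ⦃T₀ : Scheme.{u}⦄ (x₀ x₁ : T₀ ⟶ X default) (h : x₀ ≫ f default = x₁ ≫ f default)
    (v : Lifts (D.obj default) x₀) (y : T₀ ⟶ pullback L.hY (P.ν.app j)), y ≫ mj = v.1 →
    ∃ y' : T₀ ⟶ pullback L.hY (P.ν.app j), y' ≫ mj = (D.φ x₀ x₁ h v).1 ∧
      y' ≫ L.πE j = y ≫ L.πE j

end LPData

end Groth.Agent.Helper21.EtStalk
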