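import Mathlib
import Groth.Agent.Lib.Helper21.EtStalk8

/-!
# Local partial cones: the compatibility stage (helper21)
-/

set_option autoImplicit false
set_option backward.isDefEq.respectTransparency false
set_option backward.isDefEq.respectTransparency.types false
set_option linter.style.haveILetI false
set_option linter.unusedSectionVars false

open CategoryTheory CategoryTheory.Limits AlgebraicGeometry

universe u

namespace Groth.Agent.Helper21.EtStalk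

open Desc Groth.Agent.Helper21.DescA Groth.Agent.Helper21.EtLoc

variable {S₁ : Scheme.{u}} {P : ProOpen S₁} {ι : Type} [Unique ι] {X : ι → Scheme.{u}}
  {f : ∀ i, X i ⟶ S₁} {D : SchDDFam f}

namespace LPData

variable (L : LPData P D)

/-- first projection `Z_T ⟶ Y_T`. -/
noncomputable def ζ : pullback L.hZ P.τ₀ ⟶ pullback L.hY P.τ₀ :=
  pullback.lift (pullback.fst L.hZ P.τ₀ ≫ pullback.fst L.hY (f default)) (pullback.snd L.hZ P.τ₀)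
    (by rw [Category.assoc]; exact pullback.condition)

/-- swapped projection `Z_T ⟶ Y_T`. -/
noncomputable def ζ' : pullback L.hZ P.τ₀ ⟶ pullback L.hY P.τ₀ :=
  pullback.lift (pullback.fst L.hZ P.τ₀ ≫ L.sw) (pullback.snd L.hZ P.τ₀)
    (by rw [Category.assoc, L.sw_hY]; exact pullback.condition)

@[reassoc] theorem ζ_fst : L.ζ ≫ pullback.fst L.hY P.τ₀ =
    pullback.fst L.hZ P.τ₀ ≫ pullback.fst L.hY (f default) := pullback.lift_fst _ _ _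

@[reassoc] theorem ζ_snd : L.ζ ≫ pullback.snd L.hY P.τ₀ = pullback.snd L.hZ P.τ₀ :=
  pullback.lift_snd _ _ _

@[reassoc] theorem ζ'_fst : L.ζ' ≫ pullback.fst L.hY P.τ₀ = pullback.fst L.hZ P.τ₀ ≫ L.sw :=
  pullback.lift_fst _ _ _

@[reassoc] theorem ζ'_snd : L.ζ' ≫ pullback.snd L.hY P.τ₀ = pullback.snd L.hZ P.τ₀ :=
  pullback.lift_snd _ _ _

@[reassoc] theorem π_p₀ (i : P.I) :
    (P.Zc L.hZ).π.app i ≫ L.p₀ i = L.ζ ≫ (P.Zc L.hY).π.app i := by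
  apply pullback.hom_ext
  · rw [Category.assoc, L.p₀_fst, ProOpen.Zc_π_fst_assoc, Category.assoc, ProOpen.Zc_π_fst, L.ζ_fst]
  · rw [Category.assoc, L.p₀_snd, ProOpen.Zc_π_snd, Category.assoc, ProOpen.Zc_π_snd,
      L.ζ_snd_assoc]

@[reassoc] theorem π_p₀' (i : P.I) :
    (P.Zc L.hZ).π.app i ≫ L.p₀' i = L.ζ' ≫ (P.Zc L.hY).π.app i := by
  apply pullback.hom_ext
  · rw [Category.assoc, L.p₀'_fst, ProOpen.Zc_π_fst_assoc, Category.assoc, ProOpen.Zc_π_fst,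
      L.ζ'_fst]
  · rw [Category.assoc, L.p₀'_snd, ProOpen.Zc_π_snd, Category.assoc, ProOpen.Zc_π_snd,
      L.ζ'_snd_assoc]

theorem ζ_β : L.ζ ≫ L.β = L.ζ' ≫ L.β := by
  apply L.hθ.hom_ext
  · rw [Category.assoc, L.β_θ, L.ζ_fst_assoc, Category.assoc, L.β_θ, L.ζ'_fst_assoc, L.sw_q₀]
  · rw [Category.assoc, L.β_k, L.ζ_snd, Category.assoc, L.β_k, L.ζ'_snd]

theorem ζ_σ_fst : (L.ζ ≫ L.σ) ≫ pullback.fst (f default) P.τ₀ =
    pullback.fst L.hZ P.τ₀ ≫ pullback.fst L.hY (f default) ≫ L.t₀ := by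
  rw [Category.assoc, L.σ_fst, L.ζ_fst_assoc]

theorem ζ'_σ_fst : (L.ζ' ≫ L.σ) ≫ pullback.fst (f default) P.τ₀ =
    pullback.fst L.hZ P.τ₀ ≫ L.tZ := by
  rw [Category.assoc, L.σ_fst, L.ζ'_fst_assoc, L.sw_t₀]

theorem ζ_α_cond : (L.ζ ≫ L.α) ≫ (D.obj default).hom ≫ f default =
    (pullback.fst L.hZ P.τ₀ ≫ L.tZ) ≫ f default := by
  rw [Category.assoc, ← Category.assoc L.α, L.α_hom, Category.assoc, L.t₀_f, L.ζ_fst_assoc,
    Category.assoc, L.tZ_f]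

/-- Invariance of the germ map under the gluing bijections. -/
theorem germ_inv :
    actOn D (L.ζ ≫ L.α) (pullback.fst L.hZ P.τ₀ ≫ L.tZ) L.ζ_α_cond = L.ζ' ≫ L.α := by
  have h' : (L.ζ ≫ L.σ) ≫ pullback.snd (f default) P.τ₀ =
      (L.ζ' ≫ L.σ) ≫ pullback.snd (f default) P.τ₀ := by
    rw [Category.assoc, Category.assoc, L.σ_snd, L.ζ_snd, L.ζ'_snd]
  let v' : Lifts ((baseChange D P.τ₀).obj default) (L.ζ ≫ L.σ) :=
    ⟨L.ζ ≫ L.a', by rw [Category.assoc, L.a'_hom]⟩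
  obtain ⟨Ψ, hΨ⟩ : ∃ Ψ, Ψ = ((baseChange D P.τ₀).φ (L.ζ ≫ L.σ) (L.ζ' ≫ L.σ) h' v').1 := ⟨_, rfl⟩
  have hΨ2 : Ψ ≫ ((baseChange D P.τ₀).obj default).hom = L.ζ' ≫ L.σ := by
    rw [hΨ]; exact ((baseChange D P.τ₀).φ (L.ζ ≫ L.σ) (L.ζ' ≫ L.σ) h' v').2
  have hΨπ : Ψ ≫ L.cT.π default = (L.ζ ≫ L.a') ≫ L.cT.π default := by
    rw [hΨ]; exact L.cT.inv _ _ h' v'
  have hΨeq : Ψ = L.ζ' ≫ L.a' := by
    apply (L.cT.isPullback default).hom_ext
    · rw [hΨ2, Category.assoc, L.a'_hom]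
    · rw [hΨπ, Category.assoc, Category.assoc, L.a'_π, ← Category.assoc, L.ζ_β, Category.assoc]
  have hΨ1 := (congrArg (· ≫ pullback.fst (D.obj default).hom (pullback.fst (f default) P.τ₀))
    (baseChange_φ_val D P.τ₀ (L.ζ ≫ L.σ) (L.ζ' ≫ L.σ) h' v')).trans (pullback.lift_fst _ _ _)
  rw [← hΨ, hΨeq] at hΨ1
  have e1 : L.ζ' ≫ L.α = (L.ζ' ≫ L.a') ≫
      pullback.fst (D.obj default).hom (pullback.fst (f default) P.τ₀) := by
    rw [α, Category.assoc]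
  rw [e1]
  refine Eq.trans ?_ hΨ1.symm
  refine Eq.trans ?_ (actOn_eq_φ D _ _ _ _)
  have hv : L.ζ ≫ L.α = (L.ζ ≫ L.a') ≫
      pullback.fst (D.obj default).hom (pullback.fst (f default) P.τ₀) := by
    rw [α, Category.assoc]
  exact actOn_congr D _ hv L.ζ'_σ_fst.symm

@[reassoc] theorem πE_fst (j : P.I) : L.πE j ≫ pullback.fst L.u (P.ν.app j) =
    pullback.fst L.hY (P.ν.app j) ≫ L.q₀ := pullback.lift_fst _ _ _

@[reassoc] theorem πE_snd (j : P.I) : L.πE j ≫ pullback.snd L.u (P.ν.app j) =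
    pullback.snd L.hY (P.ν.app j) := pullback.lift_snd _ _ _

section stage

variable [IsAffine S₁] [∀ i, IsOpenImmersion (P.ν.app i)] [Mono P.τ₀]
  [QuasiCompact (f default)] [QuasiSeparated (f default)]
  [Etale (D.obj default).hom] [QuasiCompact (D.obj default).hom]
  [QuasiSeparated (D.obj default).hom]
  [IsOpenImmersion L.k] [IsAffine L.Q] [Etale L.u]

instance : QuasiCompact L.hZ :=
  inferInstanceAs (QuasiCompact (pullback.fst L.hY (f default) ≫ L.hY))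

variable {i : P.I} (m : pullback L.hY (P.ν.app i) ⟶ (D.obj default).left)
  (hm1 : (P.Zc L.hY).π.app i ≫ m = L.α)
  (hm2 : m ≫ (D.obj default).hom = pullback.fst L.hY (P.ν.app i) ≫ L.t₀)

include hm2 in
theorem Φ₁_cond : (L.p₀ i ≫ m) ≫ (D.obj default).hom ≫ f default =
    (pullback.fst L.hZ (P.ν.app i) ≫ L.tZ) ≫ f default := by
  rw [Category.assoc, ← Category.assoc m, hm2, Category.assoc, L.t₀_f, L.p₀_fst_assoc,
    Category.assoc, L.tZ_f]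

include hm1 hm2 in
theorem rel_stage : ∃ (j : P.I) (fj : j ⟶ i), ∀ (j' : P.I) (f' : j' ⟶ j),
    L.RelProp j' ((P.ZD L.hY).map (f' ≫ fj) ≫ m) := by
  have hΦ2 : (L.p₀' i ≫ m) ≫ (D.obj default).hom = pullback.fst L.hZ (P.ν.app i) ≫ L.tZ := by
    rw [Category.assoc, hm2, L.p₀'_fst_assoc, L.sw_t₀]
  obtain ⟨Φ₁, hΦ₁⟩ : ∃ Φ₁, Φ₁ = actOn D (L.p₀ i ≫ m) (pullback.fst L.hZ (P.ν.app i) ≫ L.tZ)
    (L.Φ₁_cond m hm2) := ⟨_, rfl⟩
  have hΦ1 : Φ₁ ≫ (D.obj default).hom = pullback.fst L.hZ (P.ν.app i) ≫ L.tZ := by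
    rw [hΦ₁]; exact actOn_hom D _ _ _
  have hΦc : ∀ {T₁ : Scheme.{u}} (g : T₁ ⟶ pullback L.hZ (P.ν.app i)),
      g ≫ Φ₁ = actOn D (g ≫ L.p₀ i ≫ m) (g ≫ pullback.fst L.hZ (P.ν.app i) ≫ L.tZ) (by
        rw [Category.assoc, L.Φ₁_cond m hm2]; simp only [Category.assoc]) := by
    intro T₁ g
    rw [hΦ₁]
    exact actOn_comp D g _ _ _
  have heq : (P.Zc L.hZ).π.app i ≫ Φ₁ = (P.Zc L.hZ).π.app i ≫ L.p₀' i ≫ m := by
    have e2 : (P.Zc L.hZ).π.app i ≫ L.p₀' i ≫ m = L.ζ' ≫ L.α := by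
      rw [← Category.assoc, L.π_p₀', Category.assoc, hm1]
    have hv : (P.Zc L.hZ).π.app i ≫ L.p₀ i ≫ m = L.ζ ≫ L.α := by
      rw [← Category.assoc, L.π_p₀, Category.assoc, hm1]
    have hx : (P.Zc L.hZ).π.app i ≫ pullback.fst L.hZ (P.ν.app i) ≫ L.tZ =
        pullback.fst L.hZ P.τ₀ ≫ L.tZ := by
      rw [ProOpen.Zc_π_fst_assoc]
    refine (hΦc _).trans (Eq.trans ?_ (L.germ_inv.trans e2.symm))
    exact actOn_congr D _ hv hx
  obtain ⟨j, fj, hj⟩ := P.spread_unique L.hZ (D.obj default).hom L.tZ i Φ₁ (L.p₀' i ≫ m)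
    hΦ1 hΦ2 heq
  refine ⟨j, fj, fun j' f' T₀ x₀ x₁ h v y hy => ?_⟩
  have hv : v.1 ≫ (D.obj default).hom = x₀ := v.2
  have hy0 : y ≫ pullback.fst L.hY (P.ν.app j') ≫ L.t₀ = x₀ := by
    rw [← hv, ← hy, Category.assoc, Category.assoc, hm2, ProOpen.ZD_map_fst_assoc]
  have hpt : (y ≫ pullback.fst L.hY (P.ν.app j')) ≫ L.hY = x₁ ≫ f default := by
    rw [← h, ← hy0, Category.assoc, Category.assoc, Category.assoc, L.t₀_f]
  obtain ⟨pt, hpt1, hpt2⟩ : ∃ pt : T₀ ⟶ L.Zsch,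
      pt ≫ pullback.fst L.hY (f default) = y ≫ pullback.fst L.hY (P.ν.app j') ∧
        pt ≫ L.tZ = x₁ :=
    ⟨pullback.lift _ _ hpt, pullback.lift_fst _ _ _, pullback.lift_snd _ _ _⟩
  have hΞ : pt ≫ L.hZ = (y ≫ pullback.snd L.hY (P.ν.app j')) ≫ P.ν.app j' := by
    rw [← Category.assoc, hpt1, Category.assoc, Category.assoc, pullback.condition]
  obtain ⟨Ξ, hΞ1, hΞ2⟩ : ∃ Ξ : T₀ ⟶ pullback L.hZ (P.ν.app j'),
      Ξ ≫ pullback.fst L.hZ (P.ν.app j') = pt ∧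
        Ξ ≫ pullback.snd L.hZ (P.ν.app j') = y ≫ pullback.snd L.hY (P.ν.app j') :=
    ⟨pullback.lift _ _ hΞ, pullback.lift_fst _ _ _, pullback.lift_snd _ _ _⟩
  have hΞp : Ξ ≫ L.p₀ j' = y := by
    apply pullback.hom_ext
    · rw [Category.assoc, L.p₀_fst, ← Category.assoc, hΞ1, hpt1]
    · rw [Category.assoc, L.p₀_snd, hΞ2]
  refine ⟨Ξ ≫ L.p₀' j', ?_, ?_⟩
  · have key : Ξ ≫ (P.ZD L.hZ).map f' ≫ (P.ZD L.hZ).map fj ≫ Φ₁ =
        Ξ ≫ (P.ZD L.hZ).map f' ≫ (P.ZD L.hZ).map fj ≫ L.p₀' i ≫ m :=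
      congrArg (fun t => Ξ ≫ (P.ZD L.hZ).map f' ≫ t) hj
    have e1 : (Ξ ≫ L.p₀' j') ≫ (P.ZD L.hY).map (f' ≫ fj) ≫ m =
        Ξ ≫ (P.ZD L.hZ).map f' ≫ (P.ZD L.hZ).map fj ≫ L.p₀' i ≫ m := by
      rw [Category.assoc, ← L.map_p₀'_assoc, Functor.map_comp, Category.assoc]
    have e3 : Ξ ≫ (P.ZD L.hZ).map f' ≫ (P.ZD L.hZ).map fj ≫ Φ₁ =
        (Ξ ≫ (P.ZD L.hZ).map (f' ≫ fj)) ≫ Φ₁ := by
      rw [Functor.map_comp, Category.assoc, Category.assoc]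
    have hvv : (Ξ ≫ (P.ZD L.hZ).map (f' ≫ fj)) ≫ L.p₀ i ≫ m = v.1 := by
      rw [Category.assoc, L.map_p₀_assoc, ← Category.assoc, hΞp]
      exact hy
    have hxx : (Ξ ≫ (P.ZD L.hZ).map (f' ≫ fj)) ≫ pullback.fst L.hZ (P.ν.app i) ≫ L.tZ = x₁ := by
      rw [Category.assoc, ProOpen.ZD_map_fst_assoc, ← Category.assoc, hΞ1, hpt2]
    refine e1.trans (key.symm.trans (e3.trans ((hΦc _).trans ?_)))
    refine Eq.trans ?_ (actOn_eq_φ D x₀ x₁ h v)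
    exact actOn_congr D _ hvv hxx
  · apply pullback.hom_ext
    · have e1 : ((Ξ ≫ L.p₀' j') ≫ L.πE j') ≫ pullback.fst L.u (P.ν.app j') =
          pt ≫ pullback.fst L.hY (f default) ≫ L.q₀ := by
        rw [Category.assoc, L.πE_fst, Category.assoc, L.p₀'_fst_assoc, L.sw_q₀, ← Category.assoc,
          hΞ1]
      have e2 : (y ≫ L.πE j') ≫ pullback.fst L.u (P.ν.app j') =
          pt ≫ pullback.fst L.hY (f default) ≫ L.q₀ := by
        rw [Category.assoc, L.πE_fst, ← Category.assoc, ← hpt1, Category.assoc]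
      exact e1.trans e2.symm
    · rw [Category.assoc, L.πE_snd, Category.assoc, L.p₀'_snd, hΞ2, Category.assoc, L.πE_snd]

end stage

end LPData

end Groth.Agent.Helper21.EtStalk
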