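import Mathlib
import Groth.Agent.Lib.Helper21.EtStalk9

/-!
# Local partial cones: assembling the partial cone (helper21)
-/

set_option autoImplicit false
set_option backward.isDefEq.respectTransparency false
set_option backward.isDefEq.respectTransparency.types false
set_option linter.style.haveILetI false
set_option linter.unusedSectionVars false

open CategoryTheory CategoryTheory.Limits AlgebraicGeometry

universe u

namespace Groth.Agent.Helper21.EtStalk

open Desc Groth.Agent.Helper21.DescA Groth.Agent.Helper21.EtLoc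

namespace LPData

section gen

variable {S₁ : Scheme.{u}} {P : ProOpen S₁} {ι : Type} [Unique ι] {X : ι → Scheme.{u}}
  {f : ∀ i, X i ⟶ S₁} {D : SchDDFam f} (L : LPData P D)

theorem isPullback_πE (j : P.I) :
    IsPullback (pullback.fst L.hY (P.ν.app j) ≫ L.t₀) (L.πE j) (f default)
      (pullback.fst L.u (P.ν.app j) ≫ L.u) := by
  have s1 : IsPullback (L.πE j) (pullback.fst L.hY (P.ν.app j)) (pullback.fst L.u (P.ν.app j))
      L.q₀ := by
    refine IsPullback.of_right ?_ (L.πE_fst j) (IsPullback.of_hasPullback L.u (P.ν.app j)).flip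
    rw [L.πE_snd]
    exact (IsPullback.of_hasPullback L.hY (P.ν.app j)).flip
  exact s1.flip.paste_horiz (IsPullback.of_hasPullback (f default) L.u)

variable [IsAffine S₁] [∀ i, IsOpenImmersion (P.ν.app i)] [Mono P.τ₀]
  [QuasiCompact (f default)] [QuasiSeparated (f default)]
  [Etale (D.obj default).hom] [QuasiCompact (D.obj default).hom]
  [QuasiSeparated (D.obj default).hom]
  [IsOpenImmersion L.k] [IsAffine L.Q] [Etale L.u]

theorem exists_stage : ∃ (j : P.I) (mj : pullback L.hY (P.ν.app j) ⟶ (D.obj default).left),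
    (P.Zc L.hY).π.app j ≫ mj = L.α ∧
      mj ≫ (D.obj default).hom = pullback.fst L.hY (P.ν.app j) ≫ L.t₀ ∧ Mono mj ∧
        L.RelProp j mj := by
  obtain ⟨i, m, hm1, hm2⟩ := L.exists_m
  obtain ⟨j₁, fj₁, h1⟩ := L.mono_stage m hm1 hm2
  obtain ⟨j₂, fj₂, h2⟩ := L.rel_stage m hm1 hm2
  have he := IsCofiltered.eq_condition (IsCofiltered.minToLeft j₁ j₂ ≫ fj₁)
    (IsCofiltered.minToRight j₁ j₂ ≫ fj₂)
  obtain ⟨e, he'⟩ : ∃ e, e = IsCofiltered.eqHom (IsCofiltered.minToLeft j₁ j₂ ≫ fj₁)
    (IsCofiltered.minToRight j₁ j₂ ≫ fj₂) := ⟨_, rfl⟩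
  rw [← he'] at he
  refine ⟨_, (P.ZD L.hY).map ((e ≫ IsCofiltered.minToLeft j₁ j₂) ≫ fj₁) ≫ m, ?_, ?_, h1 _ _, ?_⟩
  · rw [← Category.assoc, (P.Zc L.hY).w, hm1]
  · rw [Category.assoc, hm2, ProOpen.ZD_map_fst_assoc]
  · have : (e ≫ IsCofiltered.minToLeft j₁ j₂) ≫ fj₁ =
        (e ≫ IsCofiltered.minToRight j₁ j₂) ≫ fj₂ := by
      rw [Category.assoc, Category.assoc]; exact he
    rw [this]
    exact h2 _ _

end gen

section punit

variable {S₁ : Scheme.{u}} {P : ProOpen S₁} {X : PUnit.{1} → Scheme.{u}}
  {f : ∀ i, X i ⟶ S₁} {D : SchDDFam f} (L : LPData P D)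
  [IsAffine S₁] [∀ i, IsOpenImmersion (P.ν.app i)] [Mono P.τ₀]
  [QuasiCompact (f default)] [QuasiSeparated (f default)]
  [Etale (D.obj default).hom] [QuasiCompact (D.obj default).hom]
  [QuasiSeparated (D.obj default).hom]
  [IsOpenImmersion L.k] [IsAffine L.Q] [Etale L.u]

/-- **Lemma P₁**: the local partial cone attached to an affine étale piece over the germ. -/
theorem exists_pcone : ∃ E : PCone D,
    ∀ x : ↥((baseChange D P.τ₀).obj default).left, L.cT.π default x ∈ Set.range L.k →
      pullback.fst (D.obj default).hom (pullback.fst (f default) P.τ₀) x ∈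
        Set.range (E.j default) := by
  obtain ⟨j, mj, hm1, hm2, hmono, hrel⟩ := L.exists_stage
  haveI : Etale (pullback.fst L.hY (P.ν.app j) ≫ L.t₀) := inferInstance
  haveI : Etale mj := by
    have h0 : Etale (mj ≫ (D.obj default).hom) := by rw [hm2]; infer_instance
    exact MorphismProperty.of_postcomp (W := @Etale) (W' := @Etale) mj (D.obj default).hom
      inferInstance h0
  haveI : IsOpenImmersion mj := IsOpenImmersion.of_flat_of_mono mj
  refine ⟨{ Y := fun _ => pullback L.hY (P.ν.app j)
            j := fun _ => mj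
            hj := fun _ => inferInstance
            U := Over.mk (pullback.fst L.u (P.ν.app j) ≫ L.u)
            et := by
              change Etale (pullback.fst L.u (P.ν.app j) ≫ L.u)
              infer_instance
            π := fun _ => L.πE j
            isPullback := fun _ => by
              have := L.isPullback_πE j
              rw [← hm2] at this
              exact this
            rel := fun T i k x₀ x₁ h v y hy => hrel x₀ x₁ h v y hy }, fun x hx => ?_⟩
  obtain ⟨y, hy⟩ := L.exists_preimage_a' x hx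
  have e1 : L.α y = pullback.fst (D.obj default).hom (pullback.fst (f default) P.τ₀) x := by
    rw [α, Scheme.Hom.comp_apply, hy]; rfl
  have e2 : ((P.Zc L.hY).π.app j ≫ mj) y = L.α y := by rw [hm1]; rfl
  exact ⟨(P.Zc L.hY).π.app j y, e2.trans e1⟩

end punit

end LPData

end Groth.Agent.Helper21.EtStalk
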