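import Mathlib
import Groth.Agent.Lib.Helper21.EtStalk10
import Groth.Agent.Lib.Helper21.EtFpqc0

/-!
# Spreading out a cone from the germ to a neighbourhood (helper21)
-/

set_option autoImplicit false
set_option backward.isDefEq.respectTransparency false
set_option backward.isDefEq.respectTransparency.types false
set_option linter.style.haveILetI false
set_option linter.unusedSectionVars false

open CategoryTheory CategoryTheory.Limits AlgebraicGeometry

universe u

namespace Groth.Agent.Helper21.EtStalk

open Desc Groth.Agent.Helper21.DescA Groth.Agent.Helper21.EtLoc Groth.Agent.Helper21.EtFpqc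

variable {S₁ : Scheme.{u}} {P : ProOpen S₁} {X : PUnit.{1} → Scheme.{u}}
  {f : ∀ i, X i ⟶ S₁} {D : SchDDFam f}
  [IsAffine S₁] [∀ i, IsOpenImmersion (P.ν.app i)] [Mono P.τ₀] [CompactSpace ↥P.c₀.pt]
  [QuasiCompact (f default)] [QuasiSeparated (f default)]
  [Etale (D.obj default).hom] [QuasiCompact (D.obj default).hom]
  [QuasiSeparated (D.obj default).hom]

/-- **Core spreading lemma**: a cone with étale vertex over the germ spreads out to a cone with
étale vertex over some member of the pro-open system. -/
theorem core (hf : SGA1.UnivSubmersive (f default)) (cT : Cone (baseChange D P.τ₀))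
    (hcT : Etale cT.U.hom)
    (hspread : ∀ (V : Scheme.{u}) [IsAffine V] (v : V ⟶ P.c₀.pt) [Etale v],
      ∃ (Q : Scheme.{u}) (_ : IsAffine Q) (u : Q ⟶ S₁) (_ : Etale u) (θ : V ⟶ Q),
        IsPullback θ v u P.τ₀) :
    ∃ (i : P.I) (c : Cone (baseChange D (P.ν.app i))), Etale c.U.hom := by
  haveI := hcT
  -- local partial cones
  have hloc : ∀ t : cT.U.left, ∃ (O : cT.U.left.Opens) (E : PCone D), t ∈ O ∧
      ∀ x : ↥((baseChange D P.τ₀).obj default).left, cT.π default x ∈ O →
        pullback.fst (D.obj default).hom (pullback.fst (f default) P.τ₀) x ∈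
          Set.range (E.j default) := by
    intro t
    obtain ⟨O, hO, htO, -⟩ := exists_isAffineOpen_mem_and_subset (X := cT.U.left) (x := t)
      (U := ⊤) trivial
    haveI : IsAffine (O : Scheme.{u}) := hO
    haveI : Etale (O.ι ≫ cT.U.hom) := inferInstance
    obtain ⟨Q, hQ, u, hu, θ, hθ⟩ := hspread O (O.ι ≫ cT.U.hom)
    let L : LPData P D := ⟨cT, O, O.ι, Q, u, θ, hθ⟩
    haveI : IsOpenImmersion L.k := inferInstanceAs (IsOpenImmersion O.ι)
    haveI : IsAffine L.Q := hQ
    haveI : Etale L.u := hu
    obtain ⟨E, hE⟩ := L.exists_pcone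
    refine ⟨O, E, htO, fun x hx => hE x ?_⟩
    have : Set.range L.k = (O : Set cT.U.left) := Scheme.Opens.range_ι O
    rw [this]
    exact hx
  choose O E htO hE using hloc
  haveI : CompactSpace ↥(pullback (f default) P.τ₀) :=
    QuasiCompact.compactSpace_of_compactSpace (pullback.snd (f default) P.τ₀)
  haveI : CompactSpace ↥((baseChange D P.τ₀).obj default).left :=
    QuasiCompact.compactSpace_of_compactSpace
      (pullback.snd (D.obj default).hom (pullback.fst (f default) P.τ₀))
  obtain ⟨F, hF⟩ := isCompact_univ.elim_finite_subcover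
    (fun t : cT.U.left => (cT.π default) ⁻¹' (O t : Set cT.U.left))
    (fun t => (O t).2.preimage (cT.π default).continuous)
    (fun x _ => Set.mem_iUnion.mpr ⟨cT.π default x, htO _⟩)
  -- the closed complement
  let Zc : TopologicalSpace.Closeds ↥(D.obj default).left :=
    ⟨(⋃ t ∈ F, Set.range ((E t).j default))ᶜ, by
      rw [isClosed_compl_iff]
      exact isOpen_biUnion (fun t _ => ((E t).j default).isOpenEmbedding.isOpen_range)⟩
  let I := Scheme.IdealSheafData.vanishingIdeal Zc
  have hrange : Set.range I.subschemeι = (Zc : Set ↥(D.obj default).left) := by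
    rw [I.range_subschemeι]
    exact Scheme.IdealSheafData.coe_support_vanishingIdeal Zc
  let hZs : I.subscheme ⟶ S₁ := I.subschemeι ≫ (D.obj default).hom ≫ f default
  haveI : QuasiCompact hZs :=
    inferInstanceAs (QuasiCompact (I.subschemeι ≫ (D.obj default).hom ≫ f default))
  have hempty : IsEmpty ↥(pullback hZs P.τ₀) := by
    refine ⟨fun z => ?_⟩
    have c1 : (pullback.fst hZs P.τ₀ ≫ I.subschemeι ≫ (D.obj default).hom) ≫ f default =
        pullback.snd hZs P.τ₀ ≫ P.τ₀ := by
      simp only [Category.assoc]
      exact pullback.condition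
    obtain ⟨w, hw⟩ : ∃ w : pullback hZs P.τ₀ ⟶ ((baseChange D P.τ₀).obj default).left,
        w ≫ pullback.fst (D.obj default).hom (pullback.fst (f default) P.τ₀) =
          pullback.fst hZs P.τ₀ ≫ I.subschemeι :=
      ⟨pullback.lift (pullback.fst hZs P.τ₀ ≫ I.subschemeι) (pullback.lift _ _ c1)
        (by rw [pullback.lift_fst, Category.assoc]), pullback.lift_fst _ _ _⟩
    have h1 := hF (Set.mem_univ (w z))
    obtain ⟨t, htF, ht'⟩ := Set.mem_iUnion₂.mp h1
    have h2 := hE t (w z) ht'
    have h3 : pullback.fst (D.obj default).hom (pullback.fst (f default) P.τ₀) (w z) ∈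
        (Zc : Set ↥(D.obj default).left) := by
      have e0 : pullback.fst (D.obj default).hom (pullback.fst (f default) P.τ₀) (w z) =
          I.subschemeι (pullback.fst hZs P.τ₀ z) :=
        congrArg (fun φ : pullback hZs P.τ₀ ⟶ (D.obj default).left => φ z) hw
      rw [e0, ← hrange]
      exact ⟨_, rfl⟩
    exact h3 (Set.mem_biUnion htF h2)
  obtain ⟨i, hi⟩ := P.spread_empty hZs hempty
  refine ⟨i, ?_⟩
  refine exists_cone_of_pcones (f := fun i' => pullback.snd (f i') (P.ν.app i))
    (fun _ => univSubmersive_snd (f default) hf (P.ν.app i)) (baseChange D (P.ν.app i))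
    (fun i' v => ?_)
  by_contra hcon
  push Not at hcon
  have hv : pullback.fst (D.obj default).hom (pullback.fst (f default) (P.ν.app i)) v ∈
      (Zc : Set ↥(D.obj default).left) := by
    intro hmem
    obtain ⟨t, htF, ht⟩ := Set.mem_iUnion₂.mp hmem
    apply hcon (pconeBaseChange D (E t) (P.ν.app i))
    rw [pconeBaseChange_range]
    exact ht
  rw [← hrange] at hv
  obtain ⟨zs, hzs⟩ := hv
  have e : pullback.fst (D.obj default).hom (pullback.fst (f default) (P.ν.app i)) ≫
      (D.obj default).hom ≫ f default =
      (pullback.snd (D.obj default).hom (pullback.fst (f default) (P.ν.app i)) ≫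
        pullback.snd (f default) (P.ν.app i)) ≫ P.ν.app i := by
    rw [pullback.condition_assoc, pullback.condition, Category.assoc]
  have e' : hZs zs = P.ν.app i ((pullback.snd (D.obj default).hom
      (pullback.fst (f default) (P.ν.app i)) ≫ pullback.snd (f default) (P.ν.app i)) v) := by
    have e1 : ((D.obj default).hom ≫ f default) (I.subschemeι zs) =
        ((D.obj default).hom ≫ f default)
          (pullback.fst (D.obj default).hom (pullback.fst (f default) (P.ν.app i)) v) :=
      congrArg (fun y => ((D.obj default).hom ≫ f default) y) hzs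
    have e2 : ((D.obj default).hom ≫ f default)
          (pullback.fst (D.obj default).hom (pullback.fst (f default) (P.ν.app i)) v) =
        P.ν.app i ((pullback.snd (D.obj default).hom
          (pullback.fst (f default) (P.ν.app i)) ≫ pullback.snd (f default) (P.ν.app i)) v) :=
      congrArg (fun φ : ((baseChange D (P.ν.app i)).obj default).left ⟶ S₁ => φ v) e
    exact e1.trans e2
  obtain ⟨z, -, -⟩ := Scheme.Pullback.exists_preimage_pullback (f := hZs) (g := P.ν.app i) zs _ e'
  exact hi.false z

end Groth.Agent.Helper21.EtStalk
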