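import Mathlib

/-!
# Spreading out étale algebras from a localization (helper21)
-/

set_option autoImplicit false
set_option linter.style.haveILetI false
set_option linter.unusedSectionVars false
set_option linter.unusedSimpArgs false
open TensorProduct
universe u
namespace Groth.Agent.Helper21.EtStalk

section E1

variable {R₀ A B : Type u} [CommRing R₀] [CommRing A] [CommRing B] [Algebra R₀ A] [Algebra A B]
  [Algebra R₀ B] [IsScalarTower R₀ A B]
variable {ι σ : Type} [Finite ι] [Finite σ] (P : Algebra.SubmersivePresentation A B ι σ)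
  [P.HasCoeffs R₀]

/-- The defect of the lifted Jacobian identity. -/
noncomputable def defect [Fintype σ] : MvPolynomial ι R₀ :=
  ∑ i, P.jacobianRelationsOfHasCoeffs R₀ i * P.relationOfHasCoeffs R₀ i -
    (P.jacobianOfHasCoeffs R₀ * P.invJacobianOfHasCoeffs R₀ - 1)

theorem map_defect [Fintype σ] : (defect (R₀ := R₀) P).map (algebraMap R₀ A) = 0 := by
  classical
  simp [defect, P.map_relationOfHasCoeffs, Algebra.SubmersivePresentation.jacobianRelations_spec]

theorem etale_baseChange [Fintype σ] (R₁ : Type u) [CommRing R₁] [Algebra R₀ R₁]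
    (h0 : (defect (R₀ := R₀) P).map (algebraMap R₀ R₁) = 0) (hdim : P.dimension = 0) :
    Algebra.Etale R₁ (R₁ ⊗[R₀] P.ModelOfHasCoeffs R₀) := by
  classical
  let Q₀ := P.toPreSubmersivePresentation.ofHasCoeffs R₀
  let Q₁ := Q₀.baseChange R₁
  let B₀ := P.ModelOfHasCoeffs R₀
  let mk : MvPolynomial ι R₀ →+* B₀ := Ideal.Quotient.mk _
  -- the identity in `B₀`
  have hid : mk (P.jacobianOfHasCoeffs R₀) * mk (P.invJacobianOfHasCoeffs R₀) =
      1 - mk (defect (R₀ := R₀) P) := by
    have h1 : mk (∑ i, P.jacobianRelationsOfHasCoeffs R₀ i * P.relationOfHasCoeffs R₀ i) = 0 := by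
      rw [map_sum]
      refine Finset.sum_eq_zero (fun i _ => ?_)
      rw [map_mul]
      have : mk (P.relationOfHasCoeffs R₀ i) = 0 :=
        Ideal.Quotient.eq_zero_iff_mem.mpr (Ideal.subset_span ⟨i, rfl⟩)
      rw [this, mul_zero]
    have h2 : mk (defect (R₀ := R₀) P) =
        mk (∑ i, P.jacobianRelationsOfHasCoeffs R₀ i * P.relationOfHasCoeffs R₀ i) -
          (mk (P.jacobianOfHasCoeffs R₀) * mk (P.invJacobianOfHasCoeffs R₀) - 1) := by
      simp only [defect, map_sub, map_mul, map_one]
    rw [h2, h1]; ring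
  -- `1 ⊗ mk d = 0`
  let Φ : MvPolynomial ι R₀ →+* R₁ ⊗[R₀] B₀ :=
    (Algebra.TensorProduct.includeRight (R := R₀) (A := R₁) (B := B₀)).toRingHom.comp mk
  let Ψ : MvPolynomial ι R₁ →ₐ[R₁] R₁ ⊗[R₀] B₀ :=
    MvPolynomial.aeval (fun i => (1 : R₁) ⊗ₜ[R₀] mk (MvPolynomial.X i))
  have hΦ : Φ = Ψ.toRingHom.comp (MvPolynomial.map (algebraMap R₀ R₁)) := by
    apply MvPolynomial.ringHom_ext
    · intro r
      have e1 : Φ (MvPolynomial.C r) = (1 : R₁) ⊗ₜ[R₀] (algebraMap R₀ B₀ r) := rfl
      have e2 : (Ψ.toRingHom.comp (MvPolynomial.map (algebraMap R₀ R₁))) (MvPolynomial.C r) =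
          (algebraMap R₀ R₁ r) ⊗ₜ[R₀] (1 : P.ModelOfHasCoeffs R₀) := by
        simp only [Ψ, AlgHom.toRingHom_eq_coe, RingHom.coe_comp, RingHom.coe_coe,
          Function.comp_apply, MvPolynomial.map_C, MvPolynomial.aeval_C]
        rfl
      refine e1.trans (Eq.trans ?_ e2.symm)
      rw [Algebra.algebraMap_eq_smul_one r, ← TensorProduct.smul_tmul,
        Algebra.algebraMap_eq_smul_one]
    · intro i
      simp [Φ, Ψ]
  have hd0 : (1 : R₁) ⊗ₜ[R₀] mk (defect (R₀ := R₀) P) = 0 := by
    have : Φ (defect (R₀ := R₀) P) = 0 := by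
      rw [hΦ, RingHom.comp_apply, h0, map_zero]
    exact this
  have hjac : Q₀.jacobian = mk (P.jacobianOfHasCoeffs R₀) := by
    rw [Algebra.PreSubmersivePresentation.jacobian_eq_jacobiMatrix_det,
      Algebra.Generators.algebraMap_apply]
    have := MvPolynomial.aeval_unique (Ideal.Quotient.mkₐ R₀
      (Ideal.span (Set.range (P.relationOfHasCoeffs R₀))))
    have h3 : Q₀.jacobiMatrix.det = P.jacobianOfHasCoeffs R₀ := by
      unfold Algebra.SubmersivePresentation.jacobianOfHasCoeffs
      congr!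
    rw [h3]
    exact (DFunLike.congr_fun this _).symm
  have hunit : IsUnit Q₁.jacobian := by
    rw [Algebra.PreSubmersivePresentation.baseChange_jacobian, hjac]
    refine IsUnit.of_mul_eq_one ((1 : R₁) ⊗ₜ[R₀] mk (P.invJacobianOfHasCoeffs R₀)) ?_
    rw [Algebra.TensorProduct.tmul_mul_tmul, one_mul, hid, TensorProduct.tmul_sub, hd0, sub_zero]
    rfl
  let Q : Algebra.SubmersivePresentation R₁ (R₁ ⊗[R₀] B₀) ι σ := ⟨Q₁, hunit⟩
  have hQ : Q.dimension = 0 := hdim
  haveI := Q.isStandardSmoothOfRelativeDimension hQ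
  exact Algebra.Etale.iff_isStandardSmoothOfRelativeDimension_zero.mpr inferInstance

end E1
section step
variable {R : Type u} (A : Type u) [CommRing R] [CommRing A] [Algebra R A] (M : Submonoid R)
  [IsLocalization M A] (s : R) (hs : s ∈ M)

/-- `A` as an algebra over `R[1/s]`. -/
@[reducible] noncomputable def awayAlgebra : Algebra (Localization.Away s) A :=
  (IsLocalization.Away.lift (S := Localization.Away s) s (g := algebraMap R A)
    (IsLocalization.map_units A ⟨s, hs⟩)).toAlgebra

theorem awayTower : letI := awayAlgebra A M s hs; IsScalarTower R (Localization.Away s) A := by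
  letI := awayAlgebra A M s hs
  exact IsScalarTower.of_algebraMap_eq' (IsLocalization.Away.lift_comp (S := Localization.Away s) s
    (g := algebraMap R A) (IsLocalization.map_units A ⟨s, hs⟩)).symm

theorem awayLoc : letI := awayAlgebra A M s hs;
    IsLocalization (M.map (algebraMap R (Localization.Away s))) A := by
  letI := awayAlgebra A M s hs
  haveI := awayTower A M s hs
  exact IsLocalization.isLocalization_of_submonoid_le (Localization.Away s) A
    (Submonoid.powers s) M (Submonoid.powers_le.mpr hs)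

variable {A} in
/-- elements with a common denominator `s` lie in the image of `R[1/s]`. -/
theorem mem_range_away (c : A) (r : R) (hr : algebraMap R A r = s • c) :
    letI := awayAlgebra A M s hs; c ∈ (algebraMap (Localization.Away s) A).range := by
  letI := awayAlgebra A M s hs
  haveI := awayTower A M s hs
  refine ⟨IsLocalization.mk' (Localization.Away s) r (⟨s, Submonoid.mem_powers s⟩ : Submonoid.powers s), ?_⟩
  have hu : IsUnit (algebraMap R A s) := IsLocalization.map_units A ⟨s, hs⟩
  apply hu.mul_left_injective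
  have h1 : algebraMap (Localization.Away s) A
      (IsLocalization.mk' (Localization.Away s) r (⟨s, Submonoid.mem_powers s⟩ : Submonoid.powers s)) *
      algebraMap R A s = algebraMap R A r := by
    rw [IsScalarTower.algebraMap_apply R (Localization.Away s) A s, ← map_mul,
      IsLocalization.mk'_spec, ← IsScalarTower.algebraMap_apply]
  change _ * _ = _ * _
  rw [h1, hr, Algebra.smul_def, mul_comm]

end step

open AlgebraicGeometry CategoryTheory in
theorem exists_etale_model_alg {R A B : Type u} [CommRing R] [CommRing A] [CommRing B]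
    [Algebra R A] [Algebra A B] [Algebra.Etale A B] (M : Submonoid R) [IsLocalization M A] :
    ∃ (R₁ : Type u) (_ : CommRing R₁) (_ : Algebra R R₁) (_ : Algebra R₁ A)
      (_ : IsScalarTower R R₁ A)
      (_ : IsOpenImmersion (Spec.map (CommRingCat.ofHom (algebraMap R R₁))))
      (B₁ : Type u) (_ : CommRing B₁) (_ : Algebra R₁ B₁) (_ : Algebra.Etale R₁ B₁),
      Nonempty (A ⊗[R₁] B₁ ≃ₐ[A] B) := by
  classical
  obtain ⟨ι, σ, _, _, P, hP⟩ :=
    (Algebra.Etale.iff_isStandardSmoothOfRelativeDimension_zero.mp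
      (inferInstance : Algebra.Etale A B)).out
  haveI := Fintype.ofFinite σ
  obtain ⟨b, hb⟩ := IsLocalization.exist_integer_multiples_of_finset M P.finite_coeffs.toFinset
  let s : R := b
  have hs : s ∈ M := b.2
  letI := awayAlgebra A M s hs
  haveI := awayTower A M s hs
  haveI := awayLoc A M s hs
  let R₀ := Localization.Away s
  letI : Algebra R₀ B := ((algebraMap A B).comp (algebraMap R₀ A)).toAlgebra
  haveI : IsScalarTower R₀ A B := IsScalarTower.of_algebraMap_eq' rfl
  haveI : P.HasCoeffs R₀ := ⟨fun c hc => by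
    obtain ⟨r, hr⟩ := hb c (P.finite_coeffs.mem_toFinset.mpr hc)
    exact mem_range_away M s hs c r hr⟩
  have hd := map_defect (R₀ := R₀) P
  have hcoeff : ∀ n, ∃ m : M.map (algebraMap R R₀),
      (m : R₀) * (defect (R₀ := R₀) P).coeff n = 0 := fun n => by
    apply (IsLocalization.map_eq_zero_iff (M.map (algebraMap R R₀)) A _).mp
    have := congrArg (MvPolynomial.coeff n) hd
    rwa [MvPolynomial.coeff_map, MvPolynomial.coeff_zero] at this
  choose mm hmm using hcoeff
  let m₀ : M.map (algebraMap R R₀) := ∏ n ∈ (defect (R₀ := R₀) P).support, mm n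
  have hm₀ : ∀ n, (m₀ : R₀) * (defect (R₀ := R₀) P).coeff n = 0 := by
    intro n
    by_cases hn : n ∈ (defect (R₀ := R₀) P).support
    · have : m₀ = mm n * ∏ k ∈ (defect (R₀ := R₀) P).support.erase n, mm k :=
        (Finset.mul_prod_erase _ _ hn).symm
      rw [this, Submonoid.coe_mul, mul_right_comm, hmm, zero_mul]
    · rw [MvPolynomial.notMem_support_iff.mp hn, mul_zero]
  let R₁ := Localization.Away (m₀ : R₀)
  have h0 : (defect (R₀ := R₀) P).map (algebraMap R₀ R₁) = 0 := by
    ext n
    rw [MvPolynomial.coeff_map, MvPolynomial.coeff_zero]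
    exact (IsLocalization.map_eq_zero_iff (Submonoid.powers (m₀ : R₀)) R₁ _).mpr
      ⟨⟨m₀, Submonoid.mem_powers _⟩, hm₀ n⟩
  haveI := etale_baseChange P R₁ h0 hP
  letI : Algebra R₁ A := awayAlgebra A (M.map (algebraMap R R₀)) (m₀ : R₀) m₀.2
  haveI : IsScalarTower R₀ R₁ A := awayTower A _ _ m₀.2
  haveI : IsScalarTower R R₀ R₁ := inferInstance
  haveI : IsScalarTower R R₁ A := IsScalarTower.of_algebraMap_eq (R := R) (S := R₁) (A := A) (fun x => by
    have e1 := IsScalarTower.algebraMap_apply R R₀ A x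
    have e2 := IsScalarTower.algebraMap_apply R₀ R₁ A (algebraMap R R₀ x)
    have e3 := IsScalarTower.algebraMap_apply R R₀ R₁ x
    rw [e3, ← e2, ← e1])
  refine ⟨R₁, inferInstance, inferInstance, inferInstance, inferInstance, ?_,
    R₁ ⊗[R₀] P.ModelOfHasCoeffs R₀, inferInstance, inferInstance, inferInstance, ⟨?_⟩⟩
  · have e : CommRingCat.ofHom (algebraMap R R₁) =
        CommRingCat.ofHom (algebraMap R R₀) ≫ CommRingCat.ofHom (algebraMap R₀ R₁) := by
      rw [IsScalarTower.algebraMap_eq R R₀ R₁]; rfl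
    rw [e, Spec.map_comp]
    haveI := IsOpenImmersion.of_isLocalization (R := R) (S := R₀) s
    haveI := IsOpenImmersion.of_isLocalization (R := R₀) (S := R₁) (m₀ : R₀)
    infer_instance
  · exact (Algebra.TensorProduct.cancelBaseChange R₀ R₁ A A (P.ModelOfHasCoeffs R₀)).trans
      (P.toPresentation.tensorModelOfHasCoeffsEquiv R₀)

open AlgebraicGeometry CategoryTheory CategoryTheory.Limits in
/-- **Spreading out étale algebras from a localization**, categorical form. -/
theorem exists_etale_model {R A B : CommRingCat.{u}} (φ : R ⟶ A) (ψ : A ⟶ B) (M : Submonoid R)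
    (hloc : @IsLocalization R _ M A _ φ.hom.toAlgebra) (hψ : ψ.hom.Etale) :
    ∃ (R₁ B₁ : CommRingCat.{u}) (ρ : R ⟶ R₁) (ι₁ : R₁ ⟶ A) (ψ₁ : R₁ ⟶ B₁) (β : B₁ ⟶ B),
      ρ ≫ ι₁ = φ ∧ IsOpenImmersion (Spec.map ρ) ∧ ψ₁.hom.Etale ∧ IsPushout ψ₁ ι₁ β ψ := by
  letI := φ.hom.toAlgebra
  letI := ψ.hom.toAlgebra
  haveI : Algebra.Etale A B := hψ
  haveI : IsLocalization M A := hloc
  obtain ⟨R₁, _, _, _, _, hoi, B₁, _, _, _, ⟨e⟩⟩ := exists_etale_model_alg (R := R) (A := A) (B := B) M
  refine ⟨CommRingCat.of R₁, CommRingCat.of B₁, CommRingCat.ofHom (algebraMap R R₁),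
    CommRingCat.ofHom (algebraMap R₁ A), CommRingCat.ofHom (algebraMap R₁ B₁),
    CommRingCat.ofHom ((e : A ⊗[R₁] B₁ →+* B).comp
      (Algebra.TensorProduct.includeRight (R := R₁) (A := A) (B := B₁)).toRingHom), ?_, hoi, ?_, ?_⟩
  · ext x
    exact (IsScalarTower.algebraMap_apply R R₁ A x).symm
  · exact RingHom.etale_algebraMap.mpr inferInstance
  · have h := (CommRingCat.isPushout_tensorProduct R₁ A B₁).flip
    refine h.of_iso (Iso.refl _) (Iso.refl _) (Iso.refl _) e.toRingEquiv.toCommRingCatIso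
      (by simp) (by simp) ?_ ?_
    · ext x
      rfl
    · ext x
      have := e.commutes x
      simp only [Algebra.TensorProduct.algebraMap_apply, Algebra.algebraMap_self,
        RingHom.id_apply] at this
      have h2 : algebraMap A B x = ψ.hom x := rfl
      rw [h2] at this
      simpa using this

end Groth.Agent.Helper21.EtStalk
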