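import Mathlib
import Groth.Agent.Lib.Helper21.EtStalk2

/-!
# Spreading out an affine étale scheme over `Spec O_{S,a}` (helper21)
-/

set_option autoImplicit false
set_option backward.isDefEq.respectTransparency false
set_option backward.isDefEq.respectTransparency.types false
set_option linter.style.haveILetI false
set_option linter.unusedSectionVars false

open CategoryTheory CategoryTheory.Limits AlgebraicGeometry

universe u

namespace Groth.Agent.Helper21.EtStalk

theorem isPullback_comp_mono {C : Type*} [Category C] {P X Y Z Z' : C} {fst : P ⟶ X}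
    {snd : P ⟶ Y} {f : X ⟶ Z} {g : Y ⟶ Z} (h : IsPullback fst snd f g) (i : Z ⟶ Z') [Mono i] :
    IsPullback fst snd (f ≫ i) (g ≫ i) :=
  ⟨⟨by rw [← Category.assoc, h.w, Category.assoc]⟩,
    ⟨PullbackCone.IsLimit.mk _
      (fun s => h.lift s.fst s.snd ((cancel_mono i).mp (by simpa using s.condition)))
      (fun s => h.lift_fst _ _ _) (fun s => h.lift_snd _ _ _)
      (fun s m h1 h2 => h.hom_ext (by simpa using h1) (by simpa using h2))⟩⟩

theorem isPullback_of_comp_mono {C : Type*} [Category C] {P X Y Z Z' : C} {fst : P ⟶ X}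
    {snd : P ⟶ Y} {f : X ⟶ Z} {g : Y ⟶ Z} (i : Z ⟶ Z') [Mono i]
    (h : IsPullback fst snd (f ≫ i) (g ≫ i)) : IsPullback fst snd f g :=
  ⟨⟨(cancel_mono i).mp (by simpa using h.w)⟩,
    ⟨PullbackCone.IsLimit.mk _
      (fun s => h.lift s.fst s.snd (by rw [← Category.assoc, s.condition, Category.assoc]))
      (fun s => h.lift_fst _ _ _) (fun s => h.lift_snd _ _ _)
      (fun s m h1 h2 => h.hom_ext (by simpa using h1) (by simpa using h2))⟩⟩

variable {S : Scheme.{u}}

/-- **Spreading out an affine étale scheme over `Spec O_{S,a}`** to an affine étale scheme over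
an affine open neighbourhood of `a`. -/
theorem exists_etale_nbhd (a : S) {B : CommRingCat.{u}} (ψ : S.presheaf.stalk a ⟶ B)
    (hψ : ψ.hom.Etale) :
    ∃ (W₁ : S.Opens) (_ : IsAffineOpen W₁) (_ : a ∈ W₁) (Q : Scheme.{u}) (_ : IsAffine Q)
      (u : Q ⟶ W₁) (_ : Etale u) (θ : Spec B ⟶ Q),
      IsPullback θ (Spec.map ψ) (u ≫ W₁.ι) (S.fromSpecStalk a) := by
  obtain ⟨W₀, hW₀, ha, -⟩ := exists_isAffineOpen_mem_and_subset (x := a) (U := ⊤) trivial
  obtain ⟨R₁, B₁, ρ, ι₁, ψ₁, β, h1, hoi, het, hpo⟩ :=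
    exists_etale_model (S.presheaf.germ W₀ a ha) ψ _ (hW₀.isLocalization_stalk ⟨a, ha⟩) hψ
  haveI := hoi
  let j₁ : Spec R₁ ⟶ S := Spec.map ρ ≫ hW₀.fromSpec
  have hj : Spec.map ι₁ ≫ j₁ = S.fromSpecStalk a := by
    rw [← hW₀.fromSpecStalk_eq_fromSpecStalk ha, IsAffineOpen.fromSpecStalk, ← h1, Spec.map_comp,
      Category.assoc]
  let W₁ : S.Opens := j₁.opensRange
  have hW₁ : IsAffineOpen W₁ := isAffineOpen_opensRange j₁
  have ha₁ : a ∈ W₁ := by
    rw [← S.fromSpecStalk_closedPoint (x := a), ← hj]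
    exact ⟨_, rfl⟩
  haveI : Etale (Spec.map ψ₁) := HasRingHomProperty.Spec_iff.mpr het
  refine ⟨W₁, hW₁, ha₁, Spec B₁, inferInstance, Spec.map ψ₁ ≫ j₁.isoOpensRange.hom,
    inferInstance, Spec.map β, ?_⟩
  have hp := isPullback_SpecMap_of_isPushout _ _ _ _ hpo
  have := isPullback_comp_mono hp j₁
  rw [hj] at this
  rw [Category.assoc, Scheme.Hom.isoOpensRange_hom_ι]
  exact this

end Groth.Agent.Helper21.EtStalk
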