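import Mathlib
import Groth.Agent.Lib.Helper21.EtStalk3
import Groth.Agent.Lib.Helper21.EtStalk4

/-!
# Transfer of cones between base changes; spreading out étale algebras inside a fixed affine
open (helper21)
-/

set_option autoImplicit false
set_option backward.isDefEq.respectTransparency false
set_option backward.isDefEq.respectTransparency.types false
set_option linter.style.haveILetI false
set_option linter.unusedSectionVars false

open CategoryTheory CategoryTheory.Limits AlgebraicGeometry

universe u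

namespace Groth.Agent.Helper21.EtStalk

open Desc Groth.Agent.Helper21.DescA Groth.Agent.Helper21.EtLoc

section transfer

variable {S : Scheme.{u}} {ι : Type} {X : ι → Scheme.{u}} {f : ∀ i, X i ⟶ S} (D : SchDDFam f)

/-- A cone of the base change along `p₁` gives a cone of the base change along `p₂ = q ≫ p₁`. -/
theorem exists_cone_baseChange_of_comp {S₁ S₂ : Scheme.{u}} (p₁ : S₁ ⟶ S) (p₂ : S₂ ⟶ S)
    (q : S₂ ⟶ S₁) (hq : q ≫ p₁ = p₂) (c : Cone (baseChange D p₁)) :
    ∃ c' : Cone (baseChange D p₂), c'.U = Over.mk (pullback.snd c.U.hom q) := by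
  have hc : ∀ j, pullback.fst (f j) p₂ ≫ f j = (pullback.snd (f j) p₂ ≫ q) ≫ p₁ := fun j => by
    rw [Category.assoc, hq]; exact pullback.condition
  exact exists_cone_comp (f₁ := fun j => pullback.snd (f j) p₁) (p := p₁)
    (p' := fun j => pullback.fst (f j) p₁) (fun _ => pullback.condition)
    (f₂ := fun j => pullback.snd (f j) p₂) (q := q)
    (q' := fun j => pullback.lift (pullback.fst (f j) p₂) (pullback.snd (f j) p₂ ≫ q) (hc j))
    (fun j => pullback.lift_snd _ _ _) D c (r := p₂) (r' := fun j => pullback.fst (f j) p₂)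
    (fun _ => pullback.condition) hq (fun j => pullback.lift_fst _ _ _)

/-- A cone of the iterated base change gives a cone of the base change along the composite. -/
theorem exists_cone_of_baseChange_baseChange {S₁ S₂ : Scheme.{u}} (p₁ : S₁ ⟶ S) (q : S₂ ⟶ S₁)
    (p₂ : S₂ ⟶ S) (hq : q ≫ p₁ = p₂) (c : Cone (baseChange (baseChange D p₁) q)) :
    ∃ c' : Cone (baseChange D p₂), c'.U = Over.mk (pullback.snd c.U.hom (𝟙 S₂)) := by
  obtain ⟨c₁, hc₁⟩ := exists_cone_of_iso_cone
    (pullPullIso (f₁ := fun j => pullback.snd (f j) p₁) (p := p₁)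
      (p' := fun j => pullback.fst (f j) p₁) (fun _ => pullback.condition)
      (f₂ := fun j => pullback.snd (pullback.snd (f j) p₁) q) (q := q)
      (q' := fun j => pullback.fst (pullback.snd (f j) p₁) q) (fun _ => pullback.condition) D) c
  have hc : ∀ j, pullback.fst (f j) p₂ ≫ f j = (pullback.snd (f j) p₂ ≫ q) ≫ p₁ := fun j => by
    rw [Category.assoc, hq]; exact pullback.condition
  have hc' : ∀ j, pullback.lift (pullback.fst (f j) p₂) (pullback.snd (f j) p₂ ≫ q) (hc j) ≫
      pullback.snd (f j) p₁ = pullback.snd (f j) p₂ ≫ q := fun j => pullback.lift_snd _ _ _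
  obtain ⟨c₂, hc₂⟩ := exists_cone_comp (f₁ := fun j => pullback.snd (pullback.snd (f j) p₁) q)
    (p := q ≫ p₁)
    (p' := fun j => pullback.fst (pullback.snd (f j) p₁) q ≫ pullback.fst (f j) p₁)
    (comp_compat (f₁ := fun j => pullback.snd (f j) p₁) (p := p₁)
      (p' := fun j => pullback.fst (f j) p₁) (fun _ => pullback.condition)
      (f₂ := fun j => pullback.snd (pullback.snd (f j) p₁) q) (q := q)
      (q' := fun j => pullback.fst (pullback.snd (f j) p₁) q) (fun _ => pullback.condition))
    (f₂ := fun j => pullback.snd (f j) p₂) (q := 𝟙 S₂)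
    (q' := fun j => pullback.lift (pullback.lift _ _ (hc j)) (pullback.snd (f j) p₂) (hc' j))
    (fun j => (pullback.lift_snd _ _ _).trans (Category.comp_id _).symm) D c₁ (r := p₂)
    (r' := fun j => pullback.fst (f j) p₂) (fun _ => pullback.condition)
    ((Category.id_comp _).trans hq)
    (fun j => by rw [pullback.lift_fst_assoc, pullback.lift_fst])
  exact ⟨c₂, by rw [hc₂, hc₁]⟩

/-- A cone of the base change along the composite gives a cone of the iterated base change. -/
theorem exists_cone_baseChange_baseChange {S₁ S₂ : Scheme.{u}} (p₁ : S₁ ⟶ S) (q : S₂ ⟶ S₁)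
    (p₂ : S₂ ⟶ S) (hq : q ≫ p₁ = p₂) (c : Cone (baseChange D p₂)) :
    ∃ c' : Cone (baseChange (baseChange D p₁) q),
      c'.U = Over.mk (pullback.snd c.U.hom (𝟙 S₂)) := by
  have hc : ∀ j, (pullback.fst (pullback.snd (f j) p₁) q ≫ pullback.fst (f j) p₁) ≫ f j =
      pullback.snd (pullback.snd (f j) p₁) q ≫ p₂ := fun j => by
    rw [Category.assoc, pullback.condition, pullback.condition_assoc, hq]
  obtain ⟨c₁, hc₁⟩ := exists_cone_comp (f₁ := fun j => pullback.snd (f j) p₂) (p := p₂)
    (p' := fun j => pullback.fst (f j) p₂) (fun _ => pullback.condition)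
    (f₂ := fun j => pullback.snd (pullback.snd (f j) p₁) q) (q := 𝟙 S₂)
    (q' := fun j => pullback.lift _ _ (hc j))
    (fun j => (pullback.lift_snd _ _ _).trans (Category.comp_id _).symm) D c (r := q ≫ p₁)
    (r' := fun j => pullback.fst (pullback.snd (f j) p₁) q ≫ pullback.fst (f j) p₁)
    (comp_compat (f₁ := fun j => pullback.snd (f j) p₁) (p := p₁)
      (p' := fun j => pullback.fst (f j) p₁) (fun _ => pullback.condition)
      (f₂ := fun j => pullback.snd (pullback.snd (f j) p₁) q) (q := q)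
      (q' := fun j => pullback.fst (pullback.snd (f j) p₁) q) (fun _ => pullback.condition))
    ((Category.id_comp _).trans hq.symm)
    (fun j => pullback.lift_fst _ _ _)
  obtain ⟨c₂, hc₂⟩ := exists_cone_pull_pull (f₁ := fun j => pullback.snd (f j) p₁) (p := p₁)
      (p' := fun j => pullback.fst (f j) p₁) (fun _ => pullback.condition)
      (f₂ := fun j => pullback.snd (pullback.snd (f j) p₁) q) (q := q)
      (q' := fun j => pullback.fst (pullback.snd (f j) p₁) q) (fun _ => pullback.condition) D c₁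
  exact ⟨c₂, by rw [hc₂, hc₁]⟩

end transfer

section nbhd

variable {S : Scheme.{u}}

/-- **Spreading out an affine étale scheme over `Spec O_{S,a}`** inside a fixed affine open
neighbourhood `W₀` of `a`. -/
theorem exists_etale_nbhd_in (a : S) {W₀ : S.Opens} (hW₀ : IsAffineOpen W₀) (ha : a ∈ W₀)
    {B : CommRingCat.{u}} (ψ : S.presheaf.stalk a ⟶ B) (hψ : ψ.hom.Etale) :
    ∃ (Q : Scheme.{u}) (_ : IsAffine Q) (u : Q ⟶ (W₀ : Scheme.{u})) (_ : Etale u)
      (θ : Spec B ⟶ Q), IsPullback θ (Spec.map ψ) u (W₀.fromSpecStalkOfMem a ha) := by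
  obtain ⟨R₁, B₁, ρ, ι₁, ψ₁, β, h1, hoi, het, hpo⟩ :=
    exists_etale_model (S.presheaf.germ W₀ a ha) ψ _ (hW₀.isLocalization_stalk ⟨a, ha⟩) hψ
  haveI := hoi
  let j₁ : Spec R₁ ⟶ (W₀ : Scheme.{u}) := Spec.map ρ ≫ hW₀.isoSpec.inv
  have hj : Spec.map ι₁ ≫ j₁ = W₀.fromSpecStalkOfMem a ha := by
    rw [← cancel_mono W₀.ι, Scheme.Opens.fromSpecStalkOfMem_ι, Category.assoc, Category.assoc,
      IsAffineOpen.isoSpec_inv_ι, ← hW₀.fromSpecStalk_eq_fromSpecStalk ha,
      IsAffineOpen.fromSpecStalk, ← h1, Spec.map_comp, Category.assoc]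
  haveI : Etale (Spec.map ψ₁) := HasRingHomProperty.Spec_iff.mpr het
  refine ⟨Spec B₁, inferInstance, Spec.map ψ₁ ≫ j₁, inferInstance, Spec.map β, ?_⟩
  have hp := isPullback_SpecMap_of_isPushout _ _ _ _ hpo
  have := isPullback_comp_mono hp j₁
  rw [hj] at this
  exact this

end nbhd

end Groth.Agent.Helper21.EtStalk
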