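import Mathlib
import Groth.Agent.Lib.Helper21.EtStalk11
import Groth.Agent.Lib.Helper21.EtStalk12

/-!
# S5124: effectivity of an étale descent datum near a point is detected on the local ring
(helper21)
-/

set_option autoImplicit false
set_option backward.isDefEq.respectTransparency false
set_option backward.isDefEq.respectTransparency.types false
set_option linter.style.haveILetI false
set_option linter.unusedSectionVars false

open CategoryTheory CategoryTheory.Limits AlgebraicGeometry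

universe u

namespace Groth.Agent.Helper21.EtStalk

open Desc Groth.Agent.Helper21.DescA Groth.Agent.Helper21.EtLoc Groth.Agent.Helper21.EtFpqc

theorem isPullback_iso_comp {C : Type*} [Category C] {P' P X Y Z : C} (e : P' ≅ P)
    {fst : P ⟶ X} {snd : P ⟶ Y} {f : X ⟶ Z} {g : Y ⟶ Z} (h : IsPullback fst snd f g) :
    IsPullback (e.hom ≫ fst) (e.hom ≫ snd) f g :=
  IsPullback.of_iso h e.symm (Iso.refl _) (Iso.refl _) (Iso.refl _) (by simp) (by simp)
    (by simp) (by simp)

/-- The hard direction of S5124, in terms of cones. -/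
theorem main5124_mpr {S S' : Scheme.{u}} (g : S' ⟶ S) (hg : SGA1.UnivSubmersive g)
    [LocallyOfFinitePresentation g] [QuasiCompact g] [QuasiSeparated g]
    (D : Desc.SchDDFam (fun _ : PUnit.{1} => g)) [Etale (D.obj PUnit.unit).hom]
    [QuasiCompact (D.obj PUnit.unit).hom] [QuasiSeparated (D.obj PUnit.unit).hom] (a : S)
    (c₀ : Cone (baseChange D (S.fromSpecStalk a))) (hc₀ : Etale c₀.U.hom) :
    ∃ (W : S.Opens) (_ : a ∈ W) (c : Cone (baseChange D W.ι)), Etale c.U.hom := by
  obtain ⟨W₀, hW₀, ha₀, -⟩ := exists_isAffineOpen_mem_and_subset (x := a) (U := ⊤) trivial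
  haveI : IsAffine (W₀ : Scheme.{u}) := hW₀
  let P : ProOpen (W₀ : Scheme.{u}) := proOpenNI (a := a) (W₀ := W₀) ha₀
  haveI : ∀ i, IsOpenImmersion (P.ν.app i) :=
    fun i => inferInstanceAs (IsOpenImmersion (S.homOfLE i.2.2.2))
  have hτ : P.τ₀ ≫ W₀.ι = S.fromSpecStalk a := Scheme.Opens.fromSpecStalkOfMem_ι W₀ a ha₀
  haveI : Mono P.τ₀ := mono_of_mono_fac hτ
  haveI : CompactSpace ↥P.c₀.pt := inferInstanceAs (CompactSpace ↥(Spec (S.presheaf.stalk a)))
  haveI : QuasiCompact ((fun _ : PUnit.{1} => pullback.snd g W₀.ι) default) :=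
    inferInstanceAs (QuasiCompact (pullback.snd g W₀.ι))
  haveI : QuasiSeparated ((fun _ : PUnit.{1} => pullback.snd g W₀.ι) default) :=
    inferInstanceAs (QuasiSeparated (pullback.snd g W₀.ι))
  haveI : Etale ((baseChange D W₀.ι).obj default).hom :=
    inferInstanceAs (Etale (pullback.snd (D.obj PUnit.unit).hom (pullback.fst g W₀.ι)))
  haveI : QuasiCompact ((baseChange D W₀.ι).obj default).hom :=
    inferInstanceAs (QuasiCompact (pullback.snd (D.obj PUnit.unit).hom (pullback.fst g W₀.ι)))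
  haveI : QuasiSeparated ((baseChange D W₀.ι).obj default).hom :=
    inferInstanceAs (QuasiSeparated (pullback.snd (D.obj PUnit.unit).hom (pullback.fst g W₀.ι)))
  -- the cone over the germ of `W₀`
  obtain ⟨c₁, hc₁⟩ := exists_cone_baseChange_baseChange D W₀.ι P.τ₀ (S.fromSpecStalk a) hτ c₀
  have hc₁e : Etale c₁.U.hom := by
    rw [hc₁]
    change Etale (pullback.snd c₀.U.hom (𝟙 _))
    infer_instance
  obtain ⟨i, c₂, hc₂⟩ := core (P := P) (D := baseChange D W₀.ι)
    (univSubmersive_snd g hg W₀.ι) c₁ hc₁e (by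
      intro V _ v _
      obtain ⟨ψ, hψ⟩ := Spec.map_surjective (V.isoSpec.inv ≫ v)
      have hψe : ψ.hom.Etale := by
        have : Etale (Spec.map ψ) := by rw [hψ]; infer_instance
        exact (HasRingHomProperty.Spec_iff (P := @Etale)).mp this
      obtain ⟨Q, hQ, u, hu, θ, hθ⟩ := exists_etale_nbhd_in a hW₀ ha₀ ψ hψe
      refine ⟨Q, hQ, u, hu, V.isoSpec.hom ≫ θ, ?_⟩
      have := isPullback_iso_comp V.isoSpec hθ
      rw [hψ, Iso.hom_inv_id_assoc] at this
      exact this)
  -- transfer back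
  obtain ⟨c₃, hc₃⟩ := exists_cone_of_baseChange_baseChange D W₀.ι (P.ν.app i) i.1.ι
    (S.homOfLE_ι i.2.2.2) c₂
  refine ⟨i.1, i.2.2.1, c₃, ?_⟩
  rw [hc₃]
  change Etale (pullback.snd c₂.U.hom (𝟙 _))
  infer_instance

/-- **S5124**. -/
theorem main5124 {S S' : Scheme.{u}} (g : S' ⟶ S) (hg : SGA1.UnivSubmersive g)
    [LocallyOfFinitePresentation g] [QuasiCompact g] [QuasiSeparated g]
    (D : Desc.SchDDFam (fun _ : PUnit.{1} => g)) [Etale (D.obj PUnit.unit).hom]
    [QuasiCompact (D.obj PUnit.unit).hom] [QuasiSeparated (D.obj PUnit.unit).hom] (a : S) :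
    (∃ W : S.Opens, a ∈ W ∧ (∃ U : Over (W : Scheme.{u}), Etale U.hom ∧
        Nonempty ((Desc.toDDFam (fun _ : PUnit.{1} => pullback.snd g W.ι)).obj U ≅
          (Desc.pullDDFam (f := fun _ : PUnit.{1} => g) (f' := fun _ : PUnit.{1} => pullback.snd g W.ι)
        (α := id) (p := W.ι) (p' := fun _ => pullback.fst g W.ι) (fun _ => pullback.condition)).obj D))) ↔
      (∃ U : Over (Spec (S.presheaf.stalk a)), Etale U.hom ∧
        Nonempty ((Desc.toDDFam (fun _ : PUnit.{1} => pullback.snd g (S.fromSpecStalk a))).obj U ≅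
          (Desc.pullDDFam (f := fun _ : PUnit.{1} => g) (f' := fun _ : PUnit.{1} => pullback.snd g (S.fromSpecStalk a))
        (α := id) (p := (S.fromSpecStalk a)) (p' := fun _ => pullback.fst g (S.fromSpecStalk a)) (fun _ => pullback.condition)).obj D)) := by
  constructor
  · rintro ⟨W, haW, U, hU, ⟨e⟩⟩
    obtain ⟨c, hc⟩ := exists_cone_of_iso (D := baseChange D W.ι) U e.symm
    obtain ⟨c', hc'⟩ := exists_cone_baseChange_of_comp D W.ι (S.fromSpecStalk a)
      (W.fromSpecStalkOfMem a haW) (Scheme.Opens.fromSpecStalkOfMem_ι W a haW) c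
    refine ⟨c'.U, ?_, ⟨c'.iso.symm⟩⟩
    haveI : Etale c.U.hom := by rw [hc]; exact hU
    rw [hc']
    change Etale (pullback.snd c.U.hom _)
    infer_instance
  · rintro ⟨U, hU, ⟨e⟩⟩
    obtain ⟨c₀, hc₀⟩ := exists_cone_of_iso (D := baseChange D (S.fromSpecStalk a)) U e.symm
    obtain ⟨W, haW, c, hc⟩ := main5124_mpr g hg D a c₀ (by rw [hc₀]; exact hU)
    exact ⟨W, haW, c.U, hc, ⟨c.iso.symm⟩⟩

/-- **S5125**. -/
theorem main5125 {S S' : Scheme.{u}} (g : S' ⟶ S) (hg : SGA1.UnivSubmersive g)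
    [LocallyOfFinitePresentation g] [QuasiCompact g] [QuasiSeparated g]
    (D : Desc.SchDDFam (fun _ : PUnit.{1} => g)) [Etale (D.obj PUnit.unit).hom]
    [QuasiCompact (D.obj PUnit.unit).hom] [QuasiSeparated (D.obj PUnit.unit).hom] :
    (∃ U : Over S, Etale U.hom ∧ Nonempty ((Desc.toDDFam (fun _ : PUnit.{1} => g)).obj U ≅ D)) ↔
      ∀ a : S, (∃ U : Over (Spec (S.presheaf.stalk a)), Etale U.hom ∧
        Nonempty ((Desc.toDDFam (fun _ : PUnit.{1} => pullback.snd g (S.fromSpecStalk a))).obj U ≅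
          (Desc.pullDDFam (f := fun _ : PUnit.{1} => g) (f' := fun _ : PUnit.{1} => pullback.snd g (S.fromSpecStalk a))
        (α := id) (p := (S.fromSpecStalk a)) (p' := fun _ => pullback.fst g (S.fromSpecStalk a)) (fun _ => pullback.condition)).obj D)) := by
  constructor
  · rintro ⟨U, hU, ⟨e⟩⟩ a
    obtain ⟨c, hc⟩ := exists_cone_of_iso U e.symm
    subst hc
    refine ⟨(baseChangeCone D c (S.fromSpecStalk a)).U, ?_,
      ⟨(baseChangeCone D c (S.fromSpecStalk a)).iso.symm⟩⟩
    change Etale (pullback.snd c.U.hom (S.fromSpecStalk a))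
    infer_instance
  · intro h
    have h' : ∀ a : S, ∃ (W : S.Opens) (_ : a ∈ W) (c : Cone (baseChange D W.ι)),
        Etale c.U.hom := by
      intro a
      obtain ⟨U, hU, ⟨e⟩⟩ := h a
      obtain ⟨c₀, hc₀⟩ := exists_cone_of_iso (D := baseChange D (S.fromSpecStalk a)) U e.symm
      exact main5124_mpr g hg D a c₀ (by rw [hc₀]; exact hU)
    choose W haW c hc using h'
    obtain ⟨c', hc'⟩ := exists_cone_of_baseChange (f := fun _ : PUnit.{1} => g) (fun _ => hg) D
      (fun a : S => ((W a : S.Opens) : Scheme.{u})) (fun a => (W a).ι)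
      (fun s => ⟨s, by rw [Scheme.Opens.range_ι]; exact haW s⟩)
      (fun a => ⟨c a, hc a⟩)
    exact ⟨c'.U, hc', ⟨c'.iso.symm⟩⟩

end Groth.Agent.Helper21.EtStalk
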