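import Mathlib
import Groth.Agent.Lib.Helper21.EtStalk13
import Groth.Agent.Lib.Helper21.EtFpqc6
import Groth.Agent.Lib.Helper21.SubmDesc

/-!
# S5126: effectivity of a separated étale descent datum is detected on the completed local rings
(helper21)
-/

set_option autoImplicit false
set_option backward.isDefEq.respectTransparency false
set_option backward.isDefEq.respectTransparency.types false
set_option linter.style.haveILetI false
set_option linter.unusedSectionVars false

open CategoryTheory CategoryTheory.Limits AlgebraicGeometry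

universe u

namespace Groth.Agent.Helper21.EtStalk

open Desc Groth.Agent.Helper21.DescA Groth.Agent.Helper21.EtLoc Groth.Agent.Helper21.EtFpqc

/-- Quasi-compactness descends along surjective quasi-compact morphisms. -/
theorem quasiCompact_of_isPullback_surjective {A X' Y' Z : Scheme.{u}} {fst : A ⟶ X'}
    {snd : A ⟶ Z} {c : X' ⟶ Y'} {g : Z ⟶ Y'} (h : IsPullback fst snd c g) [Surjective c]
    [QuasiCompact c] [QuasiCompact fst] : QuasiCompact g := by
  haveI : Surjective snd := MorphismProperty.of_isPullback h inferInstance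
  constructor
  intro U hU hUc
  have h1 : IsCompact (c ⁻¹' U) := QuasiCompact.isCompact_preimage U hU hUc
  have h2 : IsCompact (fst ⁻¹' (c ⁻¹' U)) :=
    QuasiCompact.isCompact_preimage _ (hU.preimage c.continuous) h1
  have h3 : fst ⁻¹' (c ⁻¹' U) = snd ⁻¹' (g ⁻¹' U) := by
    ext x
    have e : c (fst x) = g (snd x) := congrArg (fun φ : A ⟶ Y' => φ x) h.w
    simp only [Set.mem_preimage, e]
  rw [h3] at h2
  have h4 := h2.image snd.continuous
  rwa [Set.image_preimage_eq _ snd.surjective] at h4

theorem surjective_of_univSubmersive {X Y : Scheme.{u}} (f : X ⟶ Y)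
    (hf : SGA1.UnivSubmersive f) : Surjective f :=
  ⟨(Groth.Agent.Helper21.SubmDesc.quotientMap_of_Q f hf).surjective⟩

theorem flat_surj_completion (R : Type u) [CommRing R] [IsLocalRing R] [IsNoetherianRing R] :
    Flat (Spec.map (CommRingCat.ofHom
      (algebraMap R (AdicCompletion (IsLocalRing.maximalIdeal R) R)))) ∧
    Surjective (Spec.map (CommRingCat.ofHom
      (algebraMap R (AdicCompletion (IsLocalRing.maximalIdeal R) R)))) := by
  rw [flat_and_surjective_SpecMap_iff]
  have hff : Module.FaithfullyFlat R (AdicCompletion (IsLocalRing.maximalIdeal R) R) :=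
    Module.FaithfullyFlat.of_flat_of_isLocalHom
  exact (RingHom.faithfullyFlat_algebraMap_iff).mpr hff

/-- The local step of S5126: effectivity over the local ring is equivalent to effectivity over
its completion. -/
theorem completion_step {S S' : Scheme.{u}} [IsLocallyNoetherian S] (g : S' ⟶ S)
    (hg : SGA1.UnivSubmersive g) [QuasiCompact g]
    (D : Desc.SchDDFam (fun _ : PUnit.{1} => g))
    [QuasiCompact (D.obj PUnit.unit).hom] [IsSeparated (D.obj PUnit.unit).hom] (a : S)
    (c : Cone (baseChange D (Spec.map (CommRingCat.ofHom (algebraMap (S.presheaf.stalk a)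
      (AdicCompletion (IsLocalRing.maximalIdeal (S.presheaf.stalk a)) (S.presheaf.stalk a)))) ≫
        S.fromSpecStalk a))) (hc : Etale c.U.hom) :
    ∃ c₀ : Cone (baseChange D (S.fromSpecStalk a)), Etale c₀.U.hom := by
  obtain ⟨hfl, hsj⟩ := flat_surj_completion (S.presheaf.stalk a)
  obtain ⟨c', hc'⟩ := exists_cone_baseChange_baseChange D (S.fromSpecStalk a)
    (Spec.map (CommRingCat.ofHom (algebraMap (S.presheaf.stalk a)
      (AdicCompletion (IsLocalRing.maximalIdeal (S.presheaf.stalk a)) (S.presheaf.stalk a))))) _ rfl c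
  have hgs : SGA1.UnivSubmersive (pullback.snd g (S.fromSpecStalk a)) :=
    univSubmersive_snd g hg _
  have hgs' : SGA1.UnivSubmersive (pullback.snd (pullback.snd g (S.fromSpecStalk a))
      (Spec.map (CommRingCat.ofHom (algebraMap (S.presheaf.stalk a)
      (AdicCompletion (IsLocalRing.maximalIdeal (S.presheaf.stalk a)) (S.presheaf.stalk a)))))) :=
    univSubmersive_snd _ hgs _
  haveI := surjective_of_univSubmersive _ hgs'
  have hpb := c'.isPullback PUnit.unit
  have he : Etale c'.U.hom := by
    rw [hc']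
    change Etale (pullback.snd c.U.hom (𝟙 _))
    infer_instance
  haveI : IsSeparated ((baseChange (baseChange D (S.fromSpecStalk a))
      (Spec.map (CommRingCat.ofHom (algebraMap (S.presheaf.stalk a)
      (AdicCompletion (IsLocalRing.maximalIdeal (S.presheaf.stalk a))
        (S.presheaf.stalk a)))))).obj PUnit.unit).hom :=
    inferInstanceAs (IsSeparated (pullback.snd (pullback.snd (D.obj PUnit.unit).hom
      (pullback.fst g (S.fromSpecStalk a))) (pullback.fst (pullback.snd g (S.fromSpecStalk a))
        (Spec.map (CommRingCat.ofHom (algebraMap (S.presheaf.stalk a)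
      (AdicCompletion (IsLocalRing.maximalIdeal (S.presheaf.stalk a)) (S.presheaf.stalk a))))))))
  haveI : QuasiCompact ((baseChange (baseChange D (S.fromSpecStalk a))
      (Spec.map (CommRingCat.ofHom (algebraMap (S.presheaf.stalk a)
      (AdicCompletion (IsLocalRing.maximalIdeal (S.presheaf.stalk a))
        (S.presheaf.stalk a)))))).obj PUnit.unit).hom :=
    inferInstanceAs (QuasiCompact (pullback.snd (pullback.snd (D.obj PUnit.unit).hom
      (pullback.fst g (S.fromSpecStalk a))) (pullback.fst (pullback.snd g (S.fromSpecStalk a))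
        (Spec.map (CommRingCat.ofHom (algebraMap (S.presheaf.stalk a)
      (AdicCompletion (IsLocalRing.maximalIdeal (S.presheaf.stalk a)) (S.presheaf.stalk a))))))))
  have hsep : IsSeparated c'.U.hom :=
    Groth.Agent.Helper21.SubmDesc.separated_descends.of_isPullback hpb hgs' inferInstance
  have hqc : QuasiCompact c'.U.hom := quasiCompact_of_isPullback_surjective hpb
  obtain ⟨U₀, hU₀, -, -, ⟨e₀⟩⟩ := (main5122 (pullback.snd g (S.fromSpecStalk a)) hgs
    (baseChange D (S.fromSpecStalk a)) (Spec.map (CommRingCat.ofHom (algebraMap (S.presheaf.stalk a)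
      (AdicCompletion (IsLocalRing.maximalIdeal (S.presheaf.stalk a))
        (S.presheaf.stalk a)))))).mpr ⟨c'.U, he, hsep, hqc, ⟨c'.iso.symm⟩⟩
  obtain ⟨c₀, hc₀⟩ := exists_cone_of_iso (D := baseChange D (S.fromSpecStalk a)) U₀ e₀.symm
  exact ⟨c₀, by rw [hc₀]; exact hU₀⟩

/-- **S5126**. -/
theorem main5126 {S S' : Scheme.{u}} [IsLocallyNoetherian S] (g : S' ⟶ S)
    (hg : SGA1.UnivSubmersive g) [LocallyOfFinitePresentation g] [QuasiCompact g] [QuasiSeparated g]
    (D : Desc.SchDDFam (fun _ : PUnit.{1} => g)) [Etale (D.obj PUnit.unit).hom]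
    [QuasiCompact (D.obj PUnit.unit).hom] [IsSeparated (D.obj PUnit.unit).hom] :
    (∃ U : Over S, Etale U.hom ∧ Nonempty ((Desc.toDDFam (fun _ : PUnit.{1} => g)).obj U ≅ D)) ↔ ∀ a : S,
      (∃ U : Over (Spec (CommRingCat.of (AdicCompletion (IsLocalRing.maximalIdeal (S.presheaf.stalk a)) (S.presheaf.stalk a)))), Etale U.hom ∧
        Nonempty ((Desc.toDDFam (fun _ : PUnit.{1} => pullback.snd g (Spec.map (CommRingCat.ofHom (algebraMap (S.presheaf.stalk a)
          (AdicCompletion (IsLocalRing.maximalIdeal (S.presheaf.stalk a)) (S.presheaf.stalk a)))) ≫ S.fromSpecStalk a))).obj U ≅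
          (Desc.pullDDFam (f := fun _ : PUnit.{1} => g) (f' := fun _ : PUnit.{1} => pullback.snd g (Spec.map (CommRingCat.ofHom (algebraMap (S.presheaf.stalk a)
          (AdicCompletion (IsLocalRing.maximalIdeal (S.presheaf.stalk a)) (S.presheaf.stalk a)))) ≫ S.fromSpecStalk a))
        (α := id) (p := (Spec.map (CommRingCat.ofHom (algebraMap (S.presheaf.stalk a)
          (AdicCompletion (IsLocalRing.maximalIdeal (S.presheaf.stalk a)) (S.presheaf.stalk a)))) ≫ S.fromSpecStalk a)) (p' := fun _ => pullback.fst g (Spec.map (CommRingCat.ofHom (algebraMap (S.presheaf.stalk a)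
          (AdicCompletion (IsLocalRing.maximalIdeal (S.presheaf.stalk a)) (S.presheaf.stalk a)))) ≫ S.fromSpecStalk a)) (fun _ => pullback.condition)).obj D)) := by
  haveI : QuasiSeparated (D.obj PUnit.unit).hom := inferInstance
  constructor
  · rintro ⟨U, hU, ⟨e⟩⟩ a
    obtain ⟨c, hc⟩ := exists_cone_of_iso U e.symm
    subst hc
    refine ⟨(baseChangeCone D c _).U, ?_, ⟨(baseChangeCone D c _).iso.symm⟩⟩
    change Etale (pullback.snd c.U.hom _)
    infer_instance
  · intro h
    rw [main5125 g hg D]
    intro a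
    obtain ⟨U, hU, ⟨e⟩⟩ := h a
    obtain ⟨c, hc⟩ := exists_cone_of_iso (D := baseChange D (Spec.map (CommRingCat.ofHom
      (algebraMap (S.presheaf.stalk a) (AdicCompletion (IsLocalRing.maximalIdeal
        (S.presheaf.stalk a)) (S.presheaf.stalk a)))) ≫ S.fromSpecStalk a)) U e.symm
    obtain ⟨c₀, hc₀⟩ := completion_step g hg D a c (by rw [hc]; exact hU)
    exact ⟨c₀.U, hc₀, ⟨c₀.iso.symm⟩⟩

end Groth.Agent.Helper21.EtStalk
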