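import Mathlib
import Groth.Agent.Lib.Helper21.EtStalk14
import Groth.Agent.Lib.Helper14.CohenAlgExist

/-!
# S5127: effectivity of a separated étale descent datum is detected on complete local rings with
algebraically closed residue fields (helper21)
-/

set_option autoImplicit false
set_option backward.isDefEq.respectTransparency false
set_option backward.isDefEq.respectTransparency.types false
set_option linter.style.haveILetI false
set_option linter.unusedSectionVars false

open CategoryTheory CategoryTheory.Limits AlgebraicGeometry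

universe u

namespace Groth.Agent.Helper21.EtStalk

open Desc Groth.Agent.Helper21.DescA Groth.Agent.Helper21.EtLoc Groth.Agent.Helper21.EtFpqc

/-- fpqc descent step: a cone with étale vertex over `S₂ ⟶ S₁ ⟶ S` (with `S₂ ⟶ S₁` fpqc)
descends to `S₁`, for a separated quasi-compact datum. -/
theorem fpqc_step {S S' : Scheme.{u}} (g : S' ⟶ S)
    (hg : SGA1.UnivSubmersive g) [QuasiCompact g]
    (D : Desc.SchDDFam (fun _ : PUnit.{1} => g))
    [QuasiCompact (D.obj PUnit.unit).hom] [IsSeparated (D.obj PUnit.unit).hom]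
    {S₁ S₂ : Scheme.{u}} (p₁ : S₁ ⟶ S) (r : S₂ ⟶ S₁) [Flat r] [Surjective r] [QuasiCompact r]
    (c : Cone (baseChange D (r ≫ p₁))) (hc : Etale c.U.hom) :
    ∃ c₀ : Cone (baseChange D p₁), Etale c₀.U.hom := by
  obtain ⟨c', hc'⟩ := exists_cone_baseChange_baseChange D p₁ r _ rfl c
  have hgs : SGA1.UnivSubmersive (pullback.snd g p₁) := univSubmersive_snd g hg _
  have hgs' : SGA1.UnivSubmersive (pullback.snd (pullback.snd g p₁) r) :=
    univSubmersive_snd _ hgs _
  haveI := surjective_of_univSubmersive _ hgs'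
  have hpb := c'.isPullback PUnit.unit
  have he : Etale c'.U.hom := by
    rw [hc']
    change Etale (pullback.snd c.U.hom (𝟙 _))
    infer_instance
  haveI : IsSeparated ((baseChange (baseChange D p₁) r).obj PUnit.unit).hom :=
    inferInstanceAs (IsSeparated (pullback.snd (pullback.snd (D.obj PUnit.unit).hom
      (pullback.fst g p₁)) (pullback.fst (pullback.snd g p₁) r)))
  haveI : QuasiCompact ((baseChange (baseChange D p₁) r).obj PUnit.unit).hom :=
    inferInstanceAs (QuasiCompact (pullback.snd (pullback.snd (D.obj PUnit.unit).hom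
      (pullback.fst g p₁)) (pullback.fst (pullback.snd g p₁) r)))
  have hsep : IsSeparated c'.U.hom :=
    Groth.Agent.Helper21.SubmDesc.separated_descends.of_isPullback hpb hgs' inferInstance
  have hqc : QuasiCompact c'.U.hom := quasiCompact_of_isPullback_surjective hpb
  obtain ⟨U₀, hU₀, -, -, ⟨e₀⟩⟩ := (main5122 (pullback.snd g p₁) hgs
    (baseChange D p₁) r).mpr ⟨c'.U, he, hsep, hqc, ⟨c'.iso.symm⟩⟩
  obtain ⟨c₀, hc₀⟩ := exists_cone_of_iso (D := baseChange D p₁) U₀ e₀.symm
  exact ⟨c₀, by rw [hc₀]; exact hU₀⟩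

/-- A complete Noetherian local ring has a faithfully flat complete Noetherian local extension
with algebraically closed residue field. -/
theorem exists_algClosed_extension (A : Type u) [CommRing A] [IsLocalRing A] [IsNoetherianRing A]
    [IsAdicComplete (IsLocalRing.maximalIdeal A) A] :
    ∃ (B : Type u) (_ : CommRing B) (_ : IsLocalRing B) (_ : Algebra A B),
      IsNoetherianRing B ∧ IsAdicComplete (IsLocalRing.maximalIdeal B) B ∧
        IsAlgClosed (IsLocalRing.ResidueField B) ∧ Module.FaithfullyFlat A B := by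
  obtain ⟨B, _, _, _, hBN, hBc, hBflat, hBmap, e, -⟩ :=
    Groth.Agent.Helper14.CohenAlgExist.exists_of_complete (A := A)
      (K := AlgebraicClosure (IsLocalRing.ResidueField A))
      (algebraMap (IsLocalRing.ResidueField A) (AlgebraicClosure (IsLocalRing.ResidueField A)))
  refine ⟨B, inferInstance, inferInstance, inferInstance, hBN, hBc, ?_, ?_⟩
  · exact IsAlgClosed.of_ringEquiv _ _ e.symm
  · haveI : IsLocalHom (algebraMap A B) :=
      ((IsLocalRing.local_hom_TFAE (algebraMap A B)).out 0 2).mpr hBmap.le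
    exact Module.FaithfullyFlat.of_flat_of_isLocalHom

/-- **S5127**. -/
theorem main5127 {S S' : Scheme.{u}} [IsLocallyNoetherian S]
    (g : S' ⟶ S) (hg : SGA1.UnivSubmersive g) [LocallyOfFinitePresentation g] [QuasiCompact g] [QuasiSeparated g]
    (D : Desc.SchDDFam (fun _ : PUnit.{1} => g)) [Etale (D.obj PUnit.unit).hom]
    [QuasiCompact (D.obj PUnit.unit).hom] [IsSeparated (D.obj PUnit.unit).hom] :
    (∃ U : Over S, Etale U.hom ∧ Nonempty ((Desc.toDDFam (fun _ : PUnit.{1} => g)).obj U ≅ D)) ↔ ∀ (B : Type u) [CommRing B] [IsNoetherianRing B] [IsLocalRing B]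
      [IsAdicComplete (IsLocalRing.maximalIdeal B) B] [IsAlgClosed (IsLocalRing.ResidueField B)]
      (q : Spec (CommRingCat.of B) ⟶ S), (∃ U : Over (Spec (CommRingCat.of B)), Etale U.hom ∧
        Nonempty ((Desc.toDDFam (fun _ : PUnit.{1} => pullback.snd g q)).obj U ≅
          (Desc.pullDDFam (f := fun _ : PUnit.{1} => g) (f' := fun _ : PUnit.{1} => pullback.snd g q)
        (α := id) (p := q) (p' := fun _ => pullback.fst g q) (fun _ => pullback.condition)).obj D)) := by
  constructor
  · rintro ⟨U, hU, ⟨e⟩⟩ B _ _ _ _ _ q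
    obtain ⟨c, hc⟩ := exists_cone_of_iso U e.symm
    subst hc
    refine ⟨(baseChangeCone D c q).U, ?_, ⟨(baseChangeCone D c q).iso.symm⟩⟩
    change Etale (pullback.snd c.U.hom q)
    infer_instance
  · intro h
    rw [main5126 g hg D]
    intro a
    haveI hN : IsNoetherianRing (AdicCompletion (IsLocalRing.maximalIdeal (S.presheaf.stalk a)) (S.presheaf.stalk a)) :=
      Groth.Agent.Helper1.isNoetherianRing_adicCompletion_of_fg _ _ (IsNoetherian.noetherian _)
    obtain ⟨B, _, _, _, hBN, hBc, hBac, hBff⟩ := exists_algClosed_extension (AdicCompletion (IsLocalRing.maximalIdeal (S.presheaf.stalk a)) (S.presheaf.stalk a))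
    obtain ⟨U, hU, ⟨e⟩⟩ := @h B _ hBN _ hBc hBac
      (Spec.map (CommRingCat.ofHom (algebraMap (AdicCompletion (IsLocalRing.maximalIdeal (S.presheaf.stalk a)) (S.presheaf.stalk a)) B)) ≫ (Spec.map (CommRingCat.ofHom (algebraMap (S.presheaf.stalk a) (AdicCompletion (IsLocalRing.maximalIdeal (S.presheaf.stalk a)) (S.presheaf.stalk a)))) ≫ S.fromSpecStalk a))
    obtain ⟨c, hc⟩ := exists_cone_of_iso (D := baseChange D
      (Spec.map (CommRingCat.ofHom (algebraMap (AdicCompletion (IsLocalRing.maximalIdeal (S.presheaf.stalk a)) (S.presheaf.stalk a)) B)) ≫ (Spec.map (CommRingCat.ofHom (algebraMap (S.presheaf.stalk a) (AdicCompletion (IsLocalRing.maximalIdeal (S.presheaf.stalk a)) (S.presheaf.stalk a)))) ≫ S.fromSpecStalk a))) U e.symm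
    obtain ⟨hfl, hsj⟩ := (flat_and_surjective_SpecMap_iff
      (CommRingCat.ofHom (algebraMap (AdicCompletion (IsLocalRing.maximalIdeal (S.presheaf.stalk a)) (S.presheaf.stalk a)) B))).mpr
      ((RingHom.faithfullyFlat_algebraMap_iff).mpr hBff)
    obtain ⟨c₀, hc₀⟩ := fpqc_step g hg D (Spec.map (CommRingCat.ofHom (algebraMap (S.presheaf.stalk a) (AdicCompletion (IsLocalRing.maximalIdeal (S.presheaf.stalk a)) (S.presheaf.stalk a)))) ≫ S.fromSpecStalk a)
      (Spec.map (CommRingCat.ofHom (algebraMap (AdicCompletion (IsLocalRing.maximalIdeal (S.presheaf.stalk a)) (S.presheaf.stalk a)) B))) c (by rw [hc]; exact hU)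
    exact ⟨c₀.U, hc₀, ⟨c₀.iso.symm⟩⟩

end Groth.Agent.Helper21.EtStalk
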