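import Mathlib
import Groth.Agent.Lib.Helper21.EtStalk15

/-!
# Finite surjective descent of étale schemes, part 1: rigidity over a local base with algebraically
closed residue field (helper21)
-/

set_option autoImplicit false
set_option backward.isDefEq.respectTransparency false
set_option backward.isDefEq.respectTransparency.types false
set_option linter.style.haveILetI false
set_option linter.unusedSectionVars false

open CategoryTheory CategoryTheory.Limits AlgebraicGeometry

universe u

namespace Groth.Agent.Helper21.EtFin

/-- Universally closed surjective morphisms are universally submersive. -/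
theorem univSubmersive_of_univClosed_surj {X Y : Scheme.{u}} (p : X ⟶ Y) [UniversallyClosed p]
    [Surjective p] : SGA1.UnivSubmersive p := by
  intro X' Y' i₁ i₂ f' h
  have h1 : UniversallyClosed f' := MorphismProperty.of_isPullback h.flip inferInstance
  have h2 : Surjective f' := MorphismProperty.of_isPullback h.flip inferInstance
  exact f'.isClosedMap.isQuotientMap f'.continuous f'.surjective

section kpoint

variable (R : Type u) [CommRing R] [IsLocalRing R] [IsAlgClosed (IsLocalRing.ResidueField R)]

/-- The closed geometric point of `Spec R`. -/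
noncomputable abbrev sbar : Spec (CommRingCat.of (IsLocalRing.ResidueField R)) ⟶
    Spec (CommRingCat.of R) :=
  Spec.map (CommRingCat.ofHom (IsLocalRing.residue R))

/-- Over a local ring with algebraically closed residue field `k`, every point of a locally
quasi-finite scheme lying over the closed point is the image of a `k`-point. -/
theorem exists_kpoint {Z : Scheme.{u}} (a : Z ⟶ Spec (CommRingCat.of R)) [LocallyQuasiFinite a]
    [LocallyOfFiniteType a] (z : Z) (hz : a z = IsLocalRing.closedPoint R) :
    ∃ t : Spec (CommRingCat.of (IsLocalRing.ResidueField R)) ⟶ Z,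
      t ≫ a = sbar R ∧ z ∈ Set.range t := by
  have hpt : sbar R (IsLocalRing.closedPoint (IsLocalRing.ResidueField R)) =
      IsLocalRing.closedPoint R := IsLocalRing.PrimeSpectrum.comap_residue _ _
  obtain ⟨f₀, hf₀, -⟩ := Scheme.Pullback.exists_preimage_pullback (f := a) (g := sbar R) z
    (IsLocalRing.closedPoint (IsLocalRing.ResidueField R)) (hz.trans hpt.symm)
  have hdisc : DiscreteTopology ↥(pullback a (sbar R)) := by
    have h1 := (pullback.snd a (sbar R)).isDiscrete_preimage_singleton
      (IsLocalRing.closedPoint (IsLocalRing.ResidueField R))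
    have h2 : (pullback.snd a (sbar R)) ⁻¹' {IsLocalRing.closedPoint (IsLocalRing.ResidueField R)} =
        Set.univ := by
      ext x
      simp only [Set.mem_preimage, Set.mem_singleton_iff, Set.mem_univ, iff_true]
      exact Subsingleton.elim _ _
    rw [h2] at h1
    exact isDiscrete_univ_iff.mp h1
  have hx : IsClosed ({f₀} : Set ↥(pullback a (sbar R))) := isClosed_discrete _
  refine ⟨pointOfClosedPoint (pullback.snd a (sbar R)) f₀ hx ≫ pullback.fst a (sbar R), ?_, ?_⟩
  · rw [Category.assoc, pullback.condition, ← Category.assoc, pointOfClosedPoint_comp,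
      Category.id_comp]
  · exact ⟨IsLocalRing.closedPoint _, by
      rw [Scheme.Hom.comp_apply, pointOfClosedPoint_apply, hf₀]⟩

end kpoint

/-- Two liftings through a separated étale morphism agree on a clopen subset. -/
theorem exists_clopen_eq {X' S' Z : Scheme.{u}} (h : X' ⟶ S') [Etale h] [IsSeparated h]
    (a b : Z ⟶ X') (hab : a ≫ h = b ≫ h) :
    ∃ C : Set Z, IsClopen C ∧
      (∀ {T₀ : Scheme.{u}} (t : T₀ ⟶ Z), Set.range t ⊆ C → t ≫ a = t ≫ b) ∧
      (∀ {T₀ : Scheme.{u}} (t : T₀ ⟶ Z), t ≫ a = t ≫ b → Set.range t ⊆ C) := by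
  let Δ : X' ⟶ pullback h h := pullback.diagonal h
  let ab : Z ⟶ pullback h h := pullback.lift a b hab
  haveI : IsOpenImmersion Δ := inferInstanceAs (IsOpenImmersion (pullback.diagonal h))
  haveI : IsClosedImmersion Δ := inferInstanceAs (IsClosedImmersion (pullback.diagonal h))
  refine ⟨ab ⁻¹' (Set.range Δ), ⟨?_, ?_⟩, ?_, ?_⟩
  · exact Δ.isClosedEmbedding.isClosed_range.preimage ab.continuous
  · exact Δ.isOpenEmbedding.isOpen_range.preimage ab.continuous
  · intro T₀ t ht
    have hr : Set.range (t ≫ ab) ⊆ Set.range Δ := by
      rintro _ ⟨x, rfl⟩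
      rw [Scheme.Hom.comp_apply]
      exact ht ⟨x, rfl⟩
    have e : IsOpenImmersion.lift Δ (t ≫ ab) hr ≫ Δ = t ≫ ab := IsOpenImmersion.lift_fac _ _ _
    have e1 : t ≫ a = IsOpenImmersion.lift Δ (t ≫ ab) hr := by
      have := congrArg (fun m => m ≫ pullback.fst h h) e
      simp only [Category.assoc] at this
      rw [show Δ ≫ pullback.fst h h = 𝟙 _ from pullback.diagonal_fst h, Category.comp_id,
        show ab ≫ pullback.fst h h = a from pullback.lift_fst _ _ _] at this
      exact this.symm
    have e2 : t ≫ b = IsOpenImmersion.lift Δ (t ≫ ab) hr := by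
      have := congrArg (fun m => m ≫ pullback.snd h h) e
      simp only [Category.assoc] at this
      rw [show Δ ≫ pullback.snd h h = 𝟙 _ from pullback.diagonal_snd h, Category.comp_id,
        show ab ≫ pullback.snd h h = b from pullback.lift_snd _ _ _] at this
      exact this.symm
    rw [e1, e2]
  · intro T₀ t ht
    have e : t ≫ ab = (t ≫ a) ≫ Δ := by
      apply pullback.hom_ext
      · rw [Category.assoc, Category.assoc,
          show Δ ≫ pullback.fst h h = 𝟙 _ from pullback.diagonal_fst h, Category.comp_id,
          show ab ≫ pullback.fst h h = a from pullback.lift_fst _ _ _]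
      · rw [Category.assoc, Category.assoc,
          show Δ ≫ pullback.snd h h = 𝟙 _ from pullback.diagonal_snd h, Category.comp_id,
          show ab ≫ pullback.snd h h = b from pullback.lift_snd _ _ _, ht]
    rintro _ ⟨x, rfl⟩
    refine ⟨(t ≫ a) x, ?_⟩
    rw [← Scheme.Hom.comp_apply, ← e, Scheme.Hom.comp_apply]

/-- A clopen subset of a scheme mapping by a closed map to a local scheme is everything as soon as
it contains the closed fibre. -/
theorem eq_univ_of_isClopen (R : Type u) [CommRing R] [IsLocalRing R] {Z : Scheme.{u}}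
    (q : Z ⟶ Spec (CommRingCat.of R)) (hq : IsClosedMap q) (C : Set Z) (hC : IsClopen C)
    (hfib : ∀ z : Z, q z = IsLocalRing.closedPoint R → z ∈ C) : C = Set.univ := by
  by_contra hne
  obtain ⟨z, hz⟩ := (Set.ne_univ_iff_exists_notMem C).mp hne
  have hcl : IsClosed (q '' Cᶜ) := hq _ hC.isOpen.isClosed_compl
  have hmem : q z ∈ q '' Cᶜ := ⟨z, hz, rfl⟩
  have hsp : q z ⤳ IsLocalRing.closedPoint R := IsLocalRing.specializes_closedPoint _
  obtain ⟨z', hz', hz''⟩ := hsp.mem_closed hcl hmem
  exact hz' (hfib z' hz'')

/-- **Rigidity**: two liftings through a separated étale morphism of a morphism from a scheme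
`Z` finite over a local ring with algebraically closed residue field agree as soon as they agree on
all `k`-points over the closed geometric point. -/
theorem eq_of_eq_on_kpoints (R : Type u) [CommRing R] [IsLocalRing R]
    [IsAlgClosed (IsLocalRing.ResidueField R)] {X' S' Z : Scheme.{u}} (h : X' ⟶ S') [Etale h]
    [IsSeparated h] (a b : Z ⟶ X') (hab : a ≫ h = b ≫ h) (q : Z ⟶ Spec (CommRingCat.of R))
    [IsFinite q]
    (hk : ∀ t : Spec (CommRingCat.of (IsLocalRing.ResidueField R)) ⟶ Z, t ≫ q = sbar R →
      t ≫ a = t ≫ b) : a = b := by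
  obtain ⟨C, hC, h1, h2⟩ := exists_clopen_eq h a b hab
  have hCu : C = Set.univ := by
    refine eq_univ_of_isClopen R q q.isClosedMap C hC (fun z hz => ?_)
    obtain ⟨t, ht, hzt⟩ := exists_kpoint R q z hz
    exact h2 t (hk t ht) hzt
  have := h1 (𝟙 Z) (by rw [hCu]; exact Set.subset_univ _)
  rwa [Category.id_comp, Category.id_comp] at this

end Groth.Agent.Helper21.EtFin
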