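import Mathlib
import Groth.Agent.S0499
import Groth.Agent.S0505

/-!
# Finite surjective descent of étale schemes, part 2: finite algebras over a henselian local ring
with algebraically closed residue field (helper21)
-/

set_option autoImplicit false
set_option linter.style.haveILetI false
set_option linter.unusedSectionVars false

universe u

namespace Groth.Agent.Helper21.EtFin

open IsLocalRing

/-- A finite algebra over a henselian local ring `R` with algebraically closed residue field `k`
is a finite product of henselian local rings `A i`, each of which has exactly one `k`-point over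
the closed geometric point of `R`. -/
theorem exists_local_decomp (R : Type u) [CommRing R] [HenselianLocalRing R]
    [IsAlgClosed (ResidueField R)] (B : Type u) [CommRing B] [Algebra R B] [Module.Finite R B] :
    ∃ (ι : Type u) (_ : Fintype ι) (A : ι → Type u) (_ : ∀ i, CommRing (A i))
      (_ : ∀ i, HenselianLocalRing (A i)) (e : B ≃+* (∀ i, A i)),
      ∀ i, ∃ ε : ResidueField (A i) ≃+* ResidueField R,
        (∀ r : R, ε (residue (A i) (e (algebraMap R B r) i)) = residue R r) ∧
        ∀ ψ : A i →+* ResidueField R, (∀ r : R, ψ (e (algebraMap R B r) i) = residue R r) →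
          ψ = ε.toRingHom.comp (residue (A i)) := by
  obtain ⟨ι, hι, A, hA, hloc, ⟨e⟩⟩ := Groth.Agent.S0499.result R B
  have key : ∀ i, ∃ (_ : HenselianLocalRing (A i)),
      ∃ ε : ResidueField (A i) ≃+* ResidueField R,
        (∀ r : R, ε (residue (A i) (e (algebraMap R B r) i)) = residue R r) ∧
        ∀ ψ : A i →+* ResidueField R, (∀ r : R, ψ (e (algebraMap R B r) i) = residue R r) →
          ψ = ε.toRingHom.comp (residue (A i)) := by
    intro i
    haveI := hloc i
    let pr : B →+* A i := (Pi.evalRingHom A i).comp e.toRingHom
    letI : Algebra R (A i) := (pr.comp (algebraMap R B)).toAlgebra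
    have hpr : Function.Surjective pr := (Function.surjective_eval i).comp e.surjective
    let prl : B →ₗ[R] A i :=
      { toFun := pr
        map_add' := map_add pr
        map_smul' := fun r b => by
          simp only [Algebra.smul_def, map_mul, RingHom.id_apply]
          rfl }
    haveI : Module.Finite R (A i) := Module.Finite.of_surjective prl hpr
    have hH : HenselianLocalRing (A i) := Groth.Agent.S0505.result R (A i)
    haveI : Algebra.IsIntegral R (A i) := Algebra.IsIntegral.of_finite R (A i)
    have hmax : ((maximalIdeal (A i)).comap (algebraMap R (A i))).IsMaximal :=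
      Ideal.isMaximal_comap_of_isIntegral_of_isMaximal (R := R) (maximalIdeal (A i))
    have hcomap : (maximalIdeal (A i)).comap (algebraMap R (A i)) = maximalIdeal R :=
      eq_maximalIdeal hmax
    haveI : IsLocalHom (algebraMap R (A i)) :=
      ((local_hom_TFAE (algebraMap R (A i))).out 0 4).mpr hcomap
    let ιm : ResidueField R →+* ResidueField (A i) := ResidueField.map (algebraMap R (A i))
    have hint : ιm.IsIntegral := by
      have h1 : ((residue (A i)).comp (algebraMap R (A i))).IsIntegral :=
        RingHom.IsIntegral.trans _ _ (algebraMap_isIntegral_iff.mpr inferInstance)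
          (RingHom.isIntegral_of_surjective _ residue_surjective)
      rw [← ResidueField.map_comp_residue] at h1
      exact RingHom.IsIntegral.tower_top _ _ h1
    have hbij : Function.Bijective ιm := IsAlgClosed.ringHom_bijective_of_isIntegral ιm hint
    let ε0 : ResidueField R ≃+* ResidueField (A i) := RingEquiv.ofBijective ιm hbij
    have hε0 : ∀ x, ε0 x = ιm x := fun _ => rfl
    have hres : ∀ r : R, residue (A i) (algebraMap R (A i) r) = ιm (residue R r) := fun r =>
      (ResidueField.map_residue (algebraMap R (A i)) r).symm
    refine ⟨hH, ε0.symm, fun r => ?_, fun ψ hψ => ?_⟩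
    · change ε0.symm (residue (A i) (algebraMap R (A i) r)) = _
      rw [hres, ← hε0, RingEquiv.symm_apply_apply]
    · have hψ' : ∀ r : R, ψ (algebraMap R (A i) r) = residue R r := hψ
      have hψsurj : Function.Surjective ψ := fun c => by
        obtain ⟨r', hr'⟩ := residue_surjective (R := R) c
        exact ⟨algebraMap R (A i) r', by rw [hψ', hr']⟩
      have hker : RingHom.ker ψ = maximalIdeal (A i) :=
        eq_maximalIdeal (RingHom.ker_isMaximal_of_surjective ψ hψsurj)
      ext a
      obtain ⟨r, hr⟩ := residue_surjective (R := R) (ε0.symm (residue (A i) a))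
      have hmem : a - algebraMap R (A i) r ∈ maximalIdeal (A i) := by
        rw [← residue_eq_zero_iff, map_sub, hres, hr, ← hε0, RingEquiv.apply_symm_apply, sub_self]
      have h0 : ψ (a - algebraMap R (A i) r) = 0 := by
        rw [← RingHom.mem_ker, hker]
        exact hmem
      rw [map_sub, sub_eq_zero, hψ', hr] at h0
      rw [h0]
      rfl
  exact ⟨ι, hι, A, hA, fun i => (key i).1, e, fun i => (key i).2⟩

end Groth.Agent.Helper21.EtFin
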