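import Mathlib
import Groth.Agent.Lib.Helper21.EtFin1
import Groth.Agent.Lib.Helper21.EtFin2
import Groth.Agent.S5038

/-!
# Finite surjective descent of étale schemes, part 3: sections of étale schemes over a finite
scheme over a henselian local ring with algebraically closed residue field (helper21)
-/

set_option autoImplicit false
set_option backward.isDefEq.respectTransparency false
set_option backward.isDefEq.respectTransparency.types false
set_option linter.style.haveILetI false
set_option linter.unusedSectionVars false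

open CategoryTheory CategoryTheory.Limits AlgebraicGeometry

universe u

namespace Groth.Agent.Helper21.EtFin

open IsLocalRing

variable (R : Type u) [CommRing R] [HenselianLocalRing R] [IsAlgClosed (ResidueField R)]

/-- Over a scheme `S'` finite over a henselian local ring with algebraically closed residue field
`k`, an étale `S'`-scheme has a section through any prescribed family of `k`-points (one over
each `k`-point of `S'` over the closed geometric point). -/
theorem exists_section {S' X' : Scheme.{u}} (g : S' ⟶ Spec (CommRingCat.of R)) [IsFinite g]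
    (h : X' ⟶ S') [Etale h]
    (θ : ∀ x : Spec (CommRingCat.of (ResidueField R)) ⟶ S', x ≫ g = sbar R →
      (Spec (CommRingCat.of (ResidueField R)) ⟶ X'))
    (hθ : ∀ x hx, θ x hx ≫ h = x) :
    ∃ ρ : S' ⟶ X', ρ ≫ h = 𝟙 S' ∧ ∀ x hx, x ≫ ρ = θ x hx := by
  haveI : IsAffine S' := isAffine_of_isAffineHom g
  let Bc : CommRingCat.{u} := Γ(S', ⊤)
  let φg : CommRingCat.of R ⟶ Bc := (Scheme.ΓSpecIso (CommRingCat.of R)).inv ≫ g.appTop
  have hg : g = S'.isoSpec.hom ≫ Spec.map φg := by
    have h1 := Scheme.isoSpec_hom_naturality g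
    have h2 : g = S'.isoSpec.hom ≫ Spec.map g.appTop ≫ (Spec (CommRingCat.of R)).isoSpec.inv := by
      rw [← Category.assoc, h1, Category.assoc, Iso.hom_inv_id, Category.comp_id]
    rw [h2, Scheme.isoSpec_Spec_inv, ← Spec.map_comp]
  letI : Algebra R Bc := φg.hom.toAlgebra
  haveI : Module.Finite R Bc := by
    have h1 : (g.appTop).hom.Finite := IsFinite.finite_app (f := g) (⊤ : (Spec (CommRingCat.of R)).Opens) (isAffineOpen_top _)
    have h2 : ((Scheme.ΓSpecIso (CommRingCat.of R)).inv).hom.Finite :=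
      RingHom.Finite.of_surjective _
        (ConcreteCategory.bijective_of_isIso (Scheme.ΓSpecIso (CommRingCat.of R)).inv).2
    exact RingHom.Finite.comp h1 h2
  obtain ⟨ι, hι, A, hA, hH, e, hε⟩ := exists_local_decomp R Bc
  choose ε hε1 hε2 using hε
  let A' : ι → CommRingCat.{u} := fun i => CommRingCat.of (A i)
  let Θhom : (∐ fun i => Spec (A' i)) ⟶ S' :=
    sigmaSpec A' ≫ Spec.map e.toCommRingCatIso.hom ≫ S'.isoSpec.inv
  haveI : IsIso Θhom := by
    haveI : IsIso (sigmaSpec A') := inferInstance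
    infer_instance
  let Θ : (∐ fun i => Spec (A' i)) ≅ S' := asIso Θhom
  let q : ∀ i, Spec (A' i) ⟶ S' := fun i => Sigma.ι (fun i => Spec (A' i)) i ≫ Θ.hom
  have hq : ∀ i, q i = Spec.map (CommRingCat.ofHom ((Pi.evalRingHom A i).comp e.toRingHom)) ≫
      S'.isoSpec.inv := fun i => by
    change Sigma.ι (fun i => Spec (A' i)) i ≫ sigmaSpec A' ≫ Spec.map e.toCommRingCatIso.hom ≫
      S'.isoSpec.inv = _
    rw [ι_sigmaSpec_assoc, ← Category.assoc, ← Spec.map_comp]
    rfl
  have hqg : ∀ i, q i ≫ g = Spec.map (CommRingCat.ofHom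
      (((Pi.evalRingHom A i).comp e.toRingHom).comp (algebraMap R Bc))) := fun i => by
    rw [hq, hg, Category.assoc, Iso.inv_hom_id_assoc, ← Spec.map_comp]
    rfl
  let xk : ∀ i, Spec (CommRingCat.of (ResidueField R)) ⟶ Spec (A' i) := fun i =>
    Spec.map (CommRingCat.ofHom ((ε i).toRingHom.comp (residue (A i))))
  have hxk : ∀ i, (xk i ≫ q i) ≫ g = sbar R := fun i => by
    rw [Category.assoc, hqg, ← Spec.map_comp]
    congr 1
    ext r
    exact hε1 i r
  have hsec : ∀ i, ∃ σ : Spec (A' i) ⟶ X', σ ≫ h = q i ∧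
      xk i ≫ σ = θ (xk i ≫ q i) (hxk i) := by
    intro i
    have hsymm : Spec.map (CommRingCat.ofHom (ε i).symm.toRingHom) ≫ xk i =
        Spec.map (CommRingCat.ofHom (residue (A i))) := by
      rw [← Spec.map_comp]
      congr 1
      ext a
      exact (ε i).symm_apply_apply _
    let u₀ : Spec (CommRingCat.of (ResidueField (A i))) ⟶ pullback h (q i) :=
      pullback.lift (Spec.map (CommRingCat.ofHom (ε i).symm.toRingHom) ≫ θ (xk i ≫ q i) (hxk i))
        (Spec.map (CommRingCat.ofHom (residue (A i)))) (by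
          rw [Category.assoc, hθ, ← Category.assoc, hsymm])
    obtain ⟨u, hu1, hu2⟩ := Groth.Agent.S5038.result (A i) (pullback.snd h (q i)) u₀
      (pullback.lift_snd _ _ _)
    refine ⟨u ≫ pullback.fst h (q i), ?_, ?_⟩
    · rw [Category.assoc, pullback.condition, ← Category.assoc, hu1, Category.id_comp]
    · have e1 : xk i = Spec.map (CommRingCat.ofHom (ε i).toRingHom) ≫
          Spec.map (CommRingCat.ofHom (residue (A i))) := by
        rw [← Spec.map_comp]
        rfl
      have e2 : Spec.map (CommRingCat.ofHom (ε i).toRingHom) ≫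
          Spec.map (CommRingCat.ofHom (ε i).symm.toRingHom) = 𝟙 _ := by
        rw [← Spec.map_comp, ← Spec.map_id]
        congr 1
        ext a
        exact (ε i).apply_symm_apply _
      have e3 : Spec.map (CommRingCat.ofHom (residue (A i))) ≫ u ≫ pullback.fst h (q i) =
          Spec.map (CommRingCat.ofHom (ε i).symm.toRingHom) ≫ θ (xk i ≫ q i) (hxk i) := by
        rw [← Category.assoc, hu2, pullback.lift_fst]
      refine (congrArg (fun m => m ≫ u ≫ pullback.fst h (q i)) e1).trans ?_
      rw [Category.assoc, e3, ← Category.assoc, e2, Category.id_comp]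
  choose σ hσ1 hσ2 using hsec
  let ρ : S' ⟶ X' := Θ.inv ≫ Sigma.desc σ
  have hqρ : ∀ i, q i ≫ ρ = σ i := fun i => by
    change (Sigma.ι (fun i => Spec (A' i)) i ≫ Θ.hom) ≫ Θ.inv ≫ Sigma.desc σ = _
    rw [Category.assoc, Iso.hom_inv_id_assoc, Sigma.ι_desc]
  have hρh : ρ ≫ h = 𝟙 S' := by
    have h1 : Sigma.desc σ ≫ h = Θ.hom := Sigma.hom_ext _ _ (fun i => by
      rw [Sigma.ι_desc_assoc, hσ1])
    change (Θ.inv ≫ Sigma.desc σ) ≫ h = _
    rw [Category.assoc, h1, Iso.inv_hom_id]
  refine ⟨ρ, hρh, fun x hx => ?_⟩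
  obtain ⟨⟨i, z⟩, hz⟩ := (sigmaMk (fun i => Spec (A' i))).surjective
    (Θ.inv (closedPoint (ResidueField R) |> x))
  rw [sigmaMk_mk] at hz
  have hz' : q i z = x (closedPoint (ResidueField R)) := by
    change (Sigma.ι (fun i => Spec (A' i)) i ≫ Θ.hom) z = _
    rw [Scheme.Hom.comp_apply, hz, ← Scheme.Hom.comp_apply, Iso.inv_hom_id]
    rfl
  have hr : Set.range x ⊆ Set.range (q i) := by
    rintro _ ⟨w, rfl⟩
    rw [Subsingleton.elim w (closedPoint (ResidueField R))]
    exact ⟨z, hz'⟩
  haveI : IsOpenImmersion (q i) :=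
    inferInstanceAs (IsOpenImmersion (Sigma.ι (fun i => Spec (A' i)) i ≫ Θ.hom))
  have hx' : IsOpenImmersion.lift (q i) x hr ≫ q i = x := IsOpenImmersion.lift_fac _ _ _
  obtain ⟨ψc, hψc⟩ := Spec.map_surjective (IsOpenImmersion.lift (q i) x hr)
  have hψ : ∀ r, ψc.hom (e (algebraMap R Bc r) i) = residue R r := by
    have h1 : IsOpenImmersion.lift (q i) x hr ≫ q i ≫ g = sbar R := by
      rw [← Category.assoc, hx', hx]
    rw [hqg, ← hψc, ← Spec.map_comp] at h1
    have h2 := Spec.map_injective h1
    intro r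
    exact congrArg (fun m : CommRingCat.of R ⟶ CommRingCat.of (ResidueField R) => m.hom r) h2
  have hψ2 := hε2 i ψc.hom hψ
  have hxx : IsOpenImmersion.lift (q i) x hr = xk i := by
    rw [← hψc]
    congr 1
    ext a
    rw [hψ2]
    rfl
  have hxe : x = xk i ≫ q i := by rw [← hxx, hx']
  subst hxe
  rw [Category.assoc, hqρ, hσ2]

end Groth.Agent.Helper21.EtFin
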