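import Mathlib
import Groth.Agent.Lib.Helper21.EtFin3

/-!
# Finite surjective descent of étale schemes, part 4: the henselian local step (helper21)
-/

set_option autoImplicit false
set_option backward.isDefEq.respectTransparency false
set_option backward.isDefEq.respectTransparency.types false
set_option linter.style.haveILetI false
set_option linter.unusedSectionVars false

open CategoryTheory CategoryTheory.Limits AlgebraicGeometry

universe u

namespace Groth.Agent.Helper21.EtFin

open Desc Groth.Agent.Helper21.DescA Groth.Agent.Helper21.EtLoc Groth.Agent.Helper21.EtFpqc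
  Groth.Agent.Helper21.EtStalk IsLocalRing

variable (R : Type u) [CommRing R] [HenselianLocalRing R] [IsAlgClosed (ResidueField R)]
  {S' : Scheme.{u}} (g : S' ⟶ Spec (CommRingCat.of R)) [IsFinite g]
  (D : SchDDFam (fun _ : PUnit.{1} => g)) [Etale (D.obj PUnit.unit).hom]
  [IsSeparated (D.obj PUnit.unit).hom]

/-- Over a henselian local ring with algebraically closed residue field, every `k`-point of the
underlying scheme of a separated étale descent datum relative to a finite morphism lies in a
partial cone (whose vertex is the base itself). -/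
theorem pcone_of_kpoint
    (vbar : Spec (CommRingCat.of (ResidueField R)) ⟶ (D.obj PUnit.unit).left)
    (hv : (vbar ≫ (D.obj PUnit.unit).hom) ≫ g = sbar R) :
    ∃ E : PCone D, Set.range vbar ⊆ Set.range (E.j PUnit.unit) := by
  obtain ⟨h, hh⟩ : ∃ h : (D.obj PUnit.unit).left ⟶ S', h = (D.obj PUnit.unit).hom := ⟨_, rfl⟩
  haveI : Etale h := hh ▸ inferInstance
  haveI : IsSeparated h := hh ▸ inferInstance
  obtain ⟨x₀, hx₀⟩ : ∃ x₀ : Spec (CommRingCat.of (ResidueField R)) ⟶ S',
    x₀ = vbar ≫ (D.obj PUnit.unit).hom := ⟨_, rfl⟩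
  have hv' : x₀ ≫ g = sbar R := hx₀ ▸ hv
  let v₀ : Lifts (D.obj PUnit.unit) x₀ := ⟨vbar, hx₀.symm⟩
  -- the invariant family of `k`-points
  let θ : ∀ x : Spec (CommRingCat.of (ResidueField R)) ⟶ S', x ≫ g = sbar R →
      (Spec (CommRingCat.of (ResidueField R)) ⟶ (D.obj PUnit.unit).left) := fun x hx =>
    (D.φ (i := PUnit.unit) (j := PUnit.unit) x₀ x (hv'.trans hx.symm) v₀).1
  have hθ : ∀ x hx, θ x hx ≫ h = x := fun x hx => by
    rw [hh]
    exact (D.φ (i := PUnit.unit) (j := PUnit.unit) x₀ x (hv'.trans hx.symm) v₀).2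
  have hθ' : ∀ x hx, θ x hx ≫ (D.obj PUnit.unit).hom = x := fun x hx => by
    rw [← hh]; exact hθ x hx
  have hθinv : ∀ x hx x' hx', D.φ (i := PUnit.unit) (j := PUnit.unit) x x'
      (hx.trans hx'.symm) ⟨θ x hx, hθ' x hx⟩ = ⟨θ x' hx', hθ' x' hx'⟩ := by
    intro x hx x' hx'
    exact D.φ_comp (i := PUnit.unit) (j := PUnit.unit) (k := PUnit.unit) x₀ x x'
      (hv'.trans hx.symm) (hx.trans hx'.symm) v₀
  have hθ0 : θ x₀ hv' = vbar :=
    congrArg Subtype.val (D.φ_self (i := PUnit.unit) x₀ v₀)
  -- the section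
  obtain ⟨ρ, hρh, hρK⟩ := exists_section R g h θ hθ
  have hρh' : ρ ≫ (D.obj PUnit.unit).hom = 𝟙 S' := by rw [← hh]; exact hρh
  have hlift : ∀ {T : Scheme.{u}} (x : T ⟶ S'), (x ≫ ρ) ≫ (D.obj PUnit.unit).hom = x :=
    fun x => by rw [Category.assoc, hρh', Category.comp_id]
  -- invariance of the section, universal case
  let a : pullback g g ⟶ (D.obj PUnit.unit).left := pullback.snd g g ≫ ρ
  let b : pullback g g ⟶ (D.obj PUnit.unit).left :=
    (D.φ (i := PUnit.unit) (j := PUnit.unit) (pullback.fst g g) (pullback.snd g g)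
      pullback.condition ⟨pullback.fst g g ≫ ρ, hlift _⟩).1
  have hab : a = b := by
    refine eq_of_eq_on_kpoints R h a b ?_ (pullback.fst g g ≫ g) (fun t ht => ?_)
    · rw [hh]
      exact (hlift _).trans
        (D.φ (i := PUnit.unit) (j := PUnit.unit) (pullback.fst g g) (pullback.snd g g)
          pullback.condition ⟨pullback.fst g g ≫ ρ, hlift _⟩).2.symm
    · have h1 : (t ≫ pullback.fst g g) ≫ g = sbar R := by rw [Category.assoc]; exact ht
      have h2 : (t ≫ pullback.snd g g) ≫ g = sbar R := by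
        rw [Category.assoc, ← pullback.condition]; exact ht
      have ea : t ≫ a = θ (t ≫ pullback.snd g g) h2 := by
        rw [← hρK _ h2, Category.assoc]
      have eb : t ≫ b = (D.φ (i := PUnit.unit) (j := PUnit.unit) (t ≫ pullback.fst g g)
          (t ≫ pullback.snd g g) (h1.trans h2.symm)
          ⟨(t ≫ pullback.fst g g) ≫ ρ, hlift _⟩).1 :=
        (D.φ_natural t (i := PUnit.unit) (j := PUnit.unit) (pullback.fst g g)
          (pullback.snd g g) pullback.condition (t ≫ pullback.fst g g)
          (t ≫ pullback.snd g g) rfl rfl (h1.trans h2.symm)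
          ⟨pullback.fst g g ≫ ρ, hlift _⟩ ⟨(t ≫ pullback.fst g g) ≫ ρ, hlift _⟩
          (Category.assoc _ _ _)).symm
      have ec : (⟨(t ≫ pullback.fst g g) ≫ ρ, hlift _⟩ :
          Lifts (D.obj PUnit.unit) (t ≫ pullback.fst g g)) =
          ⟨θ (t ≫ pullback.fst g g) h1, hθ' _ h1⟩ := Subtype.ext (hρK _ h1)
      rw [ea, eb, ec, hθinv _ h1 _ h2]
  have hinv : ∀ {T : Scheme.{u}} (x₁ x₂ : T ⟶ S') (hx : x₁ ≫ g = x₂ ≫ g),
      (D.φ (i := PUnit.unit) (j := PUnit.unit) x₁ x₂ hx ⟨x₁ ≫ ρ, hlift _⟩).1 = x₂ ≫ ρ := by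
    intro T x₁ x₂ hx
    have := D.φ_natural (pullback.lift x₁ x₂ hx) (i := PUnit.unit) (j := PUnit.unit)
      (pullback.fst g g) (pullback.snd g g) pullback.condition x₁ x₂
      (pullback.lift_fst _ _ _) (pullback.lift_snd _ _ _) hx
      ⟨pullback.fst g g ≫ ρ, hlift _⟩ ⟨x₁ ≫ ρ, hlift _⟩
      (by rw [pullback.lift_fst_assoc])
    rw [this]
    change pullback.lift x₁ x₂ hx ≫ b = _
    rw [← hab]
    change pullback.lift x₁ x₂ hx ≫ pullback.snd g g ≫ ρ = _
    rw [pullback.lift_snd_assoc]
  -- the section is an open immersion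
  haveI : Etale ρ := MorphismProperty.of_postcomp (W := @Etale) (W' := @Etale) ρ h inferInstance
    (by rw [hρh]; infer_instance)
  haveI : Mono ρ := mono_of_mono_fac hρh
  have hoi : IsOpenImmersion ρ := IsOpenImmersion.of_flat_of_mono ρ
  refine ⟨{ Y := fun _ => S'
            j := fun _ => ρ
            hj := fun _ => hoi
            U := Over.mk (𝟙 (Spec (CommRingCat.of R)))
            et := inferInstanceAs (Etale (𝟙 (Spec (CommRingCat.of R))))
            π := fun _ => g
            isPullback := fun _ => ?_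
            rel := ?_ }, ?_⟩
  · change IsPullback (ρ ≫ (D.obj PUnit.unit).hom) g g (𝟙 _)
    rw [hρh']
    exact IsPullback.of_horiz_isIso ⟨by rw [Category.id_comp, Category.comp_id]⟩
  · intro T i k x₁ x₂ hx v y hy
    have hy0 : y = x₁ := by
      have := congrArg (fun m => m ≫ (D.obj PUnit.unit).hom) hy
      simp only [Category.assoc] at this
      rw [hρh', Category.comp_id] at this
      exact this.trans v.2
    have hv1 : v = ⟨x₁ ≫ ρ, hlift _⟩ := Subtype.ext (by rw [← hy, hy0])
    refine ⟨x₂, ?_, ?_⟩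
    · rw [hv1]
      exact (hinv x₁ x₂ hx).symm
    · rw [hy0]
      exact hx.symm
  · rintro _ ⟨w, rfl⟩
    refine ⟨x₀ w, ?_⟩
    change ρ (x₀ w) = vbar w
    rw [← Scheme.Hom.comp_apply, hρK x₀ hv', hθ0]

/-- **The henselian local step**: over a henselian local ring with algebraically closed residue
field, a separated étale descent datum relative to a finite surjective morphism which is effective
over the punctured spectrum is effective. -/
theorem henselian_step [Surjective g] (P : (Spec (CommRingCat.of R)).Opens)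
    (hP : ∀ t : Spec (CommRingCat.of R), t ≠ closedPoint R → t ∈ P)
    (cP : Cone (baseChange D P.ι)) (hcP : Etale cP.U.hom) :
    ∃ c : Cone D, Etale c.U.hom := by
  have hgs : SGA1.UnivSubmersive g := univSubmersive_of_univClosed_surj g
  refine exists_cone_of_pcones (fun _ => hgs) D (fun i v => ?_)
  cases i
  by_cases hv : ((D.obj PUnit.unit).hom ≫ g) v ∈ P
  · refine ⟨pconeOfBaseChange D P.ι cP hcP, ?_⟩
    rw [pconeOfBaseChange_range, Scheme.Opens.range_ι]
    exact hv
  · have hcl : ((D.obj PUnit.unit).hom ≫ g) v = closedPoint R := by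
      by_contra hne
      exact hv (hP _ hne)
    haveI : LocallyQuasiFinite (D.obj PUnit.unit).hom :=
      Groth.Agent.Helper21.DescQA.locallyQuasiFinite_of_etale _
    obtain ⟨t, ht, hvt⟩ := exists_kpoint R ((D.obj PUnit.unit).hom ≫ g) v hcl
    obtain ⟨E, hE⟩ := pcone_of_kpoint R g D t (by rw [Category.assoc]; exact ht)
    exact ⟨E, hE hvt⟩

end Groth.Agent.Helper21.EtFin
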