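import Mathlib
import Groth.Agent.Lib.Helper21.EtFin4
import Groth.Agent.S2088
import Groth.Agent.S0506
import Groth.Agent.S0507
import Groth.Agent.S0508
import Groth.Agent.S0509

/-!
# Finite surjective descent of étale schemes, part 5: the local step (helper21)
-/

set_option autoImplicit false
set_option backward.isDefEq.respectTransparency false
set_option backward.isDefEq.respectTransparency.types false
set_option linter.style.haveILetI false
set_option linter.unusedSectionVars false

open CategoryTheory CategoryTheory.Limits AlgebraicGeometry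

universe u

namespace Groth.Agent.Helper21.EtFin

open Desc Groth.Agent.Helper21.DescA Groth.Agent.Helper21.EtLoc Groth.Agent.Helper21.EtFpqc
  Groth.Agent.Helper21.EtStalk IsLocalRing

/-- Every local ring has a faithfully flat henselian local extension with algebraically closed
residue field whose maximal ideal is generated by that of the given ring. -/
theorem exists_henselian_algClosed_extension (O : Type u) [CommRing O] [IsLocalRing O] :
    ∃ (R : Type u) (_ : CommRing R) (_ : HenselianLocalRing R) (_ : Algebra O R),
      IsAlgClosed (ResidueField R) ∧ Module.FaithfullyFlat O R ∧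
        (maximalIdeal O).map (algebraMap O R) = maximalIdeal R := by
  obtain ⟨O₁, _, _, _, hloc₁, hflat₁, hmax₁, ⟨e₁⟩⟩ :=
    Groth.Agent.S2088.result (R := O) (K := AlgebraicClosure (ResidueField O))
  obtain ⟨R, _, _, _, hloc₂, hhz⟩ := Groth.Agent.S0506.result O₁
  have hH : HenselianLocalRing R := hhz.henselian
  have hmax₂ := Groth.Agent.S0507.result O₁ R
  have hres₂ := Groth.Agent.S0508.result O₁ R
  have hff₂ := Groth.Agent.S0509.result O₁ R
  letI : Algebra O R := ((algebraMap O₁ R).comp (algebraMap O O₁)).toAlgebra
  haveI : IsScalarTower O O₁ R := IsScalarTower.of_algebraMap_eq (fun _ => rfl)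
  refine ⟨R, inferInstance, hH, inferInstance, ?_, ?_, ?_⟩
  · let ε : ResidueField O₁ ≃+* ResidueField R := RingEquiv.ofBijective _ hres₂
    exact IsAlgClosed.of_ringEquiv _ _ (e₁.toRingEquiv.symm.trans ε)
  · haveI : Module.Flat O R := Module.Flat.trans O O₁ R
    haveI : IsLocalHom (algebraMap O R) := by
      change IsLocalHom ((algebraMap O₁ R).comp (algebraMap O O₁))
      infer_instance
    exact Module.FaithfullyFlat.of_flat_of_isLocalHom
  · change (maximalIdeal O).map ((algebraMap O₁ R).comp (algebraMap O O₁)) = _
    rw [← Ideal.map_map, hmax₁, hmax₂]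

/-- **The local step**: a separated quasi-compact étale descent datum relative to a finite
surjective morphism which is effective over an open `M` containing all proper generizations of a
point `u` is effective over `Spec O_{S,u}`. -/
theorem local_step {S S' : Scheme.{u}} (g : S' ⟶ S) [IsFinite g] [Surjective g]
    (D : SchDDFam (fun _ : PUnit.{1} => g)) [Etale (D.obj PUnit.unit).hom]
    [IsSeparated (D.obj PUnit.unit).hom] [QuasiCompact (D.obj PUnit.unit).hom]
    (M : S.Opens) (cM : Cone (baseChange D M.ι)) (hcM : Etale cM.U.hom) (u : S)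
    (hu : ∀ u' : S, u' ⤳ u → u' ≠ u → u' ∈ M) :
    ∃ c : Cone (baseChange D (S.fromSpecStalk u)), Etale c.U.hom := by
  have hgs : SGA1.UnivSubmersive g := univSubmersive_of_univClosed_surj g
  obtain ⟨R, _, hH, _, hac, hff, hmax⟩ :=
    exists_henselian_algClosed_extension (S.presheaf.stalk u)
  obtain ⟨hfl, hsj⟩ := (flat_and_surjective_SpecMap_iff
    (CommRingCat.ofHom (algebraMap (S.presheaf.stalk u) R))).mpr
    ((RingHom.faithfullyFlat_algebraMap_iff).mpr hff)
  obtain ⟨r, hr⟩ : ∃ r : Spec (CommRingCat.of R) ⟶ Spec (S.presheaf.stalk u),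
    r = Spec.map (CommRingCat.ofHom (algebraMap (S.presheaf.stalk u) R)) := ⟨_, rfl⟩
  haveI : Flat r := hr ▸ hfl
  haveI : Surjective r := hr ▸ hsj
  obtain ⟨q, hq⟩ : ∃ q : Spec (CommRingCat.of R) ⟶ S, q = r ≫ S.fromSpecStalk u := ⟨_, rfl⟩
  -- the punctured spectrum
  let P : (Spec (CommRingCat.of R)).Opens := q ⁻¹ᵁ M
  have hP : ∀ t : Spec (CommRingCat.of R), t ≠ closedPoint R → t ∈ P := by
    intro t ht
    change q t ∈ M
    rw [hq, Scheme.Hom.comp_apply]
    have hne : r t ≠ closedPoint (S.presheaf.stalk u) := by
      intro he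
      apply ht
      have h1 : (maximalIdeal (S.presheaf.stalk u)) =
          t.asIdeal.comap (algebraMap (S.presheaf.stalk u) R) := by
        have := congrArg PrimeSpectrum.asIdeal he
        rw [hr] at this
        exact this.symm
      have h2 : maximalIdeal R ≤ t.asIdeal := by
        rw [← hmax, Ideal.map_le_iff_le_comap, h1]
      have h3 : t.asIdeal = maximalIdeal R :=
        ((maximalIdeal.isMaximal R).eq_of_le t.isPrime.ne_top h2).symm
      exact PrimeSpectrum.ext h3
    apply hu
    · have : S.fromSpecStalk u (r t) ∈ Set.range (S.fromSpecStalk u) := ⟨_, rfl⟩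
      rw [Scheme.range_fromSpecStalk] at this
      exact this
    · intro he
      apply hne
      have h1 : S.fromSpecStalk u (closedPoint (S.presheaf.stalk u)) = u :=
        Scheme.fromSpecStalk_closedPoint
      exact (S.fromSpecStalk u).isEmbedding.injective (he.trans h1.symm)
  -- the cone over the punctured spectrum
  have hrange : Set.range (P.ι ≫ q) ⊆ Set.range M.ι := by
    rintro _ ⟨x, rfl⟩
    rw [Scheme.Opens.range_ι, Scheme.Hom.comp_apply]
    exact x.2
  obtain ⟨c₁, hc₁⟩ := exists_cone_baseChange_of_comp D M.ι (P.ι ≫ q)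
    (IsOpenImmersion.lift M.ι (P.ι ≫ q) hrange) (IsOpenImmersion.lift_fac _ _ _) cM
  obtain ⟨c₂, hc₂⟩ := exists_cone_baseChange_baseChange D q P.ι (P.ι ≫ q) rfl c₁
  have hc₂e : Etale c₂.U.hom := by
    rw [hc₂]
    change Etale (pullback.snd c₁.U.hom (𝟙 _))
    haveI : Etale c₁.U.hom := by
      rw [hc₁]
      change Etale (pullback.snd cM.U.hom _)
      infer_instance
    infer_instance
  -- the henselian step
  haveI : Etale ((baseChange D q).obj PUnit.unit).hom :=
    inferInstanceAs (Etale (pullback.snd (D.obj PUnit.unit).hom (pullback.fst g q)))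
  haveI : IsSeparated ((baseChange D q).obj PUnit.unit).hom :=
    inferInstanceAs (IsSeparated (pullback.snd (D.obj PUnit.unit).hom (pullback.fst g q)))
  obtain ⟨c, hc⟩ := henselian_step R (pullback.snd g q) (baseChange D q) P hP c₂ hc₂e
  subst hq
  exact fpqc_step g hgs D (S.fromSpecStalk u) r c hc

end Groth.Agent.Helper21.EtFin
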