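import Mathlib
import Groth.Agent.Lib.Helper21.EtFin5

/-!
# Finite surjective descent of étale schemes, part 6: the induction on maximal points and the main
theorem (SGA 1 IX 4.7) (helper21)
-/

set_option autoImplicit false
set_option backward.isDefEq.respectTransparency false
set_option backward.isDefEq.respectTransparency.types false
set_option linter.style.haveILetI false
set_option linter.unusedSectionVars false

open CategoryTheory CategoryTheory.Limits AlgebraicGeometry

universe u

namespace Groth.Agent.Helper21.EtFin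

open Desc Groth.Agent.Helper21.DescA Groth.Agent.Helper21.EtLoc Groth.Agent.Helper21.EtFpqc
  Groth.Agent.Helper21.EtStalk IsLocalRing

/-- The complement of a proper open subset of a scheme has a maximal point: a point outside the
open all of whose proper generizations lie in the open. -/
theorem exists_maximal_point {S : Scheme.{u}} (M : S.Opens) (hM : M ≠ ⊤) :
    ∃ u : S, u ∉ M ∧ ∀ u' : S, u' ⤳ u → u' ≠ u → u' ∈ M := by
  obtain ⟨z, hz⟩ : ∃ z : S, z ∉ M := by
    by_contra hcon
    exact hM (eq_top_iff.mpr fun x _ => by_contra fun hx => hcon ⟨x, hx⟩)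
  obtain ⟨V, hV, hzV, -⟩ := exists_isAffineOpen_mem_and_subset (x := z) (U := ⊤) trivial
  let T : Set (PrimeSpectrum Γ(S, V)) := {p | hV.fromSpec p ∉ M}
  have hTc : IsClosed T := by
    have : T = ((hV.fromSpec ⁻¹ᵁ M : (Spec Γ(S, V)).Opens) : Set (Spec Γ(S, V)))ᶜ := rfl
    rw [this]
    exact (hV.fromSpec ⁻¹ᵁ M).isOpen.isClosed_compl
  have hzl : PrimeSpectrum.zeroLocus (PrimeSpectrum.vanishingIdeal T : Set Γ(S, V)) = T := by
    rw [PrimeSpectrum.zeroLocus_vanishingIdeal_eq_closure, hTc.closure_eq]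
  have hrange : Set.range hV.fromSpec = V := hV.range_fromSpec
  obtain ⟨pz, hpz⟩ : ∃ pz : PrimeSpectrum Γ(S, V), hV.fromSpec pz = z := by
    have : z ∈ Set.range hV.fromSpec := by rw [hrange]; exact hzV
    exact this
  have hpzT : pz ∈ T := by change hV.fromSpec pz ∉ M; rw [hpz]; exact hz
  have hle : PrimeSpectrum.vanishingIdeal T ≤ pz.asIdeal := by
    have : pz ∈ PrimeSpectrum.zeroLocus (PrimeSpectrum.vanishingIdeal T : Set Γ(S, V)) := by
      rw [hzl]; exact hpzT
    exact (PrimeSpectrum.mem_zeroLocus _ _).mp this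
  obtain ⟨qI, hqmin, -⟩ := Ideal.exists_minimalPrimes_le hle
  haveI : qI.IsPrime := hqmin.1.1
  let qp : PrimeSpectrum Γ(S, V) := ⟨qI, hqmin.1.1⟩
  have hqT : qp ∈ T := by
    rw [← hzl]
    exact (PrimeSpectrum.mem_zeroLocus _ _).mpr hqmin.1.2
  refine ⟨hV.fromSpec qp, hqT, fun u' hsp hne => ?_⟩
  by_contra hu'
  have huV : hV.fromSpec qp ∈ (V : Set S) := by rw [← hrange]; exact ⟨_, rfl⟩
  have hu'V : u' ∈ (V : Set S) := hsp.mem_open V.isOpen huV
  obtain ⟨q', hq'⟩ : ∃ q' : PrimeSpectrum Γ(S, V), hV.fromSpec q' = u' := by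
    have : u' ∈ Set.range hV.fromSpec := by rw [hrange]; exact hu'V
    exact this
  have hq'T : q' ∈ T := by change hV.fromSpec q' ∉ M; rw [hq']; exact hu'
  have hle' : PrimeSpectrum.vanishingIdeal T ≤ q'.asIdeal := by
    have : q' ∈ PrimeSpectrum.zeroLocus (PrimeSpectrum.vanishingIdeal T : Set Γ(S, V)) := by
      rw [hzl]; exact hq'T
    exact (PrimeSpectrum.mem_zeroLocus _ _).mp this
  have hsp' : q' ⤳ qp := by
    rw [← hq'] at hsp
    exact (hV.fromSpec.isOpenEmbedding.isInducing.specializes_iff).mp hsp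
  have hle2 : q'.asIdeal ≤ qI := (PrimeSpectrum.le_iff_specializes q' qp).mpr hsp'
  have hle3 : qI ≤ q'.asIdeal := hqmin.2 ⟨q'.isPrime, hle'⟩ hle2
  have : q' = qp := PrimeSpectrum.ext (le_antisymm hle2 hle3)
  exact hne (by rw [← hq', this])

/-- **SGA 1 IX 4.7**, cone form: a finite surjective morphism of finite presentation is a
morphism of effective descent for separated quasi-compact étale schemes. -/
theorem exists_cone_of_finite_surjective {S S' : Scheme.{u}} (g : S' ⟶ S) [IsFinite g]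
    [Surjective g] [LocallyOfFinitePresentation g]
    (D : SchDDFam (fun _ : PUnit.{1} => g)) [Etale (D.obj PUnit.unit).hom]
    [IsSeparated (D.obj PUnit.unit).hom] [QuasiCompact (D.obj PUnit.unit).hom] :
    ∃ c : Cone D, Etale c.U.hom := by
  have hgs : SGA1.UnivSubmersive g := univSubmersive_of_univClosed_surj g
  let WW : Set S.Opens := {W | ∃ c : Cone (baseChange D W.ι), Etale c.U.hom}
  obtain ⟨M, hMdef⟩ : ∃ M : S.Opens, M = sSup WW := ⟨_, rfl⟩
  have hle : ∀ W ∈ WW, W ≤ M := fun W hW => hMdef ▸ le_sSup hW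
  -- the maximal open over which the datum is effective
  have hM : ∃ c : Cone (baseChange D M.ι), Etale c.U.hom := by
    refine exists_cone_of_baseChange (fun _ => univSubmersive_snd g hgs M.ι) (baseChange D M.ι)
      (A := WW) (fun a => ((a.1 : S.Opens) : Scheme.{u})) (fun a => S.homOfLE (hle a.1 a.2))
      (fun s => ?_) (fun a => ?_)
    · have hs : (s.1 : S) ∈ sSup WW := hMdef ▸ s.2
      rw [TopologicalSpace.Opens.mem_sSup] at hs
      obtain ⟨W, hW, hsW⟩ := hs
      refine ⟨⟨W, hW⟩, ⟨s.1, hsW⟩, ?_⟩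
      apply M.ι.isEmbedding.injective
      rw [ι_homOfLE_apply]
      rfl
    · obtain ⟨c, hc⟩ := a.2
      obtain ⟨c', hc'⟩ := exists_cone_baseChange_baseChange D M.ι (S.homOfLE (hle a.1 a.2))
        a.1.ι (S.homOfLE_ι _) c
      refine ⟨c', ?_⟩
      rw [hc']
      change Etale (pullback.snd c.U.hom (𝟙 _))
      infer_instance
  -- it is everything
  have hMtop : ∀ s : S, s ∈ M := by
    by_contra hcon
    have hne : M ≠ ⊤ := by
      intro he
      apply hcon
      intro s
      rw [he]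
      trivial
    obtain ⟨u, huM, hu⟩ := exists_maximal_point M hne
    obtain ⟨cM, hcM⟩ := hM
    obtain ⟨c₀, hc₀⟩ := local_step g D M cM hcM u hu
    obtain ⟨W, huW, c, hc⟩ := main5124_mpr g hgs D u c₀ hc₀
    exact huM (hle W ⟨c, hc⟩ huW)
  obtain ⟨cM, hcM⟩ := hM
  refine exists_cone_of_baseChange (fun _ => hgs) D (A := PUnit.{1})
    (fun _ => (M : Scheme.{u})) (fun _ => M.ι) (fun s => ⟨PUnit.unit, ?_⟩) (fun _ => ⟨cM, hcM⟩)
  rw [Scheme.Opens.range_ι]
  exact hMtop s

/-- **S3687**. -/
theorem main3687 {S' S : Scheme.{u}} (g : S' ⟶ S) [IsFinite g] [Surjective g]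
    [LocallyOfFinitePresentation g]
    (D : Desc.SchDD g) [QuasiCompact D.obj.hom] [IsSeparated D.obj.hom] [Etale D.obj.hom] :
    ∃ U : Over S, QuasiCompact U.hom ∧ IsSeparated U.hom ∧ Etale U.hom ∧
      Nonempty ((Desc.toDD g).obj U ≅ D) := by
  have hgs : SGA1.UnivSubmersive g := univSubmersive_of_univClosed_surj g
  let D' : SchDDFam (fun _ : PUnit.{1} => g) := (SchDDFam.ofSchDD.{0} g).obj D
  haveI : Etale (D'.obj PUnit.unit).hom := inferInstanceAs (Etale D.obj.hom)
  haveI : IsSeparated (D'.obj PUnit.unit).hom := inferInstanceAs (IsSeparated D.obj.hom)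
  haveI : QuasiCompact (D'.obj PUnit.unit).hom := inferInstanceAs (QuasiCompact D.obj.hom)
  obtain ⟨c, hc⟩ := exists_cone_of_finite_surjective g D'
  have hpb : IsPullback D.obj.hom (c.π PUnit.unit) g c.U.hom := c.isPullback PUnit.unit
  have hsep : IsSeparated c.U.hom :=
    Groth.Agent.Helper21.SubmDesc.separated_descends.of_isPullback hpb hgs inferInstance
  have hqc : QuasiCompact c.U.hom := quasiCompact_of_isPullback_surjective hpb
  exact ⟨c.U, hqc, hsep, hc, ⟨(SchDDFam.toSchDD.{0} g).mapIso c.iso.symm⟩⟩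

end Groth.Agent.Helper21.EtFin
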