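import Mathlib
import Groth.Agent.Lib.Helper21.EtFin6

/-!
# Descent along a refinement (helper21)

If `r : F ⟶ S'` and `g : S' ⟶ S` are such that `r ≫ g` is universally submersive, then an étale
descent datum relative to `g` whose pullback to `F` (a descent datum relative to `r ≫ g`) is
effective is itself effective.
-/

set_option autoImplicit false
set_option backward.isDefEq.respectTransparency false
set_option backward.isDefEq.respectTransparency.types false
set_option linter.style.haveILetI false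
set_option linter.unusedSectionVars false

open CategoryTheory CategoryTheory.Limits AlgebraicGeometry

universe u

namespace Groth.Agent.Helper21.EtRef

open Desc Groth.Agent.Helper21.DescA Groth.Agent.Helper21.EtLoc Groth.Agent.Helper21.EtFpqc
  Groth.Agent.Helper21.EtStalk

section act

variable {S : Scheme.{u}} {ι : Type} [Unique ι] {X : ι → Scheme.{u}} {f : ∀ i, X i ⟶ S}
  (D : SchDDFam f)

theorem actOn_self {T₀ : Scheme.{u}} (v : T₀ ⟶ (D.obj default).left) :
    actOn D v (v ≫ (D.obj default).hom) (Category.assoc _ _ _).symm = v := by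
  have e := actOn_eq_φ D (v ≫ (D.obj default).hom) (v ≫ (D.obj default).hom) rfl ⟨v, rfl⟩
  rw [D.φ_self] at e
  exact e

theorem actOn_actOn {T₀ : Scheme.{u}} (v : T₀ ⟶ (D.obj default).left) (x₁ x₂ : T₀ ⟶ X default)
    (hc₁ : v ≫ (D.obj default).hom ≫ f default = x₁ ≫ f default)
    (hc₂ : x₁ ≫ f default = x₂ ≫ f default) :
    actOn D (actOn D v x₁ hc₁) x₂ (by rw [← Category.assoc, actOn_hom]; exact hc₂) =
      actOn D v x₂ (hc₁.trans hc₂) := by
  have h0 : (v ≫ (D.obj default).hom) ≫ f default = x₁ ≫ f default := by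
    rw [Category.assoc]; exact hc₁
  have e1 : actOn D v x₁ hc₁ = (D.φ _ x₁ h0 ⟨v, rfl⟩).1 := actOn_eq_φ D _ x₁ h0 ⟨v, rfl⟩
  have e2 := actOn_eq_φ D x₁ x₂ hc₂ (D.φ _ x₁ h0 ⟨v, rfl⟩)
  have e3 := D.φ_comp (v ≫ (D.obj default).hom) x₁ x₂ h0 hc₂ ⟨v, rfl⟩
  have e4 := actOn_eq_φ D (v ≫ (D.obj default).hom) x₂ (h0.trans hc₂) ⟨v, rfl⟩
  refine (actOn_congr D _ e1 rfl).trans ?_
  exact (e2.trans (congrArg Subtype.val e3)).trans e4.symm

end act

/-- Two morphisms into an étale `S`-scheme which agree after base change along a universally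
submersive morphism are equal. -/
theorem eq_of_pullback_fst_comp {S F T Z : Scheme.{u}} (g' : F ⟶ S)
    (hg' : SGA1.UnivSubmersive g') (p : T ⟶ S) (q : Z ⟶ S) [Etale q] (t₁ t₂ : T ⟶ Z)
    (h₁ : t₁ ≫ q = p) (h₂ : t₂ ≫ q = p)
    (heq : pullback.fst p g' ≫ t₁ = pullback.fst p g' ≫ t₂) : t₁ = t₂ := by
  obtain ⟨t, -, huniq⟩ := glue_subm g' hg' p (pullback.fst p g') (pullback.snd p g')
    (IsPullback.of_hasPullback p g') q (pullback.fst p g' ≫ t₁)
    (by rw [Category.assoc, h₁]) (fun T' a b hab => by rw [← Category.assoc, ← Category.assoc, hab])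
  exact (huniq t₁ ⟨h₁, rfl⟩).trans (huniq t₂ ⟨h₂, heq.symm⟩).symm

section refine

variable {S S' F : Scheme.{u}} (g : S' ⟶ S) (r : F ⟶ S')
  (D : SchDDFam (fun _ : PUnit.{1} => g))

/-- The refined descent datum, relative to `r ≫ g`. -/
noncomputable abbrev refineDD : SchDDFam (fun _ : PUnit.{1} => r ≫ g) :=
  pull (f := fun _ : PUnit.{1} => g) (f₁ := fun _ : PUnit.{1} => r ≫ g) (p := 𝟙 S)
    (p' := fun _ => r) (fun _ => (Category.comp_id _).symm) D

/-- The twisted point of the refined object. -/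
noncomputable def tw {T : Scheme.{u}} (v : T ⟶ (D.obj PUnit.unit).left) (a : T ⟶ F)
    (hc : v ≫ (D.obj PUnit.unit).hom ≫ g = (a ≫ r) ≫ g) :
    T ⟶ pullback (D.obj PUnit.unit).hom r :=
  pullback.lift (actOn D v (a ≫ r) hc) a (actOn_hom D v (a ≫ r) hc)

theorem tw_fst {T : Scheme.{u}} (v : T ⟶ (D.obj PUnit.unit).left) (a : T ⟶ F)
    (hc : v ≫ (D.obj PUnit.unit).hom ≫ g = (a ≫ r) ≫ g) :
    tw g r D v a hc ≫ pullback.fst (D.obj PUnit.unit).hom r = actOn D v (a ≫ r) hc :=
  pullback.lift_fst _ _ _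

theorem tw_snd {T : Scheme.{u}} (v : T ⟶ (D.obj PUnit.unit).left) (a : T ⟶ F)
    (hc : v ≫ (D.obj PUnit.unit).hom ≫ g = (a ≫ r) ≫ g) :
    tw g r D v a hc ≫ pullback.snd (D.obj PUnit.unit).hom r = a :=
  pullback.lift_snd _ _ _

theorem tw_comp {T T' : Scheme.{u}} (m : T' ⟶ T) (v : T ⟶ (D.obj PUnit.unit).left) (a : T ⟶ F)
    (hc : v ≫ (D.obj PUnit.unit).hom ≫ g = (a ≫ r) ≫ g) :
    m ≫ tw g r D v a hc = tw g r D (m ≫ v) (m ≫ a) (by
      rw [Category.assoc, hc, Category.assoc, Category.assoc, Category.assoc]) := by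
  apply pullback.hom_ext
  · rw [Category.assoc, tw_fst, tw_fst, actOn_comp]
    exact actOn_congr D _ rfl (Category.assoc _ _ _).symm
  · rw [Category.assoc, tw_snd, tw_snd]

theorem tw_congr {T : Scheme.{u}} {v v' : T ⟶ (D.obj PUnit.unit).left} {a a' : T ⟶ F}
    (hc : v ≫ (D.obj PUnit.unit).hom ≫ g = (a ≫ r) ≫ g) (hv : v = v') (ha : a = a') :
    tw g r D v a hc = tw g r D v' a' (by rw [← hv, ← ha]; exact hc) := by
  subst hv ha
  rfl

/-- The gluing bijections of the refined datum permute the twisted points. -/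
theorem tw_inv {T : Scheme.{u}} (v : T ⟶ (D.obj PUnit.unit).left) (a b : T ⟶ F)
    (hca : v ≫ (D.obj PUnit.unit).hom ≫ g = (a ≫ r) ≫ g)
    (hcb : v ≫ (D.obj PUnit.unit).hom ≫ g = (b ≫ r) ≫ g)
    (hab : a ≫ r ≫ g = b ≫ r ≫ g) :
    ((refineDD g r D).φ (i := PUnit.unit) (j := PUnit.unit) a b hab
      ⟨tw g r D v a hca, tw_snd g r D v a hca⟩).1 = tw g r D v b hcb := by
  rw [pull_φ_val]
  have hab' : (a ≫ r) ≫ g = (b ≫ r) ≫ g := by
    rw [Category.assoc, Category.assoc]; exact hab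
  apply pullback.hom_ext
  · refine (pullback.lift_fst _ _ _).trans (Eq.trans ?_ (tw_fst g r D v b hcb).symm)
    have e1 := actOn_eq_φ D (a ≫ r) (b ≫ r) hab'
      ⟨tw g r D v a hca ≫ pullback.fst (D.obj PUnit.unit).hom r, by
        rw [Category.assoc, pullback.condition, ← Category.assoc, tw_snd]⟩
    refine e1.symm.trans ?_
    refine (actOn_congr D _ (tw_fst g r D v a hca) rfl).trans ?_
    exact actOn_actOn D v (a ≫ r) (b ≫ r) hca hab'
  · exact (pullback.lift_snd _ _ _).trans (tw_snd g r D v b hcb).symm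

/-- **Descent along a refinement**. -/
theorem exists_cone_of_refinement (hgr : SGA1.UnivSubmersive (r ≫ g))
    [Etale (D.obj PUnit.unit).hom] (c' : Cone (refineDD g r D)) (hc' : Etale c'.U.hom) :
    ∃ c : Cone D, c.U = c'.U := by
  haveI := hc'
  have hpbF : IsPullback (pullback.snd (D.obj PUnit.unit).hom r) (c'.π PUnit.unit) (r ≫ g)
      c'.U.hom := c'.isPullback PUnit.unit
  -- the invariant function on points
  have hGinv : ∀ {T : Scheme.{u}} (v : T ⟶ (D.obj PUnit.unit).left) (a b : T ⟶ F)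
      (hca : v ≫ (D.obj PUnit.unit).hom ≫ g = (a ≫ r) ≫ g)
      (hcb : v ≫ (D.obj PUnit.unit).hom ≫ g = (b ≫ r) ≫ g),
      tw g r D v a hca ≫ c'.π PUnit.unit = tw g r D v b hcb ≫ c'.π PUnit.unit := by
    intro T v a b hca hcb
    have hab : a ≫ r ≫ g = b ≫ r ≫ g :=
      (Category.assoc a r g).symm.trans (hca.symm.trans (hcb.trans (Category.assoc b r g)))
    have h1 := c'.inv (i := PUnit.unit) (j := PUnit.unit) a b hab
      ⟨tw g r D v a hca, tw_snd g r D v a hca⟩
    rw [tw_inv g r D v a b hca hcb hab] at h1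
    exact h1.symm
  -- the universal case
  have hcond : pullback.fst ((D.obj PUnit.unit).hom ≫ g) (r ≫ g) ≫ (D.obj PUnit.unit).hom ≫ g =
      (pullback.snd ((D.obj PUnit.unit).hom ≫ g) (r ≫ g) ≫ r) ≫ g := by
    rw [Category.assoc]; exact pullback.condition
  obtain ⟨G, hG⟩ : ∃ G : pullback ((D.obj PUnit.unit).hom ≫ g) (r ≫ g) ⟶ c'.U.left,
      G = tw g r D (pullback.fst _ _) (pullback.snd _ _) hcond ≫ c'.π PUnit.unit := ⟨_, rfl⟩
  have hGpt : ∀ {T : Scheme.{u}} (m : T ⟶ pullback ((D.obj PUnit.unit).hom ≫ g) (r ≫ g)),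
      m ≫ G = tw g r D (m ≫ pullback.fst _ _) (m ≫ pullback.snd _ _) (by
        rw [Category.assoc, hcond, Category.assoc, Category.assoc, Category.assoc]) ≫
        c'.π PUnit.unit := by
    intro T m
    rw [hG, ← Category.assoc, tw_comp]
  obtain ⟨πX, ⟨hπX1, hπX2⟩, -⟩ := glue_subm (r ≫ g) hgr ((D.obj PUnit.unit).hom ≫ g)
    (pullback.fst _ _) (pullback.snd _ _) (IsPullback.of_hasPullback _ _) c'.U.hom G
    (by
      rw [hG, Category.assoc, ← hpbF.w, ← Category.assoc, tw_snd]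
      exact pullback.condition.symm)
    (fun T' a b hab => by
      rw [hGpt a, hGpt b]
      have e := hGinv (a ≫ pullback.fst _ _) (a ≫ pullback.snd _ _) (b ≫ pullback.snd _ _)
        (by rw [Category.assoc, hcond, Category.assoc, Category.assoc, Category.assoc])
        (by rw [hab, Category.assoc, hcond, Category.assoc, Category.assoc, Category.assoc])
      refine e.trans ?_
      congr 1
      exact tw_congr g r D _ hab rfl)
  -- the point formula
  have hPF : ∀ {T : Scheme.{u}} (v : T ⟶ (D.obj PUnit.unit).left) (a : T ⟶ F)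
      (hc : v ≫ (D.obj PUnit.unit).hom ≫ g = (a ≫ r) ≫ g),
      v ≫ πX = tw g r D v a hc ≫ c'.π PUnit.unit := by
    intro T v a hc
    have hc' : v ≫ (D.obj PUnit.unit).hom ≫ g = a ≫ r ≫ g := by
      rw [hc, Category.assoc]
    have e := hGpt (pullback.lift v a hc')
    have e0 : v ≫ πX = pullback.lift v a hc' ≫ G := by
      rw [← hπX2, ← Category.assoc, pullback.lift_fst]
    refine e0.trans (e.trans ?_)
    congr 1
    exact tw_congr g r D _ (pullback.lift_fst _ _ _) (pullback.lift_snd _ _ _)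
  -- invariance
  have hinv : ∀ ⦃T : Scheme.{u}⦄ (x₀ x₁ : T ⟶ S') (hx : x₀ ≫ g = x₁ ≫ g)
      (v : Lifts (D.obj PUnit.unit) x₀),
      (D.φ (i := PUnit.unit) (j := PUnit.unit) x₀ x₁ hx v).1 ≫ πX = v.1 ≫ πX := by
    intro T x₀ x₁ hx v
    have hv : v.1 ≫ (D.obj PUnit.unit).hom = x₀ := v.2
    have hφ : (D.φ (i := PUnit.unit) (j := PUnit.unit) x₀ x₁ hx v).1 ≫ (D.obj PUnit.unit).hom =
        x₁ := (D.φ (i := PUnit.unit) (j := PUnit.unit) x₀ x₁ hx v).2
    have hv' : v.1 ≫ (D.obj PUnit.unit).hom ≫ g = x₀ ≫ g := by rw [← Category.assoc, hv]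
    have hφ' : (D.φ (i := PUnit.unit) (j := PUnit.unit) x₀ x₁ hx v).1 ≫
        (D.obj PUnit.unit).hom ≫ g = x₀ ≫ g := by rw [← Category.assoc, hφ, hx]
    refine eq_of_pullback_fst_comp (r ≫ g) hgr (x₀ ≫ g) c'.U.hom _ _ ?_ ?_ ?_
    · rw [Category.assoc, hπX1]; exact hφ'
    · rw [Category.assoc, hπX1]; exact hv'
    · have hc1 : (pullback.fst (x₀ ≫ g) (r ≫ g) ≫ v.1) ≫ (D.obj PUnit.unit).hom ≫ g =
          (pullback.snd (x₀ ≫ g) (r ≫ g) ≫ r) ≫ g := by
        rw [Category.assoc, hv', Category.assoc]; exact pullback.condition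
      have hc2 : (pullback.fst (x₀ ≫ g) (r ≫ g) ≫
          (D.φ (i := PUnit.unit) (j := PUnit.unit) x₀ x₁ hx v).1) ≫ (D.obj PUnit.unit).hom ≫ g =
          (pullback.snd (x₀ ≫ g) (r ≫ g) ≫ r) ≫ g := by
        rw [Category.assoc, hφ', Category.assoc]; exact pullback.condition
      rw [← Category.assoc, ← Category.assoc, hPF _ _ hc2, hPF _ _ hc1]
      congr 1
      apply pullback.hom_ext
      · rw [tw_fst, tw_fst]
        have hvx : v.1 ≫ (D.obj PUnit.unit).hom ≫ g = x₁ ≫ g := hv'.trans hx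
        have e1 : (D.φ (i := PUnit.unit) (j := PUnit.unit) x₀ x₁ hx v).1 = actOn D v.1 x₁ hvx :=
          (actOn_eq_φ D x₀ x₁ hx v).symm
        have e2 : pullback.fst (x₀ ≫ g) (r ≫ g) ≫
            (D.φ (i := PUnit.unit) (j := PUnit.unit) x₀ x₁ hx v).1 =
            actOn D (pullback.fst (x₀ ≫ g) (r ≫ g) ≫ v.1)
              (pullback.fst (x₀ ≫ g) (r ≫ g) ≫ x₁) (by
                rw [Category.assoc, hvx, Category.assoc]) := by
          rw [e1, actOn_comp]
        refine (actOn_congr D _ e2 rfl).trans ?_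
        exact actOn_actOn D _ _ _ _ (by
          rw [Category.assoc, ← hx, Category.assoc]; exact pullback.condition)
      · rw [tw_snd, tw_snd]
  -- the universal property
  have hEU : ∀ {T : Scheme.{u}} (s' : T ⟶ S') (t : T ⟶ c'.U.left), s' ≫ g = t ≫ c'.U.hom →
      ∃! v : T ⟶ (D.obj PUnit.unit).left, v ≫ (D.obj PUnit.unit).hom = s' ∧ v ≫ πX = t := by
    intro T s' t hst
    have hsurj : Function.Surjective (pullback.fst (s' ≫ g) (r ≫ g)).base :=
      (hgr _ _ _ (IsPullback.of_hasPullback (s' ≫ g) (r ≫ g))).surjective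
    have hcd : pullback.fst (s' ≫ g) (r ≫ g) ≫ s' ≫ g =
        pullback.snd (s' ≫ g) (r ≫ g) ≫ r ≫ g := pullback.condition
    -- uniqueness of points with the same image, over the covering
    have huniq : ∀ y y' : pullback (s' ≫ g) (r ≫ g) ⟶ (D.obj PUnit.unit).left,
        y ≫ (D.obj PUnit.unit).hom = pullback.fst (s' ≫ g) (r ≫ g) ≫ s' →
        y' ≫ (D.obj PUnit.unit).hom = pullback.fst (s' ≫ g) (r ≫ g) ≫ s' →
        y ≫ πX = y' ≫ πX → y = y' := by
      intro y y' hy hy' hyy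
      have hcy : y ≫ (D.obj PUnit.unit).hom ≫ g = (pullback.snd (s' ≫ g) (r ≫ g) ≫ r) ≫ g := by
        rw [← Category.assoc, hy, Category.assoc, Category.assoc]; exact hcd
      have hcy' : y' ≫ (D.obj PUnit.unit).hom ≫ g =
          (pullback.snd (s' ≫ g) (r ≫ g) ≫ r) ≫ g := by
        rw [← Category.assoc, hy', Category.assoc, Category.assoc]; exact hcd
      have e1 : tw g r D y _ hcy = tw g r D y' _ hcy' := by
        refine hpbF.hom_ext ?_ ?_
        · rw [tw_snd, tw_snd]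
        · rw [← hPF y _ hcy, ← hPF y' _ hcy', hyy]
      have e2 : actOn D y (pullback.snd (s' ≫ g) (r ≫ g) ≫ r) hcy =
          actOn D y' (pullback.snd (s' ≫ g) (r ≫ g) ≫ r) hcy' := by
        rw [← tw_fst g r D y _ hcy, ← tw_fst g r D y' _ hcy', e1]
      have hback : (pullback.snd (s' ≫ g) (r ≫ g) ≫ r) ≫ g =
          (pullback.fst (s' ≫ g) (r ≫ g) ≫ s') ≫ g := by
        rw [Category.assoc, Category.assoc]; exact hcd.symm
      have e3 := actOn_actOn D y _ (pullback.fst (s' ≫ g) (r ≫ g) ≫ s') hcy hback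
      have e3' := actOn_actOn D y' _ (pullback.fst (s' ≫ g) (r ≫ g) ≫ s') hcy' hback
      have e4 : actOn D y (pullback.fst (s' ≫ g) (r ≫ g) ≫ s') (hcy.trans hback) = y :=
        (actOn_congr D _ rfl hy.symm).trans (actOn_self D y)
      have e4' : actOn D y' (pullback.fst (s' ≫ g) (r ≫ g) ≫ s') (hcy'.trans hback) = y' :=
        (actOn_congr D _ rfl hy'.symm).trans (actOn_self D y')
      rw [← e4, ← e4', ← e3, ← e3']
      exact actOn_congr D _ e2 rfl
    -- existence
    obtain ⟨w, hw⟩ : ∃ w : pullback (s' ≫ g) (r ≫ g) ⟶ pullback (D.obj PUnit.unit).hom r,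
        w = hpbF.lift (pullback.snd (s' ≫ g) (r ≫ g)) (pullback.fst (s' ≫ g) (r ≫ g) ≫ t) (by
          rw [Category.assoc, ← hst]; exact hcd.symm) := ⟨_, rfl⟩
    have hw1 : w ≫ pullback.snd (D.obj PUnit.unit).hom r = pullback.snd (s' ≫ g) (r ≫ g) := by
      rw [hw]; exact hpbF.lift_fst _ _ _
    have hw2 : w ≫ c'.π PUnit.unit = pullback.fst (s' ≫ g) (r ≫ g) ≫ t := by
      rw [hw]; exact hpbF.lift_snd _ _ _
    have hwf : (w ≫ pullback.fst (D.obj PUnit.unit).hom r) ≫ (D.obj PUnit.unit).hom =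
        pullback.snd (s' ≫ g) (r ≫ g) ≫ r := by
      rw [Category.assoc, pullback.condition, ← Category.assoc, hw1]
    have hcw : (w ≫ pullback.fst (D.obj PUnit.unit).hom r) ≫ (D.obj PUnit.unit).hom ≫ g =
        (pullback.fst (s' ≫ g) (r ≫ g) ≫ s') ≫ g := by
      rw [← Category.assoc, hwf, Category.assoc, Category.assoc]; exact hcd.symm
    obtain ⟨v₁, hv₁⟩ : ∃ v₁ : pullback (s' ≫ g) (r ≫ g) ⟶ (D.obj PUnit.unit).left,
        v₁ = actOn D (w ≫ pullback.fst (D.obj PUnit.unit).hom r)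
          (pullback.fst (s' ≫ g) (r ≫ g) ≫ s') hcw := ⟨_, rfl⟩
    have hv₁h : v₁ ≫ (D.obj PUnit.unit).hom = pullback.fst (s' ≫ g) (r ≫ g) ≫ s' := by
      rw [hv₁]; exact actOn_hom D _ _ _
    have hv₁c : v₁ ≫ (D.obj PUnit.unit).hom ≫ g = (pullback.snd (s' ≫ g) (r ≫ g) ≫ r) ≫ g := by
      rw [← Category.assoc, hv₁h, Category.assoc, Category.assoc]; exact hcd
    have htw : tw g r D v₁ _ hv₁c = w := by
      apply pullback.hom_ext
      · rw [tw_fst]
        have hback : (pullback.fst (s' ≫ g) (r ≫ g) ≫ s') ≫ g =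
            (pullback.snd (s' ≫ g) (r ≫ g) ≫ r) ≫ g := by
          rw [Category.assoc, Category.assoc]; exact hcd
        have e1 := actOn_actOn D (w ≫ pullback.fst (D.obj PUnit.unit).hom r) _
          (pullback.snd (s' ≫ g) (r ≫ g) ≫ r) hcw hback
        refine (actOn_congr D _ hv₁ rfl).trans (e1.trans ?_)
        exact (actOn_congr D _ rfl hwf.symm).trans (actOn_self D _)
      · rw [tw_snd, hw1]
    have hv₁π : v₁ ≫ πX = pullback.fst (s' ≫ g) (r ≫ g) ≫ t := by
      rw [hPF v₁ _ hv₁c, htw, hw2]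
    -- descend `v₁`
    have hσc : (pullback.fst (s' ≫ g) (r ≫ g) ≫ s') ≫ g =
        pullback.snd (s' ≫ g) (r ≫ g) ≫ r ≫ g := by rw [Category.assoc]; exact hcd
    have hpbT : IsPullback (pullback.fst (s' ≫ g) (r ≫ g))
        (pullback.lift (pullback.fst (s' ≫ g) (r ≫ g) ≫ s') (pullback.snd (s' ≫ g) (r ≫ g)) hσc)
        s' (pullback.fst g (r ≫ g)) := by
      have hbig : IsPullback (pullback.lift (pullback.fst (s' ≫ g) (r ≫ g) ≫ s')
          (pullback.snd (s' ≫ g) (r ≫ g)) hσc ≫ pullback.snd g (r ≫ g))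
          (pullback.fst (s' ≫ g) (r ≫ g)) (r ≫ g) (s' ≫ g) := by
        rw [pullback.lift_snd]
        exact (IsPullback.of_hasPullback (s' ≫ g) (r ≫ g)).flip
      exact (IsPullback.of_right hbig (pullback.lift_fst _ _ _)
        (IsPullback.of_hasPullback g (r ≫ g)).flip).flip
    have hsub₁ : SGA1.UnivSubmersive (pullback.fst g (r ≫ g)) := by
      intro X' Y' i₁ i₂ f' h
      exact hgr _ _ _ (h.paste_vert (IsPullback.of_hasPullback g (r ≫ g)))
    obtain ⟨v, ⟨hv1, hv2⟩, -⟩ := glue_subm (pullback.fst g (r ≫ g)) hsub₁ s'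
      (pullback.fst (s' ≫ g) (r ≫ g)) _ hpbT (D.obj PUnit.unit).hom v₁ hv₁h
      (fun T' m n hmn => by
        refine (cancel_epi (𝟙 T')).mp ?_
        rw [Category.id_comp, Category.id_comp]
        -- both sides are points over the same point of `S'` with the same image in `U`
        have hm : (m ≫ v₁) ≫ (D.obj PUnit.unit).hom = (n ≫ v₁) ≫ (D.obj PUnit.unit).hom := by
          rw [Category.assoc, Category.assoc, hv₁h, ← Category.assoc, ← Category.assoc, hmn]
        have hmπ : (m ≫ v₁) ≫ πX = (n ≫ v₁) ≫ πX := by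
          rw [Category.assoc, Category.assoc, hv₁π, ← Category.assoc, ← Category.assoc, hmn]
        -- use the action towards a common point of `F`
        have hcm : (m ≫ v₁) ≫ (D.obj PUnit.unit).hom ≫ g =
            ((m ≫ pullback.snd (s' ≫ g) (r ≫ g)) ≫ r) ≫ g := by
          rw [Category.assoc, hv₁c, Category.assoc, Category.assoc, Category.assoc]
        have hcn : (n ≫ v₁) ≫ (D.obj PUnit.unit).hom ≫ g =
            ((m ≫ pullback.snd (s' ≫ g) (r ≫ g)) ≫ r) ≫ g := by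
          rw [← Category.assoc, ← hm, Category.assoc]; exact hcm
        have e1 : tw g r D (m ≫ v₁) _ hcm = tw g r D (n ≫ v₁) _ hcn := by
          refine hpbF.hom_ext ?_ ?_
          · rw [tw_snd, tw_snd]
          · rw [← hPF _ _ hcm, ← hPF _ _ hcn, hmπ]
        have e2 : actOn D (m ≫ v₁) ((m ≫ pullback.snd (s' ≫ g) (r ≫ g)) ≫ r) hcm =
            actOn D (n ≫ v₁) ((m ≫ pullback.snd (s' ≫ g) (r ≫ g)) ≫ r) hcn := by
          rw [← tw_fst g r D _ _ hcm, ← tw_fst g r D _ _ hcn, e1]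
        have hback : ((m ≫ pullback.snd (s' ≫ g) (r ≫ g)) ≫ r) ≫ g =
            ((m ≫ v₁) ≫ (D.obj PUnit.unit).hom) ≫ g := by
          rw [Category.assoc (m ≫ v₁)]; exact hcm.symm
        have e3 := actOn_actOn D (m ≫ v₁) _ ((m ≫ v₁) ≫ (D.obj PUnit.unit).hom) hcm hback
        have e3' := actOn_actOn D (n ≫ v₁) _ ((m ≫ v₁) ≫ (D.obj PUnit.unit).hom) hcn hback
        have e4 : actOn D (m ≫ v₁) ((m ≫ v₁) ≫ (D.obj PUnit.unit).hom) (hcm.trans hback) =
            m ≫ v₁ := actOn_self D _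
        have e4' : actOn D (n ≫ v₁) ((m ≫ v₁) ≫ (D.obj PUnit.unit).hom) (hcn.trans hback) =
            n ≫ v₁ := (actOn_congr D _ rfl hm).trans (actOn_self D _)
        rw [← e4, ← e4', ← e3, ← e3']
        exact actOn_congr D _ e2 rfl)
    have hvπ : v ≫ πX = t := by
      refine eq_of_pullback_fst_comp (r ≫ g) hgr (s' ≫ g) c'.U.hom _ _ ?_ hst.symm ?_
      · rw [Category.assoc, hπX1, ← Category.assoc, hv1]
      · rw [← Category.assoc, hv2, hv₁π]
    refine ⟨v, ⟨hv1, hvπ⟩, fun v' hv' => ?_⟩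
    refine Groth.Agent.Helper21.DescEt.eq_of_surjective_comp (pullback.fst (s' ≫ g) (r ≫ g)) hsurj
      (D.obj PUnit.unit).hom (hv'.1.trans hv1.symm) ?_
    refine huniq _ _ ?_ ?_ ?_
    · rw [Category.assoc, hv'.1]
    · rw [Category.assoc, hv1]
    · rw [Category.assoc, Category.assoc, hv'.2, hvπ]
  -- the cone
  have hlim : IsPullback (D.obj PUnit.unit).hom πX g c'.U.hom := by
    refine ⟨⟨hπX1.symm⟩, ⟨PullbackCone.IsLimit.mk _
      (fun s => (hEU s.fst s.snd s.condition).exists.choose)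
      (fun s => (hEU s.fst s.snd s.condition).exists.choose_spec.1)
      (fun s => (hEU s.fst s.snd s.condition).exists.choose_spec.2)
      (fun s m hm1 hm2 => (hEU s.fst s.snd s.condition).unique ⟨hm1, hm2⟩
        (hEU s.fst s.snd s.condition).exists.choose_spec)⟩⟩
  exact ⟨{ U := c'.U
           π := fun _ => πX
           isPullback := fun _ => hlim
           inv := fun T i j x₀ x₁ hx v => hinv x₀ x₁ hx v }, rfl⟩

end refine

end Groth.Agent.Helper21.EtRef
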