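import Mathlib
import Groth.Agent.Lib.Helper21.EtRef1

/-!
# Integral surjective descent of étale schemes, part 1: descent data at a finite stage (helper21)

Let `r : X ⟶ Y` be surjective and `q : Y ⟶ S`.  Given a descent datum `D` relative to `r ≫ q`
whose underlying scheme is the base change of a separated étale `Y`-scheme `EY`, and an action map
`EY ×_S Y ⟶ EY` compatible with the action map of `D`, we construct a descent datum on `EY`
relative to `q` whose refinement along `r` is `D`.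
-/

set_option autoImplicit false
set_option backward.isDefEq.respectTransparency false
set_option backward.isDefEq.respectTransparency.types false
set_option linter.style.haveILetI false
set_option linter.unusedSectionVars false

open CategoryTheory CategoryTheory.Limits AlgebraicGeometry

universe u

namespace Groth.Agent.Helper21.EtInt

open Desc Groth.Agent.Helper21.DescA Groth.Agent.Helper21.EtLoc Groth.Agent.Helper21.EtFpqc
  Groth.Agent.Helper21.EtStalk Groth.Agent.Helper21.EtFin Groth.Agent.Helper21.EtRef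

/-- Two liftings through a separated étale morphism which agree after precomposition with a
surjective morphism are equal. -/
theorem eq_of_surjective_comp {E Y T T' : Scheme.{u}} (h : E ⟶ Y) [Etale h] [IsSeparated h]
    (a b : T ⟶ E) (hab : a ≫ h = b ≫ h) (t : T' ⟶ T) [Surjective t] (ht : t ≫ a = t ≫ b) :
    a = b := by
  obtain ⟨C, -, h1, h2⟩ := exists_clopen_eq h a b hab
  have hsub : Set.range t ⊆ C := h2 t ht
  have hr : Set.range t = Set.univ := t.surjective.range_eq
  have hCu : C = Set.univ := Set.eq_univ_of_univ_subset (hr ▸ hsub)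
  have := h1 (𝟙 T) (by rw [hCu]; exact Set.subset_univ _)
  simpa using this

section stage

variable {S X Y : Scheme.{u}} (r : X ⟶ Y) [Surjective r] (q : Y ⟶ S)
  (D : SchDDFam (fun _ : PUnit.{1} => r ≫ q))
  {EY : Scheme.{u}} (hY : EY ⟶ Y) [Etale hY] [IsSeparated hY]
  (e : (D.obj PUnit.unit).left ⟶ EY) (hpb : IsPullback e (D.obj PUnit.unit).hom hY r)
  (a : pullback (hY ≫ q) q ⟶ EY) (ha : a ≫ hY = pullback.snd (hY ≫ q) q)

/-- The action on points at the finite stage. -/
noncomputable def actY {T : Scheme.{u}} (v : T ⟶ EY) (y : T ⟶ Y) (hc : v ≫ hY ≫ q = y ≫ q) :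
    T ⟶ EY :=
  pullback.lift v y hc ≫ a

include ha in
theorem actY_hom {T : Scheme.{u}} (v : T ⟶ EY) (y : T ⟶ Y) (hc : v ≫ hY ≫ q = y ≫ q) :
    actY q hY a v y hc ≫ hY = y := by
  unfold actY
  rw [Category.assoc, ha, pullback.lift_snd]

theorem actY_comp {T T' : Scheme.{u}} (m : T' ⟶ T) (v : T ⟶ EY) (y : T ⟶ Y)
    (hc : v ≫ hY ≫ q = y ≫ q) :
    m ≫ actY q hY a v y hc = actY q hY a (m ≫ v) (m ≫ y) (by
      rw [Category.assoc, hc, Category.assoc]) := by
  unfold actY
  rw [← Category.assoc]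
  congr 1
  apply pullback.hom_ext
  · rw [Category.assoc, pullback.lift_fst, pullback.lift_fst]
  · rw [Category.assoc, pullback.lift_snd, pullback.lift_snd]

theorem actY_congr {T : Scheme.{u}} {v v' : T ⟶ EY} {y y' : T ⟶ Y}
    (hc : v ≫ hY ≫ q = y ≫ q) (hv : v = v') (hy : y = y') :
    actY q hY a v y hc = actY q hY a v' y' (by rw [← hv, ← hy]; exact hc) := by
  subst hv hy
  rfl

variable (hcompat : ∀ {T : Scheme.{u}} (v : T ⟶ (D.obj PUnit.unit).left) (x : T ⟶ X)
    (hc : v ≫ (D.obj PUnit.unit).hom ≫ r ≫ q = x ≫ r ≫ q)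
    (hc' : (v ≫ e) ≫ hY ≫ q = (x ≫ r) ≫ q),
    actY q hY a (v ≫ e) (x ≫ r) hc' = actOn D v x hc ≫ e)

include hcompat in
/-- Computing the stage action after a lift to the `X`-level. -/
theorem actY_of_lift {T T' : Scheme.{u}} (t : T' ⟶ T) (v : T ⟶ EY) (y : T ⟶ Y)
    (hc : v ≫ hY ≫ q = y ≫ q) (V : T' ⟶ (D.obj PUnit.unit).left) (x : T' ⟶ X)
    (hV : t ≫ v = V ≫ e) (hx : t ≫ y = x ≫ r)
    (hc' : V ≫ (D.obj PUnit.unit).hom ≫ r ≫ q = x ≫ r ≫ q) :
    t ≫ actY q hY a v y hc = actOn D V x hc' ≫ e := by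
  rw [actY_comp]
  have hc'' : (V ≫ e) ≫ hY ≫ q = (x ≫ r) ≫ q := by
    rw [← hV, ← hx, Category.assoc, hc, Category.assoc]
  rw [← hcompat V x hc' hc'']
  exact actY_congr q hY a _ hV hx

include hpb in
theorem surjective_e : Surjective e :=
  MorphismProperty.of_isPullback (P := @Surjective) hpb.flip inferInstance

include hpb ha hcompat in
theorem actY_self {T : Scheme.{u}} (v : T ⟶ EY) :
    actY q hY a v (v ≫ hY) (Category.assoc _ _ _).symm = v := by
  haveI : Surjective e := surjective_e r q D hY e hpb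
  refine eq_of_surjective_comp hY _ _ (actY_hom q hY a ha _ _ _) (pullback.fst v e) ?_
  have hV : pullback.fst v e ≫ v = pullback.snd v e ≫ e := pullback.condition
  have hx : pullback.fst v e ≫ v ≫ hY = (pullback.snd v e ≫ (D.obj PUnit.unit).hom) ≫ r := by
    rw [← Category.assoc, hV, Category.assoc, hpb.w, Category.assoc]
  rw [actY_of_lift r q D hY e a hcompat (pullback.fst v e) v (v ≫ hY) _ (pullback.snd v e)
    (pullback.snd v e ≫ (D.obj PUnit.unit).hom) hV hx (by simp only [Category.assoc])]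
  rw [hV]
  congr 1
  exact actOn_self D (pullback.snd v e)

include hpb in
/-- A covering of `T` on which a point of `EY` and two points of `Y` lift to the `X`-level. -/
theorem exists_cover {T : Scheme.{u}} (v : T ⟶ EY) (y₁ y₂ : T ⟶ Y) :
    ∃ (T' : Scheme.{u}) (t : T' ⟶ T) (V : T' ⟶ (D.obj PUnit.unit).left) (x₁ x₂ : T' ⟶ X),
      Surjective t ∧ t ≫ v = V ≫ e ∧ t ≫ y₁ = x₁ ≫ r ∧ t ≫ y₂ = x₂ ≫ r := by
  haveI : Surjective e := surjective_e r q D hY e hpb
  refine ⟨_, pullback.fst (pullback.fst (pullback.fst v e ≫ y₁) r ≫ pullback.fst v e ≫ y₂) r ≫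
    pullback.fst (pullback.fst v e ≫ y₁) r ≫ pullback.fst v e,
    pullback.fst (pullback.fst (pullback.fst v e ≫ y₁) r ≫ pullback.fst v e ≫ y₂) r ≫
      pullback.fst (pullback.fst v e ≫ y₁) r ≫ pullback.snd v e,
    pullback.fst (pullback.fst (pullback.fst v e ≫ y₁) r ≫ pullback.fst v e ≫ y₂) r ≫
      pullback.snd (pullback.fst v e ≫ y₁) r,
    pullback.snd (pullback.fst (pullback.fst v e ≫ y₁) r ≫ pullback.fst v e ≫ y₂) r,
    inferInstance, ?_, ?_, ?_⟩
  · simp only [Category.assoc]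
    congr 2
    exact pullback.condition
  · simp only [Category.assoc]
    congr 1
    exact pullback.condition
  · simp only [Category.assoc]
    exact pullback.condition

include hpb ha hcompat in
theorem actY_actY {T : Scheme.{u}} (v : T ⟶ EY) (y₁ y₂ : T ⟶ Y)
    (hc₁ : v ≫ hY ≫ q = y₁ ≫ q) (hc₂ : y₁ ≫ q = y₂ ≫ q) :
    actY q hY a (actY q hY a v y₁ hc₁) y₂ (by
      rw [← Category.assoc, actY_hom q hY a ha]; exact hc₂) =
      actY q hY a v y₂ (hc₁.trans hc₂) := by
  obtain ⟨T', t, V, x₁, x₂, hsurj, hV, hx₁, hx₂⟩ := exists_cover r q D hY e hpb v y₁ y₂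
  have hVh : V ≫ (D.obj PUnit.unit).hom ≫ r = t ≫ v ≫ hY := by
    rw [← hpb.w, ← Category.assoc, ← hV, Category.assoc]
  have hcA : V ≫ (D.obj PUnit.unit).hom ≫ r ≫ q = x₁ ≫ r ≫ q := by
    have := congrArg (fun m => m ≫ q) hVh
    simp only [Category.assoc] at this
    rw [this, hc₁, ← Category.assoc, hx₁, Category.assoc]
  have hcB : x₁ ≫ r ≫ q = x₂ ≫ r ≫ q := by
    rw [← Category.assoc x₁, ← hx₁, ← Category.assoc x₂, ← hx₂, Category.assoc, hc₂,
      Category.assoc]
  have e1 : t ≫ actY q hY a v y₁ hc₁ = actOn D V x₁ hcA ≫ e :=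
    actY_of_lift r q D hY e a hcompat t v y₁ hc₁ V x₁ hV hx₁ hcA
  have hcC : actOn D V x₁ hcA ≫ (D.obj PUnit.unit).hom ≫ r ≫ q = x₂ ≫ r ≫ q := by
    have := actOn_hom D V x₁ hcA
    rw [← Category.assoc, this]; exact hcB
  have e2 : t ≫ actY q hY a (actY q hY a v y₁ hc₁) y₂ (by
      rw [← Category.assoc, actY_hom q hY a ha]; exact hc₂) =
      actOn D (actOn D V x₁ hcA) x₂ hcC ≫ e :=
    actY_of_lift r q D hY e a hcompat t _ y₂ _ (actOn D V x₁ hcA) x₂ e1 hx₂ hcC
  have e3 : t ≫ actY q hY a v y₂ (hc₁.trans hc₂) = actOn D V x₂ (hcA.trans hcB) ≫ e :=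
    actY_of_lift r q D hY e a hcompat t v y₂ _ V x₂ hV hx₂ _
  refine eq_of_surjective_comp hY _ _ ?_ t ?_
  · rw [actY_hom q hY a ha, actY_hom q hY a ha]
  · rw [e2, e3]
    congr 1
    exact actOn_actOn D V x₁ x₂ hcA hcB

end stage

end Groth.Agent.Helper21.EtInt
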