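import Mathlib
import Groth.Agent.Lib.Helper21.EtInt1

/-!
# Integral surjective descent of étale schemes, part 2: the descent datum at a finite stage and
its refinement (helper21)
-/

set_option autoImplicit false
set_option backward.isDefEq.respectTransparency false
set_option backward.isDefEq.respectTransparency.types false
set_option linter.style.haveILetI false
set_option linter.unusedSectionVars false

open CategoryTheory CategoryTheory.Limits AlgebraicGeometry

universe u

namespace Groth.Agent.Helper21.EtInt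

open Desc Groth.Agent.Helper21.DescA Groth.Agent.Helper21.EtLoc Groth.Agent.Helper21.EtFpqc
  Groth.Agent.Helper21.EtStalk Groth.Agent.Helper21.EtFin Groth.Agent.Helper21.EtRef

section stage

variable {S X Y : Scheme.{u}} (r : X ⟶ Y) [Surjective r] (q : Y ⟶ S)
  (D : SchDDFam (fun _ : PUnit.{1} => r ≫ q))
  {EY : Scheme.{u}} (hY : EY ⟶ Y) [Etale hY] [IsSeparated hY]
  (e : (D.obj PUnit.unit).left ⟶ EY) (hpb : IsPullback e (D.obj PUnit.unit).hom hY r)
  (a : pullback (hY ≫ q) q ⟶ EY) (ha : a ≫ hY = pullback.snd (hY ≫ q) q)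
  (hcompat : ∀ {T : Scheme.{u}} (v : T ⟶ (D.obj PUnit.unit).left) (x : T ⟶ X)
    (hc : v ≫ (D.obj PUnit.unit).hom ≫ r ≫ q = x ≫ r ≫ q)
    (hc' : (v ≫ e) ≫ hY ≫ q = (x ≫ r) ≫ q),
    actY q hY a (v ≫ e) (x ≫ r) hc' = actOn D v x hc ≫ e)

/-- The descent datum at the finite stage. -/
noncomputable def stageDD : SchDDFam (fun _ : PUnit.{1} => q) where
  obj _ := Over.mk hY
  φ T i j x₀ x₁ h :=
    { toFun := fun v => ⟨actY q hY a v.1 x₁ (by
          have hv : v.1 ≫ hY = x₀ := v.2
          rw [← Category.assoc, hv]; exact h), actY_hom q hY a ha _ _ _⟩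
      invFun := fun w => ⟨actY q hY a w.1 x₀ (by
          have hw : w.1 ≫ hY = x₁ := w.2
          rw [← Category.assoc, hw]; exact h.symm), actY_hom q hY a ha _ _ _⟩
      left_inv := fun v => Subtype.ext (by
          have hv : v.1 ≫ hY = x₀ := v.2
          change actY q hY a (actY q hY a v.1 x₁ _) x₀ _ = v.1
          rw [actY_actY r q D hY e hpb a ha hcompat]
          · refine (actY_congr q hY a _ rfl hv.symm).trans ?_
            exact actY_self r q D hY e hpb a ha hcompat v.1
          · exact h.symm)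
      right_inv := fun w => Subtype.ext (by
          have hw : w.1 ≫ hY = x₁ := w.2
          change actY q hY a (actY q hY a w.1 x₀ _) x₁ _ = w.1
          rw [actY_actY r q D hY e hpb a ha hcompat]
          · refine (actY_congr q hY a _ rfl hw.symm).trans ?_
            exact actY_self r q D hY e hpb a ha hcompat w.1
          · exact h) }
  φ_natural := fun T T' g i j x₀ x₁ h y₀ y₁ hy₀ hy₁ h' v v' hv => by
    change actY q hY a v'.1 y₁ _ = g ≫ actY q hY a v.1 x₁ _
    rw [actY_comp]
    exact actY_congr q hY a _ hv hy₁.symm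
  φ_self := fun T i x v => Subtype.ext (by
    have hv : v.1 ≫ hY = x := v.2
    change actY q hY a v.1 x _ = v.1
    refine (actY_congr q hY a _ rfl hv.symm).trans ?_
    exact actY_self r q D hY e hpb a ha hcompat v.1)
  φ_comp := fun T i j k x₀ x₁ x₂ h₀₁ h₁₂ v => Subtype.ext (by
    change actY q hY a (actY q hY a v.1 x₁ _) x₂ _ = actY q hY a v.1 x₂ _
    exact actY_actY r q D hY e hpb a ha hcompat v.1 x₁ x₂ _ h₁₂)

theorem stageDD_φ_val {T : Scheme.{u}} (x₀ x₁ : T ⟶ Y) (h : x₀ ≫ q = x₁ ≫ q)
    (v : Lifts ((stageDD r q D hY e hpb a ha hcompat).obj PUnit.unit) x₀)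
    (hc : v.1 ≫ hY ≫ q = x₁ ≫ q) :
    ((stageDD r q D hY e hpb a ha hcompat).φ (i := PUnit.unit) (j := PUnit.unit) x₀ x₁ h v).1 =
      actY q hY a v.1 x₁ hc := rfl

/-- The refinement of the stage datum is the original datum. -/
theorem nonempty_refine_iso :
    Nonempty (refineDD q r (stageDD r q D hY e hpb a ha hcompat) ≅ D) := by
  refine ⟨isoMk _ _ (fun _ => Over.isoMk hpb.isoPullback.symm ?_) ?_⟩
  · change hpb.isoPullback.inv ≫ (D.obj PUnit.unit).hom = pullback.snd hY r
    exact hpb.isoPullback_inv_snd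
  · intro T i j x₀ x₁ h v w hw
    cases i; cases j
    have hw' : w.1 = v.1 ≫ hpb.isoPullback.inv := hw
    change _ = _ ≫ hpb.isoPullback.inv
    apply hpb.hom_ext
    · rw [Category.assoc, hpb.isoPullback_inv_fst, pull_φ_val]
      refine Eq.trans ?_ (pullback.lift_fst _ _ _).symm
      have hwx : w.1 ≫ (D.obj PUnit.unit).hom = x₀ := w.2
      have hcw : w.1 ≫ (D.obj PUnit.unit).hom ≫ r ≫ q = x₁ ≫ r ≫ q := by
        rw [← Category.assoc, hwx]; exact h
      have e1 : (D.φ (i := PUnit.unit) (j := PUnit.unit) x₀ x₁ h w).1 = actOn D w.1 x₁ hcw :=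
        (actOn_eq_φ D x₀ x₁ h w).symm
      rw [e1]
      have hc' : (w.1 ≫ e) ≫ hY ≫ q = (x₁ ≫ r) ≫ q := by
        rw [Category.assoc, ← Category.assoc e, hpb.w]
        simp only [Category.assoc]
        exact hcw
      rw [← hcompat w.1 x₁ hcw hc']
      refine Eq.trans ?_ (stageDD_φ_val r q D hY e hpb a ha hcompat _ _ _ _ ?_).symm
      · have hv : w.1 ≫ e = v.1 ≫ pullback.fst hY r := by
          rw [hw', Category.assoc, hpb.isoPullback_inv_fst]
        exact actY_congr q hY a _ hv rfl
      · change (v.1 ≫ pullback.fst hY r) ≫ hY ≫ q = (x₁ ≫ r) ≫ q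
        rw [← hpb.isoPullback_inv_fst, ← Category.assoc v.1, ← hw']
        exact hc'
    · rw [Category.assoc, hpb.isoPullback_inv_snd, pull_φ_val]
      refine Eq.trans ?_ (pullback.lift_snd _ _ _).symm
      exact (D.φ x₀ x₁ h w).2

/-- A cone of the stage datum gives a cone of the original datum. -/
theorem exists_cone_of_stage (cY : Cone (stageDD r q D hY e hpb a ha hcompat))
    (hcY : Etale cY.U.hom) : ∃ c : Cone D, Etale c.U.hom := by
  obtain ⟨iso⟩ := nonempty_refine_iso r q D hY e hpb a ha hcompat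
  let c₁ := pullCone (f := fun _ : PUnit.{1} => q) (f₁ := fun _ : PUnit.{1} => r ≫ q) (p := 𝟙 S)
    (p' := fun _ => r) (fun _ => (Category.comp_id _).symm)
    (stageDD r q D hY e hpb a ha hcompat) cY
  obtain ⟨c, hc⟩ := exists_cone_of_iso_cone iso c₁
  refine ⟨c, ?_⟩
  rw [hc]
  change Etale (pullback.snd cY.U.hom (𝟙 S))
  infer_instance

end stage

end Groth.Agent.Helper21.EtInt
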