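import Mathlib
import Groth.Agent.Lib.Helper21.EtInt2

/-!
# Integral surjective descent of étale schemes, part 3: the finite case without finite
presentation (helper21)

The proofs of `main5124_mpr` and `exists_cone_of_finite_surjective` never use that the covering
morphism is locally of finite presentation; we restate them without this hypothesis.
-/

set_option autoImplicit false
set_option backward.isDefEq.respectTransparency false
set_option backward.isDefEq.respectTransparency.types false
set_option linter.style.haveILetI false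
set_option linter.unusedSectionVars false

open CategoryTheory CategoryTheory.Limits AlgebraicGeometry

universe u

namespace Groth.Agent.Helper21.EtInt

open Desc Groth.Agent.Helper21.DescA Groth.Agent.Helper21.EtLoc Groth.Agent.Helper21.EtFpqc
  Groth.Agent.Helper21.EtStalk Groth.Agent.Helper21.EtFin Groth.Agent.Helper21.EtRef IsLocalRing

/-- The hard direction of S5124, in terms of cones. -/
theorem main5124_mpr' {S S' : Scheme.{u}} (g : S' ⟶ S) (hg : SGA1.UnivSubmersive g)
    [QuasiCompact g] [QuasiSeparated g]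
    (D : Desc.SchDDFam (fun _ : PUnit.{1} => g)) [Etale (D.obj PUnit.unit).hom]
    [QuasiCompact (D.obj PUnit.unit).hom] [QuasiSeparated (D.obj PUnit.unit).hom] (a : S)
    (c₀ : Cone (baseChange D (S.fromSpecStalk a))) (hc₀ : Etale c₀.U.hom) :
    ∃ (W : S.Opens) (_ : a ∈ W) (c : Cone (baseChange D W.ι)), Etale c.U.hom := by
  obtain ⟨W₀, hW₀, ha₀, -⟩ := exists_isAffineOpen_mem_and_subset (x := a) (U := ⊤) trivial
  haveI : IsAffine (W₀ : Scheme.{u}) := hW₀
  let P : ProOpen (W₀ : Scheme.{u}) := proOpenNI (a := a) (W₀ := W₀) ha₀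
  haveI : ∀ i, IsOpenImmersion (P.ν.app i) :=
    fun i => inferInstanceAs (IsOpenImmersion (S.homOfLE i.2.2.2))
  have hτ : P.τ₀ ≫ W₀.ι = S.fromSpecStalk a := Scheme.Opens.fromSpecStalkOfMem_ι W₀ a ha₀
  haveI : Mono P.τ₀ := mono_of_mono_fac hτ
  haveI : CompactSpace ↥P.c₀.pt := inferInstanceAs (CompactSpace ↥(Spec (S.presheaf.stalk a)))
  haveI : QuasiCompact ((fun _ : PUnit.{1} => pullback.snd g W₀.ι) default) :=
    inferInstanceAs (QuasiCompact (pullback.snd g W₀.ι))
  haveI : QuasiSeparated ((fun _ : PUnit.{1} => pullback.snd g W₀.ι) default) :=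
    inferInstanceAs (QuasiSeparated (pullback.snd g W₀.ι))
  haveI : Etale ((baseChange D W₀.ι).obj default).hom :=
    inferInstanceAs (Etale (pullback.snd (D.obj PUnit.unit).hom (pullback.fst g W₀.ι)))
  haveI : QuasiCompact ((baseChange D W₀.ι).obj default).hom :=
    inferInstanceAs (QuasiCompact (pullback.snd (D.obj PUnit.unit).hom (pullback.fst g W₀.ι)))
  haveI : QuasiSeparated ((baseChange D W₀.ι).obj default).hom :=
    inferInstanceAs (QuasiSeparated (pullback.snd (D.obj PUnit.unit).hom (pullback.fst g W₀.ι)))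
  -- the cone over the germ of `W₀`
  obtain ⟨c₁, hc₁⟩ := exists_cone_baseChange_baseChange D W₀.ι P.τ₀ (S.fromSpecStalk a) hτ c₀
  have hc₁e : Etale c₁.U.hom := by
    rw [hc₁]
    change Etale (pullback.snd c₀.U.hom (𝟙 _))
    infer_instance
  obtain ⟨i, c₂, hc₂⟩ := core (P := P) (D := baseChange D W₀.ι)
    (univSubmersive_snd g hg W₀.ι) c₁ hc₁e (by
      intro V _ v _
      obtain ⟨ψ, hψ⟩ := Spec.map_surjective (V.isoSpec.inv ≫ v)
      have hψe : ψ.hom.Etale := by
        have : Etale (Spec.map ψ) := by rw [hψ]; infer_instance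
        exact (HasRingHomProperty.Spec_iff (P := @Etale)).mp this
      obtain ⟨Q, hQ, u, hu, θ, hθ⟩ := exists_etale_nbhd_in a hW₀ ha₀ ψ hψe
      refine ⟨Q, hQ, u, hu, V.isoSpec.hom ≫ θ, ?_⟩
      have := isPullback_iso_comp V.isoSpec hθ
      rw [hψ, Iso.hom_inv_id_assoc] at this
      exact this)
  -- transfer back
  obtain ⟨c₃, hc₃⟩ := exists_cone_of_baseChange_baseChange D W₀.ι (P.ν.app i) i.1.ι
    (S.homOfLE_ι i.2.2.2) c₂
  refine ⟨i.1, i.2.2.1, c₃, ?_⟩
  rw [hc₃]
  change Etale (pullback.snd c₂.U.hom (𝟙 _))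
  infer_instance


/-- **SGA 1 IX 4.7**, cone form: a finite surjective morphism of finite presentation is a
morphism of effective descent for separated quasi-compact étale schemes. -/
theorem exists_cone_of_finite_surjective' {S S' : Scheme.{u}} (g : S' ⟶ S) [IsFinite g]
    [Surjective g]
    (D : SchDDFam (fun _ : PUnit.{1} => g)) [Etale (D.obj PUnit.unit).hom]
    [IsSeparated (D.obj PUnit.unit).hom] [QuasiCompact (D.obj PUnit.unit).hom] :
    ∃ c : Cone D, Etale c.U.hom := by
  have hgs : SGA1.UnivSubmersive g := univSubmersive_of_univClosed_surj g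
  let WW : Set S.Opens := {W | ∃ c : Cone (baseChange D W.ι), Etale c.U.hom}
  obtain ⟨M, hMdef⟩ : ∃ M : S.Opens, M = sSup WW := ⟨_, rfl⟩
  have hle : ∀ W ∈ WW, W ≤ M := fun W hW => hMdef ▸ le_sSup hW
  -- the maximal open over which the datum is effective
  have hM : ∃ c : Cone (baseChange D M.ι), Etale c.U.hom := by
    refine exists_cone_of_baseChange (fun _ => univSubmersive_snd g hgs M.ι) (baseChange D M.ι)
      (A := WW) (fun a => ((a.1 : S.Opens) : Scheme.{u})) (fun a => S.homOfLE (hle a.1 a.2))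
      (fun s => ?_) (fun a => ?_)
    · have hs : (s.1 : S) ∈ sSup WW := hMdef ▸ s.2
      rw [TopologicalSpace.Opens.mem_sSup] at hs
      obtain ⟨W, hW, hsW⟩ := hs
      refine ⟨⟨W, hW⟩, ⟨s.1, hsW⟩, ?_⟩
      apply M.ι.isEmbedding.injective
      rw [ι_homOfLE_apply]
      rfl
    · obtain ⟨c, hc⟩ := a.2
      obtain ⟨c', hc'⟩ := exists_cone_baseChange_baseChange D M.ι (S.homOfLE (hle a.1 a.2))
        a.1.ι (S.homOfLE_ι _) c
      refine ⟨c', ?_⟩
      rw [hc']
      change Etale (pullback.snd c.U.hom (𝟙 _))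
      infer_instance
  -- it is everything
  have hMtop : ∀ s : S, s ∈ M := by
    by_contra hcon
    have hne : M ≠ ⊤ := by
      intro he
      apply hcon
      intro s
      rw [he]
      trivial
    obtain ⟨u, huM, hu⟩ := exists_maximal_point M hne
    obtain ⟨cM, hcM⟩ := hM
    obtain ⟨c₀, hc₀⟩ := local_step g D M cM hcM u hu
    obtain ⟨W, huW, c, hc⟩ := main5124_mpr' g hgs D u c₀ hc₀
    exact huM (hle W ⟨c, hc⟩ huW)
  obtain ⟨cM, hcM⟩ := hM
  refine exists_cone_of_baseChange (fun _ => hgs) D (A := PUnit.{1})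
    (fun _ => (M : Scheme.{u})) (fun _ => M.ι) (fun s => ⟨PUnit.unit, ?_⟩) (fun _ => ⟨cM, hcM⟩)
  rw [Scheme.Opens.range_ι]
  exact hMtop s


end Groth.Agent.Helper21.EtInt
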