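import Mathlib
import Groth.Agent.Lib.Helper21.EtInt3
import Groth.Agent.Lib.Helper29.FPColim

/-!
# Integral surjective descent of étale schemes, part 4: towers (helper21)

* the fibre square of a tower over a base is again a limit;
* an integral algebra is the filtered union of its finite subalgebras, and the corresponding
  tower of spectra.
-/

set_option autoImplicit false
set_option backward.isDefEq.respectTransparency false
set_option backward.isDefEq.respectTransparency.types false
set_option linter.style.haveILetI false
set_option linter.unusedSectionVars false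

open CategoryTheory CategoryTheory.Limits AlgebraicGeometry

universe u

namespace Groth.Agent.Helper21.EtInt

section fiberTower

variable {I : Type u} [SmallCategory I] [IsCofiltered I] (DI : I ⥤ Scheme.{u}) (c : Cone DI)
  (hc : IsLimit c) {S : Scheme.{u}} (q : ∀ i, DI.obj i ⟶ S)
  (hq : ∀ {i j : I} (f : i ⟶ j), DI.map f ≫ q j = q i)
  (p : c.pt ⟶ S) (hp : ∀ i, c.π.app i ≫ q i = p)

/-- The tower of fibre squares. -/
noncomputable def D₂ : I ⥤ Scheme.{u} where
  obj i := pullback (q i) (q i)
  map {i j} f := pullback.map (q i) (q i) (q j) (q j) (DI.map f) (DI.map f) (𝟙 S)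
    (by rw [Category.comp_id, hq]) (by rw [Category.comp_id, hq])
  map_id i := by
    apply pullback.hom_ext
    · rw [pullback.lift_fst, DI.map_id, Category.comp_id, Category.id_comp]
    · rw [pullback.lift_snd, DI.map_id, Category.comp_id, Category.id_comp]
  map_comp f g := by
    apply pullback.hom_ext
    · simp only [pullback.lift_fst, Category.assoc, DI.map_comp, pullback.lift_fst_assoc]
    · simp only [pullback.lift_snd, Category.assoc, DI.map_comp, pullback.lift_snd_assoc]

@[reassoc]
theorem D₂_map_fst {i j : I} (f : i ⟶ j) :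
    (D₂ DI q hq).map f ≫ pullback.fst (q j) (q j) = pullback.fst (q i) (q i) ≫ DI.map f :=
  pullback.lift_fst _ _ _

@[reassoc]
theorem D₂_map_snd {i j : I} (f : i ⟶ j) :
    (D₂ DI q hq).map f ≫ pullback.snd (q j) (q j) = pullback.snd (q i) (q i) ≫ DI.map f :=
  pullback.lift_snd _ _ _

/-- The cone of fibre squares. -/
noncomputable def c₂ : Cone (D₂ DI q hq) where
  pt := pullback p p
  π :=
    { app := fun i => pullback.map p p (q i) (q i) (c.π.app i) (c.π.app i) (𝟙 S)
        (by rw [Category.comp_id, hp]) (by rw [Category.comp_id, hp])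
      naturality := fun i j f => by
        apply pullback.hom_ext
        · simp only [Functor.const_obj_obj, Functor.const_obj_map, Category.id_comp,
            Category.assoc, D₂_map_fst, pullback.lift_fst, pullback.lift_fst_assoc, Cone.w]
        · simp only [Functor.const_obj_obj, Functor.const_obj_map, Category.id_comp,
            Category.assoc, D₂_map_snd, pullback.lift_snd, pullback.lift_snd_assoc, Cone.w] }

@[reassoc]
theorem c₂_π_fst (i : I) :
    (c₂ DI c q hq p hp).π.app i ≫ pullback.fst (q i) (q i) = pullback.fst p p ≫ c.π.app i :=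
  pullback.lift_fst _ _ _

@[reassoc]
theorem c₂_π_snd (i : I) :
    (c₂ DI c q hq p hp).π.app i ≫ pullback.snd (q i) (q i) = pullback.snd p p ≫ c.π.app i :=
  pullback.lift_snd _ _ _

/-- The first projections of a cone over the tower of fibre squares. -/
noncomputable def fstCone (s : Cone (D₂ DI q hq)) : Cone DI where
  pt := s.pt
  π :=
    { app := fun i => s.π.app i ≫ pullback.fst (q i) (q i)
      naturality := fun i j f => by
        simp only [Functor.const_obj_obj, Functor.const_obj_map, Category.id_comp, Category.assoc]
        rw [← D₂_map_fst, ← Category.assoc, s.w] }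

/-- The second projections of a cone over the tower of fibre squares. -/
noncomputable def sndCone (s : Cone (D₂ DI q hq)) : Cone DI where
  pt := s.pt
  π :=
    { app := fun i => s.π.app i ≫ pullback.snd (q i) (q i)
      naturality := fun i j f => by
        simp only [Functor.const_obj_obj, Functor.const_obj_map, Category.id_comp, Category.assoc]
        rw [← D₂_map_snd, ← Category.assoc, s.w] }

include hp in
theorem lift_comm (s : Cone (D₂ DI q hq)) :
    hc.lift (fstCone DI q hq s) ≫ p = hc.lift (sndCone DI q hq s) ≫ p := by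
  obtain ⟨i₀⟩ := IsCofiltered.nonempty (C := I)
  rw [← hp i₀, ← Category.assoc, ← Category.assoc, hc.fac, hc.fac]
  change (s.π.app i₀ ≫ pullback.fst (q i₀) (q i₀)) ≫ q i₀ =
    (s.π.app i₀ ≫ pullback.snd (q i₀) (q i₀)) ≫ q i₀
  rw [Category.assoc, Category.assoc, pullback.condition]

/-- The fibre square of the limit is the limit of the fibre squares. -/
noncomputable def hc₂ : IsLimit (c₂ DI c q hq p hp) where
  lift s := pullback.lift (hc.lift (fstCone DI q hq s)) (hc.lift (sndCone DI q hq s))
    (lift_comm DI c hc q hq p hp s)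
  fac s i := by
    apply pullback.hom_ext
    · rw [Category.assoc, c₂_π_fst, pullback.lift_fst_assoc, hc.fac]
      rfl
    · rw [Category.assoc, c₂_π_snd, pullback.lift_snd_assoc, hc.fac]
      rfl
  uniq s m hm := by
    apply pullback.hom_ext
    · rw [pullback.lift_fst]
      refine hc.hom_ext fun i => ?_
      rw [hc.fac, Category.assoc, ← c₂_π_fst DI c q hq p hp, ← Category.assoc, hm]
      rfl
    · rw [pullback.lift_snd]
      refine hc.hom_ext fun i => ?_
      rw [hc.fac, Category.assoc, ← c₂_π_snd DI c q hq p hp, ← Category.assoc, hm]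
      rfl

end fiberTower

section ringTower

open Groth.Agent.Helper29.FPColim

variable (R A : Type u) [CommRing R] [CommRing A] [Algebra R A]

/-- The tower of spectra of finitely generated subalgebras. -/
noncomputable abbrev tD : (SIdx R A)ᵒᵖ ⥤ Scheme.{u} := (diagS R A).op ⋙ Scheme.Spec

/-- The cone over the tower with vertex `Spec A`. -/
noncomputable abbrev tCone : Cone (tD R A) :=
  Scheme.Spec.mapCone (Cocone.mk _ (sS R A)).op

theorem tCone_isLimit : Nonempty (IsLimit (tCone R A)) := by
  obtain ⟨h⟩ := isColimit_sS R A
  exact ⟨isLimitOfPreserves Scheme.Spec h.op⟩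

/-- The structure morphisms of the tower. -/
noncomputable abbrev tq (i : (SIdx R A)ᵒᵖ) : (tD R A).obj i ⟶ Spec (CommRingCat.of R) :=
  Spec.map ((tS R A).app i.unop)

theorem tq_map {i j : (SIdx R A)ᵒᵖ} (f : i ⟶ j) : (tD R A).map f ≫ tq R A j = tq R A i := by
  change Spec.map ((diagS R A).map f.unop) ≫ Spec.map ((tS R A).app j.unop) =
    Spec.map ((tS R A).app i.unop)
  rw [← Spec.map_comp]
  congr 1

theorem tCone_π_tq (i : (SIdx R A)ᵒᵖ) :
    (tCone R A).π.app i ≫ tq R A i = Spec.map (CommRingCat.ofHom (algebraMap R A)) := by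
  change Spec.map ((sS R A).app i.unop) ≫ Spec.map ((tS R A).app i.unop) = _
  rw [← Spec.map_comp, tS_sS]

theorem isFinite_tq [Algebra.IsIntegral R A] (i : (SIdx R A)ᵒᵖ) : IsFinite (tq R A i) := by
  rw [IsFinite.SpecMap_iff]
  change (algebraMap R i.unop.1).Finite
  rw [RingHom.finite_algebraMap]
  haveI : Algebra.FiniteType R i.unop.1 := (Subalgebra.fg_iff_finiteType i.unop.1).1 i.unop.2
  haveI : Algebra.IsIntegral R i.unop.1 :=
    Algebra.IsIntegral.of_injective i.unop.1.val Subtype.val_injective
  exact Algebra.IsIntegral.finite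

theorem surjective_Spec_val [Algebra.IsIntegral R A] (B : Subalgebra R A) :
    Surjective (Spec.map (CommRingCat.ofHom B.val.toRingHom)) := by
  refine ⟨fun x => ?_⟩
  haveI : Algebra.IsIntegral B A := Algebra.IsIntegral.tower_top (R := R)
  let P : PrimeSpectrum B := x
  obtain ⟨Q, -, hQ, hQP⟩ := Ideal.exists_ideal_over_prime_of_isIntegral (S := A)
    P.asIdeal (⊥ : Ideal A) (by
      intro b hb
      have hb' : algebraMap B A b = 0 := hb
      have : b = 0 := Subtype.val_injective (hb'.trans (ZeroMemClass.coe_zero B).symm)
      rw [this]; exact zero_mem _)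
  exact ⟨(⟨Q, hQ⟩ : PrimeSpectrum A), PrimeSpectrum.ext hQP⟩

theorem surjective_tCone_π [Algebra.IsIntegral R A] (i : (SIdx R A)ᵒᵖ) :
    Surjective ((tCone R A).π.app i) :=
  surjective_Spec_val R A i.unop.1

end ringTower

end Groth.Agent.Helper21.EtInt
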