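import Mathlib
import Groth.Agent.Lib.Helper21.EtInt4
import Groth.Agent.S0591
import Groth.Agent.S9190
import Groth.Agent.S9192

/-!
# Integral surjective descent of étale schemes, part 5: a model of the étale scheme at a finite
stage of a tower (helper21)
-/

set_option autoImplicit false
set_option backward.isDefEq.respectTransparency false
set_option backward.isDefEq.respectTransparency.types false
set_option linter.style.haveILetI false
set_option linter.unusedSectionVars false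

open CategoryTheory CategoryTheory.Limits AlgebraicGeometry

universe u

namespace Groth.Agent.Helper21.EtInt

section cat

variable {C : Type*} [Category C] [HasPullbacks C]

theorem isPullback_lift {E Ei X Yi W Wi : C} {e : E ⟶ Ei} {h : E ⟶ X} {hI : Ei ⟶ Yi}
    {r : X ⟶ Yi} (hpb : IsPullback e h hI r) (pr : W ⟶ X) (pri : Wi ⟶ Yi) (w : W ⟶ Wi)
    (hw : pr ≫ r = w ≫ pri)
    (cond : (pullback.fst h pr ≫ e) ≫ hI = (pullback.snd h pr ≫ w) ≫ pri) :
    IsPullback (pullback.lift (pullback.fst h pr ≫ e) (pullback.snd h pr ≫ w) cond)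
      (pullback.snd h pr) (pullback.snd hI pri) w := by
  have big := (IsPullback.of_hasPullback h pr).paste_horiz hpb
  rw [hw] at big
  refine IsPullback.of_right ?_ (pullback.lift_snd _ _ _) (IsPullback.of_hasPullback hI pri)
  rw [pullback.lift_fst]
  exact big

theorem isPullback_restage {E E₀ X Y₀ Y₁ : C} {g₀ : E ⟶ E₀} {h : E ⟶ X} {f₀ : E₀ ⟶ Y₀}
    {r₀ : X ⟶ Y₀} (hpb : IsPullback g₀ h f₀ r₀) (t : Y₁ ⟶ Y₀) (r₁ : X ⟶ Y₁) (hr : r₁ ≫ t = r₀)
    (cond : g₀ ≫ f₀ = (h ≫ r₁) ≫ t) :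
    IsPullback (pullback.lift g₀ (h ≫ r₁) cond) h (pullback.snd f₀ t) r₁ := by
  refine IsPullback.of_right ?_ (pullback.lift_snd _ _ _) (IsPullback.of_hasPullback f₀ t)
  rw [pullback.lift_fst, hr]
  exact hpb

theorem snd_of_stage (P : MorphismProperty C) [P.RespectsIso] {X₀ Y₀ Z Xi Yi : C} (f₀ : X₀ ⟶ Y₀)
    (m : Z ⟶ Y₀) (fi : Xi ⟶ Yi) (gi : Yi ⟶ Z) (pY : Yi ⟶ Y₀) (pX : Xi ⟶ X₀)
    (h1 : IsPullback pY gi (𝟙 Y₀) m) (h2 : IsPullback pX fi f₀ pY) (hfi : P fi) :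
    P (pullback.snd f₀ m) := by
  haveI : IsIso gi := h1.isIso_snd_of_isIso
  have h3 := h2.paste_vert h1
  rw [Category.comp_id] at h3
  have e : h3.isoPullback.hom ≫ pullback.snd f₀ m = fi ≫ gi := h3.isoPullback_hom_snd
  have e' : pullback.snd f₀ m = h3.isoPullback.inv ≫ fi ≫ gi := (Iso.eq_inv_comp _).mpr e
  rw [e']
  exact (P.cancel_left_of_respectsIso _ _).mpr ((P.cancel_right_of_respectsIso _ _).mpr hfi)

end cat

section model

variable {I : Type u} [SmallCategory I] [IsCofiltered I] (DI : I ⥤ Scheme.{u}) (c : Cone DI)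
  (hc : IsLimit c) [∀ (i j : I) (f : i ⟶ j), IsAffineHom (DI.map f)] [∀ i, IsAffine (DI.obj i)]

include hc in
/-- A separated quasi-compact étale scheme over the limit of a tower of affine schemes comes
from a separated quasi-compact étale scheme over some stage. -/
theorem exists_model {E : Scheme.{u}} (h : E ⟶ c.pt) [Etale h] [IsSeparated h] [QuasiCompact h] :
    ∃ (i : I) (E₀ : Scheme.{u}) (f₀ : E₀ ⟶ DI.obj i) (g₀ : E ⟶ E₀),
      Etale f₀ ∧ IsSeparated f₀ ∧ QuasiCompact f₀ ∧ IsPullback g₀ h f₀ (c.π.app i) := by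
  -- a finitely presented model
  obtain ⟨i₀, E₀, f₀, g₀, hfp, hqc, hqs, hpb₀⟩ := Groth.Agent.S0591.result DI c hc E h
  haveI := hfp; haveI := hqc; haveI := hqs
  haveI : CompactSpace E₀ := QuasiCompact.compactSpace_of_compactSpace f₀
  haveI : QuasiSeparatedSpace E₀ := quasiSeparatedSpace_of_quasiSeparated f₀
  -- make it étale
  obtain ⟨i₁, φ₁, X₁, Y₁, f₁', g₁', pY₁, pX₁, h1, h2, het⟩ :=
    Groth.Agent.S9192.result DI c hc i₀ f₀ (𝟙 (DI.obj i₀)) h (𝟙 c.pt) (c.π.app i₀) g₀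
      IsPullback.of_id_snd hpb₀
  have het₁ : Etale (pullback.snd f₀ (DI.map φ₁)) :=
    snd_of_stage (@Etale) f₀ (DI.map φ₁) f₁' g₁' pY₁ pX₁ h1 h2 het
  obtain ⟨E₁, f₁, g₁, hf₁e, hf₁c, hf₁s, hpb₁⟩ : ∃ (E₁ : Scheme.{u}) (f₁ : E₁ ⟶ DI.obj i₁)
      (g₁ : E ⟶ E₁), Etale f₁ ∧ QuasiCompact f₁ ∧ QuasiSeparated f₁ ∧
        IsPullback g₁ h f₁ (c.π.app i₁) :=
    ⟨pullback f₀ (DI.map φ₁), pullback.snd f₀ (DI.map φ₁),
      pullback.lift g₀ (h ≫ c.π.app i₁) (by rw [hpb₀.w, Category.assoc, c.w]),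
      het₁, inferInstance, inferInstance,
      isPullback_restage hpb₀ (DI.map φ₁) (c.π.app i₁) (c.w φ₁) _⟩
  haveI := hf₁e; haveI := hf₁c; haveI := hf₁s
  haveI : CompactSpace E₁ := QuasiCompact.compactSpace_of_compactSpace f₁
  haveI : QuasiSeparatedSpace E₁ := quasiSeparatedSpace_of_quasiSeparated f₁
  -- make it separated
  obtain ⟨i₂, φ₂, X₂, Y₂, f₂', g₂', pY₂, pX₂, k1, k2, hsep⟩ :=
    Groth.Agent.S9190.result DI c hc i₁ f₁ (𝟙 (DI.obj i₁)) h (𝟙 c.pt) (c.π.app i₁) g₁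
      IsPullback.of_id_snd hpb₁
  have hsep₂ : IsSeparated (pullback.snd f₁ (DI.map φ₂)) :=
    snd_of_stage (@IsSeparated) f₁ (DI.map φ₂) f₂' g₂' pY₂ pX₂ k1 k2 hsep
  refine ⟨i₂, pullback f₁ (DI.map φ₂), pullback.snd f₁ (DI.map φ₂),
    pullback.lift g₁ (h ≫ c.π.app i₂) (by rw [hpb₁.w, Category.assoc, c.w]),
    inferInstance, hsep₂, inferInstance, ?_⟩
  exact isPullback_restage hpb₁ (DI.map φ₂) (c.π.app i₂) (c.w φ₂) _

end model

end Groth.Agent.Helper21.EtInt
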