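import Mathlib
import Groth.Agent.Lib.Helper21.EtInt5
import Groth.Agent.S9218

/-!
# Integral surjective descent of étale schemes, part 6: the action map at a finite stage
(helper21)
-/

set_option autoImplicit false
set_option backward.isDefEq.respectTransparency false
set_option backward.isDefEq.respectTransparency.types false
set_option linter.style.haveILetI false
set_option linter.unusedSectionVars false

open CategoryTheory CategoryTheory.Limits AlgebraicGeometry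

universe u

namespace Groth.Agent.Helper21.EtInt

open Desc Groth.Agent.Helper21.DescA Groth.Agent.Helper21.EtLoc Groth.Agent.Helper21.EtFpqc
  Groth.Agent.Helper21.EtStalk Groth.Agent.Helper21.EtFin Groth.Agent.Helper21.EtRef

section cat

variable {C : Type*} [Category C] [HasPullbacks C]

theorem isPullback_of_isPullback {E Ei X Yi W Wi A Xi : C} {e : E ⟶ Ei} {h : E ⟶ X}
    {hI : Ei ⟶ Yi} {r : X ⟶ Yi} (hpb : IsPullback e h hI r) {pr : W ⟶ X} {a1 : A ⟶ E}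
    {a2 : A ⟶ W} (hA : IsPullback a1 a2 h pr) {pri : Wi ⟶ Yi} {c1 : Xi ⟶ Ei} {c2 : Xi ⟶ Wi}
    (hC : IsPullback c1 c2 hI pri) (w : W ⟶ Wi) (hw : pr ≫ r = w ≫ pri) (qX : A ⟶ Xi)
    (h1 : qX ≫ c1 = a1 ≫ e) (h2 : qX ≫ c2 = a2 ≫ w) : IsPullback qX a2 c2 w := by
  have big := hA.paste_horiz hpb
  rw [hw, ← h1] at big
  exact IsPullback.of_right big h2 hC

/-- The action map at a finite stage built from a morphism between the two pullbacks of the model
to the fibre square. -/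
theorem exists_action {Ei Yi Yj S : C} (hI : Ei ⟶ Yi) (t : Yj ⟶ Yi) (qi : Yi ⟶ S)
    (qj : Yj ⟶ S) (wt : pullback qj qj ⟶ pullback qi qi)
    (hwt1 : wt ≫ pullback.fst qi qi = pullback.fst qj qj ≫ t)
    (hwt2 : wt ≫ pullback.snd qi qi = pullback.snd qj qj ≫ t)
    {Xi Yi' : C} {x1 : Xi ⟶ Ei} {xi : Xi ⟶ pullback qi qi}
    (hXi : IsPullback x1 xi hI (pullback.fst qi qi))
    {y1 : Yi' ⟶ Ei} {yi : Yi' ⟶ pullback qi qi} (hYi : IsPullback y1 yi hI (pullback.snd qi qi))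
    (fj : pullback xi wt ⟶ pullback yi wt)
    (hfj : fj ≫ pullback.snd yi wt = pullback.snd xi wt) :
    ∃ a : pullback (pullback.snd hI t ≫ qj) qj ⟶ pullback hI t,
      a ≫ pullback.snd hI t = pullback.snd (pullback.snd hI t ≫ qj) qj ∧
      ∀ {T : C} (m : T ⟶ pullback (pullback.snd hI t ≫ qj) qj) (Ξ : T ⟶ pullback xi wt)
        (_ : Ξ ≫ pullback.fst xi wt ≫ x1 =
          m ≫ pullback.fst (pullback.snd hI t ≫ qj) qj ≫ pullback.fst hI t)
        (_ : Ξ ≫ pullback.snd xi wt ≫ pullback.fst qj qj =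
          m ≫ pullback.fst (pullback.snd hI t ≫ qj) qj ≫ pullback.snd hI t)
        (_ : Ξ ≫ pullback.snd xi wt ≫ pullback.snd qj qj =
          m ≫ pullback.snd (pullback.snd hI t ≫ qj) qj),
        m ≫ a ≫ pullback.fst hI t = Ξ ≫ fj ≫ pullback.fst yi wt ≫ y1 := by
  obtain ⟨v, hv⟩ : ∃ v, v = pullback.fst (pullback.snd hI t ≫ qj) qj := ⟨_, rfl⟩
  obtain ⟨y₁, hy₁⟩ : ∃ y₁, y₁ = pullback.snd (pullback.snd hI t ≫ qj) qj := ⟨_, rfl⟩
  have hvy : v ≫ pullback.snd hI t ≫ qj = y₁ ≫ qj := by rw [hv, hy₁]; exact pullback.condition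
  obtain ⟨ω, hω1, hω2⟩ : ∃ ω : pullback (pullback.snd hI t ≫ qj) qj ⟶ pullback qj qj,
      ω ≫ pullback.fst qj qj = v ≫ pullback.snd hI t ∧ ω ≫ pullback.snd qj qj = y₁ :=
    ⟨pullback.lift (v ≫ pullback.snd hI t) y₁ (by rw [Category.assoc]; exact hvy),
      pullback.lift_fst _ _ _, pullback.lift_snd _ _ _⟩
  have cond₁ : (v ≫ pullback.fst hI t) ≫ hI = (ω ≫ wt) ≫ pullback.fst qi qi := by
    rw [Category.assoc, pullback.condition, Category.assoc, hwt1, reassoc_of% hω1]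
  obtain ⟨ξ, hξ1, hξ2⟩ : ∃ ξ : pullback (pullback.snd hI t ≫ qj) qj ⟶ Xi,
      ξ ≫ x1 = v ≫ pullback.fst hI t ∧ ξ ≫ xi = ω ≫ wt :=
    ⟨hXi.lift _ _ cond₁, hXi.lift_fst _ _ _, hXi.lift_snd _ _ _⟩
  obtain ⟨Ξ₀, hΞ1, hΞ2⟩ : ∃ Ξ₀ : pullback (pullback.snd hI t ≫ qj) qj ⟶ pullback xi wt,
      Ξ₀ ≫ pullback.fst xi wt = ξ ∧ Ξ₀ ≫ pullback.snd xi wt = ω :=
    ⟨pullback.lift ξ ω hξ2, pullback.lift_fst _ _ _, pullback.lift_snd _ _ _⟩
  have cond₂ : (Ξ₀ ≫ fj ≫ pullback.fst yi wt ≫ y1) ≫ hI = y₁ ≫ t := by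
    simp only [Category.assoc]
    rw [hYi.w, reassoc_of% (pullback.condition (f := yi) (g := wt)), reassoc_of% hfj,
      reassoc_of% hΞ2, hwt2, reassoc_of% hω2]
  refine ⟨pullback.lift (Ξ₀ ≫ fj ≫ pullback.fst yi wt ≫ y1) y₁ cond₂, ?_, ?_⟩
  · rw [pullback.lift_snd, hy₁]
  · intro T m Ξ h1 h2 h3
    rw [pullback.lift_fst]
    have hsnd : m ≫ ω = Ξ ≫ pullback.snd xi wt := by
      apply pullback.hom_ext
      · rw [Category.assoc, hω1, Category.assoc, h2, hv]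
      · rw [Category.assoc, hω2, Category.assoc, h3, hy₁]
    have hΞ : m ≫ Ξ₀ = Ξ := by
      apply pullback.hom_ext
      · rw [Category.assoc, hΞ1]
        apply hXi.hom_ext
        · rw [Category.assoc, hξ1, Category.assoc, h1, hv]
        · rw [Category.assoc, hξ2, Category.assoc, pullback.condition, reassoc_of% hsnd]
      · rw [Category.assoc, hΞ2, hsnd]
    rw [reassoc_of% hΞ]

end cat

end Groth.Agent.Helper21.EtInt
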