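import Mathlib
import Groth.Agent.Lib.Helper21.EtInt6

/-!
# Integral surjective descent of étale schemes, part 7: descending the action to a finite stage
(helper21)
-/

set_option autoImplicit false
set_option backward.isDefEq.respectTransparency false
set_option backward.isDefEq.respectTransparency.types false
set_option linter.style.haveILetI false
set_option linter.unusedSectionVars false

open CategoryTheory CategoryTheory.Limits AlgebraicGeometry

universe u

namespace Groth.Agent.Helper21.EtInt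

open Desc Groth.Agent.Helper21.DescA Groth.Agent.Helper21.EtLoc Groth.Agent.Helper21.EtFpqc
  Groth.Agent.Helper21.EtStalk Groth.Agent.Helper21.EtFin Groth.Agent.Helper21.EtRef

section action

variable {I : Type u} [SmallCategory I] [IsCofiltered I] (DI : I ⥤ Scheme.{u}) (c : Cone DI)
  (hc : IsLimit c) [∀ (i j : I) (f : i ⟶ j), IsAffineHom (DI.map f)] [∀ i, IsAffine (DI.obj i)]
  {S : Scheme.{u}} [IsAffine S] (q : ∀ i, DI.obj i ⟶ S)
  (hq : ∀ {i j : I} (f : i ⟶ j), DI.map f ≫ q j = q i) (p : c.pt ⟶ S)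
  (hp : ∀ i, c.π.app i ≫ q i = p) (D : SchDDFam (fun _ : PUnit.{1} => p))

include hc hq hp in
theorem exists_stage_action {i : I} {Ei : Scheme.{u}} (hI : Ei ⟶ DI.obj i) [Etale hI]
    [IsSeparated hI] [QuasiCompact hI] (eI : (D.obj PUnit.unit).left ⟶ Ei)
    (hpbI : IsPullback eI (D.obj PUnit.unit).hom hI (c.π.app i)) :
    ∃ (j : I) (φ : j ⟶ i)
      (a : pullback (pullback.snd hI (DI.map φ) ≫ q j) (q j) ⟶ pullback hI (DI.map φ)),
      a ≫ pullback.snd hI (DI.map φ) = pullback.snd (pullback.snd hI (DI.map φ) ≫ q j) (q j) ∧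
      ∀ {T : Scheme.{u}} (V : T ⟶ (D.obj PUnit.unit).left) (x : T ⟶ c.pt)
        (hcx : V ≫ (D.obj PUnit.unit).hom ≫ p = x ≫ p)
        (e : (D.obj PUnit.unit).left ⟶ pullback hI (DI.map φ))
        (_ : e ≫ pullback.fst hI (DI.map φ) = eI)
        (_ : e ≫ pullback.snd hI (DI.map φ) = (D.obj PUnit.unit).hom ≫ c.π.app j)
        (hc' : (V ≫ e) ≫ pullback.snd hI (DI.map φ) ≫ q j = (x ≫ c.π.app j) ≫ q j),
        pullback.lift (V ≫ e) (x ≫ c.π.app j) hc' ≫ a = actOn D V x hcx ≫ e := by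
  haveI hWaff : ∀ k, IsAffine ((D₂ DI q hq).obj k) :=
    fun k => inferInstanceAs (IsAffine (pullback (q k) (q k)))
  haveI : ∀ (k l : I) (f : k ⟶ l), IsAffineHom ((D₂ DI q hq).map f) := fun k l f => inferInstance
  -- the two pullbacks of the model to the fibre square at stage `i`
  obtain ⟨Xi, xi, x1, hXi, hxie, hxis, hxic⟩ : ∃ (Xi : Scheme.{u})
      (xi : Xi ⟶ pullback (q i) (q i)) (x1 : Xi ⟶ Ei),
      IsPullback x1 xi hI (pullback.fst (q i) (q i)) ∧ Etale xi ∧ IsSeparated xi ∧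
        QuasiCompact xi :=
    ⟨pullback hI (pullback.fst (q i) (q i)), pullback.snd _ _, pullback.fst _ _,
      IsPullback.of_hasPullback _ _, inferInstance, inferInstance, inferInstance⟩
  obtain ⟨Yi, yi, y1, hYi, hyie, hyis, hyic⟩ : ∃ (Yi : Scheme.{u})
      (yi : Yi ⟶ pullback (q i) (q i)) (y1 : Yi ⟶ Ei),
      IsPullback y1 yi hI (pullback.snd (q i) (q i)) ∧ Etale yi ∧ IsSeparated yi ∧
        QuasiCompact yi :=
    ⟨pullback hI (pullback.snd (q i) (q i)), pullback.snd _ _, pullback.fst _ _,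
      IsPullback.of_hasPullback _ _, inferInstance, inferInstance, inferInstance⟩
  haveI := hxie; haveI := hxis; haveI := hxic; haveI := hyie; haveI := hyis; haveI := hyic
  haveI : CompactSpace Xi := QuasiCompact.compactSpace_of_compactSpace xi
  haveI : QuasiSeparatedSpace Xi := quasiSeparatedSpace_of_quasiSeparated xi
  haveI : CompactSpace Yi := QuasiCompact.compactSpace_of_compactSpace yi
  haveI : QuasiSeparatedSpace Yi := quasiSeparatedSpace_of_quasiSeparated yi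
  -- the two pullbacks of the datum to the fibre square of the limit
  obtain ⟨XX, pX, a1, hXX⟩ : ∃ (XX : Scheme.{u}) (pX : XX ⟶ pullback p p)
      (a1 : XX ⟶ (D.obj PUnit.unit).left), IsPullback a1 pX (D.obj PUnit.unit).hom (pullback.fst p p) :=
    ⟨_, _, _, IsPullback.of_hasPullback (D.obj PUnit.unit).hom (pullback.fst p p)⟩
  obtain ⟨YY, pY, b1, hYY⟩ : ∃ (YY : Scheme.{u}) (pY : YY ⟶ pullback p p)
      (b1 : YY ⟶ (D.obj PUnit.unit).left), IsPullback b1 pY (D.obj PUnit.unit).hom (pullback.snd p p) :=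
    ⟨_, _, _, IsPullback.of_hasPullback (D.obj PUnit.unit).hom (pullback.snd p p)⟩
  have hwX : pullback.fst p p ≫ c.π.app i =
      (c₂ DI c q hq p hp).π.app i ≫ pullback.fst (q i) (q i) :=
    (c₂_π_fst DI c q hq p hp i).symm
  have hwY : pullback.snd p p ≫ c.π.app i =
      (c₂ DI c q hq p hp).π.app i ≫ pullback.snd (q i) (q i) :=
    (c₂_π_snd DI c q hq p hp i).symm
  obtain ⟨qX, hqX1, hqX2⟩ : ∃ qX : XX ⟶ Xi, qX ≫ x1 = a1 ≫ eI ∧
      qX ≫ xi = pX ≫ (c₂ DI c q hq p hp).π.app i :=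
    ⟨hXi.lift (a1 ≫ eI) (pX ≫ (c₂ DI c q hq p hp).π.app i) (by
        simp only [Category.assoc]
        rw [hpbI.w, reassoc_of% hXX.w, hwX]), hXi.lift_fst _ _ _, hXi.lift_snd _ _ _⟩
  obtain ⟨qY, hqY1, hqY2⟩ : ∃ qY : YY ⟶ Yi, qY ≫ y1 = b1 ≫ eI ∧
      qY ≫ yi = pY ≫ (c₂ DI c q hq p hp).π.app i :=
    ⟨hYi.lift (b1 ≫ eI) (pY ≫ (c₂ DI c q hq p hp).π.app i) (by
        simp only [Category.assoc]
        rw [hpbI.w, reassoc_of% hYY.w, hwY]), hYi.lift_fst _ _ _, hYi.lift_snd _ _ _⟩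
  have hX : IsPullback qX pX xi ((c₂ DI c q hq p hp).π.app i) :=
    isPullback_of_isPullback hpbI hXX hXi _ hwX qX hqX1 hqX2
  have hY : IsPullback qY pY yi ((c₂ DI c q hq p hp).π.app i) :=
    isPullback_of_isPullback hpbI hYY hYi _ hwY qY hqY1 hqY2
  -- the gluing isomorphism of the datum
  have hcf : a1 ≫ (D.obj PUnit.unit).hom ≫ p = (pX ≫ pullback.snd p p) ≫ p := by
    rw [reassoc_of% hXX.w, pullback.condition, Category.assoc]
  obtain ⟨f, hf1, hf2⟩ : ∃ f : XX ⟶ YY,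
      f ≫ b1 = actOn D a1 (pX ≫ pullback.snd p p) hcf ∧ f ≫ pY = pX :=
    ⟨hYY.lift (actOn D a1 (pX ≫ pullback.snd p p) hcf) pX (actOn_hom D _ _ _),
      hYY.lift_fst _ _ _, hYY.lift_snd _ _ _⟩
  -- descend it to a stage
  obtain ⟨j, φ, fj, sX, sY, e1, e2, e3, e4, e5, e6⟩ :=
    Groth.Agent.S9218.result (D₂ DI q hq) (c₂ DI c q hq p hp) (hc₂ DI c hc q hq p hp) i xi yi
      qX pX hX qY pY hY f hf2
  obtain ⟨a, ha, hform⟩ := exists_action hI (DI.map φ) (q i) (q j) ((D₂ DI q hq).map φ)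
    (D₂_map_fst DI q hq φ) (D₂_map_snd DI q hq φ) hXi hYi fj e1
  refine ⟨j, φ, a, ha, ?_⟩
  intro T V x hcx e he1 he2 hc'
  obtain ⟨Θ, hΘ1, hΘ2, hΘ3⟩ : ∃ Θ : T ⟶ XX, Θ ≫ a1 = V ∧
      Θ ≫ pX ≫ pullback.fst p p = V ≫ (D.obj PUnit.unit).hom ∧ Θ ≫ pX ≫ pullback.snd p p = x := by
    refine ⟨hXX.lift V (pullback.lift (V ≫ (D.obj PUnit.unit).hom) x (by rw [Category.assoc]; exact hcx))
      (by rw [pullback.lift_fst]), hXX.lift_fst _ _ _, ?_, ?_⟩
    · rw [← Category.assoc, hXX.lift_snd, pullback.lift_fst]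
    · rw [← Category.assoc, hXX.lift_snd, pullback.lift_snd]
  have hπ1 : (c₂ DI c q hq p hp).π.app j ≫ pullback.fst (q j) (q j) =
      pullback.fst p p ≫ c.π.app j := c₂_π_fst DI c q hq p hp j
  have hπ2 : (c₂ DI c q hq p hp).π.app j ≫ pullback.snd (q j) (q j) =
      pullback.snd p p ≫ c.π.app j := c₂_π_snd DI c q hq p hp j
  have key := hform (pullback.lift (V ≫ e) (x ≫ c.π.app j) hc') (Θ ≫ sX)
    (by
      simp only [Category.assoc]
      rw [reassoc_of% e2, hqX1, reassoc_of% hΘ1, pullback.lift_fst_assoc, Category.assoc, he1])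
    (by
      simp only [Category.assoc]
      rw [reassoc_of% e3, hπ1, reassoc_of% hΘ2, pullback.lift_fst_assoc, Category.assoc, he2])
    (by
      simp only [Category.assoc]
      rw [reassoc_of% e3, hπ2, reassoc_of% hΘ3, pullback.lift_snd])
  apply pullback.hom_ext
  · rw [Category.assoc, key]
    simp only [Category.assoc]
    rw [reassoc_of% e6, reassoc_of% e4, hqY1, reassoc_of% hf1, he1, ← Category.assoc,
      actOn_comp]
    congr 1
    exact actOn_congr D _ hΘ1 hΘ3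
  · rw [Category.assoc, ha, pullback.lift_snd, Category.assoc, he2, ← Category.assoc, actOn_hom]

end action

end Groth.Agent.Helper21.EtInt
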