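import Mathlib
import Groth.Agent.Lib.Helper21.EtInt7

/-!
# Integral surjective descent of étale schemes, part 8: the main theorem (helper21)

An integral surjective morphism is a morphism of effective descent for separated quasi-compact
étale schemes (SGA 1 IX 4.7, general form).  The descent datum is descended to a finite stage of
the tower of finite subalgebras, where the finite case applies.
-/

set_option autoImplicit false
set_option backward.isDefEq.respectTransparency false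
set_option backward.isDefEq.respectTransparency.types false
set_option linter.style.haveILetI false
set_option linter.unusedSectionVars false

open CategoryTheory CategoryTheory.Limits AlgebraicGeometry

universe u

namespace Groth.Agent.Helper21.EtInt

open Desc Groth.Agent.Helper21.DescA Groth.Agent.Helper21.EtLoc Groth.Agent.Helper21.EtFpqc
  Groth.Agent.Helper21.EtStalk Groth.Agent.Helper21.EtFin Groth.Agent.Helper21.EtRef

section tower

variable {I : Type u} [SmallCategory I] [IsCofiltered I] (DI : I ⥤ Scheme.{u}) (c : Cone DI)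
  (hc : IsLimit c) [∀ (i j : I) (f : i ⟶ j), IsAffineHom (DI.map f)] [∀ i, IsAffine (DI.obj i)]
  {S : Scheme.{u}} [IsAffine S] (q : ∀ i, DI.obj i ⟶ S)
  (hq : ∀ {i j : I} (f : i ⟶ j), DI.map f ≫ q j = q i)

include hc hq in
/-- Effectivity for the limit of a tower of finite surjective `S`-schemes with surjective
projections. -/
theorem exists_cone_of_tower (hfin : ∀ i, IsFinite (q i)) (hsurj : ∀ i, Surjective (c.π.app i))
    (p : c.pt ⟶ S) (hp : ∀ i, c.π.app i ≫ q i = p) [Surjective p]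
    (D : SchDDFam (fun _ : PUnit.{1} => p)) [Etale (D.obj PUnit.unit).hom]
    [IsSeparated (D.obj PUnit.unit).hom] [QuasiCompact (D.obj PUnit.unit).hom] :
    ∃ c' : Cone D, Etale c'.U.hom := by
  obtain ⟨i, E₀, f₀, g₀, hE, hS, hQ, hpb⟩ := exists_model DI c hc (D.obj PUnit.unit).hom
  haveI := hE; haveI := hS; haveI := hQ
  obtain ⟨j, φ, a, ha, hcompat⟩ := exists_stage_action DI c hc q hq p hp D f₀ g₀ hpb
  obtain ⟨e, he1, he2⟩ : ∃ e : (D.obj PUnit.unit).left ⟶ pullback f₀ (DI.map φ),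
      e ≫ pullback.fst f₀ (DI.map φ) = g₀ ∧
      e ≫ pullback.snd f₀ (DI.map φ) = (D.obj PUnit.unit).hom ≫ c.π.app j :=
    ⟨pullback.lift g₀ ((D.obj PUnit.unit).hom ≫ c.π.app j) (by
      rw [hpb.w, Category.assoc, c.w]), pullback.lift_fst _ _ _, pullback.lift_snd _ _ _⟩
  have hpbj : IsPullback e (D.obj PUnit.unit).hom (pullback.snd f₀ (DI.map φ)) (c.π.app j) := by
    refine IsPullback.of_right ?_ he2 (IsPullback.of_hasPullback f₀ (DI.map φ))
    rw [he1, c.w]
    exact hpb
  haveI := hfin j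
  haveI := hsurj j
  have hpj := hp j
  subst hpj
  haveI : Surjective (q j) := Surjective.of_comp (c.π.app j) (q j)
  have hcompat' : ∀ {T : Scheme.{u}} (v : T ⟶ (D.obj PUnit.unit).left) (x : T ⟶ c.pt)
      (hcx : v ≫ (D.obj PUnit.unit).hom ≫ c.π.app j ≫ q j = x ≫ c.π.app j ≫ q j)
      (hc' : (v ≫ e) ≫ pullback.snd f₀ (DI.map φ) ≫ q j = (x ≫ c.π.app j) ≫ q j),
      actY (q j) (pullback.snd f₀ (DI.map φ)) a (v ≫ e) (x ≫ c.π.app j) hc' =
        actOn D v x hcx ≫ e :=
    fun v x hcx hc' => hcompat v x hcx e he1 he2 hc'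
  obtain ⟨Dj, hDj⟩ : ∃ Dj : SchDDFam (fun _ : PUnit.{1} => q j),
      Dj = stageDD (c.π.app j) (q j) D (pullback.snd f₀ (DI.map φ)) e hpbj a ha hcompat' :=
    ⟨_, rfl⟩
  haveI : Etale (Dj.obj PUnit.unit).hom :=
    hDj ▸ inferInstanceAs (Etale (pullback.snd f₀ (DI.map φ)))
  haveI : IsSeparated (Dj.obj PUnit.unit).hom :=
    hDj ▸ inferInstanceAs (IsSeparated (pullback.snd f₀ (DI.map φ)))
  haveI : QuasiCompact (Dj.obj PUnit.unit).hom :=
    hDj ▸ inferInstanceAs (QuasiCompact (pullback.snd f₀ (DI.map φ)))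
  obtain ⟨cY, hcY⟩ := exists_cone_of_finite_surjective' (q j) Dj
  subst hDj
  exact exists_cone_of_stage (c.π.app j) (q j) D (pullback.snd f₀ (DI.map φ)) e hpbj a ha
    hcompat' cY hcY

end tower

section affine

open Groth.Agent.Helper29.FPColim

/-- The affine case. -/
theorem exists_cone_of_integral_surjective_affine {S X : Scheme.{u}} [IsAffine S] (p : X ⟶ S)
    [IsIntegralHom p] [Surjective p] (D : SchDDFam (fun _ : PUnit.{1} => p))
    [Etale (D.obj PUnit.unit).hom] [IsSeparated (D.obj PUnit.unit).hom]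
    [QuasiCompact (D.obj PUnit.unit).hom] : ∃ c : Cone D, Etale c.U.hom := by
  haveI : IsAffine X := isAffine_of_isAffineHom p
  letI : Algebra Γ(S, ⊤) Γ(X, ⊤) := p.appTop.hom.toAlgebra
  haveI : Algebra.IsIntegral Γ(S, ⊤) Γ(X, ⊤) := algebraMap_isIntegral_iff.mp (by
    rw [RingHom.algebraMap_toAlgebra]
    exact isIntegral_appTop_of_universallyClosed p)
  obtain ⟨hc₀⟩ := tCone_isLimit Γ(S, ⊤) Γ(X, ⊤)
  haveI : ∀ i, IsAffine ((tD Γ(S, ⊤) Γ(X, ⊤)).obj i) :=
    fun i => inferInstanceAs (IsAffine (Spec _))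
  haveI : ∀ (i j : (SIdx Γ(S, ⊤) Γ(X, ⊤))ᵒᵖ) (f : i ⟶ j),
      IsAffineHom ((tD Γ(S, ⊤) Γ(X, ⊤)).map f) := fun i j f => inferInstance
  have hmap : Spec.map (CommRingCat.ofHom (algebraMap Γ(S, ⊤) Γ(X, ⊤))) = Spec.map p.appTop := by
    congr 1
  refine exists_cone_of_tower (tD Γ(S, ⊤) Γ(X, ⊤))
    ((tCone Γ(S, ⊤) Γ(X, ⊤)).extend X.isoSpec.hom) (IsLimit.extendIso X.isoSpec.hom hc₀)
    (fun i => tq Γ(S, ⊤) Γ(X, ⊤) i ≫ S.isoSpec.inv) (fun {i j} f => ?_) (fun i => ?_)
    (fun i => ?_) p (fun i => ?_) D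
  · rw [← Category.assoc, tq_map]
  · haveI := isFinite_tq Γ(S, ⊤) Γ(X, ⊤) i
    infer_instance
  · haveI := surjective_tCone_π Γ(S, ⊤) Γ(X, ⊤) i
    change Surjective (X.isoSpec.hom ≫ (tCone Γ(S, ⊤) Γ(X, ⊤)).π.app i)
    infer_instance
  · change (X.isoSpec.hom ≫ (tCone Γ(S, ⊤) Γ(X, ⊤)).π.app i) ≫
      tq Γ(S, ⊤) Γ(X, ⊤) i ≫ S.isoSpec.inv = p
    rw [Category.assoc, ← Category.assoc ((tCone Γ(S, ⊤) Γ(X, ⊤)).π.app i), tCone_π_tq, hmap,
      Scheme.isoSpec_hom_naturality_assoc, Iso.hom_inv_id, Category.comp_id]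

end affine

/-- **SGA 1 IX 4.7** (general form), cone form: an integral surjective morphism is a morphism of
effective descent for separated quasi-compact étale schemes. -/
theorem exists_cone_of_integral_surjective {S X : Scheme.{u}} (p : X ⟶ S) [IsIntegralHom p]
    [Surjective p] (D : SchDDFam (fun _ : PUnit.{1} => p)) [Etale (D.obj PUnit.unit).hom]
    [IsSeparated (D.obj PUnit.unit).hom] [QuasiCompact (D.obj PUnit.unit).hom] :
    ∃ c : Cone D, Etale c.U.hom := by
  have hps : SGA1.UnivSubmersive p := univSubmersive_of_univClosed_surj p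
  refine exists_cone_of_baseChange (fun _ => hps) D (A := S.affineOpens)
    (fun a => ((a.1 : S.Opens) : Scheme.{u})) (fun a => a.1.ι) (fun s => ?_) (fun a => ?_)
  · obtain ⟨W, hW, hsW, -⟩ := exists_isAffineOpen_mem_and_subset (x := s) (U := ⊤) trivial
    refine ⟨⟨W, hW⟩, ?_⟩
    rw [Scheme.Opens.range_ι]
    exact hsW
  · haveI : IsAffine ((a.1 : S.Opens) : Scheme.{u}) := a.2
    haveI : Etale ((baseChange D a.1.ι).obj PUnit.unit).hom :=
      inferInstanceAs (Etale (pullback.snd (D.obj PUnit.unit).hom (pullback.fst p a.1.ι)))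
    haveI : IsSeparated ((baseChange D a.1.ι).obj PUnit.unit).hom :=
      inferInstanceAs (IsSeparated (pullback.snd (D.obj PUnit.unit).hom (pullback.fst p a.1.ι)))
    haveI : QuasiCompact ((baseChange D a.1.ι).obj PUnit.unit).hom :=
      inferInstanceAs (QuasiCompact (pullback.snd (D.obj PUnit.unit).hom (pullback.fst p a.1.ι)))
    exact exists_cone_of_integral_surjective_affine (pullback.snd p a.1.ι) (baseChange D a.1.ι)

/-- **S0783**. -/
theorem main0783 {X S : Scheme.{u}} (p : X ⟶ S) [Surjective p] [IsIntegralHom p]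
    (D : Desc.SchDD p) [QuasiCompact D.obj.hom] [IsSeparated D.obj.hom] [Etale D.obj.hom] :
    ∃ U : Over S, QuasiCompact U.hom ∧ IsSeparated U.hom ∧ Etale U.hom ∧
      Nonempty ((Desc.toDD p).obj U ≅ D) := by
  have hps : SGA1.UnivSubmersive p := univSubmersive_of_univClosed_surj p
  let D' : SchDDFam (fun _ : PUnit.{1} => p) := (SchDDFam.ofSchDD.{0} p).obj D
  haveI : Etale (D'.obj PUnit.unit).hom := inferInstanceAs (Etale D.obj.hom)
  haveI : IsSeparated (D'.obj PUnit.unit).hom := inferInstanceAs (IsSeparated D.obj.hom)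
  haveI : QuasiCompact (D'.obj PUnit.unit).hom := inferInstanceAs (QuasiCompact D.obj.hom)
  obtain ⟨c, hc⟩ := exists_cone_of_integral_surjective p D'
  have hpb : IsPullback D.obj.hom (c.π PUnit.unit) p c.U.hom := c.isPullback PUnit.unit
  have hsep : IsSeparated c.U.hom :=
    Groth.Agent.Helper21.SubmDesc.separated_descends.of_isPullback hpb hps inferInstance
  have hqc : QuasiCompact c.U.hom := quasiCompact_of_isPullback_surjective hpb
  exact ⟨c.U, hqc, hsep, hc, ⟨(SchDDFam.toSchDD.{0} p).mapIso c.iso.symm⟩⟩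

end Groth.Agent.Helper21.EtInt
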