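import Mathlib
import Groth.Agent.Lib.Helper21.EtRef1
import Groth.Agent.S0503
import Groth.Agent.S14770

/-!
# Quasi-finite universally submersive morphisms are of effective descent for étale schemes
(SGA 1 IX 4.9-type result, S2905) (helper21)
-/

set_option autoImplicit false
set_option backward.isDefEq.respectTransparency false
set_option backward.isDefEq.respectTransparency.types false
set_option linter.style.haveILetI false
set_option linter.unusedSectionVars false

open CategoryTheory CategoryTheory.Limits AlgebraicGeometry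

universe u

namespace Groth.Agent.Helper21.EtRef

open Desc Groth.Agent.Helper21.DescA Groth.Agent.Helper21.EtLoc Groth.Agent.Helper21.EtFpqc
  Groth.Agent.Helper21.EtStalk Groth.Agent.Helper21.EtFin IsLocalRing

/-- Over a locally Noetherian base, locally of finite type implies locally of finite
presentation. -/
theorem lfp_of_lft_of_locallyNoetherian {X Y : Scheme.{u}} (f : X ⟶ Y) [LocallyOfFiniteType f]
    [IsLocallyNoetherian Y] : LocallyOfFinitePresentation f := by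
  rw [HasRingHomProperty.iff_appLE (P := @LocallyOfFinitePresentation)]
  intro U V e
  haveI : IsNoetherianRing Γ(Y, U.1) := IsLocallyNoetherian.component_noetherian U
  exact RingHom.FinitePresentation.of_finiteType.mp
    (HasRingHomProperty.appLE (P := @LocallyOfFiniteType) f inferInstance U V e)

/-- A local ring complete for its maximal ideal is henselian. -/
theorem henselianLocalRing_of_isAdicComplete (R : Type u) [CommRing R] [IsLocalRing R]
    [IsAdicComplete (maximalIdeal R) R] : HenselianLocalRing R where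
  is_henselian f hf a₀ h₁ h₂ :=
    HenselianRing.is_henselian (I := maximalIdeal R) f hf a₀ h₁ (h₂.map _)

/-- **The finite part**: a quasi-compact, quasi-finite morphism of finite type to the spectrum of
a Noetherian henselian local ring which lifts specializations is refined by a finite surjective
morphism. -/
theorem exists_finite_refinement (B : Type u) [CommRing B] [HenselianLocalRing B]
    [IsNoetherianRing B] {S' : Scheme.{u}} (gB : S' ⟶ Spec (CommRingCat.of B)) [QuasiCompact gB]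
    [LocallyOfFiniteType gB] [LocallyQuasiFinite gB] (hsub : Subtr.IsSSubtrusive gB) :
    ∃ (F : Scheme.{u}) (r : F ⟶ S'), IsFinite (r ≫ gB) ∧ Surjective (r ≫ gB) ∧
      LocallyOfFinitePresentation (r ≫ gB) := by
  haveI : CompactSpace S' := QuasiCompact.compactSpace_of_compactSpace gB
  obtain ⟨UU, hUU⟩ : ∃ UU : S'.OpenCover, UU = S'.affineCover.finiteSubcover := ⟨_, rfl⟩
  haveI : Fintype UU.I₀ := by rw [hUU]; infer_instance
  haveI : ∀ i, IsAffine (UU.X i) := by rw [hUU]; infer_instance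
  obtain ⟨r₀, hr₀⟩ : ∃ r₀ : (∐ UU.X) ⟶ S', r₀ = Sigma.desc UU.f := ⟨_, rfl⟩
  haveI : LocallyOfFiniteType r₀ := by
    rw [hr₀]; exact IsZariskiLocalAtSource.sigmaDesc (fun i => inferInstance)
  haveI : LocallyQuasiFinite r₀ := by
    rw [hr₀]; exact IsZariskiLocalAtSource.sigmaDesc (fun i => inferInstance)
  have hιr : ∀ i, Sigma.ι UU.X i ≫ r₀ = UU.f i := fun i => by rw [hr₀, Sigma.ι_desc]
  obtain ⟨m, hmdef⟩ : ∃ m : (∐ UU.X) ⟶ Spec (CommRingCat.of B), m = r₀ ≫ gB := ⟨_, rfl⟩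
  haveI : LocallyOfFiniteType m := by rw [hmdef]; infer_instance
  haveI : LocallyQuasiFinite m := by rw [hmdef]; infer_instance
  obtain ⟨φ, hφdef⟩ : ∃ φ : CommRingCat.of B ⟶ Γ(∐ UU.X, ⊤),
    φ = (Scheme.ΓSpecIso (CommRingCat.of B)).inv ≫ m.appTop := ⟨_, rfl⟩
  have hm : m = (∐ UU.X).isoSpec.hom ≫ Spec.map φ := by
    have h1 := Scheme.isoSpec_hom_naturality m
    have h2 : m = (∐ UU.X).isoSpec.hom ≫ Spec.map m.appTop ≫
        (Spec (CommRingCat.of B)).isoSpec.inv := by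
      rw [← Category.assoc, h1, Category.assoc, Iso.hom_inv_id, Category.comp_id]
    rw [hφdef, Spec.map_comp, ← Scheme.isoSpec_Spec_inv]
    exact h2
  have hφ : Spec.map φ = (∐ UU.X).isoSpec.inv ≫ m := by rw [hm, Iso.inv_hom_id_assoc]
  haveI : LocallyOfFiniteType (Spec.map φ) := by rw [hφ]; infer_instance
  haveI : LocallyQuasiFinite (Spec.map φ) := by rw [hφ]; infer_instance
  have hft : φ.hom.FiniteType :=
    (HasRingHomProperty.Spec_iff (P := @LocallyOfFiniteType)).mp inferInstance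
  have hqf : φ.hom.QuasiFinite :=
    (HasRingHomProperty.Spec_iff (P := @LocallyQuasiFinite)).mp inferInstance
  letI : Algebra B Γ(∐ UU.X, ⊤) := φ.hom.toAlgebra
  haveI : Algebra.FiniteType B Γ(∐ UU.X, ⊤) := hft
  haveI : Algebra.QuasiFinite B Γ(∐ UU.X, ⊤) := hqf
  obtain ⟨e, he, hfin, htop⟩ := Groth.Agent.S0503.result B Γ(∐ UU.X, ⊤)
  obtain ⟨ψ, hψdef⟩ : ∃ ψ : CommRingCat.of B ⟶
      CommRingCat.of (Γ(∐ UU.X, ⊤) ⧸ Ideal.span ({1 - e} : Set Γ(∐ UU.X, ⊤))),
    ψ = φ ≫ CommRingCat.ofHom (Ideal.Quotient.mk (Ideal.span ({1 - e} : Set Γ(∐ UU.X, ⊤)))) :=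
    ⟨_, rfl⟩
  obtain ⟨r₁, hr₁⟩ : ∃ r₁ : Spec (CommRingCat.of
      (Γ(∐ UU.X, ⊤) ⧸ Ideal.span ({1 - e} : Set Γ(∐ UU.X, ⊤)))) ⟶ ∐ UU.X,
    r₁ = Spec.map (CommRingCat.ofHom
      (Ideal.Quotient.mk (Ideal.span ({1 - e} : Set Γ(∐ UU.X, ⊤))))) ≫
        (∐ UU.X).isoSpec.inv := ⟨_, rfl⟩
  have hrg : (r₁ ≫ r₀) ≫ gB = Spec.map ψ := by
    rw [Category.assoc, ← hmdef, hr₁, Category.assoc, ← hφ, hψdef, Spec.map_comp]
  have hψfin : ψ.hom.Finite := by
    have h1 : (algebraMap B (Γ(∐ UU.X, ⊤) ⧸ Ideal.span ({1 - e} : Set Γ(∐ UU.X, ⊤)))).Finite :=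
      RingHom.finite_algebraMap.mpr hfin
    rw [hψdef]
    exact h1
  refine ⟨_, r₁ ≫ r₀, ?_, ?_, ?_⟩
  · rw [hrg]
    exact (IsFinite.SpecMap_iff ψ).mpr hψfin
  · refine ⟨fun t => ?_⟩
    obtain ⟨x, x', hxx, hx, hx'⟩ := hsub (IsLocalRing.specializes_closedPoint t)
    obtain ⟨i, z, hz⟩ := UU.exists_eq x
    have hx'r : x' ∈ Set.range (UU.f i) :=
      hxx.mem_open (UU.f i).isOpenEmbedding.isOpen_range ⟨z, hz⟩
    obtain ⟨z', hz'⟩ := hx'r
    have hzz : z' ⤳ z := by
      rw [← hz, ← hz'] at hxx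
      exact (UU.f i).isOpenEmbedding.isInducing.specializes_iff.mp hxx
    have hyy : Sigma.ι UU.X i z' ⤳ Sigma.ι UU.X i z := hzz.map (Sigma.ι UU.X i).continuous
    have hry : r₀ (Sigma.ι UU.X i z) = x := by
      rw [← Scheme.Hom.comp_apply, hιr, hz]
    have hry' : r₀ (Sigma.ι UU.X i z') = x' := by
      rw [← Scheme.Hom.comp_apply, hιr, hz']
    obtain ⟨q, hq⟩ : ∃ q : PrimeSpectrum Γ(∐ UU.X, ⊤),
      q = (∐ UU.X).isoSpec.hom (Sigma.ι UU.X i z) := ⟨_, rfl⟩
    obtain ⟨q', hq'⟩ : ∃ q' : PrimeSpectrum Γ(∐ UU.X, ⊤),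
      q' = (∐ UU.X).isoSpec.hom (Sigma.ι UU.X i z') := ⟨_, rfl⟩
    have hqq : q' ⤳ q := by
      rw [hq, hq']; exact hyy.map (∐ UU.X).isoSpec.hom.continuous
    have hq_over : Spec.map φ q = closedPoint B := by
      rw [hφ, hq, ← Scheme.Hom.comp_apply, Iso.hom_inv_id_assoc, hmdef, Scheme.Hom.comp_apply,
        hry, hx]
    have hcomap : q.asIdeal.comap (algebraMap B Γ(∐ UU.X, ⊤)) = maximalIdeal B :=
      congrArg PrimeSpectrum.asIdeal hq_over
    have hJ : Ideal.map (algebraMap B Γ(∐ UU.X, ⊤)) (maximalIdeal B) ≤ q.asIdeal :=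
      Ideal.map_le_iff_le_comap.mpr (le_of_eq hcomap.symm)
    have hsup : Ideal.map (algebraMap B Γ(∐ UU.X, ⊤)) (maximalIdeal B) ⊔
        Ideal.span ({e} : Set Γ(∐ UU.X, ⊤)) = ⊤ := by
      have h1 : Ideal.map (Ideal.Quotient.mk (Ideal.span ({e} : Set Γ(∐ UU.X, ⊤))))
          (Ideal.map (algebraMap B Γ(∐ UU.X, ⊤)) (maximalIdeal B)) = ⊤ := by
        rw [Ideal.map_map]; exact htop
      have h2 := Ideal.comap_map_of_surjective
        (Ideal.Quotient.mk (Ideal.span ({e} : Set Γ(∐ UU.X, ⊤)))) Ideal.Quotient.mk_surjective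
        (Ideal.map (algebraMap B Γ(∐ UU.X, ⊤)) (maximalIdeal B))
      rw [h1, Ideal.comap_top, ← RingHom.ker_eq_comap_bot, Ideal.mk_ker] at h2
      exact h2.symm
    have he_notin : e ∉ q.asIdeal := fun heq =>
      q.isPrime.ne_top (eq_top_iff.mpr (hsup ▸ sup_le hJ
        ((Ideal.span_singleton_le_iff_mem _).mpr heq)))
    have he' : e ∉ q'.asIdeal := fun h =>
      he_notin ((PrimeSpectrum.le_iff_specializes q' q).mpr hqq h)
    have h1e : 1 - e ∈ q'.asIdeal := by
      have : e * (1 - e) ∈ q'.asIdeal := by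
        rw [mul_sub, mul_one, he.eq, sub_self]; exact zero_mem _
      exact (q'.isPrime.mem_or_mem this).resolve_left he'
    have hmem : q' ∈ PrimeSpectrum.zeroLocus (RingHom.ker
        (Ideal.Quotient.mk (Ideal.span ({1 - e} : Set Γ(∐ UU.X, ⊤)))) : Set Γ(∐ UU.X, ⊤)) := by
      rw [Ideal.mk_ker]
      exact (PrimeSpectrum.mem_zeroLocus _ _).mpr
        ((Ideal.span_singleton_le_iff_mem _).mpr h1e)
    rw [← range_comap_of_surjective _ _ Ideal.Quotient.mk_surjective] at hmem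
    obtain ⟨p', hp'⟩ := hmem
    refine ⟨p', ?_⟩
    have e1 : r₁ p' = Sigma.ι UU.X i z' := by
      rw [hr₁, Scheme.Hom.comp_apply]
      have : Spec.map (CommRingCat.ofHom
          (Ideal.Quotient.mk (Ideal.span ({1 - e} : Set Γ(∐ UU.X, ⊤))))) p' = q' := hp'
      rw [this, hq']
      exact congrArg (fun f : (∐ UU.X) ⟶ (∐ UU.X) => f (Sigma.ι UU.X i z'))
        (∐ UU.X).isoSpec.hom_inv_id
    rw [Scheme.Hom.comp_apply, Scheme.Hom.comp_apply, e1, hry', hx']
  · rw [hrg]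
    exact (HasRingHomProperty.Spec_iff (P := @LocallyOfFinitePresentation)).mpr
      (RingHom.FinitePresentation.of_finiteType.mp hψfin.finiteType)

end Groth.Agent.Helper21.EtRef
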