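import Mathlib
import Groth.Agent.Lib.Helper21.EtRef2

/-!
# S2905: quasi-finite universally submersive morphisms of finite type over a locally Noetherian
base are of effective descent for étale separated quasi-compact schemes (helper21)
-/

set_option autoImplicit false
set_option backward.isDefEq.respectTransparency false
set_option backward.isDefEq.respectTransparency.types false
set_option linter.style.haveILetI false
set_option linter.unusedSectionVars false

open CategoryTheory CategoryTheory.Limits AlgebraicGeometry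

universe u

namespace Groth.Agent.Helper21.EtRef

open Desc Groth.Agent.Helper21.DescA Groth.Agent.Helper21.EtLoc Groth.Agent.Helper21.EtFpqc
  Groth.Agent.Helper21.EtStalk Groth.Agent.Helper21.EtFin IsLocalRing

/-- The local case: over a complete Noetherian local ring. -/
theorem exists_cone_of_quasiFinite_complete (B : Type u) [CommRing B] [IsNoetherianRing B]
    [IsLocalRing B] [IsAdicComplete (maximalIdeal B) B] {S' : Scheme.{u}}
    (gB : S' ⟶ Spec (CommRingCat.of B)) (hgB : SGA1.UnivSubmersive gB) [QuasiCompact gB]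
    [LocallyOfFiniteType gB] [LocallyQuasiFinite gB]
    (D : SchDDFam (fun _ : PUnit.{1} => gB)) [Etale (D.obj PUnit.unit).hom]
    [IsSeparated (D.obj PUnit.unit).hom] [QuasiCompact (D.obj PUnit.unit).hom] :
    ∃ c : Cone D, Etale c.U.hom := by
  haveI : HenselianLocalRing B := henselianLocalRing_of_isAdicComplete B
  have hsub : Subtr.IsSSubtrusive gB :=
    MorphismProperty.universally_le (P := fun _ _ f => Subtr.IsSSubtrusive f) _
      ((Groth.Agent.S14770.result gB).mp hgB)
  obtain ⟨F, r, hfin, hsurj, hlfp⟩ := exists_finite_refinement B gB hsub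
  haveI := hfin
  haveI := hsurj
  haveI := hlfp
  haveI : Etale ((refineDD gB r D).obj PUnit.unit).hom :=
    inferInstanceAs (Etale (pullback.snd (D.obj PUnit.unit).hom r))
  haveI : IsSeparated ((refineDD gB r D).obj PUnit.unit).hom :=
    inferInstanceAs (IsSeparated (pullback.snd (D.obj PUnit.unit).hom r))
  haveI : QuasiCompact ((refineDD gB r D).obj PUnit.unit).hom :=
    inferInstanceAs (QuasiCompact (pullback.snd (D.obj PUnit.unit).hom r))
  obtain ⟨c', hc'⟩ := exists_cone_of_finite_surjective (r ≫ gB) (refineDD gB r D)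
  obtain ⟨c, hc⟩ := exists_cone_of_refinement gB r D
    (univSubmersive_of_univClosed_surj (r ≫ gB)) c' hc'
  exact ⟨c, hc ▸ hc'⟩

/-- **S2905**. -/
theorem main2905 {S' S : Scheme.{u}} [IsLocallyNoetherian S] (g : S' ⟶ S)
    (hg : SGA1.UnivSubmersive g) [LocallyOfFiniteType g] [QuasiCompact g] [LocallyQuasiFinite g]
    (D : Desc.SchDD g) [QuasiCompact D.obj.hom] [IsSeparated D.obj.hom] [Etale D.obj.hom] :
    ∃ U : Over S, QuasiCompact U.hom ∧ IsSeparated U.hom ∧ Etale U.hom ∧
      Nonempty ((Desc.toDD g).obj U ≅ D) := by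
  haveI : LocallyOfFinitePresentation g := lfp_of_lft_of_locallyNoetherian g
  haveI : IsLocallyNoetherian S' := LocallyOfFiniteType.isLocallyNoetherian g
  haveI : QuasiSeparated g := inferInstance
  haveI : Surjective g := surjective_of_univSubmersive g hg
  let D' : SchDDFam (fun _ : PUnit.{1} => g) := (SchDDFam.ofSchDD.{0} g).obj D
  haveI : Etale (D'.obj PUnit.unit).hom := inferInstanceAs (Etale D.obj.hom)
  haveI : IsSeparated (D'.obj PUnit.unit).hom := inferInstanceAs (IsSeparated D.obj.hom)
  haveI : QuasiCompact (D'.obj PUnit.unit).hom := inferInstanceAs (QuasiCompact D.obj.hom)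
  obtain ⟨U, hU, ⟨e⟩⟩ := (main5127 g hg D').mpr (fun B _ _ _ _ _ q => by
    haveI : Etale ((baseChange D' q).obj PUnit.unit).hom :=
      inferInstanceAs (Etale (pullback.snd (D'.obj PUnit.unit).hom (pullback.fst g q)))
    haveI : IsSeparated ((baseChange D' q).obj PUnit.unit).hom :=
      inferInstanceAs (IsSeparated (pullback.snd (D'.obj PUnit.unit).hom (pullback.fst g q)))
    haveI : QuasiCompact ((baseChange D' q).obj PUnit.unit).hom :=
      inferInstanceAs (QuasiCompact (pullback.snd (D'.obj PUnit.unit).hom (pullback.fst g q)))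
    obtain ⟨c, hc⟩ := exists_cone_of_quasiFinite_complete B (pullback.snd g q)
      (univSubmersive_snd g hg q) (baseChange D' q)
    exact ⟨c.U, hc, ⟨c.iso.symm⟩⟩)
  obtain ⟨c, hc⟩ := exists_cone_of_iso U e.symm
  subst hc
  have hpb : IsPullback D.obj.hom (c.π PUnit.unit) g c.U.hom := c.isPullback PUnit.unit
  have hsep : IsSeparated c.U.hom :=
    Groth.Agent.Helper21.SubmDesc.separated_descends.of_isPullback hpb hg inferInstance
  have hqc : QuasiCompact c.U.hom := quasiCompact_of_isPullback_surjective hpb
  exact ⟨c.U, hqc, hsep, hU, ⟨(SchDDFam.toSchDD.{0} g).mapIso c.iso.symm⟩⟩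

end Groth.Agent.Helper21.EtRef
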