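import Mathlib
import Groth.Agent.Lib.Helper21.EtInt8
import Groth.Agent.Lib.Helper16.Sch.NilLift2

/-!
# Topological invariance of the étale site, part 1: the canonical descent datum relative to a
universal homeomorphism and its effectivity (helper21)
-/

set_option autoImplicit false
set_option backward.isDefEq.respectTransparency false
set_option backward.isDefEq.respectTransparency.types false
set_option linter.style.haveILetI false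
set_option linter.unusedSectionVars false

open CategoryTheory CategoryTheory.Limits AlgebraicGeometry

universe u

namespace Groth.Agent.Helper21.EtUH

open Desc Groth.Agent.Helper21.DescA Groth.Agent.Helper21.EtLoc Groth.Agent.Helper21.EtFpqc
  Groth.Agent.Helper21.EtStalk Groth.Agent.Helper21.EtFin Groth.Agent.Helper21.EtRef
  Groth.Agent.Helper21.EtInt Groth.Agent.Helper16.NilLift

section tr

variable {X Y : Scheme.{u}} (f : X ⟶ Y) [IsIntegralHom f] [UniversallyInjective f]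

/-- Two points of `X` with the same image in `Y` agree on a thickening. -/
theorem exists_thickening {T : Scheme.{u}} (x₀ x₁ : T ⟶ X) (hx : x₀ ≫ f = x₁ ≫ f) :
    ∃ (T₀ : Scheme.{u}) (ι : T₀ ⟶ T), IsClosedImmersion ι ∧ Surjective ι ∧ ι ≫ x₀ = ι ≫ x₁ := by
  haveI : IsSeparated f := inferInstance
  haveI : Surjective (pullback.diagonal f) := (UniversallyInjective.iff_diagonal f).mp inferInstance
  haveI : IsClosedImmersion (pullback.diagonal f) := inferInstance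
  refine ⟨pullback (pullback.lift x₀ x₁ hx) (pullback.diagonal f), pullback.fst _ _,
    inferInstance, inferInstance, ?_⟩
  have c := pullback.condition (f := pullback.lift x₀ x₁ hx) (g := pullback.diagonal f)
  have c1 := congrArg (fun m => m ≫ pullback.fst f f) c
  have c2 := congrArg (fun m => m ≫ pullback.snd f f) c
  simp only [Category.assoc, pullback.lift_fst, pullback.lift_snd, pullback.diagonal_fst,
    pullback.diagonal_snd, Category.comp_id] at c1 c2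
  rw [c1, c2]

variable {V : Scheme.{u}} (h : V ⟶ X) [Etale h]

/-- The translate of a point of an étale `X`-scheme along two points of `X` with the same image
in `Y`: existence and uniqueness. -/
theorem exists_unique_tr {T : Scheme.{u}} (x₀ x₁ : T ⟶ X) (hx : x₀ ≫ f = x₁ ≫ f) (v : T ⟶ V)
    (hv : v ≫ h = x₀) :
    ∃ l : T ⟶ V, l ≫ h = x₁ ∧
      (∃ (T₁ : Scheme.{u}) (κ : T₁ ⟶ T), Surjective κ ∧ κ ≫ l = κ ≫ v) ∧
      ∀ l' : T ⟶ V, l' ≫ h = x₁ →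
        (∃ (T₁ : Scheme.{u}) (κ : T₁ ⟶ T), Surjective κ ∧ κ ≫ l' = κ ≫ v) → l' = l := by
  obtain ⟨T₀, ι, hι1, hι2, hι⟩ := exists_thickening f x₀ x₁ hx
  obtain ⟨l, ⟨hl1, hl2⟩, -⟩ := exists_unique_lift_nil h ι (ι ≫ v) x₁ (by
    rw [Category.assoc, hv, hι])
  refine ⟨l, hl2, ⟨T₀, ι, hι2, hl1⟩, ?_⟩
  rintro l' hl' ⟨T₁, κ, hκ, hκl⟩
  haveI : Surjective (pullback.fst κ ι ≫ κ) := inferInstance
  refine hom_ext_of_surjective (pullback.fst κ ι ≫ κ) h l' l ?_ (by rw [hl', hl2])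
  calc (pullback.fst κ ι ≫ κ) ≫ l' = pullback.fst κ ι ≫ κ ≫ v := by rw [Category.assoc, hκl]
    _ = pullback.snd κ ι ≫ ι ≫ v := by rw [pullback.condition_assoc]
    _ = pullback.snd κ ι ≫ ι ≫ l := by rw [hl1]
    _ = (pullback.fst κ ι ≫ κ) ≫ l := by rw [Category.assoc, pullback.condition_assoc]

/-- The translate. -/
noncomputable def tr {T : Scheme.{u}} (x₀ x₁ : T ⟶ X) (hx : x₀ ≫ f = x₁ ≫ f) (v : T ⟶ V)
    (hv : v ≫ h = x₀) : T ⟶ V :=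
  (exists_unique_tr f h x₀ x₁ hx v hv).choose

theorem tr_hom {T : Scheme.{u}} (x₀ x₁ : T ⟶ X) (hx : x₀ ≫ f = x₁ ≫ f) (v : T ⟶ V)
    (hv : v ≫ h = x₀) : tr f h x₀ x₁ hx v hv ≫ h = x₁ :=
  (exists_unique_tr f h x₀ x₁ hx v hv).choose_spec.1

theorem tr_agree {T : Scheme.{u}} (x₀ x₁ : T ⟶ X) (hx : x₀ ≫ f = x₁ ≫ f) (v : T ⟶ V)
    (hv : v ≫ h = x₀) :
    ∃ (T₁ : Scheme.{u}) (κ : T₁ ⟶ T), Surjective κ ∧ κ ≫ tr f h x₀ x₁ hx v hv = κ ≫ v :=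
  (exists_unique_tr f h x₀ x₁ hx v hv).choose_spec.2.1

theorem tr_unique {T : Scheme.{u}} (x₀ x₁ : T ⟶ X) (hx : x₀ ≫ f = x₁ ≫ f) (v : T ⟶ V)
    (hv : v ≫ h = x₀) (l' : T ⟶ V) (hl' : l' ≫ h = x₁) {T₁ : Scheme.{u}} (κ : T₁ ⟶ T)
    [Surjective κ] (hκ : κ ≫ l' = κ ≫ v) : l' = tr f h x₀ x₁ hx v hv :=
  (exists_unique_tr f h x₀ x₁ hx v hv).choose_spec.2.2 l' hl' ⟨T₁, κ, inferInstance, hκ⟩

theorem tr_self {T : Scheme.{u}} (x : T ⟶ X) (v : T ⟶ V) (hv : v ≫ h = x) :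
    tr f h x x rfl v hv = v :=
  (tr_unique f h x x rfl v hv v hv (𝟙 T) rfl).symm

theorem tr_tr {T : Scheme.{u}} (x₀ x₁ x₂ : T ⟶ X) (h₀₁ : x₀ ≫ f = x₁ ≫ f)
    (h₁₂ : x₁ ≫ f = x₂ ≫ f) (v : T ⟶ V) (hv : v ≫ h = x₀) :
    tr f h x₁ x₂ h₁₂ (tr f h x₀ x₁ h₀₁ v hv) (tr_hom f h x₀ x₁ h₀₁ v hv) =
      tr f h x₀ x₂ (h₀₁.trans h₁₂) v hv := by
  obtain ⟨T₁, κ₁, hκ₁, e₁⟩ := tr_agree f h x₀ x₁ h₀₁ v hv
  obtain ⟨T₂, κ₂, hκ₂, e₂⟩ := tr_agree f h x₁ x₂ h₁₂ (tr f h x₀ x₁ h₀₁ v hv)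
    (tr_hom f h x₀ x₁ h₀₁ v hv)
  haveI : Surjective (pullback.fst κ₁ κ₂ ≫ κ₁) := inferInstance
  refine tr_unique f h x₀ x₂ _ v hv _ (tr_hom f h x₁ x₂ h₁₂ _ _) (pullback.fst κ₁ κ₂ ≫ κ₁) ?_
  calc (pullback.fst κ₁ κ₂ ≫ κ₁) ≫ tr f h x₁ x₂ h₁₂ (tr f h x₀ x₁ h₀₁ v hv)
        (tr_hom f h x₀ x₁ h₀₁ v hv)
      = pullback.snd κ₁ κ₂ ≫ κ₂ ≫ tr f h x₁ x₂ h₁₂ (tr f h x₀ x₁ h₀₁ v hv)
        (tr_hom f h x₀ x₁ h₀₁ v hv) := by rw [Category.assoc, pullback.condition_assoc]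
    _ = pullback.snd κ₁ κ₂ ≫ κ₂ ≫ tr f h x₀ x₁ h₀₁ v hv := by rw [e₂]
    _ = pullback.fst κ₁ κ₂ ≫ κ₁ ≫ tr f h x₀ x₁ h₀₁ v hv := by rw [pullback.condition_assoc]
    _ = pullback.fst κ₁ κ₂ ≫ κ₁ ≫ v := by rw [e₁]
    _ = (pullback.fst κ₁ κ₂ ≫ κ₁) ≫ v := by rw [Category.assoc]

theorem tr_nat {T T' : Scheme.{u}} (g : T' ⟶ T) (x₀ x₁ : T ⟶ X) (hx : x₀ ≫ f = x₁ ≫ f)
    (v : T ⟶ V) (hv : v ≫ h = x₀) (y₀ y₁ : T' ⟶ X) (hy₀ : g ≫ x₀ = y₀) (hy₁ : g ≫ x₁ = y₁)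
    (hy : y₀ ≫ f = y₁ ≫ f) (v' : T' ⟶ V) (hv' : v' ≫ h = y₀) (hvv : v' = g ≫ v) :
    tr f h y₀ y₁ hy v' hv' = g ≫ tr f h x₀ x₁ hx v hv := by
  obtain ⟨T₁, κ, hκ, e⟩ := tr_agree f h x₀ x₁ hx v hv
  haveI : Surjective (pullback.fst g κ) := inferInstance
  refine (tr_unique f h y₀ y₁ hy v' hv' _ ?_ (pullback.fst g κ) ?_).symm
  · rw [Category.assoc, tr_hom, hy₁]
  · rw [hvv, pullback.condition_assoc, e, pullback.condition_assoc]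

/-- The canonical descent datum on an étale scheme relative to a universal homeomorphism. -/
noncomputable def canDD : SchDDFam (fun _ : PUnit.{1} => f) where
  obj _ := Over.mk h
  φ T i j x₀ x₁ hx :=
    { toFun := fun v => ⟨tr f h x₀ x₁ hx v.1 v.2, tr_hom f h x₀ x₁ hx v.1 v.2⟩
      invFun := fun w => ⟨tr f h x₁ x₀ hx.symm w.1 w.2, tr_hom f h x₁ x₀ hx.symm w.1 w.2⟩
      left_inv := fun v => Subtype.ext (by
        change tr f h x₁ x₀ hx.symm (tr f h x₀ x₁ hx v.1 v.2)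
          (tr_hom f h x₀ x₁ hx v.1 v.2) = v.1
        rw [tr_tr]
        exact tr_self f h x₀ v.1 v.2)
      right_inv := fun w => Subtype.ext (by
        change tr f h x₀ x₁ hx (tr f h x₁ x₀ hx.symm w.1 w.2)
          (tr_hom f h x₁ x₀ hx.symm w.1 w.2) = w.1
        rw [tr_tr]
        exact tr_self f h x₁ w.1 w.2) }
  φ_natural := fun T T' g i j x₀ x₁ hx y₀ y₁ hy₀ hy₁ hy v v' hvv =>
    tr_nat f h g x₀ x₁ hx v.1 v.2 y₀ y₁ hy₀ hy₁ hy v'.1 v'.2 hvv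
  φ_self := fun T i x v => Subtype.ext (tr_self f h x v.1 v.2)
  φ_comp := fun T i j k x₀ x₁ x₂ h₀₁ h₁₂ v => Subtype.ext (tr_tr f h x₀ x₁ x₂ h₀₁ h₁₂ v.1 v.2)

theorem canDD_φ_val {T : Scheme.{u}} (x₀ x₁ : T ⟶ X) (hx : x₀ ≫ f = x₁ ≫ f)
    (v : Lifts ((canDD f h).obj PUnit.unit) x₀) :
    ((canDD f h).φ (i := PUnit.unit) (j := PUnit.unit) x₀ x₁ hx v).1 =
      tr f h x₀ x₁ hx v.1 v.2 := rfl

end tr

section any

variable {X Y : Scheme.{u}} (f : X ⟶ Y) [IsIntegralHom f] [UniversallyInjective f]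
  (D : SchDDFam (fun _ : PUnit.{1} => f)) [Etale (D.obj PUnit.unit).hom]

/-- Every descent datum relative to a universal homeomorphism on an étale scheme is the
canonical one. -/
theorem φ_eq_tr {T : Scheme.{u}} (x₀ x₁ : T ⟶ X) (hx : x₀ ≫ f = x₁ ≫ f)
    (v : Lifts (D.obj PUnit.unit) x₀) :
    (D.φ (i := PUnit.unit) (j := PUnit.unit) x₀ x₁ hx v).1 =
      tr f (D.obj PUnit.unit).hom x₀ x₁ hx v.1 v.2 := by
  obtain ⟨T₀, ι, hι1, hι2, hι⟩ := exists_thickening f x₀ x₁ hx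
  refine tr_unique f (D.obj PUnit.unit).hom x₀ x₁ hx v.1 v.2 _
    (D.φ (i := PUnit.unit) (j := PUnit.unit) x₀ x₁ hx v).2 ι ?_
  rw [φ_nat D ι x₀ x₁ hx v]
  have hv' : (ι ≫ v.1) ≫ (D.obj PUnit.unit).hom = ι ≫ x₀ := by rw [Category.assoc, v.2]
  refine (φ_congr D _ rfl rfl hι.symm ⟨ι ≫ v.1, hv'⟩ ⟨ι ≫ v.1, hv'⟩ rfl).trans ?_
  exact φ_self_val D (ι ≫ x₀) ⟨ι ≫ v.1, hv'⟩

end any

end Groth.Agent.Helper21.EtUH
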