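import Mathlib
import Groth.Agent.Lib.Helper21.EtUH1

/-!
# Topological invariance of the étale site, part 2: effectivity of étale descent data relative to
a universal homeomorphism (helper21)
-/

set_option autoImplicit false
set_option backward.isDefEq.respectTransparency false
set_option backward.isDefEq.respectTransparency.types false
set_option linter.style.haveILetI false
set_option linter.unusedSectionVars false

open CategoryTheory CategoryTheory.Limits AlgebraicGeometry

universe u

namespace Groth.Agent.Helper21.EtUH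

open Desc Groth.Agent.Helper21.DescA Groth.Agent.Helper21.EtLoc Groth.Agent.Helper21.EtFpqc
  Groth.Agent.Helper21.EtStalk Groth.Agent.Helper21.EtFin Groth.Agent.Helper21.EtRef
  Groth.Agent.Helper21.EtInt Groth.Agent.Helper16.NilLift

section eff

variable {X Y : Scheme.{u}} (f : X ⟶ Y) [IsIntegralHom f] [UniversallyInjective f]
  (D : SchDDFam (fun _ : PUnit.{1} => f)) [Etale (D.obj PUnit.unit).hom]

/-- The canonical datum of an open subscheme maps to the datum. -/
noncomputable def subHom {W : Scheme.{u}} (j : W ⟶ (D.obj PUnit.unit).left) [IsOpenImmersion j] :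
    canDD f (j ≫ (D.obj PUnit.unit).hom) ⟶ D where
  hom _ := Over.homMk j rfl
  comm := fun T i k x₀ x₁ hx v w hw => by
    cases i; cases k
    have hw' : w.1 = v.1 ≫ j := hw
    change _ = _ ≫ j
    rw [φ_eq_tr f D x₀ x₁ hx w, canDD_φ_val]
    symm
    obtain ⟨T₁, κ, hκ, e⟩ := tr_agree f (j ≫ (D.obj PUnit.unit).hom) x₀ x₁ hx v.1 v.2
    refine tr_unique f (D.obj PUnit.unit).hom x₀ x₁ hx w.1 w.2 _ ?_ κ ?_
    · rw [Category.assoc]
      exact tr_hom f (j ≫ (D.obj PUnit.unit).hom) x₀ x₁ hx v.1 v.2
    · rw [hw', ← Category.assoc, e, Category.assoc]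

variable [Surjective f]

/-- Effectivity over an affine base. -/
theorem exists_cone_uh_affine [IsAffine Y] : ∃ c : Cone D, Etale c.U.hom := by
  haveI : IsAffine X := isAffine_of_isAffineHom f
  have hfs : SGA1.UnivSubmersive f := univSubmersive_of_univClosed_surj f
  refine exists_cone_of_pcones (fun _ => hfs) D (fun i v => ?_)
  cases i
  obtain ⟨W, hW, hvW, -⟩ := exists_isAffineOpen_mem_and_subset (x := v) (U := ⊤) trivial
  haveI : IsAffine (W : Scheme.{u}) := hW
  haveI : Etale (W.ι ≫ (D.obj PUnit.unit).hom) := inferInstance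
  haveI : IsSeparated ((canDD f (W.ι ≫ (D.obj PUnit.unit).hom)).obj PUnit.unit).hom :=
    inferInstanceAs (IsSeparated (W.ι ≫ (D.obj PUnit.unit).hom))
  haveI : QuasiCompact ((canDD f (W.ι ≫ (D.obj PUnit.unit).hom)).obj PUnit.unit).hom :=
    inferInstanceAs (QuasiCompact (W.ι ≫ (D.obj PUnit.unit).hom))
  haveI : Etale ((canDD f (W.ι ≫ (D.obj PUnit.unit).hom)).obj PUnit.unit).hom :=
    inferInstanceAs (Etale (W.ι ≫ (D.obj PUnit.unit).hom))
  obtain ⟨c, hc⟩ := exists_cone_of_integral_surjective f
    (canDD f (W.ι ≫ (D.obj PUnit.unit).hom))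
  refine ⟨PCone.ofSub (subHom f D W.ι) (fun i => inferInstanceAs (IsOpenImmersion W.ι)) c hc, ?_⟩
  change v ∈ Set.range W.ι.base
  rw [Scheme.Opens.range_ι]
  exact hvW

/-- **Effectivity**: every descent datum relative to a universal homeomorphism on an étale scheme
is effective. -/
theorem exists_cone_uh : ∃ c : Cone D, Etale c.U.hom := by
  have hfs : SGA1.UnivSubmersive f := univSubmersive_of_univClosed_surj f
  refine exists_cone_of_baseChange (fun _ => hfs) D (A := Y.affineOpens)
    (fun a => ((a.1 : Y.Opens) : Scheme.{u})) (fun a => a.1.ι) (fun s => ?_) (fun a => ?_)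
  · obtain ⟨W, hW, hsW, -⟩ := exists_isAffineOpen_mem_and_subset (x := s) (U := ⊤) trivial
    refine ⟨⟨W, hW⟩, ?_⟩
    rw [Scheme.Opens.range_ι]
    exact hsW
  · haveI : IsAffine ((a.1 : Y.Opens) : Scheme.{u}) := a.2
    haveI : Etale ((baseChange D a.1.ι).obj PUnit.unit).hom :=
      inferInstanceAs (Etale (pullback.snd (D.obj PUnit.unit).hom (pullback.fst f a.1.ι)))
    haveI : UniversallyInjective (pullback.snd f a.1.ι) :=
      MorphismProperty.pullback_snd (P := @UniversallyInjective) _ _ inferInstance
    exact exists_cone_uh_affine (pullback.snd f a.1.ι) (baseChange D a.1.ι)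

end eff

end Groth.Agent.Helper21.EtUH
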