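import Mathlib
import Groth.Agent.Lib.Helper21.EtUH2
import Groth.Agent.S0076
import Groth.Agent.S0283

/-!
# Topological invariance of the étale site, part 3: base change along a universal homeomorphism
is an equivalence of categories of étale schemes and of finite étale covers (helper21)
-/

set_option autoImplicit false
set_option backward.isDefEq.respectTransparency false
set_option backward.isDefEq.respectTransparency.types false
set_option linter.style.haveILetI false
set_option linter.unusedSectionVars false

open CategoryTheory CategoryTheory.Limits AlgebraicGeometry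

universe u

namespace Groth.Agent.Helper21.EtUH

open Desc Groth.Agent.Helper21.DescA Groth.Agent.Helper21.EtLoc Groth.Agent.Helper21.EtFpqc
  Groth.Agent.Helper21.EtStalk Groth.Agent.Helper21.EtFin Groth.Agent.Helper21.EtRef
  Groth.Agent.Helper21.EtInt

section Equiv

variable {X Y : Scheme.{u}} (f : X ⟶ Y) [IsIntegralHom f] [UniversallyInjective f]
  [Surjective f]

theorem full_faithful_comp (P : MorphismProperty Scheme.{u}) (hP : P ≤ @Etale) :
    (MorphismProperty.Over.forget P ⊤ Y ⋙ Over.pullback f).Full ∧
      (MorphismProperty.Over.forget P ⊤ Y ⋙ Over.pullback f).Faithful := by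
  constructor
  · constructor
    intro U V h
    haveI : Etale ((MorphismProperty.Over.forget P ⊤ Y).obj V).hom := hP _ V.prop
    obtain ⟨φ, hφ⟩ := (Groth.Agent.S0076.result f ((MorphismProperty.Over.forget P ⊤ Y).obj V)
      ((MorphismProperty.Over.forget P ⊤ Y).obj U)).2 h
    obtain ⟨g, rfl⟩ := (MorphismProperty.Over.forget P ⊤ Y).map_surjective φ
    exact ⟨g, hφ⟩
  · constructor
    intro U V g g' h
    haveI : Etale ((MorphismProperty.Over.forget P ⊤ Y).obj V).hom := hP _ V.prop
    have h' := (Groth.Agent.S0076.result f ((MorphismProperty.Over.forget P ⊤ Y).obj V)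
      ((MorphismProperty.Over.forget P ⊤ Y).obj U)).1 h
    exact (MorphismProperty.Over.forget P ⊤ Y).map_injective h'

set_option backward.isDefEq.respectTransparency.types false in
theorem full_pullback (P : MorphismProperty Scheme.{u}) [P.IsStableUnderBaseChange]
    (hP : P ≤ @Etale) : (MorphismProperty.Over.pullback P ⊤ f).Full := by
  let e : MorphismProperty.Over.pullback P ⊤ f ⋙ MorphismProperty.Over.forget P ⊤ X ≅
      MorphismProperty.Over.forget P ⊤ Y ⋙ Over.pullback f :=
    MorphismProperty.Over.pullbackCompForgetIso (P := P) (Q := ⊤) f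
  haveI := (full_faithful_comp f P hP).1
  haveI : (MorphismProperty.Over.pullback P ⊤ f ⋙ MorphismProperty.Over.forget P ⊤ X).Full :=
    Functor.Full.of_iso e.symm
  exact Functor.Full.of_comp_faithful (MorphismProperty.Over.pullback P ⊤ f)
    (MorphismProperty.Over.forget P ⊤ X)

set_option backward.isDefEq.respectTransparency.types false in
theorem faithful_pullback (P : MorphismProperty Scheme.{u}) [P.IsStableUnderBaseChange]
    (hP : P ≤ @Etale) : (MorphismProperty.Over.pullback P ⊤ f).Faithful := by
  let e : MorphismProperty.Over.pullback P ⊤ f ⋙ MorphismProperty.Over.forget P ⊤ X ≅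
      MorphismProperty.Over.forget P ⊤ Y ⋙ Over.pullback f :=
    MorphismProperty.Over.pullbackCompForgetIso (P := P) (Q := ⊤) f
  haveI := (full_faithful_comp f P hP).2
  haveI : (MorphismProperty.Over.pullback P ⊤ f ⋙
      MorphismProperty.Over.forget P ⊤ X).Faithful :=
    Functor.Faithful.of_iso e.symm
  exact Functor.Faithful.of_comp (MorphismProperty.Over.pullback P ⊤ f)
    (MorphismProperty.Over.forget P ⊤ X)

theorem essSurj_bc : (EtCoh.bc f).EssSurj := by
  constructor
  intro V'
  haveI : Etale V'.hom := V'.prop
  haveI : Etale ((canDD f V'.hom).obj PUnit.unit).hom := inferInstanceAs (Etale V'.hom)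
  obtain ⟨c, hc⟩ := exists_cone_uh f (canDD f V'.hom)
  have hp : IsPullback (c.π PUnit.unit) V'.hom c.U.hom f := (c.isPullback PUnit.unit).flip
  haveI := hc
  let U : Y.Etale := Scheme.Etale.mk c.U.hom
  refine ⟨U, ⟨?_⟩⟩
  exact MorphismProperty.Over.isoMk hp.isoPullback.symm hp.isoPullback_inv_snd

/-- **S0075**: topological invariance of the small étale site. -/
theorem main0075 : (EtCoh.bc f).IsEquivalence := by
  haveI : (EtCoh.bc f).Full := full_pullback f EtCoh.etaleMP le_rfl
  haveI : (EtCoh.bc f).Faithful := faithful_pullback f EtCoh.etaleMP le_rfl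
  haveI := essSurj_bc f
  exact {}

theorem essSurj_restrict : (FEt.restrict f).EssSurj := by
  constructor
  intro V'
  haveI : IsFinite V'.hom := V'.prop.1
  haveI : Etale V'.hom := V'.prop.2
  haveI : Etale ((canDD f V'.hom).obj PUnit.unit).hom := inferInstanceAs (Etale V'.hom)
  obtain ⟨c, hc⟩ := exists_cone_uh f (canDD f V'.hom)
  have hfs : SGA1.UnivSubmersive f := univSubmersive_of_univClosed_surj f
  have hp0 : IsPullback V'.hom (c.π PUnit.unit) f c.U.hom := c.isPullback PUnit.unit
  have hp : IsPullback (c.π PUnit.unit) V'.hom c.U.hom f := hp0.flip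
  haveI := hc
  haveI hsep : IsSeparated c.U.hom :=
    Groth.Agent.Helper21.SubmDesc.separated_descends.of_isPullback hp0 hfs inferInstance
  haveI huc : UniversallyClosed c.U.hom :=
    Groth.Agent.Helper21.SubmDesc.universallyClosed_descends.of_isPullback hp0 hfs inferInstance
  haveI : IsProper c.U.hom := {}
  haveI : LocallyQuasiFinite c.U.hom :=
    Groth.Agent.Helper21.DescQA.locallyQuasiFinite_of_etale _
  have hfin : IsFinite c.U.hom := IsFinite.of_isProper_of_locallyQuasiFinite c.U.hom
  let U : FEt.Cat Y := MorphismProperty.Over.mk ⊤ c.U.hom ⟨hfin, hc⟩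
  refine ⟨U, ⟨?_⟩⟩
  exact MorphismProperty.Over.isoMk hp.isoPullback.symm hp.isoPullback_inv_snd

/-- **S0289**. -/
theorem main0289 : (FEt.restrict f).IsEquivalence := by
  haveI : (FEt.restrict f).Full := (Groth.Agent.S0283.result f).1
  haveI : (FEt.restrict f).Faithful := (Groth.Agent.S0283.result f).2
  haveI := essSurj_restrict f
  exact {}

end Equiv

end Groth.Agent.Helper21.EtUH
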