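import Mathlib
import Groth.Agent.Lib.Helper21.DescUI
import Groth.Agent.Lib.Helper21.DescEt
import Groth.Agent.Lib.Helper16.Sch.UHLift

/-!
# The canonical descent datum on an étale scheme relative to a universally injective morphism
(helper21)
-/

set_option autoImplicit false
set_option backward.isDefEq.respectTransparency false
set_option backward.isDefEq.respectTransparency.types false
set_option linter.style.haveILetI false
set_option linter.unusedSectionVars false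

open CategoryTheory CategoryTheory.Limits AlgebraicGeometry

universe u

namespace Groth.Agent.Helper21.EtUI

open Desc Groth.Agent.Helper21.DescA

variable {S S' : Scheme.{u}} (g : S' ⟶ S) (X' : Over S')

/-- Two `T`-points agree on a surjective cover of `T`. -/
def Rel {T : Scheme.{u}} (v₀ v₁ : T ⟶ X'.left) : Prop :=
  ∃ (T' : Scheme.{u}) (e : T' ⟶ T), Surjective e ∧ e ≫ v₀ = e ≫ v₁

variable {X'}

theorem Rel.refl {T : Scheme.{u}} (v : T ⟶ X'.left) : Rel X' v v :=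
  ⟨T, 𝟙 T, inferInstance, rfl⟩

theorem Rel.symm {T : Scheme.{u}} {v₀ v₁ : T ⟶ X'.left} (h : Rel X' v₀ v₁) : Rel X' v₁ v₀ := by
  obtain ⟨T', e, he, h⟩ := h
  exact ⟨T', e, he, h.symm⟩

theorem Rel.trans {T : Scheme.{u}} {v₀ v₁ v₂ : T ⟶ X'.left} (h : Rel X' v₀ v₁)
    (h' : Rel X' v₁ v₂) : Rel X' v₀ v₂ := by
  obtain ⟨T₁, e₁, he₁, h₁⟩ := h
  obtain ⟨T₂, e₂, he₂, h₂⟩ := h'
  haveI := he₁
  haveI := he₂
  refine ⟨pullback e₁ e₂, pullback.fst e₁ e₂ ≫ e₁, inferInstance, ?_⟩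
  rw [Category.assoc, h₁, ← Category.assoc, pullback.condition, Category.assoc, h₂,
    ← Category.assoc, ← pullback.condition, Category.assoc]

theorem Rel.comp {T T₂ : Scheme.{u}} {v₀ v₁ : T ⟶ X'.left} (h : Rel X' v₀ v₁) (a : T₂ ⟶ T) :
    Rel X' (a ≫ v₀) (a ≫ v₁) := by
  obtain ⟨T₁, e₁, he₁, h₁⟩ := h
  haveI := he₁
  refine ⟨pullback e₁ a, pullback.snd e₁ a, inferInstance, ?_⟩
  rw [← Category.assoc, ← pullback.condition, Category.assoc, h₁, ← Category.assoc,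
    pullback.condition, Category.assoc]

theorem Rel.eq [Etale X'.hom] {T : Scheme.{u}} {v₁ v₁' : T ⟶ X'.left} (h : Rel X' v₁ v₁')
    (hs : v₁ ≫ X'.hom = v₁' ≫ X'.hom) : v₁ = v₁' := by
  obtain ⟨T₁, e₁, he₁, h₁⟩ := h
  exact Groth.Agent.Helper21.DescEt.eq_of_surjective_comp e₁ he₁.surj X'.hom hs h₁

variable [UniversallyInjective g] [Etale X'.hom]

theorem exists_rel {T : Scheme.{u}} (x₀ x₁ : T ⟶ S') (h : x₀ ≫ g = x₁ ≫ g)
    (v₀ : T ⟶ X'.left) (hv₀ : v₀ ≫ X'.hom = x₀) :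
    ∃ v₁ : T ⟶ X'.left, v₁ ≫ X'.hom = x₁ ∧ Rel X' v₀ v₁ := by
  haveI : IsSeparated g := Groth.Agent.Helper21.DescUI.isSeparated_of_univInj g
  haveI : Surjective (pullback.diagonal g) := (UniversallyInjective.iff_diagonal g).mp inferInstance
  have hc : pullback.fst (pullback.lift x₀ x₁ h) (pullback.diagonal g) ≫ pullback.lift x₀ x₁ h =
      pullback.snd (pullback.lift x₀ x₁ h) (pullback.diagonal g) ≫ pullback.diagonal g :=
    pullback.condition
  have h0 : pullback.fst (pullback.lift x₀ x₁ h) (pullback.diagonal g) ≫ x₀ =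
      pullback.snd (pullback.lift x₀ x₁ h) (pullback.diagonal g) := by
    have := congrArg (fun t => t ≫ pullback.fst g g) hc
    simpa using this
  have h1 : pullback.fst (pullback.lift x₀ x₁ h) (pullback.diagonal g) ≫ x₁ =
      pullback.snd (pullback.lift x₀ x₁ h) (pullback.diagonal g) := by
    have := congrArg (fun t => t ≫ pullback.snd g g) hc
    simpa using this
  obtain ⟨v₁, ⟨hv1, hv2⟩, -⟩ := Groth.Agent.Helper16.UHLift.exists_unique_lift_univHomeo X'.hom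
    (pullback.fst (pullback.lift x₀ x₁ h) (pullback.diagonal g))
    (pullback.fst (pullback.lift x₀ x₁ h) (pullback.diagonal g) ≫ v₀) x₁
    (by rw [Category.assoc, hv₀, h1, h0])
  exact ⟨v₁, hv2, _, _, inferInstance, hv1.symm⟩

/-- The gluing maps of the canonical descent datum. -/
noncomputable def φc {T : Scheme.{u}} (x₀ x₁ : T ⟶ S') (h : x₀ ≫ g = x₁ ≫ g)
    (v : Lifts X' x₀) : Lifts X' x₁ :=
  ⟨(exists_rel g x₀ x₁ h v.1 v.2).choose, (exists_rel g x₀ x₁ h v.1 v.2).choose_spec.1⟩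

theorem φc_rel {T : Scheme.{u}} (x₀ x₁ : T ⟶ S') (h : x₀ ≫ g = x₁ ≫ g) (v : Lifts X' x₀) :
    Rel X' v.1 (φc g x₀ x₁ h v).1 := (exists_rel g x₀ x₁ h v.1 v.2).choose_spec.2

theorem φc_uniq {T : Scheme.{u}} (x₀ x₁ : T ⟶ S') (h : x₀ ≫ g = x₁ ≫ g) (v : Lifts X' x₀)
    (v' : T ⟶ X'.left) (h1 : v' ≫ X'.hom = x₁) (h2 : Rel X' v.1 v') :
    (φc g x₀ x₁ h v).1 = v' :=
  Rel.eq ((φc_rel g x₀ x₁ h v).symm.trans h2) (by rw [(φc g x₀ x₁ h v).2, h1])

variable (X') in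
/-- The canonical descent datum on an étale `S'`-scheme relative to a universally injective
morphism `S' ⟶ S`. -/
noncomputable def canDD : SchDDFam (fun _ : PUnit.{u + 1} => g) where
  obj _ := X'
  φ T _ _ x₀ x₁ h :=
    { toFun := φc g x₀ x₁ h
      invFun := φc g x₁ x₀ h.symm
      left_inv := fun v => Subtype.ext (φc_uniq g x₁ x₀ h.symm _ v.1 v.2
        (φc_rel g x₀ x₁ h v).symm)
      right_inv := fun v => Subtype.ext (φc_uniq g x₀ x₁ h _ v.1 v.2
        (φc_rel g x₁ x₀ h.symm v).symm) }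
  φ_natural T T' a _ _ x₀ x₁ h y₀ y₁ hy₀ hy₁ h' v v' hv' := by
    subst hy₀ hy₁
    exact φc_uniq g (a ≫ x₀) (a ≫ x₁) h' v' (a ≫ (φc g x₀ x₁ h v).1)
      (by rw [Category.assoc, (φc g x₀ x₁ h v).2])
      (by rw [hv']; exact (φc_rel g x₀ x₁ h v).comp a)
  φ_self T _ x v := Subtype.ext (φc_uniq g x x rfl v v.1 v.2 (Rel.refl _))
  φ_comp T _ _ _ x₀ x₁ x₂ h₀₁ h₁₂ v := Subtype.ext
    (φc_uniq g x₀ x₂ (h₀₁.trans h₁₂) v _ (φc g x₁ x₂ h₁₂ _).2
      ((φc_rel g x₀ x₁ h₀₁ v).trans (φc_rel g x₁ x₂ h₁₂ _))).symm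

end Groth.Agent.Helper21.EtUI
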