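import Mathlib
import Groth.Prelude.Def_EtBase
import Groth.Agent.Lib.Helper21.EtUI1
import Groth.Agent.Lib.Helper21.EtFpqc4

/-!
# Base change along a universally injective fpqc morphism is an equivalence of étale sites
(helper21)
-/

set_option autoImplicit false
set_option backward.isDefEq.respectTransparency false
set_option backward.isDefEq.respectTransparency.types false
set_option linter.style.haveILetI false
set_option linter.unusedSectionVars false

open CategoryTheory CategoryTheory.Limits AlgebraicGeometry MorphismProperty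

universe u

namespace Groth.Agent.Helper21.EtUI

open Desc Groth.Agent.Helper21.DescA

variable {S S' : Scheme.{u}} (g : S' ⟶ S)

theorem bc_map_fst {U V : S.Etale} (φ : U ⟶ V) :
    ((EtCoh.bc g).map φ).left ≫ pullback.fst V.hom g = pullback.fst U.hom g ≫ φ.left := by
  dsimp [EtCoh.bc]
  exact pullback.lift_fst _ _ _

theorem bc_map_snd {U V : S.Etale} (φ : U ⟶ V) :
    ((EtCoh.bc g).map φ).left ≫ pullback.snd V.hom g = pullback.snd U.hom g := by
  dsimp [EtCoh.bc]
  exact pullback.lift_snd _ _ _

/-- Two points of a base change along a universally injective morphism with the same first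
component agree on a surjective cover. -/
theorem exists_surj_eq [UniversallyInjective g] {Y T : Scheme.{u}} (p : Y ⟶ S)
    (a b : T ⟶ pullback p g) (hab : a ≫ pullback.fst p g = b ≫ pullback.fst p g) :
    ∃ (T' : Scheme.{u}) (e : T' ⟶ T), Surjective e ∧ e ≫ a = e ≫ b := by
  haveI : Surjective (pullback.diagonal g) := (UniversallyInjective.iff_diagonal g).mp inferInstance
  have h : (a ≫ pullback.snd p g) ≫ g = (b ≫ pullback.snd p g) ≫ g := by
    rw [Category.assoc, ← pullback.condition, ← Category.assoc, hab, Category.assoc,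
      pullback.condition, Category.assoc]
  have hc : pullback.fst (pullback.lift _ _ h) (pullback.diagonal g) ≫ pullback.lift _ _ h =
      pullback.snd (pullback.lift _ _ h) (pullback.diagonal g) ≫ pullback.diagonal g :=
    pullback.condition
  have h0 : pullback.fst (pullback.lift _ _ h) (pullback.diagonal g) ≫ a ≫ pullback.snd p g =
      pullback.snd (pullback.lift _ _ h) (pullback.diagonal g) := by
    have := congrArg (fun t => t ≫ pullback.fst g g) hc
    simpa using this
  have h1 : pullback.fst (pullback.lift _ _ h) (pullback.diagonal g) ≫ b ≫ pullback.snd p g =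
      pullback.snd (pullback.lift _ _ h) (pullback.diagonal g) := by
    have := congrArg (fun t => t ≫ pullback.snd g g) hc
    simpa using this
  refine ⟨_, pullback.fst (pullback.lift _ _ h) (pullback.diagonal g), inferInstance, ?_⟩
  apply pullback.hom_ext
  · rw [Category.assoc, Category.assoc, hab]
  · rw [Category.assoc, Category.assoc, h0, h1]

variable [Flat g] [Surjective g] [QuasiCompact g]

theorem bc_faithful : (EtCoh.bc g).Faithful := by
  refine ⟨fun {U V} φ φ' h => ?_⟩
  apply MorphismProperty.Over.Hom.ext
  apply Groth.Agent.Helper21.EtFpqc.ext1 (pullback.fst U.hom g)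
  rw [← bc_map_fst, ← bc_map_fst, h]

variable [UniversallyInjective g]

theorem bc_full : (EtCoh.bc g).Full := by
  refine ⟨fun {U V} ψ => ?_⟩
  haveI : Etale V.hom := V.prop
  have hψ : ψ.left ≫ pullback.snd V.hom g = pullback.snd U.hom g := Over.w ψ.hom
  have hGV : (ψ.left ≫ pullback.fst V.hom g) ≫ V.hom = pullback.fst U.hom g ≫ U.hom := by
    rw [Category.assoc, pullback.condition, ← Category.assoc, hψ, pullback.condition]
  obtain ⟨φ₀, hφ₀, -⟩ := Groth.Agent.Helper21.EtFpqc.glue1 (pullback.fst U.hom g)
    (ψ.left ≫ pullback.fst V.hom g) (fun T a b hab => by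
      obtain ⟨T', e, he, hab'⟩ := exists_surj_eq g U.hom a b hab
      have hGV' : ψ.left ≫ pullback.fst V.hom g ≫ V.hom = pullback.fst U.hom g ≫ U.hom := by
        rw [← Category.assoc]; exact hGV
      have e1 : ∀ c : T ⟶ pullback U.hom g, (c ≫ ψ.left ≫ pullback.fst V.hom g) ≫ V.hom =
          (c ≫ pullback.fst U.hom g) ≫ U.hom := fun c => by
        simp only [Category.assoc]
        rw [hGV']
      refine Groth.Agent.Helper21.DescEt.eq_of_surjective_comp e he.surj V.hom ?_ ?_
      · rw [e1 a, e1 b, hab]
      · rw [← Category.assoc, hab', Category.assoc])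
  have hw : φ₀ ≫ V.hom = U.hom := by
    apply Groth.Agent.Helper21.EtFpqc.ext1 (pullback.fst U.hom g)
    rw [← Category.assoc, hφ₀, hGV]
  refine ⟨MorphismProperty.Over.homMk φ₀ hw trivial, ?_⟩
  apply MorphismProperty.Over.Hom.ext
  apply pullback.hom_ext
  · rw [bc_map_fst]
    exact hφ₀
  · rw [bc_map_snd, hψ]

theorem bc_essSurj : (EtCoh.bc g).EssSurj := by
  refine ⟨fun X' => ?_⟩
  haveI : Etale X'.hom := X'.prop
  haveI : Etale (X'.toComma : Over S').hom := X'.prop
  obtain ⟨c⟩ := Groth.Agent.Helper21.DescUI.cone_of_univInj g (canDD g (X'.toComma : Over S'))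
  have hpb : IsPullback X'.hom (c.π PUnit.unit) g c.U.hom := c.isPullback PUnit.unit
  have hQ : (@Surjective ⊓ @Flat ⊓ @QuasiCompact : MorphismProperty Scheme.{u}) g :=
    ⟨⟨inferInstance, inferInstance⟩, inferInstance⟩
  haveI : Etale c.U.hom := of_isPullback_of_descendsAlong (P := @Etale)
    (Q := @Surjective ⊓ @Flat ⊓ @QuasiCompact) hpb hQ inferInstance
  refine ⟨Scheme.Etale.mk c.U.hom, ⟨?_⟩⟩
  refine MorphismProperty.Over.isoMk hpb.flip.isoPullback.symm ?_
  exact hpb.flip.isoPullback_inv_snd

theorem bc_isEquivalence : (EtCoh.bc g).IsEquivalence where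
  faithful := bc_faithful g
  full := bc_full g
  essSurj := bc_essSurj g

end Groth.Agent.Helper21.EtUI
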