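import Mathlib
import Groth.Agent.Lib.Helper4.SmEt

/-!
# η-étale morphisms and `p^n Ω` (affine case)

Lemmas for S14383: étaleness of an unramified map between (locally standard) smooth algebras of the
same relative dimension, the fraction field of a DVR as localization away from a uniformizer, and
the two implications between "η-étale" and "`p^n Ω_{R/A} ⊆ ϖ p^n Ω_{R/A}`".
-/

set_option autoImplicit false
set_option linter.style.haveILetI false
open scoped TensorProduct
open AlgebraicGeometry
universe u

namespace Groth.Agent.Helper21.EtaEt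


theorem etale_of_standardSmooth (d : ℕ) (K B C : Type u) [CommRing K] [CommRing B] [CommRing C]
    [Algebra K B] [Algebra K C] [Algebra B C] [IsScalarTower K B C]
    [Algebra.IsStandardSmoothOfRelativeDimension d K B]
    [Algebra.IsStandardSmoothOfRelativeDimension d K C]
    [Algebra.FormallyUnramified B C] : Algebra.Etale B C := by
  have : Algebra.FormallySmooth B C :=
    Groth.Agent.Helper4.SmEt.formallySmooth_of_standardSmooth d K B C
  have : Algebra.IsStandardSmooth K B :=
    Algebra.IsStandardSmoothOfRelativeDimension.isStandardSmooth d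
  have : Algebra.IsStandardSmooth K C :=
    Algebra.IsStandardSmoothOfRelativeDimension.isStandardSmooth d
  have : Algebra.FinitePresentation B C :=
    Algebra.FinitePresentation.of_restrict_scalars_finitePresentation K B C
  have : Algebra.FormallyEtale B C := .of_formallyUnramified_and_formallySmooth
  exact ⟨inferInstance, inferInstance⟩

/-- Ring-hom version. -/
theorem etale_of_standardSmooth_ringHom (d : ℕ) {K B C : Type u} [CommRing K] [CommRing B]
    [CommRing C] (f : K →+* B) (g : B →+* C)
    (hf : f.IsStandardSmoothOfRelativeDimension d)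
    (hgf : (g.comp f).IsStandardSmoothOfRelativeDimension d)
    (hg : g.FormallyUnramified) : g.Etale := by
  algebraize [f, g, g.comp f]
  exact etale_of_standardSmooth d K B C

/-- `K → B` and `K → C` locally standard smooth of relative dimension `d`, `C` formally unramified
over `B`: then `B → C` is étale. -/
theorem etale_of_locally_standardSmooth (d : ℕ) {K B C : Type u} [CommRing K] [CommRing B]
    [CommRing C] (f : K →+* B) (g : B →+* C)
    (hf : RingHom.Locally (RingHom.IsStandardSmoothOfRelativeDimension d) f)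
    (hgf : RingHom.Locally (RingHom.IsStandardSmoothOfRelativeDimension d) (g.comp f))
    (hg : g.FormallyUnramified) : g.Etale := by
  obtain ⟨sB, hsB, hB⟩ := hf
  obtain ⟨sC, hsC, hC⟩ := hgf
  -- localize on the target
  refine RingHom.Etale.ofLocalizationSpanTarget g sC hsC ?_
  rintro ⟨s, hs⟩
  -- localize on the source
  refine RingHom.Etale.ofLocalizationSpan _ sB hsB ?_
  rintro ⟨t, ht⟩
  dsimp only
  set φ : B →+* Localization.Away s := (algebraMap C (Localization.Away s)).comp g with hφ
  have hsq : (Localization.awayMap φ t).comp (algebraMap B (Localization.Away t)) =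
      (algebraMap (Localization.Away s) (Localization.Away (φ t))).comp φ := by
    simp [Localization.awayMap, IsLocalization.Away.map, IsLocalization.map_comp]
  refine etale_of_standardSmooth_ringHom d ((algebraMap B (Localization.Away t)).comp f)
    (Localization.awayMap φ t) (hB t ht) ?_ ?_
  · rw [← RingHom.comp_assoc, hsq, hφ, RingHom.comp_assoc, RingHom.comp_assoc]
    exact (RingHom.isStandardSmoothOfRelativeDimension_stableUnderCompositionWithLocalizationAway
      d).2 _ (φ t) _ (hC s hs)
  · refine RingHom.FormallyUnramified.of_comp (f := algebraMap B (Localization.Away t)) ?_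
    rw [hsq, hφ]
    refine RingHom.FormallyUnramified.comp (RingHom.FormallyUnramified.comp hg ?_) ?_
    · exact RingHom.FormallyUnramified.holdsForLocalizationAway _ s
    · exact RingHom.FormallyUnramified.holdsForLocalizationAway _ (φ t)



theorem isLocalization_away_fractionRing (V : Type u) [CommRing V] [IsDomain V]
    [IsDiscreteValuationRing V] (ϖ : V) (hϖ : Irreducible ϖ) :
    IsLocalization.Away ϖ (FractionRing V) := by
  haveI : IsLocalization (nonZeroDivisors V) (Localization.Away ϖ) := by
    refine IsLocalization.of_le (Submonoid.powers ϖ) (nonZeroDivisors V) ?_ ?_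
    · rw [Submonoid.powers_le]
      exact mem_nonZeroDivisors_of_ne_zero hϖ.ne_zero
    · intro r hr
      obtain ⟨k, u, rfl⟩ := IsDiscreteValuationRing.eq_unit_mul_pow_irreducible
        (nonZeroDivisors.ne_zero hr) hϖ
      rw [map_mul, map_pow]
      exact (u.isUnit.map _).mul ((IsLocalization.Away.algebraMap_isUnit ϖ).pow k)
  exact IsLocalization.isLocalization_of_algEquiv (Submonoid.powers ϖ)
    (IsLocalization.algEquiv (nonZeroDivisors V) (Localization.Away ϖ) (FractionRing V))



/-- Part 1: η-étale ⇒ `p^n Ω ⊆ ϖ p^n Ω`. -/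
theorem pow_smul_le_of_etale (V : Type u) [CommRing V] [IsDomain V] [IsDiscreteValuationRing V]
    (ϖ : V) (hϖ : Irreducible ϖ) (p : ℕ) [CharP (IsLocalRing.ResidueField V) p]
    (A : Type u) [CommRing A] [Algebra V A]
    (R : Type u) [CommRing R] [Algebra V R] [Algebra.FiniteType V R] [Algebra A R]
    [IsScalarTower V A R] (a : R)
    (ha : Ideal.span {a} ⊔ Ideal.span {algebraMap V R ϖ} = ⊤)
    (het : ((algebraMap R (Localization.Away (a * algebraMap V R ϖ))).comp
      (algebraMap A R)).Etale) :
    ∃ n : ℕ, Ideal.span {((p : R)) ^ n} • (⊤ : Submodule R (Ω[R⁄A])) ≤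
        Ideal.span {algebraMap V R ϖ * (p : R) ^ n} • (⊤ : Submodule R (Ω[R⁄A])) := by
  classical
  set ϖR := algebraMap V R ϖ with hϖR
  haveI : Algebra.Etale A (Localization.Away (a * ϖR)) := by
    rw [← RingHom.etale_algebraMap, IsScalarTower.algebraMap_eq A R (Localization.Away (a * ϖR))]
    exact het
  haveI : Subsingleton Ω[Localization.Away (a * ϖR)⁄A] := inferInstance
  haveI : Algebra.FiniteType A R := Algebra.FiniteType.of_restrictScalars_finiteType V A R
  haveI : Module.Finite R Ω[R⁄A] := inferInstance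
  have hkill : ∀ ω : Ω[R⁄A], ∃ k : ℕ, (a * ϖR) ^ k • ω = 0 := by
    intro ω
    obtain ⟨r, ⟨k, rfl⟩, hr⟩ := (IsLocalizedModule.subsingleton_iff (Submonoid.powers (a * ϖR))
      (KaehlerDifferential.map A A R (Localization.Away (a * ϖR)))).mp inferInstance ω
    exact ⟨k, hr⟩
  obtain ⟨m, hm⟩ : ∃ m : ℕ, ∀ ω : Ω[R⁄A], (a * ϖR) ^ m • ω = 0 := by
    obtain ⟨s, hs⟩ := (Module.finite_def.mp ‹Module.Finite R Ω[R⁄A]›)
    choose k hk using hkill
    refine ⟨s.sup k, fun ω => ?_⟩
    have : ω ∈ Submodule.span R (s : Set Ω[R⁄A]) := hs ▸ Submodule.mem_top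
    induction this using Submodule.span_induction with
    | mem x hx =>
      have hle : k x ≤ s.sup k := Finset.le_sup hx
      obtain ⟨j, hj⟩ := Nat.exists_eq_add_of_le hle
      rw [hj, pow_add, mul_comm, mul_smul, hk, smul_zero]
    | zero => simp
    | add x y _ _ hx hy => rw [smul_add, hx, hy, add_zero]
    | smul c x _ hx => rw [smul_comm, hx, smul_zero]
  -- `p` is a multiple of `ϖ`
  have hpmem : ((p : ℕ) : V) ∈ IsLocalRing.maximalIdeal V := by
    rw [← IsLocalRing.residue_eq_zero_iff, map_natCast]
    exact CharP.cast_eq_zero _ p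
  rw [hϖ.maximalIdeal_eq, Ideal.mem_span_singleton] at hpmem
  obtain ⟨u, hu⟩ := hpmem
  have hpR : (p : R) = ϖR * algebraMap V R u := by
    rw [hϖR, ← map_mul, ← hu, map_natCast]
  have hc : IsCoprime a ϖR := by
    rw [← Ideal.isCoprime_span_singleton_iff, Ideal.isCoprime_iff_sup_eq]
    exact ha
  obtain ⟨x, y, hxy⟩ := hc.pow_left (m := m)
  refine ⟨m, ?_⟩
  rw [Submodule.smul_le]
  intro r hr ω _
  obtain ⟨c, rfl⟩ := Ideal.mem_span_singleton'.mp hr
  have h0 : (a ^ m * (p : R) ^ m) • ω = 0 := by
    have : a ^ m * (p : R) ^ m = (algebraMap V R u) ^ m * (a * ϖR) ^ m := by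
      rw [hpR]; ring
    rw [this, mul_smul, hm, smul_zero]
  have h1 : (c * (p : R) ^ m) • ω = (ϖR * (p : R) ^ m) • ((c * y) • ω) := by
    have : c * (p : R) ^ m = c * x * (a ^ m * (p : R) ^ m) + (ϖR * (p : R) ^ m) * (c * y) := by
      calc c * (p : R) ^ m = c * (p : R) ^ m * (x * a ^ m + y * ϖR) := by rw [hxy, mul_one]
        _ = _ := by ring
    rw [this, add_smul, mul_smul (c * x), h0, smul_zero, zero_add, mul_smul]
  rw [h1]
  exact Submodule.smul_mem_smul (Ideal.mem_span_singleton_self _) Submodule.mem_top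

/-- transfer along two localizations away from the same element -/
theorem transfer_away {P : ∀ {R S : Type u} [CommRing R] [CommRing S], (R →+* S) → Prop}
    (hP : RingHom.RespectsIso P) {A R : Type u} [CommRing A] [CommRing R] (r : R)
    (S S' : Type u) [CommRing S] [CommRing S'] [Algebra R S] [Algebra R S']
    [IsLocalization.Away r S] [IsLocalization.Away r S'] (f : A →+* R)
    (h : P ((algebraMap R S).comp f)) : P ((algebraMap R S').comp f) := by
  let e : S ≃ₐ[R] S' := IsLocalization.algEquiv (Submonoid.powers r) S S'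
  have h1 : (algebraMap R S') = e.toRingEquiv.toRingHom.comp (algebraMap R S) := by
    ext x
    simp [e]
  rw [h1, RingHom.comp_assoc]
  exact hP.1 _ _ h

attribute [local instance] Algebra.TensorProduct.rightAlgebra in
theorem isLocalization_away_tensor {V : Type u} [CommRing V] (ϖ : V) (K : Type u) [CommRing K]
    [Algebra V K] [IsLocalization.Away ϖ K] (R : Type u) [CommRing R] [Algebra V R] :
    IsLocalization.Away (algebraMap V R ϖ) (K ⊗[V] R) := by
  have := IsLocalization.tensorRight (S := R) (A := K) (Submonoid.powers ϖ)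
  rwa [Algebra.algebraMapSubmonoid, Submonoid.map_powers] at this

attribute [local instance] Algebra.TensorProduct.rightAlgebra in
theorem etale_away_of_kill {V : Type u} [CommRing V] (ϖ : V) (K : Type u) [CommRing K]
    [Algebra V K] [IsLocalization.Away ϖ K]
    (A : Type u) [CommRing A] [Algebra V A] (R : Type u) [CommRing R] [Algebra V R] [Algebra A R]
    [IsScalarTower V A R] (d : ℕ)
    (hA : (algebraMap K (K ⊗[V] A)).Locally (RingHom.IsStandardSmoothOfRelativeDimension d))
    (hR : (algebraMap K (K ⊗[V] R)).Locally (RingHom.IsStandardSmoothOfRelativeDimension d))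
    (a c : R) (hkill : ∀ ω : Ω[R⁄A], c • ω = 0)
    (hc : ∃ k : ℕ, c ∣ (a * algebraMap V R ϖ) ^ k) :
    ((algebraMap R (Localization.Away (a * algebraMap V R ϖ))).comp (algebraMap A R)).Etale := by
  classical
  haveI hlocA := isLocalization_away_tensor ϖ K A
  haveI hlocR := isLocalization_away_tensor ϖ K R
  let fBR : (K ⊗[V] A) →ₐ[K] (K ⊗[V] R) :=
    Algebra.TensorProduct.map (AlgHom.id K K) (IsScalarTower.toAlgHom V A R)
  let C0 := Localization.Away ((1 : K) ⊗ₜ[V] a : K ⊗[V] R)
  haveI : IsLocalization.Away (algebraMap R (K ⊗[V] R) a) C0 :=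
    inferInstanceAs (IsLocalization.Away ((1 : K) ⊗ₜ[V] a : K ⊗[V] R) C0)
  haveI : IsLocalization.Away (a * algebraMap V R ϖ) C0 :=
    IsLocalization.Away.mul (K ⊗[V] R) C0 (algebraMap V R ϖ) a
  refine transfer_away RingHom.Etale.respectsIso (a * algebraMap V R ϖ) C0 _ (algebraMap A R) ?_
  have h1 : (algebraMap R C0).comp (algebraMap A R) =
      ((algebraMap (K ⊗[V] R) C0).comp fBR.toRingHom).comp (algebraMap A (K ⊗[V] A)) := by
    ext x
    simp only [RingHom.comp_apply, IsScalarTower.algebraMap_apply R (K ⊗[V] R) C0]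
    congr 1
  have h2 : ((algebraMap (K ⊗[V] R) C0).comp fBR.toRingHom).comp (algebraMap K (K ⊗[V] A)) =
      (algebraMap (K ⊗[V] R) C0).comp (algebraMap K (K ⊗[V] R)) := by
    rw [RingHom.comp_assoc]
    congr 1
    ext x
    simp [fBR]
  rw [h1]
  refine RingHom.Etale.stableUnderComposition _ _ ?_ ?_
  · exact RingHom.etale_algebraMap.mpr (Algebra.Etale.of_isLocalizationAway (algebraMap V A ϖ))
  · refine etale_of_locally_standardSmooth d (algebraMap K (K ⊗[V] A)) _ hA ?_ ?_
    · rw [h2]
      exact RingHom.locally_stableUnderCompositionWithLocalizationAwayTarget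
        (RingHom.isStandardSmoothOfRelativeDimension_stableUnderCompositionWithLocalizationAway
          d).2 C0 ((1 : K) ⊗ₜ[V] a : K ⊗[V] R) _ hR
    · refine RingHom.FormallyUnramified.of_comp (f := algebraMap A (K ⊗[V] A)) ?_
      rw [← h1]
      letI : Algebra A C0 := ((algebraMap R C0).comp (algebraMap A R)).toAlgebra
      haveI : IsScalarTower A R C0 := IsScalarTower.of_algebraMap_eq' rfl
      show Algebra.FormallyUnramified A C0
      constructor
      rw [IsLocalizedModule.subsingleton_iff (Submonoid.powers (a * algebraMap V R ϖ))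
        (KaehlerDifferential.map A A R C0)]
      intro ω
      obtain ⟨k, q, hq⟩ := hc
      refine ⟨_, ⟨k, rfl⟩, ?_⟩
      show (a * algebraMap V R ϖ) ^ k • ω = 0
      rw [hq, mul_comm, mul_smul, hkill, smul_zero]


/-- Part 2: `p^n Ω ⊆ ϖ p^n Ω` and smooth generic fibres of the same dimension ⇒ η-étale. -/
theorem etale_of_pow_smul_le (V : Type u) [CommRing V] [IsDomain V] [IsDiscreteValuationRing V]
    [CharZero V] (ϖ : V) (hϖ : Irreducible ϖ) (p : ℕ) [Fact p.Prime]
    (A : Type u) [CommRing A] [Algebra V A]
    (R : Type u) [CommRing R] [Algebra V R] [Algebra.FiniteType V R] [Algebra A R]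
    [IsScalarTower V A R] (d : ℕ)
    (hA : SmoothOfRelativeDimension d
        (Spec.map (CommRingCat.ofHom (algebraMap (FractionRing V) (FractionRing V ⊗[V] A)))))
    (hR : SmoothOfRelativeDimension d
        (Spec.map (CommRingCat.ofHom (algebraMap (FractionRing V) (FractionRing V ⊗[V] R)))))
    (n : ℕ) (hn : Ideal.span {((p : R)) ^ n} • (⊤ : Submodule R (Ω[R⁄A])) ≤
        Ideal.span {algebraMap V R ϖ * (p : R) ^ n} • (⊤ : Submodule R (Ω[R⁄A]))) :
    ∃ a : R, Ideal.span {a} ⊔ Ideal.span {algebraMap V R ϖ} = ⊤ ∧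
        ((algebraMap R (Localization.Away (a * algebraMap V R ϖ))).comp (algebraMap A R)).Etale := by
  classical
  set ϖR := algebraMap V R ϖ with hϖR
  haveI : Algebra.FiniteType A R := Algebra.FiniteType.of_restrictScalars_finiteType V A R
  haveI : Module.Finite R Ω[R⁄A] := inferInstance
  set M : Submodule R Ω[R⁄A] := Ideal.span {((p : R)) ^ n} • (⊤ : Submodule R (Ω[R⁄A])) with hM
  have hMfg : M.FG := Submodule.FG.smul (Submodule.fg_span_singleton _) Module.Finite.fg_top
  have hle : M ≤ Ideal.span {ϖR} • M := by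
    rw [hM, ← Submodule.mul_smul, Ideal.span_singleton_mul_span_singleton]
    exact hn
  obtain ⟨a, ha1, ha0⟩ :=
    Submodule.exists_sub_one_mem_and_smul_eq_zero_of_fg_of_le_smul _ M hMfg hle
  refine ⟨a, ?_, ?_⟩
  · rw [Ideal.eq_top_iff_one]
    have : (1 : R) = a + -(a - 1) := by ring
    rw [this]
    exact Submodule.add_mem_sup (Ideal.mem_span_singleton_self a) (neg_mem ha1)
  · haveI := isLocalization_away_fractionRing V ϖ hϖ
    have hA' := (HasRingHomProperty.Spec_iff (P := @SmoothOfRelativeDimension d)).mp hA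
    have hR' := (HasRingHomProperty.Spec_iff (P := @SmoothOfRelativeDimension d)).mp hR
    refine etale_away_of_kill ϖ (FractionRing V) A R d hA' hR' a (a * (p : R) ^ n) ?_ ?_
    · intro ω
      rw [mul_smul]
      exact ha0 _ (Submodule.smul_mem_smul (Ideal.mem_span_singleton_self _) Submodule.mem_top)
    · obtain ⟨e, u, hu⟩ := IsDiscreteValuationRing.eq_unit_mul_pow_irreducible (x := (p : V))
        (Nat.cast_ne_zero.mpr (Fact.out : p.Prime).ne_zero) hϖ
      have hpR : (p : R) = algebraMap V R u * ϖR ^ e := by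
        rw [← map_natCast (algebraMap V R), hu, map_mul, map_pow]
      have huu : algebraMap V R u * algebraMap V R ↑u⁻¹ = 1 := by
        rw [← map_mul, Units.mul_inv, map_one]
      refine ⟨e * n + 1, algebraMap V R (↑(u⁻¹)) ^ n * a ^ (e * n) * ϖR, ?_⟩
      calc (a * ϖR) ^ (e * n + 1)
          = (algebraMap V R u * algebraMap V R ↑u⁻¹) ^ n * (a * ϖR) ^ (e * n + 1) := by
            rw [huu, one_pow, one_mul]
        _ = _ := by rw [hpR]; ring

end Groth.Agent.Helper21.EtaEt
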