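import Mathlib
import Groth.Agent.Lib.Helper21.EtaEt
import Groth.Agent.Lib.Helper8.SmD2

/-!
# η-étale maps to affine space and `p^n Ω_{R/V}` modulo `dx_i`
-/

set_option autoImplicit false
set_option linter.style.haveILetI false
open scoped TensorProduct
open AlgebraicGeometry
universe u

namespace Groth.Agent.Helper21.EtaEt

section Kaehler

variable {V : Type u} [CommRing V] {R : Type u} [CommRing R] [Algebra V R] {d : ℕ}

/-- With `A = V[T_1..T_d]` acting on `R` through `x`, the kernel of `Ω_{R/V} → Ω_{R/A}` is spanned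
by the `dx_i`. -/
theorem ker_map_mvPolynomial (x : Fin d → R) :
    letI : Algebra (MvPolynomial (Fin d) V) R := (MvPolynomial.aeval x).toAlgebra
    haveI : IsScalarTower V (MvPolynomial (Fin d) V) R :=
      IsScalarTower.of_algebraMap_eq' (MvPolynomial.aeval x).comp_algebraMap.symm
    LinearMap.ker (KaehlerDifferential.map V (MvPolynomial (Fin d) V) R R) =
      Submodule.span R (Set.range fun i => KaehlerDifferential.D V R (x i)) := by
  letI : Algebra (MvPolynomial (Fin d) V) R := (MvPolynomial.aeval x).toAlgebra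
  haveI : IsScalarTower V (MvPolynomial (Fin d) V) R :=
    IsScalarTower.of_algebraMap_eq' (MvPolynomial.aeval x).comp_algebraMap.symm
  have hX : ∀ i, algebraMap (MvPolynomial (Fin d) V) R (MvPolynomial.X i) = x i := fun i => by
    change MvPolynomial.aeval x (MvPolynomial.X i) = x i
    simp
  apply le_antisymm
  · rw [← KaehlerDifferential.range_mapBaseChange]
    rintro _ ⟨t, rfl⟩
    induction t with
    | zero => rw [map_zero]; exact zero_mem _
    | add a b ha hb => rw [map_add]; exact add_mem ha hb
    | tmul r ω =>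
      rw [KaehlerDifferential.mapBaseChange_tmul]
      refine Submodule.smul_mem _ _ ?_
      have hω : ω ∈ Submodule.span (MvPolynomial (Fin d) V)
          (Set.range (KaehlerDifferential.D V (MvPolynomial (Fin d) V))) := by
        rw [KaehlerDifferential.span_range_derivation]; trivial
      induction hω using Submodule.span_induction with
      | mem y hy =>
        obtain ⟨f, rfl⟩ := hy
        rw [KaehlerDifferential.map_D]
        induction f using MvPolynomial.induction_on with
        | C c =>
          rw [← MvPolynomial.algebraMap_eq, ← IsScalarTower.algebraMap_apply,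
            Derivation.map_algebraMap]
          exact zero_mem _
        | add f g hf hg => rw [map_add, map_add]; exact add_mem hf hg
        | mul_X f i hf =>
          rw [map_mul, Derivation.leibniz, hX]
          exact add_mem (Submodule.smul_mem _ _ (Submodule.subset_span ⟨i, rfl⟩))
            (Submodule.smul_mem _ _ hf)
      | zero => rw [map_zero]; exact zero_mem _
      | add y z _ _ hy hz => rw [map_add]; exact add_mem hy hz
      | smul c y _ hy =>
        rw [LinearMap.map_smul_of_tower, ← algebraMap_smul R c]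
        exact Submodule.smul_mem _ _ hy
  · rw [Submodule.span_le]
    rintro _ ⟨i, rfl⟩
    show KaehlerDifferential.map V (MvPolynomial (Fin d) V) R R (KaehlerDifferential.D V R (x i)) = 0
    rw [KaehlerDifferential.map_D, Algebra.algebraMap_self, RingHom.id_apply, ← hX,
      Derivation.map_algebraMap]

/-- Translation of the containment between `Ω_{R/A}` and `Ω_{R/V}` modulo `dx_i`. -/
theorem smul_top_le_iff_mvPolynomial (x : Fin d → R) (I₁ I₂ : Ideal R) :
    letI : Algebra (MvPolynomial (Fin d) V) R := (MvPolynomial.aeval x).toAlgebra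
    (I₁ • (⊤ : Submodule R (Ω[R⁄MvPolynomial (Fin d) V])) ≤
        I₂ • (⊤ : Submodule R (Ω[R⁄MvPolynomial (Fin d) V]))) ↔
      I₁ • (⊤ : Submodule R (Ω[R⁄V])) ≤ I₂ • (⊤ : Submodule R (Ω[R⁄V])) ⊔
        Submodule.span R (Set.range fun i => KaehlerDifferential.D V R (x i)) := by
  letI : Algebra (MvPolynomial (Fin d) V) R := (MvPolynomial.aeval x).toAlgebra
  haveI : IsScalarTower V (MvPolynomial (Fin d) V) R :=
    IsScalarTower.of_algebraMap_eq' (MvPolynomial.aeval x).comp_algebraMap.symm
  set π := KaehlerDifferential.map V (MvPolynomial (Fin d) V) R R with hπ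
  have hker := ker_map_mvPolynomial (V := V) x
  have hsurj : Function.Surjective π := KaehlerDifferential.map_surjective V _ R
  have hmap : ∀ I : Ideal R, Submodule.map π (I • (⊤ : Submodule R (Ω[R⁄V]))) =
      I • (⊤ : Submodule R (Ω[R⁄MvPolynomial (Fin d) V])) := by
    intro I
    rw [Submodule.map_smul'', Submodule.map_top, LinearMap.range_eq_top.mpr hsurj]
  rw [← hker]
  constructor
  · intro h ω hω
    have h1 : π ω ∈ I₂ • (⊤ : Submodule R (Ω[R⁄MvPolynomial (Fin d) V])) := by
      apply h
      rw [← hmap]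
      exact Submodule.mem_map_of_mem hω
    rw [← hmap] at h1
    obtain ⟨y, hy, hyω⟩ := h1
    have h2 : ω - y ∈ LinearMap.ker π := by
      rw [LinearMap.mem_ker, map_sub, hyω, sub_self]
    have : ω = y + (ω - y) := by abel
    rw [this]
    exact Submodule.add_mem_sup hy h2
  · intro h
    rw [← hmap, ← hmap]
    refine (Submodule.map_mono h).trans ?_
    rw [Submodule.map_sup]
    refine sup_le le_rfl ?_
    rintro _ ⟨y, hy, rfl⟩
    rw [LinearMap.mem_ker.mp hy]
    exact zero_mem _

end Kaehler

section Main

variable (V : Type u) [CommRing V] [IsDomain V] [IsDiscreteValuationRing V]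
  (ϖ : V) (hϖ : Irreducible ϖ) (p : ℕ)
  (R : Type u) [CommRing R] [Algebra V R] [Algebra.FiniteType V R] {d : ℕ}

include hϖ in
/-- η-étale via `x` ⇒ `p^n Ω_{R/V} ⊆ ϖ p^n Ω_{R/V} + Σ R dx_i`. -/
theorem pow_smul_le_sup_of_etale [CharP (IsLocalRing.ResidueField V) p] (x : Fin d → R) (a : R)
    (ha : Ideal.span {a} ⊔ Ideal.span {algebraMap V R ϖ} = ⊤)
    (het : ((algebraMap R (Localization.Away (a * algebraMap V R ϖ))).comp
          (MvPolynomial.aeval x : MvPolynomial (Fin d) V →ₐ[V] R).toRingHom).Etale) :
    ∃ n : ℕ, Ideal.span {((p : R)) ^ n} • (⊤ : Submodule R (Ω[R⁄V])) ≤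
      Ideal.span {algebraMap V R ϖ * (p : R) ^ n} • (⊤ : Submodule R (Ω[R⁄V])) ⊔
        Submodule.span R (Set.range fun i => KaehlerDifferential.D V R (x i)) := by
  letI : Algebra (MvPolynomial (Fin d) V) R := (MvPolynomial.aeval x).toAlgebra
  haveI : IsScalarTower V (MvPolynomial (Fin d) V) R :=
    IsScalarTower.of_algebraMap_eq' (MvPolynomial.aeval x).comp_algebraMap.symm
  obtain ⟨n, hn⟩ := pow_smul_le_of_etale V ϖ hϖ p (MvPolynomial (Fin d) V) R a ha het
  exact ⟨n, (smul_top_le_iff_mvPolynomial (V := V) x _ _).mp hn⟩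

include hϖ in
/-- `p^n Ω_{R/V} ⊆ ϖ p^n Ω_{R/V} + Σ R dx_i` and smooth generic fibre of dimension `d` ⇒ η-étale
via `x`. -/
theorem etale_of_pow_smul_le_sup [CharZero V] [Fact p.Prime] (x : Fin d → R)
    (hR : SmoothOfRelativeDimension d
      (Spec.map (CommRingCat.ofHom (algebraMap (FractionRing V) (FractionRing V ⊗[V] R)))))
    (n : ℕ) (hn : Ideal.span {((p : R)) ^ n} • (⊤ : Submodule R (Ω[R⁄V])) ≤
      Ideal.span {algebraMap V R ϖ * (p : R) ^ n} • (⊤ : Submodule R (Ω[R⁄V])) ⊔
        Submodule.span R (Set.range fun i => KaehlerDifferential.D V R (x i))) :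
    ∃ a : R, Ideal.span {a} ⊔ Ideal.span {algebraMap V R ϖ} = ⊤ ∧
        ((algebraMap R (Localization.Away (a * algebraMap V R ϖ))).comp
          (MvPolynomial.aeval x : MvPolynomial (Fin d) V →ₐ[V] R).toRingHom).Etale := by
  letI : Algebra (MvPolynomial (Fin d) V) R := (MvPolynomial.aeval x).toAlgebra
  haveI : IsScalarTower V (MvPolynomial (Fin d) V) R :=
    IsScalarTower.of_algebraMap_eq' (MvPolynomial.aeval x).comp_algebraMap.symm
  have hA : SmoothOfRelativeDimension d (Spec.map (CommRingCat.ofHom
      (algebraMap (FractionRing V) (FractionRing V ⊗[V] MvPolynomial (Fin d) V)))) := by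
    rw [HasRingHomProperty.Spec_iff (P := @SmoothOfRelativeDimension d)]
    apply RingHom.locally_of RingHom.isStandardSmoothOfRelativeDimension_respectsIso
    rw [CommRingCat.hom_ofHom, RingHom.isStandardSmoothOfRelativeDimension_algebraMap]
    infer_instance
  exact etale_of_pow_smul_le V ϖ hϖ p (MvPolynomial (Fin d) V) R d hA hR n
    ((smul_top_le_iff_mvPolynomial (V := V) x _ _).mpr hn)

end Main

end Groth.Agent.Helper21.EtaEt
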