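import Mathlib
import Groth.Agent.Lib.Helper21.EtaEt
import Groth.Agent.Lib.Helper14.SmoothDim
import Groth.Agent.Lib.Helper14.DimIneqGen
import Groth.Agent.S2680

/-!
# Fibre dimensions of a flat finite type algebra over a DVR

* `ringKrullDim_le_of_span`: Krull dimension is local for covers by basic opens.
* `ringKrullDim_le_of_locally_standardSmooth`: locally standard smooth of relative dimension `d`
  over a field ⇒ dimension `≤ d`.
* `ringKrullDim_le_succ_of_flat`, `ringKrullDim_residue_tensor_le`: for `R` flat of finite type over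
  a DVR `V` with `dim (K ⊗ R) ≤ d`: `dim R ≤ d + 1` and `dim (k ⊗ R) ≤ d` (via the dimension
  inequality of Helper14).
-/

set_option autoImplicit false
set_option linter.style.haveILetI false
open scoped TensorProduct
universe u

namespace Groth.Agent.Helper21.EtaEt


/-- Krull dimension is local for a cover by basic opens. -/
theorem ringKrullDim_le_of_span {S : Type u} [CommRing S] (s : Set S) (hs : Ideal.span s = ⊤)
    (n : WithBot ℕ∞) (h : ∀ t ∈ s, ringKrullDim (Localization.Away t) ≤ n) :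
    ringKrullDim S ≤ n := by
  rw [ringKrullDim_le_iff_height_le]
  intro p hp
  obtain ⟨t, hts, htp⟩ : ∃ t ∈ s, t ∉ p := by
    by_contra hcon
    simp only [not_exists, not_and, not_not] at hcon
    exact hp.ne_top (top_le_iff.mp (hs ▸ Ideal.span_le.mpr hcon))
  have hdisj : Disjoint (Submonoid.powers t : Set S) (p : Set S) := by
    rw [Set.disjoint_left]
    rintro _ ⟨k, rfl⟩ hk
    exact htp (hp.mem_of_pow_mem k hk)
  rw [← IsLocalization.height_map_of_disjoint (Submonoid.powers t) (S := Localization.Away t) p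
    hdisj]
  have hprime : (p.map (algebraMap S (Localization.Away t))).IsPrime :=
    IsLocalization.isPrime_of_isPrime_disjoint _ _ _ hp hdisj
  exact (ringKrullDim_le_iff_height_le n).mp (h t hts) hprime

/-- A locally standard smooth algebra of relative dimension `d` over a field has dimension `≤ d`. -/
theorem ringKrullDim_le_of_locally_standardSmooth (K S : Type u) [Field K] [CommRing S]
    [Algebra K S] (d : ℕ)
    (h : (algebraMap K S).Locally (RingHom.IsStandardSmoothOfRelativeDimension d)) :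
    ringKrullDim S ≤ d := by
  obtain ⟨s, hs, hP⟩ := h
  refine ringKrullDim_le_of_span s hs _ fun t ht => ?_
  obtain ⟨g, -, hg⟩ := RingHom.IsStandardSmoothOfRelativeDimension.exists_etale_mvPolynomial
    (hP t ht)
  letI := g.toAlgebra
  haveI : Algebra.Etale (MvPolynomial (Fin d) K) (Localization.Away t) := hg
  cases subsingleton_or_nontrivial (Localization.Away t)
  · rw [ringKrullDim_eq_bot_of_subsingleton]; exact bot_le
  · exact (Groth.Agent.Helper14.SmoothDim.ringKrullDim_eq_of_etale K d (Localization.Away t)).le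



/-- Abstract form: `Φ = R[1/w]` a finite type algebra over the fraction field `K` of `V`, of
dimension `≤ d`; `Q` a prime of `R` not containing `w` with `Q ∩ V = 0`. Then
`trdeg_V (R/Q) ≤ d`. -/
theorem trdeg_quotient_le_of_away (V K R Φ : Type u) [CommRing V] [IsDomain V] [Field K]
    [Algebra V K] [IsFractionRing V K] [CommRing R] [Algebra V R] [CommRing Φ] [Algebra R Φ]
    [Algebra K Φ] [Algebra V Φ] [IsScalarTower V R Φ] [IsScalarTower V K Φ]
    [Algebra.FiniteType K Φ] (w : R) [IsLocalization.Away w Φ] (d : ℕ)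
    (hK : ringKrullDim Φ ≤ d) (Q : Ideal R) [hQp : Q.IsPrime] (hw : w ∉ Q)
    (hQV : Q.under V = ⊥) :
    Algebra.trdeg (V ⧸ Q.under V) (R ⧸ Q) ≤ (d : Cardinal.{u}) := by
  classical
  have hdisj : Disjoint (Submonoid.powers w : Set R) (Q : Set R) := by
    rw [Set.disjoint_left]
    rintro _ ⟨k, rfl⟩ hk
    exact hw (hQp.mem_of_pow_mem k hk)
  set Q' : Ideal Φ := Q.map (algebraMap R Φ) with hQ'
  haveI hQ'p : Q'.IsPrime :=
    IsLocalization.isPrime_of_isPrime_disjoint (Submonoid.powers w) Φ Q hQp hdisj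
  have hQ'c : Q'.under R = Q :=
    IsLocalization.under_map_of_isPrime_disjoint (Submonoid.powers w) Φ hQp hdisj
  obtain ⟨n, hn1, hn2, -⟩ := Groth.Agent.S2680.result K (Φ ⧸ Q')
  have hnd : n ≤ d := by
    have h1 : ringKrullDim (Φ ⧸ Q') ≤ ringKrullDim Φ := ringKrullDim_quotient_le Q'
    have h2 := h1.trans hK
    rw [hn2] at h2
    exact_mod_cast h2
  let b : R →+* FractionRing (Φ ⧸ Q') :=
    ((algebraMap (Φ ⧸ Q') (FractionRing (Φ ⧸ Q'))).comp (Ideal.Quotient.mk Q')).comp
      (algebraMap R Φ)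
  have hLinj : Function.Injective (algebraMap (Φ ⧸ Q') (FractionRing (Φ ⧸ Q'))) :=
    IsFractionRing.injective _ _
  have hb0 : ∀ r : R, b r = 0 ↔ r ∈ Q := by
    intro r
    change algebraMap (Φ ⧸ Q') (FractionRing (Φ ⧸ Q'))
      (Ideal.Quotient.mk Q' (algebraMap R Φ r)) = 0 ↔ _
    rw [map_eq_zero_iff _ hLinj, Ideal.Quotient.eq_zero_iff_mem, ← Ideal.mem_comap]
    change r ∈ Q'.under R ↔ _
    rw [hQ'c]
  have hb : RingHom.ker b = Q := by
    ext r
    rw [RingHom.mem_ker, hb0]
  have ha : RingHom.ker (algebraMap V K) = Q.under V := by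
    rw [hQV, (RingHom.injective_iff_ker_eq_bot _).mp (IsFractionRing.injective V K)]
  have hcomm : (algebraMap K (FractionRing (Φ ⧸ Q'))).comp (algebraMap V K) =
      b.comp (algebraMap V R) := by
    ext v
    change algebraMap K (FractionRing (Φ ⧸ Q')) (algebraMap V K v) =
      algebraMap (Φ ⧸ Q') (FractionRing (Φ ⧸ Q'))
        (Ideal.Quotient.mk Q' (algebraMap R Φ (algebraMap V R v)))
    rw [IsScalarTower.algebraMap_apply K (Φ ⧸ Q') (FractionRing (Φ ⧸ Q')),
      IsScalarTower.algebraMap_apply K Φ (Φ ⧸ Q'), Ideal.Quotient.algebraMap_eq]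
    congr 2
    rw [← IsScalarTower.algebraMap_apply V K Φ, ← IsScalarTower.algebraMap_apply V R Φ]
  have hfa : ∀ z : K, ∃ r s, algebraMap V K s ≠ 0 ∧
      z * algebraMap V K s = algebraMap V K r := by
    intro z
    obtain ⟨⟨r, s⟩, hrs⟩ := IsLocalization.surj (nonZeroDivisors V) z
    refine ⟨r, s, ?_, hrs⟩
    exact IsFractionRing.to_map_ne_zero_of_mem_nonZeroDivisors s.2
  have hw' : b w ≠ 0 := fun h => hw ((hb0 _).mp h)
  have hfb : ∀ z : FractionRing (Φ ⧸ Q'), ∃ r s, b s ≠ 0 ∧ z * b s = b r := by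
    intro z
    obtain ⟨⟨x, y⟩, hxy⟩ := IsLocalization.surj (nonZeroDivisors (Φ ⧸ Q')) z
    obtain ⟨x', rfl⟩ := Ideal.Quotient.mk_surjective x
    obtain ⟨y', hy'⟩ := Ideal.Quotient.mk_surjective y.1
    obtain ⟨k, r₁, h1⟩ := IsLocalization.Away.surj w x'
    obtain ⟨m, r₂, h2⟩ := IsLocalization.Away.surj w y'
    have hy0 : algebraMap (Φ ⧸ Q') (FractionRing (Φ ⧸ Q')) y.1 ≠ 0 :=
      IsFractionRing.to_map_ne_zero_of_mem_nonZeroDivisors y.2
    have e1 : b r₁ = algebraMap (Φ ⧸ Q') (FractionRing (Φ ⧸ Q')) (Ideal.Quotient.mk Q' x') *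
        b w ^ k := by
      change algebraMap (Φ ⧸ Q') (FractionRing (Φ ⧸ Q'))
        (Ideal.Quotient.mk Q' (algebraMap R Φ r₁)) = _
      rw [← h1, map_mul, map_mul, map_pow, map_pow]
      rfl
    have e2 : b r₂ = algebraMap (Φ ⧸ Q') (FractionRing (Φ ⧸ Q')) y.1 * b w ^ m := by
      change algebraMap (Φ ⧸ Q') (FractionRing (Φ ⧸ Q'))
        (Ideal.Quotient.mk Q' (algebraMap R Φ r₂)) = _
      rw [← h2, map_mul, map_mul, map_pow, map_pow, hy']
      rfl
    refine ⟨r₁ * w ^ m, r₂ * w ^ k, ?_, ?_⟩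
    · rw [map_mul, map_pow, e2]
      exact mul_ne_zero (mul_ne_zero hy0 (pow_ne_zero _ hw')) (pow_ne_zero _ hw')
    · rw [map_mul, map_mul, map_pow, map_pow, e1, e2]
      simp only at hxy
      calc z * (algebraMap (Φ ⧸ Q') (FractionRing (Φ ⧸ Q')) y.1 * b w ^ m * b w ^ k)
          = (z * algebraMap (Φ ⧸ Q') (FractionRing (Φ ⧸ Q')) y.1) * b w ^ m * b w ^ k := by ring
        _ = _ := by rw [hxy]; ring
  have key := Groth.Agent.Helper14.TrdegBridge.trdeg_eq_of_fraction (Q.under V) Q
    (algebraMap V K) ha b hb (algebraMap K (FractionRing (Φ ⧸ Q'))) hcomm hfa hfb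
  rw [← key, toAlgebra_algebraMap, hn1]
  exact_mod_cast hnd

section

variable (V : Type u) [CommRing V] [IsDomain V] [IsDiscreteValuationRing V]
  (ϖ : V) (hϖ : Irreducible ϖ) (R : Type u) [CommRing R] [Algebra V R] [Module.Flat V R]
  [Algebra.FiniteType V R] (d : ℕ)

omit [IsDiscreteValuationRing V] [Algebra.FiniteType V R] in
include hϖ in
theorem algebraMap_uniformizer_mem_nonZeroDivisors : algebraMap V R ϖ ∈ nonZeroDivisors R := by
  rw [mem_nonZeroDivisors_iff_right]
  intro x hx
  have h1 : ϖ • x = 0 := by rw [Algebra.smul_def, mul_comm]; exact hx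
  haveI : Module.IsTorsionFree V R := inferInstance
  exact (smul_eq_zero_iff_right hϖ.ne_zero).mp h1

attribute [local instance] Algebra.TensorProduct.rightAlgebra in
include hϖ in
/-- A flat finite type algebra over a DVR whose generic fibre has dimension `≤ d` has dimension
`≤ d + 1`. -/
theorem ringKrullDim_le_succ_of_flat (hK : ringKrullDim (FractionRing V ⊗[V] R) ≤ d) :
    ringKrullDim R ≤ d + 1 := by
  classical
  haveI : IsNoetherianRing R := Algebra.FiniteType.isNoetherianRing V R
  haveI := isLocalization_away_fractionRing V ϖ hϖ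
  haveI hloc := isLocalization_away_tensor ϖ (FractionRing V) R
  have hnzd := algebraMap_uniformizer_mem_nonZeroDivisors V ϖ hϖ R
  rw [ringKrullDim_le_iff_height_le]
  intro q hq
  haveI := hq
  have key := Groth.Agent.Helper14.DimIneqGen.height_add_trdeg_le V R q (q.under V)
    (d : Cardinal.{u}) ?_
  · have h1 : (q.under V).height ≤ 1 := by
      have h2 := Ideal.height_le_ringKrullDim_of_ne_top
        (inferInstance : (q.under V).IsPrime).ne_top
      have h3 : ringKrullDim V ≤ 1 := Ring.krullDimLE_iff.mp inferInstance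
      exact_mod_cast h2.trans h3
    have h2 : (q.height : Cardinal.{u}) ≤ ((1 + d : ℕ∞) : Cardinal.{u}) := by
      refine (le_self_add.trans key).trans ?_
      have : ((q.under V).height : Cardinal.{u}) ≤ ((1 : ℕ∞) : Cardinal.{u}) := by
        exact_mod_cast h1
      calc ((q.under V).height : Cardinal.{u}) + d ≤ ((1 : ℕ∞) : Cardinal.{u}) + d :=
            add_le_add_left this _
        _ = _ := by simp
    have h3 : q.height ≤ 1 + d := by exact_mod_cast h2
    have h4 : (q.height : WithBot ℕ∞) ≤ ((1 + d : ℕ∞) : WithBot ℕ∞) := by exact_mod_cast h3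
    refine h4.trans (le_of_eq ?_)
    push_cast
    rw [add_comm]
  · intro Q hQp hQmin hQq
    have hϖQ : algebraMap V R ϖ ∉ Q := fun hmem =>
      (Set.disjoint_left.mp (Ideal.disjoint_nonZeroDivisors_of_mem_minimalPrimes hQmin)) hmem hnzd
    have hQV : Q.under V = ⊥ := by
      rw [eq_bot_iff]
      intro v hv
      rw [Ideal.mem_bot]
      by_contra hv0
      obtain ⟨k, u, rfl⟩ := IsDiscreteValuationRing.eq_unit_mul_pow_irreducible hv0 hϖ
      have h1 : ϖ ^ k ∈ Q.under V := by
        have := (Q.under V).mul_mem_left (↑u⁻¹ : V) hv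
        rwa [← mul_assoc, Units.inv_mul, one_mul] at this
      have h2 : ϖ ∈ Q.under V := (inferInstance : (Q.under V).IsPrime).mem_of_pow_mem k h1
      exact hϖQ h2
    exact trdeg_quotient_le_of_away V (FractionRing V) R (FractionRing V ⊗[V] R)
      (algebraMap V R ϖ) d hK Q hϖQ hQV

include hϖ in
/-- The special fibre of a flat finite type algebra over a DVR has dimension at most that of the
generic fibre. -/
theorem ringKrullDim_residue_tensor_le (hK : ringKrullDim (FractionRing V ⊗[V] R) ≤ d) :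
    ringKrullDim (IsLocalRing.ResidueField V ⊗[V] R) ≤ d := by
  have h1 := ringKrullDim_le_succ_of_flat V ϖ hϖ R d hK
  have hnzd := algebraMap_uniformizer_mem_nonZeroDivisors V ϖ hϖ R
  have h2 := ringKrullDim_quotient_succ_le_of_nonZeroDivisor hnzd
  have h3 : ringKrullDim (R ⧸ Ideal.span {algebraMap V R ϖ}) ≤ d := by
    have h4 := h2.trans h1
    generalize ringKrullDim (R ⧸ Ideal.span {algebraMap V R ϖ}) = x at h4
    induction x with
    | bot => exact bot_le
    | coe m =>
      have h5 : m + 1 ≤ (d : ℕ∞) + 1 := by exact_mod_cast h4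
      have h6 : m ≤ (d : ℕ∞) := (ENat.add_le_add_iff_right (by simp)).mp h5
      exact_mod_cast h6
  have hI : (IsLocalRing.maximalIdeal V).map (algebraMap V R) =
      Ideal.span {algebraMap V R ϖ} := by
    rw [hϖ.maximalIdeal_eq, Ideal.map_span, Set.image_singleton]
  let e1 : (IsLocalRing.ResidueField V ⊗[V] R) ≃+* R ⊗[V] (V ⧸ IsLocalRing.maximalIdeal V) :=
    (Algebra.TensorProduct.comm V (IsLocalRing.ResidueField V) R).toRingEquiv
  let e2 : (R ⧸ (IsLocalRing.maximalIdeal V).map (algebraMap V R)) ≃+*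
      R ⊗[V] (V ⧸ IsLocalRing.maximalIdeal V) :=
    (Algebra.TensorProduct.quotIdealMapEquivTensorQuot R (IsLocalRing.maximalIdeal V)).toRingEquiv
  let e3 : (R ⧸ (IsLocalRing.maximalIdeal V).map (algebraMap V R)) ≃+*
      R ⧸ Ideal.span {algebraMap V R ϖ} := Ideal.quotEquivOfEq hI
  rw [ringKrullDim_eq_of_ringEquiv (e1.trans (e2.symm.trans e3))]
  exact h3

end


end Groth.Agent.Helper21.EtaEt
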