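import Mathlib

/-!
# Flatness at the primes over a point: general lemmas (helper21)
-/

set_option autoImplicit false
set_option linter.style.haveILetI false
set_option linter.unusedSectionVars false

universe u

open TensorProduct Function

namespace Groth.Agent.Helper21.FA

section MulR

variable {Λ : Type u} [CommRing Λ] (𝔟 : Ideal Λ)

/-- multiplication `X ⊗ 𝔟 → X`. -/
noncomputable def mulR (X : Type u) [AddCommGroup X] [Module Λ X] : X ⊗[Λ] ↥𝔟 →ₗ[Λ] X :=
  (TensorProduct.rid Λ X).toLinearMap ∘ₗ LinearMap.lTensor X 𝔟.subtype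

theorem mulR_tmul (X : Type u) [AddCommGroup X] [Module Λ X] (x : X) (b : 𝔟) :
    mulR 𝔟 X (x ⊗ₜ b) = (b : Λ) • x := by
  simp [mulR]

theorem mulR_injective_of_flat (X : Type u) [AddCommGroup X] [Module Λ X] [Module.Flat Λ X] :
    Injective (mulR 𝔟 X) := by
  have h := Module.Flat.lTensor_preserves_injective_linearMap (M := X) 𝔟.subtype
    (Submodule.injective_subtype 𝔟)
  exact (TensorProduct.rid Λ X).injective.comp h

theorem mulR_rTensor {X Y : Type u} [AddCommGroup X] [Module Λ X] [AddCommGroup Y] [Module Λ Y]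
    (φ : X →ₗ[Λ] Y) (t : X ⊗[Λ] ↥𝔟) :
    mulR 𝔟 Y (LinearMap.rTensor 𝔟 φ t) = φ (mulR 𝔟 X t) := by
  induction t using TensorProduct.induction_on with
  | zero => simp
  | tmul x b => rw [LinearMap.rTensor_tmul, mulR_tmul, mulR_tmul, map_smul]
  | add x y hx hy => rw [map_add, map_add, hx, hy, map_add, map_add]

end MulR

/-- **Flatness at a prime kills relations locally.** -/
theorem exists_smul_eq_zero_of_flat {Λ R : Type u} [CommRing Λ] [CommRing R] [Algebra Λ R]
    {L : Type u} [AddCommGroup L] [Module R L] [Module Λ L] [IsScalarTower Λ R L]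
    (𝔟 : Ideal Λ) (P : Ideal R) [P.IsPrime]
    (hfl : Module.Flat Λ (LocalizedModule P.primeCompl L))
    (ζ : L ⊗[Λ] ↥𝔟) (hζ : mulR 𝔟 L ζ = 0) : ∃ s ∈ P.primeCompl, s • ζ = 0 := by
  let g : L →ₗ[R] LocalizedModule P.primeCompl L := LocalizedModule.mkLinearMap P.primeCompl L
  have hG : IsLocalizedModule P.primeCompl
      (TensorProduct.AlgebraTensorModule.rTensor Λ (↥𝔟) g) := inferInstance
  have h1 : TensorProduct.AlgebraTensorModule.rTensor Λ (↥𝔟) g ζ = 0 := by
    apply mulR_injective_of_flat 𝔟 (LocalizedModule P.primeCompl L)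
    have h2 := mulR_rTensor 𝔟 (g.restrictScalars Λ) ζ
    rw [hζ, map_zero] at h2
    rw [map_zero]
    exact h2
  obtain ⟨s, hs⟩ := (IsLocalizedModule.eq_zero_iff P.primeCompl
    (TensorProduct.AlgebraTensorModule.rTensor Λ (↥𝔟) g)).mp h1
  exact ⟨s.1, s.2, hs⟩

/-- **Annihilators and primes.** -/
theorem exists_sub_smul_eq_zero {R : Type u} [CommRing R] {T : Type u} [AddCommGroup T]
    [Module R T] (y : T) (𝔫 : Ideal R) (S : Submonoid R)
    (h : ∀ P : Ideal R, P.IsPrime → 𝔫 ≤ P → Disjoint (P : Set R) (S : Set R) →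
      ∃ s : R, s ∉ P ∧ s • y = 0) :
    ∃ s ∈ S, ∃ n ∈ 𝔫, s • y = n • y := by
  by_cases hd : Disjoint ((Ideal.torsionOf R T y ⊔ 𝔫 : Ideal R) : Set R) (S : Set R)
  · obtain ⟨P, hP, hle, hdis⟩ := Ideal.exists_le_prime_disjoint _ S hd
    obtain ⟨s, hsP, hs⟩ := h P hP (le_sup_right.trans hle) hdis
    exact absurd (hle (Ideal.mem_sup_left ((Ideal.mem_torsionOf_iff y s).mpr hs))) hsP
  · rw [Set.not_disjoint_iff] at hd
    obtain ⟨s, hs1, hs2⟩ := hd
    obtain ⟨a, ha, n, hn, rfl⟩ := Submodule.mem_sup.mp hs1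
    refine ⟨a + n, hs2, n, hn, ?_⟩
    rw [add_smul, (Ideal.mem_torsionOf_iff y a).mp ha, zero_add]

end Groth.Agent.Helper21.FA
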