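import Mathlib
import Groth.Agent.Lib.Helper21.FA1

/-!
# Modules over a pushout ring on a tensor product (helper21)

For a pushout `R = Λ ⊗[A] BW`, a `BW`-module `Q` and a `Λ`-module `P`, the tensor product
`Q ⊗[A] P` is an `R`-module.
-/

set_option autoImplicit false
set_option linter.style.haveILetI false
set_option linter.unusedSectionVars false

universe u

open TensorProduct Function

namespace Groth.Agent.Helper21.FA

section PushMod

variable (A Λ BW R : Type u) [CommRing A] [CommRing Λ] [CommRing BW] [CommRing R]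
  [Algebra A Λ] [Algebra A BW] [Algebra A R] [Algebra Λ R] [Algebra BW R]
  [IsScalarTower A Λ R] [IsScalarTower A BW R] [Algebra.IsPushout A Λ BW R]
  (Q : Type u) [AddCommGroup Q] [Module A Q] [Module BW Q] [IsScalarTower A BW Q]
  (P : Type u) [AddCommGroup P] [Module A P] [Module Λ P] [IsScalarTower A Λ P]

/-- the action of `Λ` on the right factor. -/
noncomputable def actΛ : Λ →ₐ[A] Module.End A (Q ⊗[A] P) :=
  (Module.End.lTensorAlgHom A P Q).comp (Algebra.lsmul A A P)

theorem actΛ_tmul (l : Λ) (q : Q) (p : P) :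
    actΛ A Λ Q P l (q ⊗ₜ[A] p) = q ⊗ₜ[A] (l • p) := by
  change LinearMap.lTensor Q (Algebra.lsmul A A P l) (q ⊗ₜ[A] p) = _
  rw [LinearMap.lTensor_tmul]
  rfl

/-- the action of `BW` on the left factor. -/
noncomputable def actB : BW →ₐ[A] Module.End A (Q ⊗[A] P) :=
  Algebra.lsmul A A (Q ⊗[A] P)

theorem actB_apply (b : BW) (w : Q ⊗[A] P) : actB A BW Q P b w = b • w := rfl

theorem act_comm (l : Λ) (b : BW) :
    actΛ A Λ Q P l * actB A BW Q P b = actB A BW Q P b * actΛ A Λ Q P l := by
  apply TensorProduct.ext'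
  intro q p
  rw [Module.End.mul_apply, Module.End.mul_apply, actB_apply, actB_apply, TensorProduct.smul_tmul',
    actΛ_tmul, actΛ_tmul, TensorProduct.smul_tmul']

/-- the action of the pushout `R` on `Q ⊗[A] P`. -/
noncomputable def act : R →ₐ[A] Module.End A (Q ⊗[A] P) :=
  Algebra.pushoutDesc R (actΛ A Λ Q P) (actB A BW Q P) (act_comm A Λ BW Q P)

theorem act_algebraMap_Λ (l : Λ) : act A Λ BW R Q P (algebraMap Λ R l) = actΛ A Λ Q P l :=
  Algebra.pushoutDesc_left R _ _ _ l

theorem act_algebraMap_B (b : BW) : act A Λ BW R Q P (algebraMap BW R b) = actB A BW Q P b :=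
  Algebra.pushoutDesc_right R _ _ _ b

/-- the `R`-module structure on `Q ⊗[A] P`. -/
@[reducible] noncomputable def pushMod : Module R (Q ⊗[A] P) :=
  Module.compHom (Q ⊗[A] P) (act A Λ BW R Q P).toRingHom

theorem pushMod_smul_def (c : R) (w : Q ⊗[A] P) :
    letI := pushMod A Λ BW R Q P
    c • w = act A Λ BW R Q P c w := rfl

theorem pushMod_algebraMap_B_smul (b : BW) (w : Q ⊗[A] P) :
    letI := pushMod A Λ BW R Q P
    algebraMap BW R b • w = b • w := by
  letI := pushMod A Λ BW R Q P
  rw [pushMod_smul_def, act_algebraMap_B, actB_apply]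

theorem pushMod_algebraMap_Λ_smul_tmul (l : Λ) (q : Q) (p : P) :
    letI := pushMod A Λ BW R Q P
    algebraMap Λ R l • (q ⊗ₜ[A] p) = q ⊗ₜ[A] (l • p) := by
  letI := pushMod A Λ BW R Q P
  rw [pushMod_smul_def, act_algebraMap_Λ, actΛ_tmul]

/-- if `l` kills `P`, it kills `Q ⊗ P`. -/
theorem pushMod_algebraMap_Λ_smul_eq_zero (l : Λ) (hl : ∀ p : P, l • p = 0) (w : Q ⊗[A] P) :
    letI := pushMod A Λ BW R Q P
    algebraMap Λ R l • w = 0 := by
  letI := pushMod A Λ BW R Q P
  induction w using TensorProduct.induction_on with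
  | zero => rw [smul_zero]
  | tmul q p => rw [pushMod_algebraMap_Λ_smul_tmul, hl, TensorProduct.tmul_zero]
  | add x y hx hy => rw [smul_add, hx, hy, add_zero]

theorem isScalarTower_pushMod_B :
    letI := pushMod A Λ BW R Q P
    IsScalarTower BW R (Q ⊗[A] P) := by
  letI := pushMod A Λ BW R Q P
  exact IsScalarTower.of_algebraMap_smul fun b w => pushMod_algebraMap_B_smul A Λ BW R Q P b w

end PushMod

end Groth.Agent.Helper21.FA
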