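import Mathlib
import Groth.Agent.Lib.Helper21.NilProj
import Groth.Agent.Lib.Helper1.TorFree

/-!
# The flattening ideal of a module which is free modulo a nilpotent ideal (helper21)

`R` a ring, `I` a nilpotent ideal, `N` an `R`-module with `N / I N` free over `R / I`.  Then there
is an ideal `J ≤ I` such that for every `R`-algebra `A'`: `A' ⊗ N` is flat over `A'` iff
`J A' = 0`.
-/

set_option autoImplicit false
set_option linter.style.haveILetI false
set_option linter.unusedSectionVars false

universe u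

open TensorProduct Function

namespace Groth.Agent.Helper21.FI

/-- A surjection onto a flat module whose kernel lies in `I F`, `I` nilpotent, is injective. -/
theorem injective_of_flat_of_ker_le {R : Type u} [CommRing R] (I : Ideal R) (hI : IsNilpotent I)
    {F N : Type u} [AddCommGroup F] [Module R F] [AddCommGroup N] [Module R N] [Module.Flat R N]
    (g : F →ₗ[R] N) (hsurj : Surjective g)
    (hker : LinearMap.ker g ≤ I • (⊤ : Submodule R F)) : Injective g := by
  have hK := Groth.Agent.Helper1.lTensor_injective_of_exact_of_flat (R := R)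
    (A := LinearMap.ker g) (f := (LinearMap.ker g).subtype) (g := g)
    (Submodule.injective_subtype _) (LinearMap.exact_subtype_ker_map g) hsurj (R ⧸ I)
  have htop : (⊥ : Submodule R (LinearMap.ker g)) ⊔ I • ⊤ = ⊤ := by
    rw [eq_top_iff]
    intro z _
    rw [bot_sup_eq]
    apply Groth.Agent.Helper21.NP.mem_smul_top_of_one_tmul_eq_zero I z
    apply hK
    rw [map_zero, LinearMap.lTensor_tmul]
    exact (Groth.Agent.Helper1.one_tmul_eq_zero_iff I _).mpr (hker z.2)
  have hbt : (⊥ : Submodule R (LinearMap.ker g)) = ⊤ :=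
    Groth.Agent.Helper21.NP.eq_top_of_sup_smul_eq_top I hI (M := LinearMap.ker g) htop
  rw [← LinearMap.ker_eq_bot, eq_bot_iff]
  intro z hz'
  have h1 : (⟨z, hz'⟩ : LinearMap.ker g) ∈ (⊤ : Submodule R (LinearMap.ker g)) :=
    Submodule.mem_top
  rw [← hbt, Submodule.mem_bot] at h1
  exact (Submodule.mem_bot R).mpr (congrArg Subtype.val h1)

section Coord

variable {R : Type u} [CommRing R] {ι : Type u}

/-- If `1 ⊗ k = 0` in `A' ⊗ R^(ι)`, the coordinates of `k` die in `A'`. -/
theorem algebraMap_coord_eq_zero (A' : Type u) [CommRing A'] [Algebra R A'] (k : ι →₀ R)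
    (h : (1 : A') ⊗ₜ[R] k = 0) (i : ι) : algebraMap R A' (k i) = 0 := by
  have h3 := congrArg
    (fun t => TensorProduct.rid R A' (LinearMap.lTensor A' (Finsupp.lapply (R := R) i) t)) h
  simp only [LinearMap.lTensor_tmul, Finsupp.lapply_apply, TensorProduct.rid_tmul, map_zero] at h3
  rw [Algebra.algebraMap_eq_smul_one]
  exact h3

/-- If the coordinates of `k` die in `A'`, then `a ⊗ k = 0` in `A' ⊗ R^(ι)`. -/
theorem tmul_eq_zero_of_coord (A' : Type u) [CommRing A'] [Algebra R A'] (k : ι →₀ R)
    (h : ∀ i, algebraMap R A' (k i) = 0) (a : A') : a ⊗ₜ[R] k = 0 := by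
  classical
  rw [← Finsupp.sum_single k, Finsupp.sum, TensorProduct.tmul_sum]
  refine Finset.sum_eq_zero fun i _ => ?_
  have h1 : Finsupp.single i (k i) = k i • Finsupp.single i (1 : R) := by
    rw [Finsupp.smul_single, smul_eq_mul, mul_one]
  rw [h1, ← TensorProduct.smul_tmul, Algebra.smul_def, h i, zero_mul, TensorProduct.zero_tmul]

/-- An element of `R^(ι)` with coordinates in `I` lies in `I • ⊤`. -/
theorem mem_smul_top_of_coord (I : Ideal R) (k : ι →₀ R) (h : ∀ i, k i ∈ I) :
    k ∈ I • (⊤ : Submodule R (ι →₀ R)) := by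
  classical
  rw [← Finsupp.sum_single k, Finsupp.sum]
  refine Submodule.sum_mem _ fun i _ => ?_
  have h1 : Finsupp.single i (k i) = k i • Finsupp.single i (1 : R) := by
    rw [Finsupp.smul_single, smul_eq_mul, mul_one]
  rw [h1]
  exact Submodule.smul_mem_smul (h i) Submodule.mem_top

end Coord

/-- `x ∈ I F` implies `a ⊗ x ∈ (I A') (A' ⊗ F)`. -/
theorem tmul_mem_map_smul_top {R : Type u} [CommRing R] (I : Ideal R) {F : Type u}
    [AddCommGroup F] [Module R F] (A' : Type u) [CommRing A'] [Algebra R A'] (a : A') (x : F)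
    (hx : x ∈ I • (⊤ : Submodule R F)) :
    a ⊗ₜ[R] x ∈ (I.map (algebraMap R A')) • (⊤ : Submodule A' (A' ⊗[R] F)) := by
  induction hx using Submodule.smul_induction_on' with
  | smul r hr y _ =>
    have h1 : a ⊗ₜ[R] (r • y) = algebraMap R A' r • (a ⊗ₜ[R] y) := by
      rw [← TensorProduct.smul_tmul, TensorProduct.smul_tmul', Algebra.smul_def, smul_eq_mul]
    rw [h1]
    exact Submodule.smul_mem_smul (Ideal.mem_map_of_mem _ hr) Submodule.mem_top
  | add x _ y _ hx hy =>
    rw [TensorProduct.tmul_add]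
    exact add_mem hx hy

/-- The ideal of coordinates of the relations. -/
def coordIdeal {R : Type u} [CommRing R] {ι : Type u} {N : Type u} [AddCommGroup N] [Module R N]
    (g : (ι →₀ R) →ₗ[R] N) : Ideal R :=
  Ideal.span {r | ∃ k ∈ LinearMap.ker g, ∃ i, k i = r}

/-- Abstract core: a surjection from a free module whose relations have coordinates in a nilpotent
ideal. -/
theorem flat_iff_coordIdeal_map_eq_bot {R : Type u} [CommRing R] (I : Ideal R)
    (hI : IsNilpotent I) {ι : Type u} {N : Type u} [AddCommGroup N] [Module R N]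
    (g : (ι →₀ R) →ₗ[R] N) (hsurj : Surjective g)
    (hcoord : ∀ k ∈ LinearMap.ker g, ∀ i, k i ∈ I)
    (A' : Type u) [CommRing A'] [Algebra R A'] :
    Module.Flat A' (A' ⊗[R] N) ↔ (coordIdeal g).map (algebraMap R A') = ⊥ := by
  classical
  have hKI : LinearMap.ker g ≤ I • ⊤ := fun k hk => mem_smul_top_of_coord I k (hcoord k hk)
  have hg'surj : Surjective (LinearMap.baseChange A' g) :=
    LinearMap.lTensor_surjective A' hsurj
  have hex :=
    lTensor_exact (M := LinearMap.ker g) (N := ι →₀ R) (P := N) A'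
      (f := (LinearMap.ker g).subtype) (g := g) (LinearMap.exact_subtype_ker_map g) hsurj
  have hcoe : ∀ t, LinearMap.baseChange A' g t = LinearMap.lTensor A' g t := fun t => by
    rw [← LinearMap.baseChange_eq_ltensor]
  constructor
  · intro hflat
    have hI' : IsNilpotent (I.map (algebraMap R A')) := by
      obtain ⟨n, hn⟩ := hI
      refine ⟨n, ?_⟩
      rw [← Ideal.map_pow, hn, Ideal.zero_eq_bot, Ideal.map_bot]
      rfl
    have hker' : LinearMap.ker (LinearMap.baseChange A' g) ≤
        (I.map (algebraMap R A')) • ⊤ := by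
      have hall : ∀ w, LinearMap.lTensor A' (LinearMap.ker g).subtype w ∈
          (I.map (algebraMap R A')) • (⊤ : Submodule A' (A' ⊗[R] _)) := by
        intro w
        induction w using TensorProduct.induction_on with
        | zero => rw [map_zero]; exact zero_mem _
        | add x y hx hy =>
          rw [map_add]
          exact add_mem hx hy
        | tmul a k =>
          rw [LinearMap.lTensor_tmul]
          exact tmul_mem_map_smul_top I A' a _ (hKI k.2)
      intro t ht
      rw [LinearMap.mem_ker, hcoe] at ht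
      obtain ⟨w, rfl⟩ := (hex t).mp ht
      exact hall w
    have hinj : Injective (LinearMap.baseChange A' g) :=
      injective_of_flat_of_ker_le _ hI' _ hg'surj hker'
    rw [coordIdeal, eq_bot_iff, Ideal.map_le_iff_le_comap, Ideal.span_le]
    rintro _ ⟨k, hk, i, rfl⟩
    have h1 : LinearMap.baseChange A' g ((1 : A') ⊗ₜ[R] k) = 0 := by
      rw [LinearMap.baseChange_tmul, LinearMap.mem_ker.mp hk, TensorProduct.tmul_zero]
    have h2 : (1 : A') ⊗ₜ[R] k = 0 := hinj (by rw [h1, map_zero])
    exact algebraMap_coord_eq_zero A' k h2 i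
  · intro hJ
    have hz : ∀ k ∈ LinearMap.ker g, ∀ i, algebraMap R A' (k i) = 0 := by
      intro k hk i
      have h1 : algebraMap R A' (k i) ∈ (coordIdeal g).map (algebraMap R A') :=
        Ideal.mem_map_of_mem _ (Ideal.subset_span ⟨k, hk, i, rfl⟩)
      rw [hJ] at h1
      exact h1
    have hzero : ∀ w, LinearMap.lTensor A' (LinearMap.ker g).subtype w = 0 := by
      intro w
      induction w using TensorProduct.induction_on with
      | zero => rw [map_zero]
      | add x y hx hy => rw [map_add, hx, hy, add_zero]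
      | tmul a k =>
        rw [LinearMap.lTensor_tmul]
        exact tmul_eq_zero_of_coord A' _ (hz k.1 k.2) a
    have hinj : Injective (LinearMap.baseChange A' g) := by
      rw [← LinearMap.ker_eq_bot, eq_bot_iff]
      intro t ht
      rw [LinearMap.mem_ker, hcoe] at ht
      obtain ⟨w, rfl⟩ := (hex t).mp ht
      rw [hzero]
      exact zero_mem _
    exact Module.Flat.of_linearEquiv
      (LinearEquiv.ofBijective (LinearMap.baseChange A' g) ⟨hinj, hg'surj⟩).symm

/-- Existence of a good presentation: `N / I N` free and `I` nilpotent. -/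
theorem exists_good_surjection {R : Type u} [CommRing R] (I : Ideal R)
    (hI : IsNilpotent I) (N : Type u) [AddCommGroup N] [Module R N]
    [Module.Free (R ⧸ I) ((R ⧸ I) ⊗[R] N)] :
    ∃ (ι : Type u) (g : (ι →₀ R) →ₗ[R] N), Surjective g ∧
      ∀ k ∈ LinearMap.ker g, ∀ i, k i ∈ I := by
  classical
  let b := Module.Free.chooseBasis (R ⧸ I) ((R ⧸ I) ⊗[R] N)
  choose m hm using fun k => Groth.Agent.Helper21.NP.exists_one_tmul I (b k)
  obtain ⟨g, hgdef⟩ : ∃ g : (Module.Free.ChooseBasisIndex (R ⧸ I) ((R ⧸ I) ⊗[R] N) →₀ R) →ₗ[R] N,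
    g = Finsupp.linearCombination R m := ⟨_, rfl⟩
  let b' := (Finsupp.basisSingleOne (R := R)
    (ι := Module.Free.ChooseBasisIndex (R ⧸ I) ((R ⧸ I) ⊗[R] N))).baseChange (R ⧸ I)
  let gb := LinearMap.baseChange (R ⧸ I) g
  have hgb : ∀ k, gb (b' k) = b k := by
    intro k
    rw [Module.Basis.baseChange_apply, LinearMap.baseChange_tmul, Finsupp.coe_basisSingleOne,
      hgdef, Finsupp.linearCombination_single, one_smul, hm]
  have hgbeq : gb = (b'.equiv b (Equiv.refl _)).toLinearMap :=
    b'.ext (fun k => by rw [hgb]; simp)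
  have hbij : Function.Bijective gb := by
    rw [hgbeq]
    exact (b'.equiv b (Equiv.refl _)).bijective
  have hsurj : Function.Surjective g := by
    rw [← LinearMap.range_eq_top]
    apply Groth.Agent.Helper21.NP.eq_top_of_sup_smul_eq_top I hI
    rw [eq_top_iff]
    intro y _
    obtain ⟨t, ht⟩ := hbij.2 ((1 : R ⧸ I) ⊗ₜ[R] y)
    obtain ⟨t', rfl⟩ := Groth.Agent.Helper21.NP.exists_one_tmul I t
    have h1 : (1 : R ⧸ I) ⊗ₜ[R] (y - g t') = 0 := by
      rw [TensorProduct.tmul_sub, ← ht, LinearMap.baseChange_tmul, sub_self]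
    have h2 := Groth.Agent.Helper21.NP.mem_smul_top_of_one_tmul_eq_zero I _ h1
    have h3 : y = g t' + (y - g t') := by abel
    rw [h3]
    exact Submodule.add_mem_sup (LinearMap.mem_range_self _ _) h2
  refine ⟨_, g, hsurj, ?_⟩
  intro k hk i
  have h1 : gb ((1 : R ⧸ I) ⊗ₜ[R] k) = 0 := by
    rw [LinearMap.baseChange_tmul, LinearMap.mem_ker.mp hk, TensorProduct.tmul_zero]
  have h2 : (1 : R ⧸ I) ⊗ₜ[R] k = 0 := hbij.1 (by rw [h1, map_zero])
  have h3 := algebraMap_coord_eq_zero (R ⧸ I) k h2 i
  exact Ideal.Quotient.eq_zero_iff_mem.mp h3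

/-- **The flattening ideal in the nilpotent situation.** -/
theorem exists_flattening_ideal_of_nilpotent {R : Type u} [CommRing R] (I : Ideal R)
    (hI : IsNilpotent I) (N : Type u) [AddCommGroup N] [Module R N]
    [Module.Free (R ⧸ I) ((R ⧸ I) ⊗[R] N)] :
    ∃ J : Ideal R, J ≤ I ∧ ∀ (A' : Type u) [CommRing A'] [Algebra R A'],
      (Module.Flat A' (A' ⊗[R] N) ↔ J.map (algebraMap R A') = ⊥) := by
  obtain ⟨ι, g, hsurj, hcoord⟩ := exists_good_surjection I hI N
  refine ⟨coordIdeal g, ?_, fun A' _ _ => flat_iff_coordIdeal_map_eq_bot I hI g hsurj hcoord A'⟩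
  rw [coordIdeal, Ideal.span_le]
  rintro _ ⟨k, hk, i, rfl⟩
  exact hcoord k hk i

end Groth.Agent.Helper21.FI
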