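import Mathlib
import Groth.Agent.Lib.Helper21.FA2
import Groth.Agent.Lib.Helper21.FI1

/-!
# Flatness over an Artinian local base via test families: auxiliary lemmas (helper21)
-/

set_option autoImplicit false
set_option linter.style.haveILetI false
set_option linter.unusedSectionVars false

universe u

open TensorProduct Function IsLocalRing

namespace Groth.Agent.Helper21.FA

/-- functionals to the residue field separate the points of a module killed by the maximal
ideal. -/
theorem eq_zero_of_forall_dual {A : Type u} [CommRing A] [IsLocalRing A] {V : Type u}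
    [AddCommGroup V] [Module A V] (hV : ∀ a ∈ maximalIdeal A, ∀ v : V, a • v = 0) (v : V)
    (h : ∀ ℓ : V →ₗ[A] (A ⧸ maximalIdeal A), ℓ v = 0) : v = 0 := by
  have hM : Module.IsTorsionBySet A V (maximalIdeal A : Set A) := fun v a => hV a.1 a.2 v
  letI : Field (A ⧸ maximalIdeal A) := Ideal.Quotient.field _
  letI := hM.module
  haveI : IsScalarTower A (A ⧸ maximalIdeal A) V := hM.isScalarTower
  rw [← Module.forall_dual_apply_eq_zero_iff (A ⧸ maximalIdeal A) v]
  intro φ
  exact h (φ.restrictScalars A)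

/-- coordinate functionals of a good presentation. -/
theorem exists_coord {A : Type u} [CommRing A] (I : Ideal A) {N : Type u} [AddCommGroup N]
    [Module A N] {ι : Type u} (g : (ι →₀ A) →ₗ[A] N) (hg : Surjective g)
    (hcoord : ∀ k ∈ LinearMap.ker g, ∀ i, k i ∈ I) (β : ι) :
    ∃ c : N →ₗ[A] (A ⧸ I), ∀ v : ι →₀ A, c (g v) = Ideal.Quotient.mk I (v β) := by
  let π : (ι →₀ A) →ₗ[A] (A ⧸ I) := (Submodule.mkQ I) ∘ₗ Finsupp.lapply β
  have hπ : LinearMap.ker g ≤ LinearMap.ker π := by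
    intro k hk
    rw [LinearMap.mem_ker]
    exact Ideal.Quotient.eq_zero_iff_mem.mpr (hcoord k hk β)
  refine ⟨(LinearMap.ker g).liftQ π hπ ∘ₗ (g.quotKerEquivOfSurjective hg).symm.toLinearMap, ?_⟩
  intro v
  have h1 : (g.quotKerEquivOfSurjective hg).symm (g v) = Submodule.Quotient.mk v := by
    rw [LinearEquiv.symm_apply_eq]
    rfl
  rw [LinearMap.comp_apply, LinearEquiv.coe_coe, h1, Submodule.liftQ_apply]
  rfl

/-- clearing denominators in a relation. -/
theorem exists_clear {A BW : Type u} [CommRing A] [CommRing BW] [Algebra A BW] (S : Submonoid BW)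
    {MW N : Type u} [AddCommGroup MW] [Module BW MW] [Module A MW] [IsScalarTower A BW MW]
    [AddCommGroup N] [Module BW N] [Module A N] [IsScalarTower A BW N]
    (f₀ : MW →ₗ[BW] N) [IsLocalizedModule S f₀] {ι : Type u} (s : Finset ι) (e : ι → N)
    (r : ι → A) (hr : ∑ α ∈ s, r α • e α = 0) :
    ∃ σ ∈ S, ∃ m : ι → MW, (∀ α ∈ s, f₀ (m α) = σ • e α) ∧ ∑ α ∈ s, r α • m α = 0 := by
  obtain ⟨σ₁, h1⟩ := IsLocalizedModule.exist_integer_multiples S f₀ s e
  choose! m' hm' using h1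
  have h2 : f₀ (∑ α ∈ s, r α • m' α) = 0 := by
    rw [map_sum]
    have : ∀ α ∈ s, f₀ (r α • m' α) = σ₁.1 • (r α • e α) := by
      intro α hα
      rw [LinearMap.map_smul_of_tower, hm' α hα, smul_comm]
    rw [Finset.sum_congr rfl this, ← Finset.smul_sum, hr, smul_zero]
  obtain ⟨σ₂, h3⟩ := (IsLocalizedModule.eq_zero_iff S f₀).mp h2
  refine ⟨σ₂.1 * σ₁.1, S.mul_mem σ₂.2 σ₁.2, fun α => σ₂.1 • m' α, ?_, ?_⟩
  · intro α hα
    rw [map_smul, hm' α hα, mul_smul]
  · have : ∀ α ∈ s, r α • σ₂.1 • m' α = σ₂.1 • (r α • m' α) := fun α _ => smul_comm _ _ _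
    rw [Finset.sum_congr rfl this, ← Finset.smul_sum]
    exact h3

section Ev

variable (A Λ BW R : Type u) [CommRing A] [CommRing Λ] [CommRing BW] [CommRing R]
  [Algebra A Λ] [Algebra A BW] [Algebra A R] [Algebra Λ R] [Algebra BW R]
  [IsScalarTower A Λ R] [IsScalarTower A BW R] [Algebra.IsPushout A Λ BW R]
  {MW : Type u} [AddCommGroup MW] [Module BW MW]
  {Q : Type u} [AddCommGroup Q] [Module A Q] [Module BW Q] [IsScalarTower A BW Q]
  {P₀ : Type u} [AddCommGroup P₀] [Module Λ P₀]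
  {P : Type u} [AddCommGroup P] [Module A P] [Module Λ P] [IsScalarTower A Λ P]
  {L : Type u} [AddCommGroup L] [Module R L] [Module Λ L] [IsScalarTower Λ R L]
  [Module BW L] [IsScalarTower BW R L]

/-- the evaluation map `L ⊗[Λ] P₀ → Q ⊗[A] P` for a base change `L = R ⊗[BW] MW`. -/
theorem exists_ev (f₀ : MW →ₗ[BW] Q) (π : P₀ →ₗ[Λ] P) (j : MW →ₗ[BW] L) (hj : IsBaseChange R j) :
    letI := pushMod A Λ BW R Q P
    ∃ ev : L ⊗[Λ] P₀ →ₗ[R] Q ⊗[A] P, ∀ (m : MW) (b : P₀), ev (j m ⊗ₜ[Λ] b) = f₀ m ⊗ₜ[A] π b := by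
  letI := pushMod A Λ BW R Q P
  letI modΛ : Module Λ (Q ⊗[A] P) := Module.compHom (Q ⊗[A] P) (algebraMap Λ R)
  haveI t1 : IsScalarTower Λ R (Q ⊗[A] P) := IsScalarTower.of_algebraMap_smul fun _ _ => rfl
  haveI t2 : IsScalarTower BW R (Q ⊗[A] P) := isScalarTower_pushMod_B A Λ BW R Q P
  haveI c1 : SMulCommClass Λ R (Q ⊗[A] P) := ⟨fun l c w => by
    change algebraMap Λ R l • c • w = c • algebraMap Λ R l • w
    rw [smul_smul, smul_smul, mul_comm]⟩
  haveI c2 : SMulCommClass Λ BW (Q ⊗[A] P) := ⟨fun l b w => by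
    change algebraMap Λ R l • b • w = b • algebraMap Λ R l • w
    rw [← pushMod_algebraMap_B_smul A Λ BW R Q P b w,
      ← pushMod_algebraMap_B_smul A Λ BW R Q P b (algebraMap Λ R l • w), smul_smul, smul_smul,
      mul_comm]⟩
  let ψ : Q →ₗ[BW] (P₀ →ₗ[Λ] Q ⊗[A] P) :=
    { toFun := fun q =>
        { toFun := fun b => q ⊗ₜ[A] π b
          map_add' := fun b b' => by rw [map_add, TensorProduct.tmul_add]
          map_smul' := fun l b => by
            rw [map_smul, RingHom.id_apply]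
            exact (pushMod_algebraMap_Λ_smul_tmul A Λ BW R Q P l q (π b)).symm }
      map_add' := fun q q' => LinearMap.ext fun b => TensorProduct.add_tmul q q' (π b)
      map_smul' := fun c q => LinearMap.ext fun b => (TensorProduct.smul_tmul' c q (π b)).symm }
  refine ⟨TensorProduct.AlgebraTensorModule.lift (hj.lift (ψ ∘ₗ f₀)), fun m b => ?_⟩
  rw [TensorProduct.AlgebraTensorModule.lift_tmul, IsBaseChange.lift_eq]
  rfl

end Ev

end Groth.Agent.Helper21.FA
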