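import Mathlib
import Groth.Agent.Lib.Helper21.FA3

/-!
# Flatness over an Artinian local base via test families: the Nakayama argument (helper21)
-/

set_option autoImplicit false
set_option linter.style.haveILetI false
set_option linter.unusedSectionVars false

universe u

open TensorProduct Function IsLocalRing

namespace Groth.Agent.Helper21.FA

theorem finite_tensor_quotient {A B : Type u} [CommRing A] [CommRing B] [Algebra A B] (I : Ideal A)
    {N : Type u} [AddCommGroup N] [Module B N] [Module A N] [IsScalarTower A B N]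
    [Module.Finite B N] : Module.Finite B (N ⊗[A] (A ⧸ I)) := by
  let φ : N →ₗ[B] N ⊗[A] (A ⧸ I) :=
    { toFun := fun n => n ⊗ₜ[A] (1 : A ⧸ I)
      map_add' := fun n n' => TensorProduct.add_tmul n n' _
      map_smul' := fun b n => (TensorProduct.smul_tmul' b n _).symm }
  refine Module.Finite.of_surjective φ ?_
  intro w
  induction w using TensorProduct.induction_on with
  | zero => exact ⟨0, map_zero _⟩
  | tmul n x =>
    obtain ⟨a, rfl⟩ := Ideal.Quotient.mk_surjective x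
    refine ⟨a • n, ?_⟩
    change (a • n) ⊗ₜ[A] (1 : A ⧸ I) = n ⊗ₜ[A] (Ideal.Quotient.mk I a)
    rw [TensorProduct.smul_tmul, Algebra.smul_def, mul_one]
    rfl
  | add x y hx hy =>
    obtain ⟨a, rfl⟩ := hx
    obtain ⟨b, rfl⟩ := hy
    exact ⟨a + b, map_add _ _ _⟩

section Nak

variable (A Λ BW R : Type u) [CommRing A] [IsLocalRing A] [CommRing Λ] [CommRing BW] [CommRing R]
  [Algebra A Λ] [Algebra A BW] [Algebra A R] [Algebra Λ R] [Algebra BW R]
  [IsScalarTower A Λ R] [IsScalarTower A BW R] [Algebra.IsPushout A Λ BW R]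
  (𝔮 : Ideal BW) [𝔮.IsPrime] (𝔪 : Ideal Λ)
  {B : Type u} [CommRing B] [Algebra BW B] [IsLocalization.AtPrime B 𝔮] [Algebra A B]
  [IsScalarTower A BW B] [IsNoetherianRing B]
  {N : Type u} [AddCommGroup N] [Module BW N] [Module B N] [IsScalarTower BW B N] [Module A N]
  [IsScalarTower A BW N] [IsScalarTower A B N] [Module.Finite B N]
  {V : Type u} [AddCommGroup V] [Module A V] [Module Λ V] [IsScalarTower A Λ V]

theorem nak (hV : ∀ l ∈ 𝔪, ∀ v : V, l • v = 0) (ℓ : V →ₗ[A] (A ⧸ maximalIdeal A))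
    (y : N ⊗[A] V) (σ : BW) (hσ : σ ∈ 𝔮.primeCompl) (n : R)
    (hn : n ∈ Ideal.span (algebraMap BW R '' (𝔮 : Set BW) ∪ algebraMap Λ R '' (𝔪 : Set Λ)))
    (hy : letI := pushMod A Λ BW R N V
      algebraMap BW R σ • y = n • y) :
    TensorProduct.AlgebraTensorModule.lTensor B N ℓ y = 0 := by
  letI := pushMod A Λ BW R N V
  haveI := isScalarTower_pushMod_B A Λ BW R N V
  haveI : IsLocalRing B := IsLocalization.AtPrime.isLocalRing B 𝔮
  obtain ⟨Pi₀, hPi₀⟩ : ∃ Pi₀ : N ⊗[A] V →ₗ[B] N ⊗[A] (A ⧸ maximalIdeal A),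
    Pi₀ = TensorProduct.AlgebraTensorModule.lTensor B N ℓ := ⟨_, rfl⟩
  rw [← hPi₀]
  let Z : Submodule R (N ⊗[A] V) := Submodule.span R {y}
  let Y : Submodule B (N ⊗[A] (A ⧸ maximalIdeal A)) := Submodule.span B (Pi₀ '' (Z : Set _))
  have hBW : ∀ (b : BW) (w : N ⊗[A] V), Pi₀ (b • w) = algebraMap BW B b • Pi₀ w := by
    intro b w
    rw [← IsScalarTower.algebraMap_smul B b w, map_smul]
  have key : ∀ n ∈ Ideal.span (algebraMap BW R '' (𝔮 : Set BW) ∪ algebraMap Λ R '' (𝔪 : Set Λ)),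
      ∀ z ∈ Z, Pi₀ (n • z) ∈ maximalIdeal B • Y := by
    intro n hn
    induction hn using Submodule.span_induction with
    | mem x hx =>
      intro z hz
      rcases hx with ⟨q, hq, rfl⟩ | ⟨l, hl, rfl⟩
      · rw [IsScalarTower.algebraMap_smul, hBW]
        refine Submodule.smul_mem_smul ?_ (Submodule.subset_span ⟨z, hz, rfl⟩)
        exact (IsLocalization.AtPrime.to_map_mem_maximal_iff B 𝔮 q).mpr hq
      · rw [pushMod_algebraMap_Λ_smul_eq_zero A Λ BW R N V l (hV l hl) z, map_zero]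
        exact zero_mem _
    | zero => intro z _; rw [zero_smul, map_zero]; exact zero_mem _
    | add a b _ _ ha hb => intro z hz; rw [add_smul, map_add]; exact add_mem (ha z hz) (hb z hz)
    | smul c x _ hx =>
      intro z hz
      rw [smul_eq_mul, mul_comm, mul_smul]
      exact hx (c • z) (Z.smul_mem c hz)
  have hZ : ∀ z ∈ Z, algebraMap BW R σ • z = n • z := by
    intro z hz
    obtain ⟨c, rfl⟩ := Submodule.mem_span_singleton.mp hz
    rw [smul_comm, hy, smul_comm]
  have hle : Y ≤ maximalIdeal B • Y := by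
    rw [Submodule.span_le]
    rintro _ ⟨z, hz, rfl⟩
    have h1 := key n hn z hz
    rw [← hZ z hz, IsScalarTower.algebraMap_smul, hBW] at h1
    have hu : IsUnit (algebraMap BW B σ) := IsLocalization.map_units B (⟨σ, hσ⟩ : 𝔮.primeCompl)
    obtain ⟨u, hu'⟩ := hu
    have h2 := Submodule.smul_mem (maximalIdeal B • Y) (↑u⁻¹ : B) h1
    rwa [← hu', smul_smul, Units.inv_mul, one_smul] at h2
  haveI : Module.Finite B (N ⊗[A] (A ⧸ maximalIdeal A)) := finite_tensor_quotient _
  haveI : IsNoetherian B (N ⊗[A] (A ⧸ maximalIdeal A)) :=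
    isNoetherian_of_isNoetherianRing_of_finite _ _
  have hfg : Y.FG := IsNoetherian.noetherian Y
  have hbot := Submodule.eq_bot_of_le_smul_of_le_jacobson_bot (maximalIdeal B) Y hfg hle
    (IsLocalRing.maximalIdeal_le_jacobson _)
  have hmem : Pi₀ y ∈ Y := Submodule.subset_span ⟨y, Submodule.mem_span_singleton_self y, rfl⟩
  rw [hbot] at hmem
  exact (Submodule.mem_bot B).mp hmem

end Nak

section Coords

variable {A BW : Type u} [CommRing A] [IsLocalRing A] [CommRing BW] [Algebra A BW]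
  (𝔮 : Ideal BW) [𝔮.IsPrime]
  {B : Type u} [CommRing B] [Algebra BW B] [IsLocalization.AtPrime B 𝔮] [Algebra A B]
  [IsScalarTower A BW B]
  {N : Type u} [AddCommGroup N] [Module BW N] [Module B N] [IsScalarTower BW B N] [Module A N]
  [IsScalarTower A BW N] [IsScalarTower A B N]

include B in
theorem coords_eq_zero {ι : Type u} (g : (ι →₀ A) →ₗ[A] N) (hg : Surjective g)
    (hcoord : ∀ k ∈ LinearMap.ker g, ∀ i, k i ∈ maximalIdeal A)
    (σ : BW) (hσ : σ ∈ 𝔮.primeCompl) (s : Finset ι) (x : ι → A ⧸ maximalIdeal A)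
    (h : ∑ α ∈ s, (σ • g (Finsupp.single α 1)) ⊗ₜ[A] x α = 0) : ∀ β ∈ s, x β = 0 := by
  classical
  have h1 : algebraMap BW B σ • ∑ α ∈ s, g (Finsupp.single α 1) ⊗ₜ[A] x α = 0 := by
    rw [Finset.smul_sum, ← h]
    refine Finset.sum_congr rfl fun α _ => ?_
    rw [TensorProduct.smul_tmul', IsScalarTower.algebraMap_smul]
  have hu : IsUnit (algebraMap BW B σ) := IsLocalization.map_units B (⟨σ, hσ⟩ : 𝔮.primeCompl)
  obtain ⟨u, hu'⟩ := hu
  have h2 : ∑ α ∈ s, g (Finsupp.single α 1) ⊗ₜ[A] x α = 0 := by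
    have := congrArg (fun w => (↑u⁻¹ : B) • w) h1
    simpa [← hu', smul_smul] using this
  intro β hβ
  obtain ⟨c, hc⟩ := exists_coord (maximalIdeal A) g hg hcoord β
  let χ : N ⊗[A] (A ⧸ maximalIdeal A) →ₗ[A] (A ⧸ maximalIdeal A) :=
    TensorProduct.lift ((LinearMap.mul A (A ⧸ maximalIdeal A)) ∘ₗ c)
  have h3 := congrArg χ h2
  rw [map_sum, map_zero] at h3
  have h4 : ∀ α ∈ s, χ (g (Finsupp.single α 1) ⊗ₜ[A] x α) = if α = β then x α else 0 := by
    intro α _
    change (LinearMap.mul A (A ⧸ maximalIdeal A)) (c (g (Finsupp.single α 1))) (x α) = _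
    rw [hc, LinearMap.mul_apply', Finsupp.single_apply]
    split_ifs
    · rw [map_one, one_mul]
    · rw [map_zero, zero_mul]
  rw [Finset.sum_congr rfl h4, Finset.sum_ite_eq' s β, if_pos hβ] at h3
  exact h3

end Coords

end Groth.Agent.Helper21.FA
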