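import Mathlib
import Groth.Agent.Lib.Helper21.FA4

/-!
# Flatness over an Artinian local base via test families: the ring-level statement (helper21)
-/

set_option autoImplicit false
set_option linter.style.haveILetI false
set_option linter.unusedSectionVars false

universe u

open TensorProduct Function IsLocalRing

namespace Groth.Agent.Helper21.FA

section Main

variable {A : Type u} [CommRing A] [IsLocalRing A]
  {BW : Type u} [CommRing BW] [Algebra A BW] (𝔮 : Ideal BW) [𝔮.IsPrime]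
  {MW : Type u} [AddCommGroup MW] [Module BW MW] [Module A MW] [IsScalarTower A BW MW]
  {B : Type u} [CommRing B] [Algebra BW B] [IsLocalization.AtPrime B 𝔮] [Algebra A B]
  [IsScalarTower A BW B] [IsNoetherianRing B]
  {N : Type u} [AddCommGroup N] [Module BW N] [Module B N] [IsScalarTower BW B N] [Module A N]
  [IsScalarTower A BW N] [IsScalarTower A B N] [Module.Finite B N]
  (f₀ : MW →ₗ[BW] N) [IsLocalizedModule 𝔮.primeCompl f₀]
  {ι : Type u} (g : (ι →₀ A) →ₗ[A] N) (hg : Surjective g)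
  (hcoord : ∀ k ∈ LinearMap.ker g, ∀ i, k i ∈ maximalIdeal A)
  {Λ : Type u} [CommRing Λ] [Algebra A Λ] (𝔪 : Ideal Λ) [𝔪.IsMaximal]
  {R : Type u} [CommRing R] [Algebra A R] [Algebra Λ R] [Algebra BW R] [IsScalarTower A Λ R]
  [IsScalarTower A BW R] [Algebra.IsPushout A Λ BW R]
  {L : Type u} [AddCommGroup L] [Module R L] [Module Λ L] [IsScalarTower Λ R L] [Module BW L]
  [IsScalarTower BW R L]
  (j : MW →ₗ[BW] L) (hj : IsBaseChange R j)

include B f₀ hg hcoord hj in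
set_option maxHeartbeats 1600000 in
/-- the key step: the images of the coordinates of a relation lie in `𝔪 𝔟`. -/
theorem relation_mem_smul_top (hnil : IsNilpotent (maximalIdeal A))
    (hF : ∀ P : Ideal R, ∀ _ : P.IsPrime, P.comap (algebraMap BW R) = 𝔮 →
      P.comap (algebraMap Λ R) = 𝔪 → Module.Flat Λ (LocalizedModule P.primeCompl L))
    (𝔟 : Ideal Λ) (r : ι →₀ A) (hr : r ∈ LinearMap.ker g)
    (hb : ∀ α, algebraMap A Λ (r α) ∈ 𝔟) (β : ι) :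
    (⟨algebraMap A Λ (r β), hb β⟩ : ↥𝔟) ∈ 𝔪 • (⊤ : Submodule Λ ↥𝔟) := by
  classical
  -- `u` maps the maximal ideal into `𝔪`
  have hu : ∀ a ∈ maximalIdeal A, algebraMap A Λ a ∈ 𝔪 := by
    intro a ha
    obtain ⟨n, hn⟩ := hnil
    have h1 : a ^ n ∈ (maximalIdeal A) ^ n := Ideal.pow_mem_pow ha n
    rw [hn] at h1
    have h2 : a ^ n = 0 := h1
    have h3 : (algebraMap A Λ a) ^ n = 0 := by rw [← map_pow, h2, map_zero]
    exact (Ideal.IsMaximal.isPrime ‹_›).mem_of_pow_mem n (h3 ▸ zero_mem _)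
  have hVΛ : ∀ l ∈ 𝔪, ∀ v : ↥𝔟 ⧸ 𝔪 • (⊤ : Submodule Λ ↥𝔟), l • v = 0 := by
    intro l hl v
    obtain ⟨b, rfl⟩ := Submodule.Quotient.mk_surjective _ v
    rw [← Submodule.Quotient.mk_smul, Submodule.Quotient.mk_eq_zero]
    exact Submodule.smul_mem_smul hl Submodule.mem_top
  have hVA : ∀ a ∈ maximalIdeal A, ∀ v : ↥𝔟 ⧸ 𝔪 • (⊤ : Submodule Λ ↥𝔟), a • v = 0 := by
    intro a ha v
    rw [← IsScalarTower.algebraMap_smul Λ a v]
    exact hVΛ _ (hu a ha) v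
  by_cases hβ : β ∈ r.support
  swap
  · have h0 : r β = 0 := Finsupp.notMem_support_iff.mp hβ
    have h1 : (⟨algebraMap A Λ (r β), hb β⟩ : ↥𝔟) = 0 := by
      apply Subtype.ext
      change algebraMap A Λ (r β) = 0
      rw [h0, map_zero]
    rw [h1]
    exact zero_mem _
  -- the relation
  have hsum : ∑ α ∈ r.support, r α • g (Finsupp.single α 1) = 0 := by
    have h1 : g r = 0 := LinearMap.mem_ker.mp hr
    rw [← Finsupp.sum_single r, Finsupp.sum, map_sum] at h1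
    rw [← h1]
    refine Finset.sum_congr rfl fun α _ => ?_
    rw [← map_smul, Finsupp.smul_single, smul_eq_mul, mul_one]
  obtain ⟨σ, hσ, m, hm1, hm2⟩ := exists_clear 𝔮.primeCompl f₀ r.support
    (fun α => g (Finsupp.single α 1)) r hsum
  obtain ⟨ζ, hζdef⟩ : ∃ ζ : L ⊗[Λ] ↥𝔟,
    ζ = ∑ α ∈ r.support, j (m α) ⊗ₜ[Λ] (⟨algebraMap A Λ (r α), hb α⟩ : ↥𝔟) := ⟨_, rfl⟩
  have hcompat : ∀ (a : A) (x : MW), algebraMap A Λ a • j x = j (a • x) := by
    intro a x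
    rw [← IsScalarTower.algebraMap_smul R (algebraMap A Λ a) (j x),
      ← IsScalarTower.algebraMap_apply A Λ R, IsScalarTower.algebraMap_apply A BW R,
      IsScalarTower.algebraMap_smul, ← map_smul, IsScalarTower.algebraMap_smul]
  have hζ : mulR 𝔟 L ζ = 0 := by
    rw [hζdef, map_sum]
    have : ∀ α ∈ r.support, mulR 𝔟 L (j (m α) ⊗ₜ[Λ] (⟨algebraMap A Λ (r α), hb α⟩ : ↥𝔟)) =
        j (r α • m α) := fun α _ => by rw [mulR_tmul]; exact hcompat _ _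
    rw [Finset.sum_congr rfl this, ← map_sum, hm2, map_zero]
  -- globalise
  obtain ⟨s, hs, n, hn, hsn⟩ := exists_sub_smul_eq_zero ζ
    (Ideal.span (algebraMap BW R '' (𝔮 : Set BW) ∪ algebraMap Λ R '' (𝔪 : Set Λ)))
    (𝔮.primeCompl.map (algebraMap BW R : BW →* R)) (fun P hP hle hdis => by
      have h1 : P.comap (algebraMap BW R) = 𝔮 :=
        le_antisymm (fun b hb => by
          by_contra hb'
          exact Set.disjoint_left.mp hdis hb ⟨b, hb', rfl⟩)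
          (fun q hq => hle (Ideal.subset_span (Or.inl ⟨q, hq, rfl⟩)))
      have h2 : P.comap (algebraMap Λ R) = 𝔪 :=
        (Ideal.IsMaximal.eq_of_le ‹𝔪.IsMaximal› (Ideal.comap_ne_top _ hP.ne_top)
          (fun l hl => hle (Ideal.subset_span (Or.inr ⟨l, hl, rfl⟩)))).symm
      haveI := hP
      obtain ⟨s, hs, hs0⟩ := exists_smul_eq_zero_of_flat 𝔟 P (hF P hP h1 h2) ζ hζ
      exact ⟨s, hs, hs0⟩)
  obtain ⟨σ', hσ', rfl⟩ := hs
  -- evaluate
  letI := pushMod A Λ BW R N (↥𝔟 ⧸ 𝔪 • (⊤ : Submodule Λ ↥𝔟))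
  obtain ⟨ev, hev⟩ := exists_ev A Λ BW R f₀ (Submodule.mkQ (𝔪 • (⊤ : Submodule Λ ↥𝔟))) j hj
  have hy : algebraMap BW R σ' • ev ζ = n • ev ζ := by
    rw [← map_smul, ← map_smul]
    exact congrArg ev hsn
  have hyform : ev ζ = ∑ α ∈ r.support, (σ • g (Finsupp.single α 1)) ⊗ₜ[A]
      (Submodule.mkQ (𝔪 • (⊤ : Submodule Λ ↥𝔟)) (⟨algebraMap A Λ (r α), hb α⟩ : ↥𝔟)) := by
    rw [hζdef, map_sum]
    refine Finset.sum_congr rfl fun α hα => ?_
    rw [hev, hm1 α hα]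
  refine (Submodule.Quotient.mk_eq_zero _).mp ?_
  refine eq_zero_of_forall_dual hVA _ fun ℓ => ?_
  have h0 := nak A Λ BW R 𝔮 𝔪 (B := B) hVΛ ℓ (ev ζ) σ' hσ' n hn hy
  rw [hyform, map_sum] at h0
  have h1 : ∀ α ∈ r.support, TensorProduct.AlgebraTensorModule.lTensor B N ℓ
      ((σ • g (Finsupp.single α 1)) ⊗ₜ[A]
        (Submodule.mkQ (𝔪 • (⊤ : Submodule Λ ↥𝔟)) (⟨algebraMap A Λ (r α), hb α⟩ : ↥𝔟))) =
      (σ • g (Finsupp.single α 1)) ⊗ₜ[A]
        ℓ (Submodule.mkQ (𝔪 • (⊤ : Submodule Λ ↥𝔟)) (⟨algebraMap A Λ (r α), hb α⟩ : ↥𝔟)) :=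
    fun α _ => rfl
  rw [Finset.sum_congr rfl h1] at h0
  exact coords_eq_zero 𝔮 (B := B) g hg hcoord σ hσ r.support
    (fun α => ℓ (Submodule.mkQ (𝔪 • (⊤ : Submodule Λ ↥𝔟))
      (⟨algebraMap A Λ (r α), hb α⟩ : ↥𝔟))) h0 β hβ

include B f₀ hg hcoord hj in
/-- **Ring-level statement.** -/
theorem map_coordIdeal_le_smul (hnil : IsNilpotent (maximalIdeal A))
    (hF : ∀ P : Ideal R, ∀ _ : P.IsPrime, P.comap (algebraMap BW R) = 𝔮 →
      P.comap (algebraMap Λ R) = 𝔪 → Module.Flat Λ (LocalizedModule P.primeCompl L)) :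
    (FI.coordIdeal g).map (algebraMap A Λ) ≤ 𝔪 • (FI.coordIdeal g).map (algebraMap A Λ) := by
  obtain ⟨𝔟, h𝔟⟩ : ∃ 𝔟 : Ideal Λ, 𝔟 = (FI.coordIdeal g).map (algebraMap A Λ) := ⟨_, rfl⟩
  rw [← h𝔟]
  have hgen : 𝔟 = Ideal.span (algebraMap A Λ '' {a | ∃ k ∈ LinearMap.ker g, ∃ i, k i = a}) := by
    rw [h𝔟, FI.coordIdeal, Ideal.map_span]
  have hmem : ∀ r ∈ LinearMap.ker g, ∀ α, algebraMap A Λ (r α) ∈ 𝔟 := by
    intro r hr α
    rw [hgen]
    exact Ideal.subset_span ⟨_, ⟨r, hr, α, rfl⟩, rfl⟩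
  nth_rw 1 [hgen]
  rw [Ideal.span_le]
  rintro _ ⟨_, ⟨r, hr, β, rfl⟩, rfl⟩
  have h1 := relation_mem_smul_top 𝔮 (B := B) f₀ g hg hcoord 𝔪 j hj hnil hF 𝔟 r hr (hmem r hr) β
  have h2 := Submodule.mem_map_of_mem (f := (𝔟 : Submodule Λ Λ).subtype) h1
  rw [Submodule.map_smul'', Submodule.map_top, Submodule.range_subtype] at h2
  exact h2

end Main

end Groth.Agent.Helper21.FA
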