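import Mathlib
import Groth.Agent.Lib.Helper2.GenericFreeMain
import Groth.Agent.Lib.Helper21.NilProj

/-!
# Freeness after a principal localization modulo an ideal (helper21)

* `free_tensor_of_isBaseChange`: transfer of freeness along base change.
* `exists_mem_inf_notMem`: an element in all other minimal primes but not in a given one.
* `exists_free_step`: `A` Noetherian, `S₀` of finite type, `M₀` finite over `S₀` and flat over `A`,
  `I ≠ ⊤`; then there is `f ∉ I` with `(A_f / I A_f) ⊗ M₀` free.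
-/

set_option autoImplicit false
set_option linter.style.haveILetI false
set_option linter.unusedSectionVars false

universe u

open TensorProduct Function

namespace Groth.Agent.Helper21.GrL

/-- Freeness of `Q ⊗_A M₀` from freeness of a base change `L` of `M₀` to an intermediate algebra. -/
theorem free_tensor_of_isBaseChange {A : Type u} [CommRing A] {M₀ : Type u} [AddCommGroup M₀]
    [Module A M₀] (K : Type u) [CommRing K] [Algebra A K] {L : Type u} [AddCommGroup L] [Module K L]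
    [Module A L] [IsScalarTower A K L] (g : M₀ →ₗ[A] L) (hg : IsBaseChange K g) [Module.Free K L]
    (Q : Type u) [CommRing Q] [Algebra A Q] [Algebra K Q] [IsScalarTower A K Q] :
    Module.Free Q (Q ⊗[A] M₀) := by
  let e₁ : Q ⊗[K] (K ⊗[A] M₀) ≃ₗ[Q] Q ⊗[A] M₀ := AlgebraTensorModule.cancelBaseChange A K Q Q M₀
  let e₂ : Q ⊗[K] (K ⊗[A] M₀) ≃ₗ[Q] Q ⊗[K] L :=
    AlgebraTensorModule.congr (LinearEquiv.refl Q Q) hg.equiv
  exact Module.Free.of_equiv (e₂.symm ≪≫ₗ e₁)

/-- In a Noetherian ring, given a minimal prime `𝔭` over `I`, there is an element outside `𝔭` lying in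
all other minimal primes over `I`. -/
theorem exists_mem_inf_notMem {A : Type u} [CommRing A] [IsNoetherianRing A] (I : Ideal A)
    (𝔭 : Ideal A) (h𝔭 : 𝔭 ∈ I.minimalPrimes) :
    ∃ g : A, g ∉ 𝔭 ∧ ∀ q ∈ I.minimalPrimes, q ≠ 𝔭 → g ∈ q := by
  classical
  have hfin : (I.minimalPrimes \ {𝔭}).Finite :=
    (Ideal.finite_minimalPrimes_of_isNoetherianRing A I).subset Set.sdiff_subset
  haveI : 𝔭.IsPrime := h𝔭.1.1
  have hnle : ¬ (hfin.toFinset.inf id ≤ 𝔭) := by
    intro hle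
    obtain ⟨q, hq, hq𝔭⟩ := (Ideal.IsPrime.inf_le' (inferInstance : 𝔭.IsPrime)).mp hle
    rw [Set.Finite.mem_toFinset] at hq
    have h1 : 𝔭 ≤ q := h𝔭.2 hq.1.1 hq𝔭
    exact hq.2 (le_antisymm hq𝔭 h1)
  obtain ⟨g, hg, hg𝔭⟩ := SetLike.not_le_iff_exists.mp hnle
  refine ⟨g, hg𝔭, fun q hq hne => ?_⟩
  have hqF : q ∈ hfin.toFinset := by
    rw [Set.Finite.mem_toFinset]
    exact ⟨hq, hne⟩
  exact (Finset.inf_le hqF : hfin.toFinset.inf id ≤ id q) hg


/-- The ring `A_f / I A_f`. -/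
abbrev Rq (A : Type u) [CommRing A] (I : Ideal A) (f : A) : Type u :=
  Localization.Away f ⧸ I.map (algebraMap A (Localization.Away f))

/-- `(A_f / J A_f) ⊗_A M₀` is free over `A_f / J A_f`. -/
def FreeAt (A : Type u) [CommRing A] (M₀ : Type u) [AddCommGroup M₀] [Module A M₀] (J : Ideal A)
    (f : A) : Prop :=
  Module.Free (Rq A J f) (Rq A J f ⊗[A] M₀)

theorem algebraMap_Rq {A : Type u} [CommRing A] (I : Ideal A) (f a : A) :
    algebraMap A (Rq A I f) a =
      Ideal.Quotient.mk (I.map (algebraMap A (Localization.Away f)))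
        (algebraMap A (Localization.Away f) a) := rfl

theorem isUnit_algebraMap_Rq {A : Type u} [CommRing A] (I : Ideal A) (f : A) :
    IsUnit (algebraMap A (Rq A I f) f) := by
  rw [algebraMap_Rq]
  exact (IsLocalization.Away.algebraMap_isUnit f).map _

theorem algebraMap_Rq_eq_zero {A : Type u} [CommRing A] (I : Ideal A) (f : A) {a : A} (ha : a ∈ I) :
    algebraMap A (Rq A I f) a = 0 := by
  rw [algebraMap_Rq]
  exact Ideal.Quotient.eq_zero_iff_mem.mpr (Ideal.mem_map_of_mem _ ha)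

/-- Abstract form of the lifting of freeness. -/
theorem free_of_nilpotent_data {A : Type u} [CommRing A] [IsNoetherianRing A] {M₀ : Type u}
    [AddCommGroup M₀] [Module A M₀] (R' : Type u) [CommRing R'] [Algebra A R']
    [Module.Flat R' (R' ⊗[A] M₀)] (𝔭 : Ideal A) (hN : 𝔭.map (algebraMap A R') ≤ nilradical R')
    (K : Type u) [CommRing K] [Algebra A K] {L : Type u} [AddCommGroup L] [Module K L]
    [Module A L] [IsScalarTower A K L] (g : M₀ →ₗ[A] L) (hg : IsBaseChange K g) [Module.Free K L]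
    (φ : K →ₐ[A] (R' ⧸ 𝔭.map (algebraMap A R'))) :
    Module.Free R' (R' ⊗[A] M₀) := by
  have hfg : (𝔭.map (algebraMap A R')).FG := Ideal.FG.map (IsNoetherian.noetherian 𝔭) _
  have hNnil : IsNilpotent (𝔭.map (algebraMap A R')) :=
    (Ideal.FG.isNilpotent_iff_le_nilradical hfg).mpr hN
  letI : Algebra K (R' ⧸ 𝔭.map (algebraMap A R')) := φ.toRingHom.toAlgebra
  haveI : IsScalarTower A K (R' ⧸ 𝔭.map (algebraMap A R')) :=
    IsScalarTower.of_algebraMap_eq fun a => (φ.commutes a).symm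
  have hQfree : Module.Free (R' ⧸ 𝔭.map (algebraMap A R'))
      ((R' ⧸ 𝔭.map (algebraMap A R')) ⊗[A] M₀) :=
    free_tensor_of_isBaseChange K g hg (R' ⧸ 𝔭.map (algebraMap A R'))
  haveI : Module.Free (R' ⧸ 𝔭.map (algebraMap A R'))
      ((R' ⧸ 𝔭.map (algebraMap A R')) ⊗[R'] (R' ⊗[A] M₀)) :=
    Module.Free.of_equiv (AlgebraTensorModule.cancelBaseChange A R'
      (R' ⧸ 𝔭.map (algebraMap A R')) (R' ⧸ 𝔭.map (algebraMap A R')) M₀).symm
  exact NP.free_of_flat_of_free_quot (𝔭.map (algebraMap A R')) hNnil (R' ⊗[A] M₀)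


theorem isUnit_left_of_isUnit_mul {M : Type*} [CommMonoid M] {a b : M} (h : IsUnit (a * b)) :
    IsUnit a := by
  obtain ⟨c, hc⟩ := h.exists_right_inv
  exact ⟨⟨a, b * c, by rw [← mul_assoc]; exact hc, by rw [mul_comm, ← mul_assoc]; exact hc⟩, rfl⟩

set_option maxHeartbeats 1600000 in
set_option synthInstance.maxHeartbeats 400000 in
/-- Lifting of freeness from generic freeness on `A/𝔭`: abstract form. -/
theorem free_of_gfree_data {A : Type u} [CommRing A] [IsNoetherianRing A] {M₀ : Type u}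
    [AddCommGroup M₀] [Module A M₀] (R' : Type u) [CommRing R'] [Algebra A R']
    [Module.Flat R' (R' ⊗[A] M₀)] (𝔭 : Ideal A) [𝔭.IsPrime]
    (hN : 𝔭.map (algebraMap A R') ≤ nilradical R') (s : A) (hs : IsUnit (algebraMap A R' s))
    [Module.Free (Localization.Away (Ideal.Quotient.mk 𝔭 s))
      (LocalizedModule.Away (Ideal.Quotient.mk 𝔭 s) ((A ⧸ 𝔭) ⊗[A] M₀))] :
    Module.Free R' (R' ⊗[A] M₀) := by
  have hkill : ∀ a : A, a ∈ 𝔭 →
      ((Ideal.Quotient.mk (𝔭.map (algebraMap A R'))).comp (algebraMap A R')) a = 0 := by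
    intro a ha
    exact Ideal.Quotient.eq_zero_iff_mem.mpr (Ideal.mem_map_of_mem _ ha)
  let φ₀ : (A ⧸ 𝔭) →+* (R' ⧸ 𝔭.map (algebraMap A R')) :=
    Ideal.Quotient.lift 𝔭 ((Ideal.Quotient.mk (𝔭.map (algebraMap A R'))).comp (algebraMap A R'))
      hkill
  have hφ₀ : ∀ a : A, φ₀ (Ideal.Quotient.mk 𝔭 a) =
      Ideal.Quotient.mk (𝔭.map (algebraMap A R')) (algebraMap A R' a) := fun a =>
    Ideal.Quotient.lift_mk _ _ _
  have hsu : IsUnit (φ₀ (Ideal.Quotient.mk 𝔭 s)) := by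
    rw [hφ₀]
    exact hs.map _
  let φ₁ : Localization.Away (Ideal.Quotient.mk 𝔭 s) →+* (R' ⧸ 𝔭.map (algebraMap A R')) :=
    IsLocalization.Away.lift (Ideal.Quotient.mk 𝔭 s) hsu
  let φ : Localization.Away (Ideal.Quotient.mk 𝔭 s) →ₐ[A] (R' ⧸ 𝔭.map (algebraMap A R')) :=
    { φ₁ with
      commutes' := fun a => by
        change φ₁ (algebraMap A (Localization.Away (Ideal.Quotient.mk 𝔭 s)) a) = _
        rw [IsScalarTower.algebraMap_apply A (A ⧸ 𝔭) (Localization.Away (Ideal.Quotient.mk 𝔭 s)),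
          IsLocalization.Away.lift_eq]
        exact hφ₀ a }
  have hg₁ : IsBaseChange (A ⧸ 𝔭) (TensorProduct.mk A (A ⧸ 𝔭) M₀ 1) :=
    TensorProduct.isBaseChange A M₀ (A ⧸ 𝔭)
  have hg₂ : IsBaseChange (Localization.Away (Ideal.Quotient.mk 𝔭 s))
      (LocalizedModule.mkLinearMap (Submonoid.powers (Ideal.Quotient.mk 𝔭 s))
        ((A ⧸ 𝔭) ⊗[A] M₀)) :=
    IsLocalizedModule.isBaseChange (Submonoid.powers (Ideal.Quotient.mk 𝔭 s)) _ _
  have hgc := IsBaseChange.comp hg₁ hg₂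
  haveI : IsScalarTower A (Localization.Away (Ideal.Quotient.mk 𝔭 s))
      (LocalizedModule.Away (Ideal.Quotient.mk 𝔭 s) ((A ⧸ 𝔭) ⊗[A] M₀)) := inferInstance
  refine free_of_nilpotent_data R' 𝔭 hN (Localization.Away (Ideal.Quotient.mk 𝔭 s))
    (L := LocalizedModule.Away (Ideal.Quotient.mk 𝔭 s) ((A ⧸ 𝔭) ⊗[A] M₀))
    (((LocalizedModule.mkLinearMap (Submonoid.powers (Ideal.Quotient.mk 𝔭 s))
        ((A ⧸ 𝔭) ⊗[A] M₀)).restrictScalars A).comp (TensorProduct.mk A (A ⧸ 𝔭) M₀ 1)) ?_ φ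
  exact hgc

end Groth.Agent.Helper21.GrL
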