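import Mathlib
import Groth.Agent.Lib.Helper21.GrL1

/-!
# Freeness after a principal localization modulo an ideal: the Noetherian step (helper21)
-/

set_option autoImplicit false
set_option linter.style.haveILetI false
set_option linter.unusedSectionVars false

universe u

open TensorProduct Function

namespace Groth.Agent.Helper21.GrL

section Step

variable (A : Type u) [CommRing A] [IsNoetherianRing A] (S₀ : Type u) [CommRing S₀] [Algebra A S₀]
  [Algebra.FiniteType A S₀] (M₀ : Type u) [AddCommGroup M₀] [Module S₀ M₀] [Module A M₀]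
  [IsScalarTower A S₀ M₀] [Module.Finite S₀ M₀]

include S₀

set_option backward.isDefEq.respectTransparency false in
set_option backward.isDefEq.respectTransparency.types false in
attribute [local instance] Algebra.TensorProduct.rightAlgebra in
/-- Generic freeness over `A/𝔭`. -/
theorem exists_gfree_quot (𝔭 : Ideal A) [𝔭.IsPrime] :
    ∃ s : A, s ∉ 𝔭 ∧ Module.Free (Localization.Away (Ideal.Quotient.mk 𝔭 s))
      (LocalizedModule.Away (Ideal.Quotient.mk 𝔭 s) ((A ⧸ 𝔭) ⊗[A] M₀)) := by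
  obtain ⟨f, hf0, hf⟩ := Groth.Agent.Helper2.GenericFree.exists_gfree (R := A ⧸ 𝔭)
    ((A ⧸ 𝔭) ⊗[A] S₀) (((A ⧸ 𝔭) ⊗[A] S₀) ⊗[S₀] M₀)
  let e : (((A ⧸ 𝔭) ⊗[A] S₀) ⊗[S₀] M₀) ≃ₗ[A ⧸ 𝔭] (A ⧸ 𝔭) ⊗[A] M₀ :=
    Algebra.IsPushout.cancelBaseChange A (A ⧸ 𝔭) S₀ ((A ⧸ 𝔭) ⊗[A] S₀) M₀
  have hf' : Groth.Agent.Helper2.GenericFree.GFree f ((A ⧸ 𝔭) ⊗[A] M₀) := hf.of_equiv e
  have hfree := hf'.free_localizedModule
  obtain ⟨s, rfl⟩ := Ideal.Quotient.mk_surjective f
  exact ⟨s, fun hs => hf0 (Ideal.Quotient.eq_zero_iff_mem.mpr hs), hfree⟩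

variable [Module.Flat A M₀]

/-- **The Noetherian step.** -/
theorem exists_free_step (I : Ideal A) (hI : I ≠ ⊤) : ∃ f : A, f ∉ I ∧ FreeAt A M₀ I f := by
  classical
  obtain ⟨𝔭, h𝔭⟩ := Ideal.nonempty_minimalPrimes hI
  haveI : 𝔭.IsPrime := h𝔭.1.1
  have hI𝔭 : I ≤ 𝔭 := h𝔭.1.2
  obtain ⟨g, hg𝔭, hg⟩ := exists_mem_inf_notMem I 𝔭 h𝔭
  obtain ⟨s, hs𝔭, hfree⟩ := exists_gfree_quot A S₀ M₀ 𝔭
  haveI := hfree
  obtain ⟨f, hf⟩ : ∃ f : A, f = s * g := ⟨_, rfl⟩
  have hf𝔭 : f ∉ 𝔭 := fun h => (Ideal.IsPrime.mem_or_mem inferInstance (hf ▸ h)).elim hs𝔭 hg𝔭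
  refine ⟨f, fun h => hf𝔭 (hI𝔭 h), ?_⟩
  haveI : IsNoetherianRing (Localization.Away f) :=
    IsLocalization.isNoetherianRing (Submonoid.powers f) _ inferInstance
  have hfu : IsUnit (algebraMap A (Rq A I f) f) := isUnit_algebraMap_Rq I f
  have hN : 𝔭.map (algebraMap A (Rq A I f)) ≤ nilradical (Rq A I f) := by
    rw [nilradical_eq_sInf]
    refine le_sInf fun P' hP' => ?_
    haveI : P'.IsPrime := hP'
    have hIle : I ≤ P'.comap (algebraMap A (Rq A I f)) := by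
      intro a ha
      rw [Ideal.mem_comap, algebraMap_Rq_eq_zero I f ha]
      exact zero_mem _
    obtain ⟨q, hq, hqle⟩ := Ideal.exists_minimalPrimes_le hIle
    by_cases hq𝔭 : q = 𝔭
    · rw [hq𝔭] at hqle
      exact Ideal.map_le_iff_le_comap.mpr hqle
    · exfalso
      have hgq : g ∈ q := hg q hq hq𝔭
      have h2 : f ∈ q := by
        rw [hf]
        exact Ideal.mul_mem_left _ s hgq
      have h1 : f ∈ P'.comap (algebraMap A (Rq A I f)) := hqle h2
      exact hP'.ne_top (Ideal.eq_top_of_isUnit_mem _ (Ideal.mem_comap.mp h1) hfu)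
  have hsu : IsUnit (algebraMap A (Rq A I f) s) := by
    have h1 : IsUnit (algebraMap A (Rq A I f) s * algebraMap A (Rq A I f) g) := by
      rw [← map_mul, ← hf]
      exact hfu
    exact isUnit_left_of_isUnit_mul h1
  exact free_of_gfree_data (Rq A I f) 𝔭 hN s hsu

end Step

end Groth.Agent.Helper21.GrL
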