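import Mathlib
import Groth.Agent.Lib.Helper21.GrL2
import Groth.Agent.S9456

/-!
# Principal stratification with free pieces: list induction and transfer (helper21)
-/

set_option autoImplicit false
set_option linter.style.haveILetI false
set_option linter.unusedSectionVars false

universe u

open TensorProduct Function

namespace Groth.Agent.Helper21.GrL

theorem setOf_mem_cons {A : Type*} (f : A) (l : List A) :
    {a | a ∈ f :: l} = insert f {a | a ∈ l} := by
  ext a
  simp

theorem span_setOf_mem_cons {A : Type*} [CommRing A] (f : A) (l : List A) :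
    Ideal.span {a | a ∈ f :: l} = Ideal.span {f} ⊔ Ideal.span {a | a ∈ l} := by
  rw [setOf_mem_cons, Ideal.span_insert]

theorem span_setOf_mem_nil {A : Type*} [CommRing A] :
    Ideal.span {a : A | a ∈ ([] : List A)} = ⊥ := by
  simp

section ListInd

variable (A : Type u) [CommRing A] [IsNoetherianRing A] (S₀ : Type u) [CommRing S₀] [Algebra A S₀]
  [Algebra.FiniteType A S₀] (M₀ : Type u) [AddCommGroup M₀] [Module S₀ M₀] [Module A M₀]
  [IsScalarTower A S₀ M₀] [Module.Finite S₀ M₀] [Module.Flat A M₀]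

include S₀

/-- The list induction: relative to a base ideal `I`. -/
theorem exists_list_aux (I : Ideal A) :
    ∃ l : List A, I ⊔ Ideal.span {a | a ∈ l} = ⊤ ∧
      ∀ (l₁ : List A) (f : A) (l₂ : List A), l = l₁ ++ f :: l₂ →
        FreeAt A M₀ (I ⊔ Ideal.span {a | a ∈ l₁}) f := by
  induction I using IsNoetherian.induction with
  | hgt I ih =>
  change Ideal A at I
  by_cases hI : I = ⊤
  · refine ⟨[], by rw [hI, top_sup_eq], ?_⟩
    intro l₁ f l₂ h
    exact absurd h (by simp)
  · obtain ⟨f, hfI, hfree⟩ := exists_free_step A S₀ M₀ I hI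
    have hlt : I < I ⊔ Ideal.span {f} := by
      refine lt_of_le_of_ne le_sup_left fun h => hfI ?_
      rw [h]
      exact Ideal.mem_sup_right (Ideal.subset_span rfl)
    obtain ⟨l', hl', hsplit⟩ := ih _ hlt
    refine ⟨f :: l', ?_, ?_⟩
    · rw [span_setOf_mem_cons, ← sup_assoc]
      exact hl'
    · intro l₁ g l₂ h
      rcases List.cons_eq_append_iff.mp h with ⟨rfl, h2⟩ | ⟨l₁', rfl, h2⟩
      · have hg : g = f := by
          have := List.cons.inj h2
          exact this.1
        rw [hg, span_setOf_mem_nil, sup_bot_eq]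
        exact hfree
      · have := hsplit l₁' g l₂ h2
        rw [span_setOf_mem_cons, ← sup_assoc]
        exact this

/-- The Noetherian case of the principal stratification. -/
theorem exists_list_noeth :
    ∃ l : List A, Ideal.span {a | a ∈ l} = ⊤ ∧
      ∀ (l₁ : List A) (f : A) (l₂ : List A), l = l₁ ++ f :: l₂ →
        FreeAt A M₀ (Ideal.span {a | a ∈ l₁}) f := by
  obtain ⟨l, hl, h⟩ := exists_list_aux A S₀ M₀ ⊥
  refine ⟨l, by rwa [bot_sup_eq] at hl, fun l₁ f l₂ hsp => ?_⟩
  have := h l₁ f l₂ hsp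
  rwa [bot_sup_eq] at this

end ListInd


section Transfer

/-- An algebra map out of `A_f / J A_f`. -/
noncomputable def RqLift {R₀ : Type u} [CommRing R₀] (J₀ : Ideal R₀) (f₀ : R₀) (P : Type u)
    [CommRing P] [Algebra R₀ P] (hu : IsUnit (algebraMap R₀ P f₀))
    (hz : ∀ a ∈ J₀, algebraMap R₀ P a = 0) : Rq R₀ J₀ f₀ →ₐ[R₀] P :=
  Ideal.Quotient.liftₐ (J₀.map (algebraMap R₀ (Localization.Away f₀)))
    (IsLocalization.liftAlgHom (M := Submonoid.powers f₀) (S := Localization.Away f₀)
      (f := Algebra.ofId R₀ P) (by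
        rintro ⟨y, n, rfl⟩
        change IsUnit (algebraMap R₀ P (f₀ ^ n))
        rw [map_pow]
        exact hu.pow n))
    (by
      intro x hx
      have hle : J₀.map (algebraMap R₀ (Localization.Away f₀)) ≤
          RingHom.ker (IsLocalization.liftAlgHom (M := Submonoid.powers f₀)
            (S := Localization.Away f₀) (f := Algebra.ofId R₀ P) (by
              rintro ⟨y, n, rfl⟩
              change IsUnit (algebraMap R₀ P (f₀ ^ n))
              rw [map_pow]
              exact hu.pow n)).toRingHom := by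
        rw [Ideal.map_le_iff_le_comap]
        intro a ha
        rw [Ideal.mem_comap, RingHom.mem_ker]
        change IsLocalization.liftAlgHom _ (algebraMap R₀ (Localization.Away f₀) a) = 0
        rw [IsLocalization.liftAlgHom_apply, IsLocalization.lift_eq]
        exact hz a ha
      exact hle hx)

/-- Abstract transfer of freeness. -/
theorem free_baseChange_of_algHom {R₀ A : Type u} [CommRing R₀] [CommRing A] [Algebra R₀ A]
    {M₀ M : Type u} [AddCommGroup M₀] [Module R₀ M₀] [AddCommGroup M] [Module A M]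
    (e : A ⊗[R₀] M₀ ≃ₗ[A] M) (R'₀ : Type u) [CommRing R'₀] [Algebra R₀ R'₀] (R' : Type u)
    [CommRing R'] [Algebra A R'] [Algebra R₀ R'] [IsScalarTower R₀ A R'] (ψ : R'₀ →ₐ[R₀] R')
    [Module.Free R'₀ (R'₀ ⊗[R₀] M₀)] : Module.Free R' (R' ⊗[A] M) := by
  letI : Algebra R'₀ R' := ψ.toRingHom.toAlgebra
  haveI : IsScalarTower R₀ R'₀ R' := IsScalarTower.of_algebraMap_eq fun a => (ψ.commutes a).symm
  have h1 : Module.Free R' (R' ⊗[R₀] M₀) :=
    free_tensor_of_isBaseChange (A := R₀) R'₀ (L := R'₀ ⊗[R₀] M₀) (TensorProduct.mk R₀ R'₀ M₀ 1)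
      (TensorProduct.isBaseChange R₀ M₀ R'₀) R'
  let e₂ : R' ⊗[A] M ≃ₗ[R'] R' ⊗[R₀] M₀ :=
    (AlgebraTensorModule.congr (LinearEquiv.refl R' R') e.symm) ≪≫ₗ
      AlgebraTensorModule.cancelBaseChange R₀ A R' R' M₀
  exact Module.Free.of_equiv e₂.symm

/-- Transfer of `FreeAt` along a base change. -/
theorem freeAt_baseChange {R₀ A : Type u} [CommRing R₀] [CommRing A] [Algebra R₀ A]
    {M₀ M : Type u} [AddCommGroup M₀] [Module R₀ M₀] [AddCommGroup M] [Module A M]
    (e : A ⊗[R₀] M₀ ≃ₗ[A] M) (J₀ : Ideal R₀) (f₀ : R₀) (hfree : FreeAt R₀ M₀ J₀ f₀) :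
    FreeAt A M (J₀.map (algebraMap R₀ A)) (algebraMap R₀ A f₀) := by
  haveI : Module.Free (Rq R₀ J₀ f₀) (Rq R₀ J₀ f₀ ⊗[R₀] M₀) := hfree
  have hu : IsUnit (algebraMap R₀ (Rq A (J₀.map (algebraMap R₀ A)) (algebraMap R₀ A f₀)) f₀) := by
    rw [IsScalarTower.algebraMap_apply R₀ A (Rq A (J₀.map (algebraMap R₀ A)) (algebraMap R₀ A f₀))]
    exact isUnit_algebraMap_Rq _ _
  have hz : ∀ a ∈ J₀,
      algebraMap R₀ (Rq A (J₀.map (algebraMap R₀ A)) (algebraMap R₀ A f₀)) a = 0 := by
    intro a ha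
    rw [IsScalarTower.algebraMap_apply R₀ A (Rq A (J₀.map (algebraMap R₀ A)) (algebraMap R₀ A f₀))]
    exact algebraMap_Rq_eq_zero _ _ (Ideal.mem_map_of_mem _ ha)
  exact free_baseChange_of_algHom e (Rq R₀ J₀ f₀)
    (Rq A (J₀.map (algebraMap R₀ A)) (algebraMap R₀ A f₀))
    (RqLift J₀ f₀ (Rq A (J₀.map (algebraMap R₀ A)) (algebraMap R₀ A f₀)) hu hz)

end Transfer

theorem span_setOf_mem_map {R₀ A : Type*} [CommRing R₀] [CommRing A] (φ : R₀ →+* A)
    (l : List R₀) : Ideal.span {a | a ∈ l.map φ} = (Ideal.span {a | a ∈ l}).map φ := by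
  rw [Ideal.map_span]
  congr 1
  ext a
  simp

/-- **Principal stratification with free pieces** (EGA IV 11.3.?). -/
theorem exists_principal_stratification {A B : Type u} [CommRing A] [CommRing B] [Algebra A B]
    [Algebra.FinitePresentation A B] (M : Type u) [AddCommGroup M] [Module B M] [Module A M]
    [IsScalarTower A B M] [Module.FinitePresentation B M] [Module.Flat A M] :
    ∃ l : List A, Ideal.span {a | a ∈ l} = ⊤ ∧
      ∀ (i : ℕ) (hi : i < l.length), FreeAt A M (Ideal.span {a | a ∈ l.take i}) l[i] := by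
  obtain ⟨R₀, _, _, S₀, _, _, _, _, _, _, M₀, _, _, _, _, _, _, f, hR₀, hS₀, hfin, hflat, hpo, hbc⟩ :=
    Groth.Agent.S9456.result A B M
  haveI := hR₀
  haveI := hS₀
  haveI := hfin
  haveI := hflat
  haveI := hpo
  haveI : IsNoetherianRing R₀ := Algebra.FiniteType.isNoetherianRing ℤ R₀
  let e : A ⊗[R₀] M₀ ≃ₗ[A] M := FS.baseChangeEquiv f hbc
  obtain ⟨l₀, hl₀, hsplit⟩ := exists_list_noeth R₀ S₀ M₀
  refine ⟨l₀.map (algebraMap R₀ A), ?_, ?_⟩
  · rw [span_setOf_mem_map, hl₀, Ideal.map_top]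
  · intro i hi
    have hi₀ : i < l₀.length := by simpa using hi
    have hsp : l₀ = l₀.take i ++ l₀[i] :: l₀.drop (i + 1) := by
      rw [← List.drop_eq_getElem_cons hi₀, List.take_append_drop]
    have h1 := hsplit _ _ _ hsp
    have h2 := freeAt_baseChange e _ _ h1
    have h3 : (l₀.map (algebraMap R₀ A))[i] = algebraMap R₀ A l₀[i] := List.getElem_map _
    have h4 : Ideal.span {a | a ∈ (l₀.map (algebraMap R₀ A)).take i} =
        (Ideal.span {a | a ∈ l₀.take i}).map (algebraMap R₀ A) := by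
      rw [← List.map_take, span_setOf_mem_map]
    rw [h3, h4]
    exact h2

end Groth.Agent.Helper21.GrL
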