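import Mathlib
import Groth.Agent.Lib.Helper21.FL9

/-!
# Flatness over the base of localizations at primes of an intermediate ring (helper21)

`A → B → C`, `M` a `C`-module, `q` a prime of `B`:
* `flat_localizedModule_of_comap_le`: `M_q` flat over `A` ⇒ `M_Q` flat over `A` for `Q ∩ B ⊆ q`.
* `flat_localizedModule_of_forall`: the converse.
* `isOpen_setOf_flat_localizedModule_base`: EGA IV 11.3.2 (ring form): for finite presentation
  data, `{q ∈ Spec B | M_q flat over A}` is open.
-/

set_option autoImplicit false
set_option linter.style.haveILetI false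
set_option linter.unusedSectionVars false

universe u

open TensorProduct Function

namespace Groth.Agent.Helper21.ModFlat

section P

variable {A B C M : Type u} [CommRing A] [CommRing B] [CommRing C]
  [Algebra A B] [Algebra B C] [Algebra A C] [IsScalarTower A B C]
  [AddCommGroup M] [Module C M] [Module B M] [Module A M]
  [IsScalarTower B C M] [IsScalarTower A C M] [IsScalarTower A B M]

variable (M) in
/-- the localization of `M` at the image of `B \ q` in `C` -/
abbrev LocT (q : Ideal B) [q.IsPrime] : Type u :=
  LocalizedModule (Algebra.algebraMapSubmonoid C q.primeCompl) M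

variable (A M) in
/-- comparison of the two localizations -/
noncomputable def locEquiv (q : Ideal B) [q.IsPrime] :
    LocalizedModule q.primeCompl M ≃ₗ[A] LocT (C := C) M q := by
  haveI : IsLocalizedModule q.primeCompl
      ((LocalizedModule.mkLinearMap (Algebra.algebraMapSubmonoid C q.primeCompl) M).restrictScalars
        B) :=
    IsLocalizedModule.restrictScalars q.primeCompl _
  exact (IsLocalizedModule.linearEquiv q.primeCompl (LocalizedModule.mkLinearMap q.primeCompl M)
    ((LocalizedModule.mkLinearMap (Algebra.algebraMapSubmonoid C q.primeCompl)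
      M).restrictScalars B)).restrictScalars A

theorem flat_localizedModule_of_comap_le (q : Ideal B) [q.IsPrime] (Q : Ideal C) [Q.IsPrime]
    (hQ : Q.comap (algebraMap B C) ≤ q) [Module.Flat A (LocalizedModule q.primeCompl M)] :
    Module.Flat A (LocalizedModule Q.primeCompl M) := by
  haveI : Module.Flat A (LocT (C := C) M q) :=
    Module.Flat.of_linearEquiv (locEquiv A M q).symm
  have hle : Algebra.algebraMapSubmonoid C q.primeCompl ≤ Q.primeCompl := by
    rintro _ ⟨b, hb, rfl⟩ hbQ
    exact hb (hQ (Ideal.mem_comap.mpr hbQ))
  let g' : LocT (C := C) M q →ₗ[C] LocalizedModule Q.primeCompl M :=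
    IsLocalizedModule.liftOfLE _ Q.primeCompl hle
      (LocalizedModule.mkLinearMap (Algebra.algebraMapSubmonoid C q.primeCompl) M)
      (LocalizedModule.mkLinearMap Q.primeCompl M)
  haveI : IsLocalizedModule Q.primeCompl g' := inferInstance
  exact FL.flat_of_isLocalizedModule Q.primeCompl g'

set_option maxHeartbeats 1600000 in
set_option synthInstance.maxHeartbeats 400000 in
theorem flat_localizedModule_of_forall (q : Ideal B) [q.IsPrime]
    (h : ∀ (Q : Ideal C) [Q.IsPrime], Q.comap (algebraMap B C) ≤ q →
      Module.Flat A (LocalizedModule Q.primeCompl M)) :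
    Module.Flat A (LocalizedModule q.primeCompl M) := by
  suffices Module.Flat A (LocT (C := C) M q) from Module.Flat.of_linearEquiv (locEquiv (C := C) A M q)
  apply Module.flat_of_isLocalized_maximal
    (Localization (Algebra.algebraMapSubmonoid C q.primeCompl)) (LocT (C := C) M q)
    (fun P' _ => LocalizedModule P'.primeCompl (LocT (C := C) M q))
    (fun P' _ => LocalizedModule.mkLinearMap P'.primeCompl (LocT (C := C) M q))
  intro P' hP'
  haveI : P'.IsPrime := hP'.isPrime
  let P : Ideal C :=
    P'.comap (algebraMap C (Localization (Algebra.algebraMapSubmonoid C q.primeCompl)))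
  haveI : P.IsPrime := Ideal.comap_isPrime _ _
  have hPq : P.comap (algebraMap B C) ≤ q := by
    intro b hb
    by_contra hbq
    have hu : IsUnit (algebraMap C (Localization (Algebra.algebraMapSubmonoid C q.primeCompl))
        (algebraMap B C b)) :=
      IsLocalization.map_units _
        (⟨algebraMap B C b, ⟨b, hbq, rfl⟩⟩ : Algebra.algebraMapSubmonoid C q.primeCompl)
    exact hP'.ne_top (Ideal.eq_top_of_isUnit_mem _ hb hu)
  haveI := h P hPq
  have hbc1 : IsBaseChange (Localization (Algebra.algebraMapSubmonoid C q.primeCompl))
      (LocalizedModule.mkLinearMap (Algebra.algebraMapSubmonoid C q.primeCompl) M) :=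
    IsLocalizedModule.isBaseChange (Algebra.algebraMapSubmonoid C q.primeCompl)
      (Localization (Algebra.algebraMapSubmonoid C q.primeCompl)) _
  have hbc2 : IsBaseChange (Localization.AtPrime P')
      (LocalizedModule.mkLinearMap P'.primeCompl (LocT (C := C) M q)) :=
    IsLocalizedModule.isBaseChange P'.primeCompl (Localization.AtPrime P') _
  have hbc := IsBaseChange.comp hbc1 hbc2
  haveI : IsLocalization.AtPrime (Localization.AtPrime P') P :=
    IsLocalization.isLocalization_isLocalization_atPrime_isLocalization
      (Algebra.algebraMapSubmonoid C q.primeCompl) _ P'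
  haveI := (isLocalizedModule_iff_isBaseChange P.primeCompl (Localization.AtPrime P') _).mpr hbc
  let e := IsLocalizedModule.iso P.primeCompl
    (((LocalizedModule.mkLinearMap P'.primeCompl (LocT (C := C) M q)).restrictScalars C).comp
      (LocalizedModule.mkLinearMap (Algebra.algebraMapSubmonoid C q.primeCompl) M))
  exact Module.Flat.of_linearEquiv (e.restrictScalars A).symm

end P

theorem isOpen_setOf_flat_localizedModule_base {A B C : Type u} [CommRing A] [CommRing B]
    [CommRing C] [Algebra A B] [Algebra B C] [Algebra A C] [IsScalarTower A B C]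
    [Algebra.FinitePresentation A B] [Algebra.FinitePresentation B C]
    (M : Type u) [AddCommGroup M] [Module C M] [Module B M] [Module A M]
    [IsScalarTower B C M] [IsScalarTower A C M] [IsScalarTower A B M]
    [Module.FinitePresentation C M] :
    IsOpen {q : PrimeSpectrum B | Module.Flat A (LocalizedModule q.asIdeal.primeCompl M)} := by
  haveI : Algebra.FinitePresentation A C := Algebra.FinitePresentation.trans A B C
  have hopen := FL.isOpen_flatLocus (R := A) (S := C) (M := M)
  obtain ⟨I, hI⟩ := (PrimeSpectrum.isClosed_iff_zeroLocus_ideal _).mp hopen.isClosed_compl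
  have hmemL : ∀ (Q : Ideal C) [Q.IsPrime],
      Module.Flat A (LocalizedModule Q.primeCompl M) ↔ ¬ I ≤ Q := by
    intro Q _
    have h1 : (⟨Q, inferInstance⟩ : PrimeSpectrum C) ∈
        {q : PrimeSpectrum C | Module.Flat A (LocalizedModule q.asIdeal.primeCompl M)}ᶜ ↔
        (⟨Q, inferInstance⟩ : PrimeSpectrum C) ∈ PrimeSpectrum.zeroLocus (I : Set C) := by
      rw [hI]
    constructor
    · intro hflat hIQ
      exact h1.mpr hIQ hflat
    · intro hIQ
      by_contra hflat
      exact hIQ (h1.mp hflat)
  have heq : {q : PrimeSpectrum B | Module.Flat A (LocalizedModule q.asIdeal.primeCompl M)} =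
      (PrimeSpectrum.zeroLocus ((I.comap (algebraMap B C) : Ideal B) : Set B))ᶜ := by
    ext q
    simp only [Set.mem_ofPred_eq, Set.mem_compl_iff, PrimeSpectrum.mem_zeroLocus,
      SetLike.coe_subset_coe]
    constructor
    · intro hflat hK
      obtain ⟨Q, hIQ, hQ, hQle⟩ := Ideal.exists_ideal_comap_le_prime q.asIdeal I hK
      haveI := hQ
      haveI := hflat
      have := flat_localizedModule_of_comap_le (A := A) (M := M) q.asIdeal Q hQle
      exact (hmemL Q).mp this hIQ
    · intro hK
      apply flat_localizedModule_of_forall (C := C)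
      intro Q _ hQq
      rw [hmemL]
      intro hIQ
      exact hK ((Ideal.comap_mono hIQ).trans hQq)
  rw [heq]
  exact (PrimeSpectrum.isClosed_zeroLocus _).isOpen_compl

end Groth.Agent.Helper21.ModFlat
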