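import Mathlib
import Groth.Agent.Lib.Helper21.GrL3
import Groth.Agent.Lib.Helper21.ModFlat3
import Groth.Agent.Lib.Helper21.FL8

/-!
# Freeness of a localization at an element outside the unique minimal prime (helper21)
-/

set_option autoImplicit false
set_option linter.style.haveILetI false
set_option linter.unusedSectionVars false

universe u

open TensorProduct Function

namespace Groth.Agent.Helper21.GrL

section P

variable {A C M : Type u} [CommRing A] [CommRing C] [Algebra A C]
  [AddCommGroup M] [Module C M] [Module A M] [IsScalarTower A C M]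

set_option maxHeartbeats 1600000 in
set_option synthInstance.maxHeartbeats 400000 in
/-- Flatness of `T⁻¹M` over `A` can be checked at the primes of `C` disjoint from `T`. -/
theorem flat_localizedModule_submonoid_of_forall (T : Submonoid C)
    (h : ∀ (Q : Ideal C) [Q.IsPrime], Disjoint (T : Set C) (Q : Set C) →
      Module.Flat A (LocalizedModule Q.primeCompl M)) :
    Module.Flat A (LocalizedModule T M) := by
  apply Module.flat_of_isLocalized_maximal
    (Localization T) (LocalizedModule T M)
    (fun P' _ => LocalizedModule P'.primeCompl (LocalizedModule T M))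
    (fun P' _ => LocalizedModule.mkLinearMap P'.primeCompl (LocalizedModule T M))
  intro P' hP'
  haveI : P'.IsPrime := hP'.isPrime
  let P : Ideal C := P'.comap (algebraMap C (Localization T))
  haveI : P.IsPrime := Ideal.comap_isPrime _ _
  have hPq : Disjoint (T : Set C) (P : Set C) := by
    rw [Set.disjoint_left]
    intro b hbT hbP
    have hu : IsUnit (algebraMap C (Localization T) b) :=
      IsLocalization.map_units _ (⟨b, hbT⟩ : T)
    exact hP'.ne_top (Ideal.eq_top_of_isUnit_mem _ hbP hu)
  haveI := h P hPq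
  have hbc1 : IsBaseChange (Localization T) (LocalizedModule.mkLinearMap T M) :=
    IsLocalizedModule.isBaseChange T (Localization T) _
  have hbc2 : IsBaseChange (Localization.AtPrime P')
      (LocalizedModule.mkLinearMap P'.primeCompl (LocalizedModule T M)) :=
    IsLocalizedModule.isBaseChange P'.primeCompl (Localization.AtPrime P') _
  have hbc := IsBaseChange.comp hbc1 hbc2
  haveI : IsLocalization.AtPrime (Localization.AtPrime P') P :=
    IsLocalization.isLocalization_isLocalization_atPrime_isLocalization T _ P'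
  haveI := (isLocalizedModule_iff_isBaseChange P.primeCompl (Localization.AtPrime P') _).mpr hbc
  let e := IsLocalizedModule.iso P.primeCompl
    (((LocalizedModule.mkLinearMap P'.primeCompl (LocalizedModule T M)).restrictScalars C).comp
      (LocalizedModule.mkLinearMap T M))
  exact Module.Flat.of_linearEquiv (e.restrictScalars A).symm

end P


/-- **Step 1**: if `M_p` is flat at the unique minimal prime `p`, then `M_t` is flat over `A` for all
multiples `t` of some `t₁ ∉ p`. -/
theorem exists_flat_away_of_flat_atPrime {A B : Type u} [CommRing A] [CommRing B] [Algebra A B]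
    [Algebra.FinitePresentation A B] (p : Ideal A) [p.IsPrime]
    (M : Type u) [AddCommGroup M] [Module B M] [Module A M] [IsScalarTower A B M]
    [Module.FinitePresentation B M] [Module.Flat A (LocalizedModule p.primeCompl M)] :
    ∃ t₁ : A, t₁ ∉ p ∧ ∀ t : A, t₁ ∣ t →
      Module.Flat A (LocalizedModule (Submonoid.powers t) M) := by
  have hU : IsOpen {q : PrimeSpectrum B |
      Module.Flat A (LocalizedModule q.asIdeal.primeCompl M)} :=
    FL.isOpen_flatLocus (R := A) (S := B) (M := M)
  obtain ⟨J, hJ⟩ := (PrimeSpectrum.isClosed_iff_zeroLocus_ideal _).mp hU.isClosed_compl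
  have key : ∀ (Q : Ideal B) [Q.IsPrime], Q.comap (algebraMap A B) ≤ p →
      Module.Flat A (LocalizedModule Q.primeCompl M) := fun Q _ hQ =>
    ModFlat.flat_localizedModule_of_comap_le (A := A) (B := A) (C := B) p Q hQ
  have hmem : ∀ (Q : Ideal B) [hQ : Q.IsPrime], ¬ J ≤ Q →
      Module.Flat A (LocalizedModule Q.primeCompl M) := by
    intro Q hQ hJQ
    by_contra hnf
    have h1 : (⟨Q, hQ⟩ : PrimeSpectrum B) ∈ {q : PrimeSpectrum B |
        Module.Flat A (LocalizedModule q.asIdeal.primeCompl M)}ᶜ := hnf
    rw [hJ, PrimeSpectrum.mem_zeroLocus] at h1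
    exact hJQ h1
  have hnd : ¬ Disjoint (J : Set B) (Algebra.algebraMapSubmonoid B p.primeCompl : Set B) := by
    intro hdis
    obtain ⟨Q, hQprime, hJQ, hQT⟩ := Ideal.exists_le_prime_disjoint J _ hdis
    haveI := hQprime
    have hQp : Q.comap (algebraMap A B) ≤ p := by
      intro a ha
      by_contra hap
      exact Set.disjoint_left.mp hQT (Ideal.mem_comap.mp ha) ⟨a, hap, rfl⟩
    have hfl := key Q hQp
    have h1 : (⟨Q, hQprime⟩ : PrimeSpectrum B) ∈ {q : PrimeSpectrum B |
        Module.Flat A (LocalizedModule q.asIdeal.primeCompl M)}ᶜ := by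
      rw [hJ, PrimeSpectrum.mem_zeroLocus]
      exact hJQ
    exact h1 hfl
  obtain ⟨x, hxJ, t₁, ht₁, rfl⟩ := Set.not_disjoint_iff.mp hnd
  refine ⟨t₁, ht₁, ?_⟩
  rintro t ⟨c, rfl⟩
  haveI hfl' : Module.Flat A (LocalizedModule (Submonoid.powers (algebraMap A B (t₁ * c))) M) := by
    apply flat_localizedModule_submonoid_of_forall
    intro Q hQ hdis
    apply hmem Q
    intro hJQ
    have h1 : algebraMap A B (t₁ * c) ∈ Q := by
      rw [map_mul]
      exact Ideal.mul_mem_right _ _ (hJQ hxJ)
    exact Set.disjoint_left.mp hdis (Submonoid.mem_powers _) h1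
  haveI : IsLocalizedModule (Submonoid.powers (t₁ * c))
      ((LocalizedModule.mkLinearMap (Submonoid.powers (algebraMap A B (t₁ * c))) M).restrictScalars
        A) :=
    IsLocalizedModule.restrictScalars_powers (t₁ * c) _
  exact Module.Flat.of_linearEquiv (IsLocalizedModule.linearEquiv (Submonoid.powers (t₁ * c))
    (LocalizedModule.mkLinearMap (Submonoid.powers (t₁ * c)) M)
    ((LocalizedModule.mkLinearMap (Submonoid.powers (algebraMap A B (t₁ * c))) M).restrictScalars A))

set_option maxHeartbeats 1600000 in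
set_option synthInstance.maxHeartbeats 400000 in
/-- Abstract assembly: freeness of a flat localization from a Noetherian model. -/
theorem free_of_model {𝔸 A : Type u} [CommRing 𝔸] [IsNoetherianRing 𝔸] [CommRing A] [Algebra 𝔸 A]
    {M₁ M : Type u} [AddCommGroup M₁] [Module 𝔸 M₁] [AddCommGroup M] [Module A M]
    (e : A ⊗[𝔸] M₁ ≃ₗ[A] M) (R' : Type u) [CommRing R'] [Algebra A R'] [Algebra 𝔸 R']
    [IsScalarTower 𝔸 A R'] (N : Type u) [AddCommGroup N] [Module A N] [Module R' N]
    [IsScalarTower A R' N] (g : M →ₗ[A] N) (hg : IsBaseChange R' g) [Module.Flat R' N]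
    (p₀ : Ideal 𝔸) [p₀.IsPrime] (hN : p₀.map (algebraMap 𝔸 R') ≤ nilradical R') (s₀ : 𝔸)
    (hs : IsUnit (algebraMap 𝔸 R' s₀))
    [Module.Free (Localization.Away (Ideal.Quotient.mk p₀ s₀))
      (LocalizedModule.Away (Ideal.Quotient.mk p₀ s₀) ((𝔸 ⧸ p₀) ⊗[𝔸] M₁))] :
    Module.Free R' N := by
  let E : R' ⊗[𝔸] M₁ ≃ₗ[R'] N :=
    (AlgebraTensorModule.cancelBaseChange 𝔸 A R' R' M₁).symm ≪≫ₗ
      (AlgebraTensorModule.congr (LinearEquiv.refl R' R') e) ≪≫ₗ hg.equiv
  haveI : Module.Flat R' (R' ⊗[𝔸] M₁) := Module.Flat.of_linearEquiv E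
  have h1 : Module.Free R' (R' ⊗[𝔸] M₁) := free_of_gfree_data (A := 𝔸) (M₀ := M₁) R' p₀ hN s₀ hs
  exact Module.Free.of_equiv E

end Groth.Agent.Helper21.GrL
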