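import Mathlib
import Groth.Agent.Lib.Helper21.GrL4

/-!
# Noetherian models of finitely presented modules, and freeness of a localization (helper21)

* `exists_noeth_model`: `S` finitely presented over `R`, `M` a finitely presented `S`-module: the
  triple descends to a finite type `ℤ`-algebra (no flatness).
* `exists_free_away`: EGA IV 11.3 type statement: `A` with a unique minimal prime `p`, `M_p` flat
  over `A_p`; then `M_t` is free over `A_t` for some `t ∉ p`.
-/

set_option autoImplicit false
set_option linter.style.haveILetI false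
set_option linter.unusedSectionVars false

universe u

open TensorProduct Function

namespace Groth.Agent.Helper21.GrL

/-- Descent of a finitely presented module over a finitely presented algebra to a finite type
`ℤ`-algebra. -/
theorem exists_noeth_model (R : Type u) [CommRing R]
    (S : Type u) [CommRing S] [Algebra R S] [Algebra.FinitePresentation R S] (M : Type u)
    [AddCommGroup M] [Module S M] [Module R M] [IsScalarTower R S M]
    [Module.FinitePresentation S M] :
    ∃ (R₀ : Type u) (_ : CommRing R₀) (_ : Algebra R₀ R) (S₀ : Type u) (_ : CommRing S₀)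
      (_ : Algebra R₀ S₀) (_ : Algebra S₀ S) (_ : Algebra R₀ S) (_ : IsScalarTower R₀ R S)
      (_ : IsScalarTower R₀ S₀ S) (M₀ : Type u) (_ : AddCommGroup M₀) (_ : Module S₀ M₀)
      (_ : Module R₀ M₀) (_ : IsScalarTower R₀ S₀ M₀) (_ : Module S₀ M) (_ : IsScalarTower S₀ S M)
      (f : M₀ →ₗ[S₀] M),
      Algebra.FiniteType ℤ R₀ ∧ Algebra.FiniteType R₀ S₀ ∧ Module.Finite S₀ M₀ ∧
        Algebra.IsPushout R₀ R S₀ S ∧ IsBaseChange S f := by
  classical
  let P := Algebra.Presentation.ofFinitePresentation R S
  obtain ⟨n, m, f, g, hf, hfg⟩ := Module.FinitePresentation.exists_fin' S M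
  have hsurj : ∀ (k : Fin m) (l : Fin n), ∃ w : MvPolynomial _ R,
      MvPolynomial.aeval P.val w = g (Pi.single k 1) l := fun k l => by
    obtain ⟨w, hw⟩ := P.algebraMap_surjective (g (Pi.single k 1) l)
    exact ⟨w, by rw [← hw, Algebra.Generators.algebraMap_apply]⟩
  choose w hw using hsurj
  let s : Set R := P.coeffs ∪ ⋃ k, ⋃ l, ((w k l).coeffs : Set R)
  have hsfin : s.Finite := by
    refine Set.Finite.union P.finite_coeffs ?_
    exact Set.finite_iUnion fun k => Set.finite_iUnion fun l => Finset.finite_toSet _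
  let A : Subalgebra ℤ R := Algebra.adjoin ℤ s
  haveI : P.HasCoeffs A := ⟨fun x hx => ⟨⟨x, Algebra.subset_adjoin (Or.inl hx)⟩, rfl⟩⟩
  haveI : Algebra.FiniteType ℤ A := Algebra.FiniteType.adjoin_of_finite hsfin
  haveI : IsNoetherianRing A := Algebra.FiniteType.isNoetherianRing ℤ A
  let S₁ := P.ModelOfHasCoeffs A
  letI : Algebra S₁ S := Groth.Agent.Helper21.FS.modelAlgebra P A
  haveI : IsScalarTower A S₁ S := Groth.Agent.Helper21.FS.model_isScalarTower P A
  haveI : Algebra.IsPushout A R S₁ S := Groth.Agent.Helper21.FS.model_isPushout P A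
  have hw' : ∀ k l, ∃ w' : MvPolynomial _ A, MvPolynomial.map (algebraMap A R) w' = w k l := by
    intro k l
    have : w k l ∈ Set.range (MvPolynomial.map (algebraMap A R)) := by
      rw [MvPolynomial.mem_range_map_iff_coeffs_subset]
      intro x hx
      exact ⟨⟨x, Algebra.subset_adjoin (Or.inr (Set.mem_iUnion₂.mpr ⟨k, l, hx⟩))⟩, rfl⟩
    exact this
  choose w' hw' using hw'
  let c' : Fin m → Fin n → S₁ := fun k l => Ideal.Quotient.mk _ (w' k l)
  letI : Module S₁ M := Module.compHom M (algebraMap S₁ S)
  haveI : IsScalarTower S₁ S M := IsScalarTower.of_algebraMap_smul fun _ _ => rfl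
  have hc : ∀ k l, algebraMap S₁ S (c' k l) = g (Pi.single k 1) l := by
    intro k l
    rw [Groth.Agent.Helper21.FS.modelAlgebra_mk, ← hw, ← hw', MvPolynomial.aeval_map_algebraMap]
  obtain ⟨h, hh⟩ := Groth.Agent.Helper21.FS.exists_isBaseChange_cokerModel c' f g hf hfg hc
  haveI : Module.Finite S₁ (Groth.Agent.Helper21.FS.CokerModel c') := Module.Finite.quotient S₁ _
  exact ⟨A, inferInstance, inferInstance, S₁, inferInstance, inferInstance, inferInstance,
    inferInstance, inferInstance, inferInstance, Groth.Agent.Helper21.FS.CokerModel c',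
    inferInstance, inferInstance, inferInstance, inferInstance, inferInstance, inferInstance, h,
    inferInstance, inferInstance, inferInstance, inferInstance, hh⟩


theorem nilradical_eq_of_minimalPrimes_eq_singleton {A : Type u} [CommRing A] (p : Ideal A)
    (hp : minimalPrimes A = {p}) : nilradical A = p := by
  have h1 : sInf (⊥ : Ideal A).minimalPrimes = (⊥ : Ideal A).radical := Ideal.sInf_minimalPrimes
  have h2 : (⊥ : Ideal A).minimalPrimes = {p} := hp
  rw [h2, sInf_singleton] at h1
  rw [nilradical, h1]
  rfl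

set_option maxHeartbeats 1600000 in
set_option synthInstance.maxHeartbeats 400000 in
/-- **Freeness of a localization at an element outside the unique minimal prime.** -/
theorem exists_free_away {A B : Type u} [CommRing A] [CommRing B] [Algebra A B]
    [Algebra.FinitePresentation A B] (p : Ideal A) [p.IsPrime] (hp : minimalPrimes A = {p})
    (M : Type u) [AddCommGroup M] [Module B M] [Module A M] [IsScalarTower A B M]
    [Module.FinitePresentation B M]
    (hflat : Module.Flat (Localization.AtPrime p) (LocalizedModule p.primeCompl M)) :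
    ∃ t : A, t ∉ p ∧
      Module.Free (Localization.Away t) (LocalizedModule (Submonoid.powers t) M) := by
  haveI : Module.Flat A (LocalizedModule p.primeCompl M) :=
    Module.Flat.trans A (Localization.AtPrime p) _
  obtain ⟨t₁, ht₁, hfl⟩ := exists_flat_away_of_flat_atPrime (A := A) (B := B) p M
  obtain ⟨𝔸, _, _, S₁, _, _, _, _, _, _, M₁, _, _, _, _, _, _, h, h𝔸, hS₁, hfin, hpo, hbc⟩ :=
    exists_noeth_model A B M
  haveI := h𝔸
  haveI := hS₁
  haveI := hfin
  haveI := hpo
  haveI : IsNoetherianRing 𝔸 := Algebra.FiniteType.isNoetherianRing ℤ 𝔸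
  let e : A ⊗[𝔸] M₁ ≃ₗ[A] M := FS.baseChangeEquiv h hbc
  haveI : (p.comap (algebraMap 𝔸 A)).IsPrime := Ideal.comap_isPrime _ _
  obtain ⟨s₀, hs₀, hfree⟩ := exists_gfree_quot 𝔸 S₁ M₁ (p.comap (algebraMap 𝔸 A))
  haveI := hfree
  have hsp : algebraMap 𝔸 A s₀ ∉ p := fun h => hs₀ (Ideal.mem_comap.mpr h)
  obtain ⟨t, ht⟩ : ∃ t : A, t = t₁ * algebraMap 𝔸 A s₀ := ⟨_, rfl⟩
  have htp : t ∉ p := by
    rw [ht]
    exact fun h => (Ideal.IsPrime.mem_or_mem inferInstance h).elim ht₁ hsp
  refine ⟨t, htp, ?_⟩
  haveI : Module.Flat A (LocalizedModule (Submonoid.powers t) M) := hfl t ⟨_, ht⟩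
  haveI : Module.Flat (Localization.Away t) (LocalizedModule (Submonoid.powers t) M) :=
    (Module.flat_iff_of_isLocalization (Localization.Away t) (Submonoid.powers t) _).mpr
      inferInstance
  have hnil : nilradical A = p := nilradical_eq_of_minimalPrimes_eq_singleton p hp
  have hN : (p.comap (algebraMap 𝔸 A)).map (algebraMap 𝔸 (Localization.Away t)) ≤
      nilradical (Localization.Away t) := by
    rw [Ideal.map_le_iff_le_comap]
    intro a ha
    rw [Ideal.mem_comap, mem_nilradical, IsScalarTower.algebraMap_apply 𝔸 A (Localization.Away t)]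
    have h1 : algebraMap 𝔸 A a ∈ nilradical A := by
      rw [hnil]
      exact Ideal.mem_comap.mp ha
    exact (mem_nilradical.mp h1).map _
  have hs : IsUnit (algebraMap 𝔸 (Localization.Away t) s₀) := by
    rw [IsScalarTower.algebraMap_apply 𝔸 A (Localization.Away t)]
    have h1 : IsUnit (algebraMap A (Localization.Away t) (algebraMap 𝔸 A s₀) *
        algebraMap A (Localization.Away t) t₁) := by
      rw [← map_mul, mul_comm, ← ht]
      exact IsLocalization.Away.algebraMap_isUnit t
    exact isUnit_left_of_isUnit_mul h1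
  exact free_of_model e (Localization.Away t) (LocalizedModule (Submonoid.powers t) M)
    (LocalizedModule.mkLinearMap (Submonoid.powers t) M)
    (IsLocalizedModule.isBaseChange (Submonoid.powers t) (Localization.Away t) _)
    (p.comap (algebraMap 𝔸 A)) hN s₀ hs

end Groth.Agent.Helper21.GrL
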