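import Mathlib
import Groth.Prelude.Def_Coh
import Groth.Prelude.Def_CohB1
import Groth.Agent.Lib.Helper13.PullbackTilde
import Groth.Agent.Lib.Helper13.QCohPush
import Groth.Agent.Lib.Helper13.FinPresAffine

/-!
# Quasi-coherent modules on affine schemes as pullbacks of `~`-modules (helper21)

* `isoAffine`: for `X` affine and `F` quasi-coherent, `F ≅ toSpecΓ^* (Γ(F, ⊤)^~)`.
* `isoAffineOfEquiv`: the same for any module linearly equivalent to `Γ(F, ⊤)`.
* `isFinitePresentation_of_presentation`, `isCoh_tilde`: coherence of `M^~` for finitely presented `M`.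
-/

set_option autoImplicit false
set_option linter.style.haveILetI false
universe u
open CategoryTheory AlgebraicGeometry Limits Opposite TopologicalSpace TensorProduct

namespace Groth.Agent.Helper21.NAM

section Affine

variable {X : Scheme.{u}} [IsAffine X] (F : X.Modules) [F.IsQuasicoherent]

/-- the pushforward to `Spec Γ(X, ⊤)` -/
noncomputable abbrev pushG : (Spec Γ(X, ⊤)).Modules := (Scheme.Modules.pushforward X.toSpecΓ).obj F

instance : (pushG F).IsQuasicoherent :=
  Groth.Agent.Helper13.QCohPush.isQuasicoherent_pushforward X.toSpecΓ F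

/-- `toSpecΓ^* toSpecΓ_* F ≅ F`. -/
noncomputable def isoPull : (Scheme.Modules.pullback X.toSpecΓ).obj (pushG F) ≅ F :=
  (Scheme.Modules.restrictFunctorIsoPullback X.toSpecΓ).symm.app (pushG F) ≪≫
    (Scheme.Modules.restrictFunctorAdjCounitIso X.toSpecΓ).app F

/-- `Γ(toSpecΓ_* F)^~ ≅ toSpecΓ_* F`. -/
noncomputable def isoTilde : tilde (moduleSpecΓFunctor.obj (pushG F)) ≅ pushG F := by
  have h := Scheme.Modules.isIso_fromTildeΓ_of_isQuasicoherent (R := Γ(X, ⊤)) (pushG F)
  exact @asIso _ _ _ _ (Scheme.Modules.fromTildeΓ (R := Γ(X, ⊤)) (pushG F)) h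

/-- The global sections of `F` and of its pushforward to `Spec Γ(X, ⊤)` agree as modules. -/
noncomputable def e₀ : Γ(F, ⊤) ≃ₗ[Γ(X, ⊤)] (moduleSpecΓFunctor.obj (pushG F)) where
  toFun := fun x => x
  invFun := fun x => x
  map_add' := fun _ _ => rfl
  map_smul' := fun r x => by
    have h1 : X.toSpecΓ.appTop.hom ((Scheme.ΓSpecIso Γ(X, ⊤)).inv.hom r) = r := by
      rw [Scheme.toSpecΓ_appTop]
      exact Iso.inv_hom_id_apply (C := CommRingCat) _ _
    conv_lhs => rw [← h1]
    rfl
  left_inv := fun _ => rfl
  right_inv := fun _ => rfl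

/-- A quasi-coherent module on an affine scheme is the pullback of the `~` of any module
equivalent to its global sections. -/
noncomputable def isoAffineOfEquiv (N : Type u) [AddCommGroup N] [Module Γ(X, ⊤) N]
    (e : N ≃ₗ[Γ(X, ⊤)] Γ(F, ⊤)) :
    (Scheme.Modules.pullback X.toSpecΓ).obj (tilde (ModuleCat.of Γ(X, ⊤) N)) ≅ F :=
  (Scheme.Modules.pullback X.toSpecΓ).mapIso
    ((tilde.functor Γ(X, ⊤)).mapIso (e ≪≫ₗ e₀ F).toModuleIso ≪≫ isoTilde F) ≪≫ isoPull F

end Affine

section FP

variable {X : Scheme.{u}}

/-- A module with a global finite presentation is finitely presented. -/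
theorem isFinitePresentation_of_presentation (M : X.Modules) (P : SheafOfModules.Presentation M)
    [hP : P.IsFinite] : CohB1.IsFP M := by
  let q : SheafOfModules.QuasicoherentData.{u, u, u, u} M :=
    SheafOfModules.Presentation.quasicoherentData.{u, u, u} (C := X.Opens)
      (J := Opens.grothendieckTopology X) (R := X.ringCatSheaf) (M := M) P
  have hq : q.IsFinitePresentation := by
    constructor
    intro x
    constructor
    · constructor
      exact hP.isFiniteType_generators.finite
    · constructor
      exact hP.isFiniteType_relations.finite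
  exact { exists_quasicoherentData := ⟨q, hq⟩ }

/-- `M^~` is coherent for a finitely presented module `M`. -/
theorem isCoh_tilde (R : Type u) [CommRing R] (M : Type u) [AddCommGroup M] [Module R M]
    [Module.FinitePresentation R M] :
    Coh.IsCoh (tilde (ModuleCat.of (CommRingCat.of R) M)) := by
  obtain ⟨P, hP⟩ := Groth.Agent.Helper13.FinPres.exists_isFinite_presentation_tilde
    (R := CommRingCat.of R) (ModuleCat.of (CommRingCat.of R) M)
  haveI : CohB1.IsFP (tilde (ModuleCat.of (CommRingCat.of R) M)) :=
    isFinitePresentation_of_presentation _ P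
  exact ⟨inferInstance, inferInstance⟩

end FP

end Groth.Agent.Helper21.NAM
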