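import Mathlib
import Groth.Agent.Lib.Helper21.NAM1
import Groth.Agent.Lib.Helper21.GrL5

/-!
# Noetherian approximation of finitely presented modules on affine schemes (helper21)
-/

set_option autoImplicit false
set_option linter.style.haveILetI false
universe u
open CategoryTheory AlgebraicGeometry Limits Opposite TopologicalSpace TensorProduct

namespace Groth.Agent.Helper21.NAM

/-- The scheme-level data attached to a ring-level model. -/
theorem exists_scheme_model {X S : Scheme.{u}} (f : X ⟶ S) [IsAffine X] [IsAffine S]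
    (F : X.Modules) [F.IsQuasicoherent]
    (R₀ : Type u) [CommRing R₀] (B₀ : Type u) [CommRing B₀] [Algebra R₀ B₀]
    [Algebra R₀ Γ(S, ⊤)] [Algebra B₀ Γ(X, ⊤)]
    (hpo : IsPushout (CommRingCat.ofHom (algebraMap R₀ Γ(S, ⊤)))
      (CommRingCat.ofHom (algebraMap R₀ B₀)) f.appTop (CommRingCat.ofHom (algebraMap B₀ Γ(X, ⊤))))
    [Algebra.FiniteType ℤ R₀] [Algebra.FiniteType R₀ B₀]
    (M₀ : Type u) [AddCommGroup M₀] [Module B₀ M₀] [Module.Finite B₀ M₀]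
    (e : Γ(X, ⊤) ⊗[B₀] M₀ ≃ₗ[Γ(X, ⊤)] Γ(F, ⊤)) :
    ∃ (X₀ S₀ : Scheme.{u}) (f₀ : X₀ ⟶ S₀) (g : S ⟶ S₀) (g' : X ⟶ X₀), IsAffine X₀ ∧ IsAffine S₀ ∧
      IsPullback g' f f₀ g ∧ Algebra.FiniteType ℤ Γ(S₀, ⊤) ∧ LocallyOfFiniteType f₀ ∧
      ∃ F₀ : X₀.Modules, Coh.IsCoh F₀ ∧ Nonempty ((Scheme.Modules.pullback g').obj F₀ ≅ F) := by
  have hR := (isPullback_SpecMap_of_isPushout _ _ _ _ hpo).flip
  have hL : IsPullback X.toSpecΓ f (Spec.map f.appTop) S.toSpecΓ :=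
    IsPullback.of_horiz_isIso ⟨(Scheme.toSpecΓ_naturality f).symm⟩
  haveI : IsNoetherianRing R₀ := Algebra.FiniteType.isNoetherianRing ℤ R₀
  haveI : IsNoetherianRing B₀ := Algebra.FiniteType.isNoetherianRing R₀ B₀
  haveI : Module.FinitePresentation B₀ M₀ := Module.finitePresentation_of_finite B₀ M₀
  refine ⟨Spec (CommRingCat.of B₀), Spec (CommRingCat.of R₀),
    Spec.map (CommRingCat.ofHom (algebraMap R₀ B₀)),
    S.toSpecΓ ≫ Spec.map (CommRingCat.ofHom (algebraMap R₀ Γ(S, ⊤))),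
    X.toSpecΓ ≫ Spec.map (CommRingCat.ofHom (algebraMap B₀ Γ(X, ⊤))),
    inferInstance, inferInstance, hL.paste_horiz hR, ?_, ?_,
    tilde (ModuleCat.of (CommRingCat.of B₀) M₀), isCoh_tilde B₀ M₀, ⟨?_⟩⟩
  · let e := Scheme.ΓSpecIso (CommRingCat.of R₀)
    refine Algebra.FiniteType.of_surjective (e.inv.hom.toIntAlgHom) ?_
    intro y
    refine ⟨e.hom.hom y, ?_⟩
    show e.inv.hom (e.hom.hom y) = y
    rw [← CommRingCat.comp_apply, e.hom_inv_id]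
    rfl
  · rw [HasRingHomProperty.Spec_iff (P := @LocallyOfFiniteType)]
    exact RingHom.finiteType_algebraMap.mpr inferInstance
  · exact (Scheme.Modules.pullbackComp X.toSpecΓ
        (Spec.map (CommRingCat.ofHom (algebraMap B₀ Γ(X, ⊤))))).symm.app _ ≪≫
      (Scheme.Modules.pullback X.toSpecΓ).mapIso
        (Groth.Agent.Helper13.Pullback.pullbackTildeIso' B₀ Γ(X, ⊤) M₀) ≪≫
      isoAffineOfEquiv F (Γ(X, ⊤) ⊗[B₀] M₀) e


/-- **Noetherian approximation of a finitely presented module on an affine scheme.** -/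
theorem exists_module_model {X S : Scheme.{u}} (f : X ⟶ S) [IsAffine X] [IsAffine S]
    [LocallyOfFinitePresentation f] (F : X.Modules) [F.IsQuasicoherent] (hF : CohB1.IsFP F) :
    ∃ (X₀ S₀ : Scheme.{u}) (f₀ : X₀ ⟶ S₀) (g : S ⟶ S₀) (g' : X ⟶ X₀), IsAffine X₀ ∧ IsAffine S₀ ∧
      IsPullback g' f f₀ g ∧ Algebra.FiniteType ℤ Γ(S₀, ⊤) ∧ LocallyOfFiniteType f₀ ∧
      ∃ F₀ : X₀.Modules, Coh.IsCoh F₀ ∧ Nonempty ((Scheme.Modules.pullback g').obj F₀ ≅ F) := by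
  letI : Algebra Γ(S, ⊤) Γ(X, ⊤) := f.appTop.hom.toAlgebra
  have hfp : f.appTop.hom.FinitePresentation :=
    (HasRingHomProperty.iff_of_isAffine (P := @LocallyOfFinitePresentation)).mp inferInstance
  haveI : Algebra.FinitePresentation Γ(S, ⊤) Γ(X, ⊤) := hfp
  letI : Module Γ(S, ⊤) Γ(F, ⊤) := Module.compHom Γ(F, ⊤) (algebraMap Γ(S, ⊤) Γ(X, ⊤))
  haveI : IsScalarTower Γ(S, ⊤) Γ(X, ⊤) Γ(F, ⊤) :=
    IsScalarTower.of_algebraMap_smul fun _ _ => rfl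
  haveI : Module.FinitePresentation Γ(X, ⊤) Γ(F, ⊤) :=
    Groth.Agent.Helper13.LocFree.finitePresentation_sections_of_isFinitePresentation F (hM := hF)
      (isAffineOpen_top X)
  obtain ⟨R₀, _, _, B₀, _, _, _, _, _, _, M₀, _, _, _, _, _, _, h, hR₀, hB₀, hfin, hpo, hbc⟩ :=
    GrL.exists_noeth_model Γ(S, ⊤) Γ(X, ⊤) Γ(F, ⊤)
  haveI := hR₀
  haveI := hB₀
  haveI := hfin
  haveI := hpo
  have hpo' := CommRingCat.isPushout_of_isPushout R₀ Γ(S, ⊤) B₀ Γ(X, ⊤)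
  exact exists_scheme_model f F R₀ B₀ hpo' M₀ hbc.equiv

end Groth.Agent.Helper21.NAM
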