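import Mathlib
import Groth.Agent.Lib.Helper21.NAM2
import Groth.Agent.Lib.Helper13.FlatOverAffine
import Groth.Agent.S9456

/-!
# Noetherian approximation of flat finitely presented modules on affine schemes (helper21)
-/

set_option autoImplicit false
set_option linter.style.haveILetI false
universe u
open CategoryTheory AlgebraicGeometry Limits Opposite TopologicalSpace TensorProduct

namespace Groth.Agent.Helper21.NAM

theorem appLE_top_top {X S : Scheme.{u}} (f : X ⟶ S) (h : (⊤ : X.Opens) ≤ f ⁻¹ᵁ ⊤) :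
    f.appLE ⊤ ⊤ h = f.appTop := by
  simp [Scheme.Hom.appLE]

/-- Flatness of the global sections from flatness of the stalks. -/
theorem flat_sections_top {X S : Scheme.{u}} (f : X ⟶ S) [IsAffine X] [IsAffine S]
    (F : X.Modules) [F.IsQuasicoherent] (hfl : FlatMod.IsFlatOver f F) :
    @Module.Flat Γ(S, ⊤) Γ(F, ⊤) _ _ (Module.compHom Γ(F, ⊤) f.appTop.hom) := by
  have h := Groth.Agent.Helper13.FlatOver.flat_sections_of_isFlatOverAt f F
    (isAffineOpen_top X) (isAffineOpen_top S) (le_top : (⊤ : X.Opens) ≤ f ⁻¹ᵁ ⊤) (fun x _ => hfl x)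
  rw [appLE_top_top] at h
  exact h

section Abstract

/-- Flatness is insensitive to a bijective change of rings. -/
theorem flat_of_bijective_compHom {R S N : Type*} [CommRing R] [CommRing S] [AddCommGroup N]
    [Module S N] (σ : R →+* S) (hσ : Function.Bijective σ)
    (h : @Module.Flat R N _ _ (Module.compHom N σ)) : Module.Flat S N := by
  letI : Algebra R S := σ.toAlgebra
  letI : Module R N := Module.compHom N σ
  haveI : IsScalarTower R S N := IsScalarTower.of_algebraMap_smul fun _ _ => rfl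
  haveI : IsLocalization (⊥ : Submonoid R) S := by
    refine IsLocalization.of_le_isUnit_of_bijective ?_ hσ
    rintro _ ⟨x, hx, rfl⟩
    rw [Submonoid.mem_bot.mp hx, map_one]
    exact isUnit_one
  exact (Module.flat_iff_of_isLocalization S (⊥ : Submonoid R) N).mpr h

/-- Transport of flatness along a semilinear identification. -/
theorem flat_compHom_of_equiv {R₀ B₀ Γ₀ ΓB N M₀ : Type*} [CommRing R₀] [CommRing B₀] [CommRing Γ₀]
    [CommRing ΓB] [Algebra R₀ B₀] [AddCommGroup N] [Module ΓB N] [AddCommGroup M₀] [Module B₀ M₀]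
    [Module R₀ M₀] [IsScalarTower R₀ B₀ M₀] [Module.Flat R₀ M₀]
    (σ : R₀ →+* Γ₀) (hσ : Function.Bijective σ) (θ : Γ₀ →+* ΓB) (ι : B₀ →+* ΓB)
    (hcomm : ∀ r, θ (σ r) = ι (algebraMap R₀ B₀ r))
    (e₁ : M₀ ≃+ N) (he₁ : ∀ (b : B₀) (m : M₀), e₁ (b • m) = ι b • e₁ m) :
    @Module.Flat Γ₀ N _ _ (Module.compHom N θ) := by
  letI : Module Γ₀ N := Module.compHom N θ
  apply flat_of_bijective_compHom σ hσ
  letI : Module R₀ N := Module.compHom N σ
  let e₂ : M₀ ≃ₗ[R₀] N :=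
    { e₁ with
      map_smul' := fun r m => by
        change e₁ (r • m) = θ (σ r) • e₁ m
        rw [hcomm, ← he₁, algebraMap_smul] }
  exact Module.Flat.of_linearEquiv e₂.symm

end Abstract


section Tilde

variable (R₀ B₀ : Type u) [CommRing R₀] [CommRing B₀] [Algebra R₀ B₀] (M₀ : Type u)
  [AddCommGroup M₀] [Module B₀ M₀] [Module R₀ M₀] [IsScalarTower R₀ B₀ M₀]

/-- the global sections of `M₀^~` are flat over `Γ(Spec R₀, ⊤)` when `M₀` is flat over `R₀`. -/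
theorem flat_sections_tilde [Module.Flat R₀ M₀] :
    @Module.Flat Γ(Spec (CommRingCat.of R₀), ⊤)
      Γ(tilde (ModuleCat.of (CommRingCat.of B₀) M₀), ⊤) _ _
      (Module.compHom Γ(tilde (ModuleCat.of (CommRingCat.of B₀) M₀), ⊤)
        (Spec.map (CommRingCat.ofHom (algebraMap R₀ B₀))).appTop.hom) := by
  have hbij : Function.Bijective (Scheme.ΓSpecIso (CommRingCat.of R₀)).inv.hom :=
    (ConcreteCategory.isIso_iff_bijective (Scheme.ΓSpecIso (CommRingCat.of R₀)).inv).mp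
      inferInstance
  refine flat_compHom_of_equiv (R₀ := R₀) (B₀ := B₀) (M₀ := M₀)
    (Scheme.ΓSpecIso (CommRingCat.of R₀)).inv.hom hbij
    (Spec.map (CommRingCat.ofHom (algebraMap R₀ B₀))).appTop.hom
    (Scheme.ΓSpecIso (CommRingCat.of B₀)).inv.hom ?_
    (tilde.isoTop (ModuleCat.of (CommRingCat.of B₀) M₀)).toLinearEquiv.toAddEquiv ?_
  · intro r
    have h := Scheme.ΓSpecIso_inv_naturality (CommRingCat.ofHom (algebraMap R₀ B₀))
    have h2 := congrArg (fun ψ => ψ.hom r) h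
    exact h2.symm
  · intro b m
    exact (tilde.isoTop (ModuleCat.of (CommRingCat.of B₀) M₀)).toLinearEquiv.map_smul b m

/-- `M₀^~` is flat over `Spec R₀` when `M₀` is flat over `R₀`. -/
theorem isFlatOver_tilde [Module.Flat R₀ M₀] :
    FlatMod.IsFlatOver (Spec.map (CommRingCat.ofHom (algebraMap R₀ B₀)))
      (tilde (ModuleCat.of (CommRingCat.of B₀) M₀)) := by
  intro x
  have h := flat_sections_tilde R₀ B₀ M₀
  rw [← appLE_top_top (Spec.map (CommRingCat.ofHom (algebraMap R₀ B₀))) le_top] at h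
  exact Groth.Agent.Helper13.FlatOver.isFlatOverAt_of_flat_sections
    (Spec.map (CommRingCat.ofHom (algebraMap R₀ B₀))) (tilde (ModuleCat.of (CommRingCat.of B₀) M₀))
    (isAffineOpen_top _) (isAffineOpen_top _) le_top h x trivial

end Tilde


/-- The scheme-level data attached to a ring-level flat model. -/
theorem exists_scheme_model_flat {X S : Scheme.{u}} (f : X ⟶ S) [IsAffine X] [IsAffine S]
    (F : X.Modules) [F.IsQuasicoherent]
    (R₀ : Type u) [CommRing R₀] (B₀ : Type u) [CommRing B₀] [Algebra R₀ B₀]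
    [Algebra R₀ Γ(S, ⊤)] [Algebra B₀ Γ(X, ⊤)]
    (hpo : IsPushout (CommRingCat.ofHom (algebraMap R₀ Γ(S, ⊤)))
      (CommRingCat.ofHom (algebraMap R₀ B₀)) f.appTop (CommRingCat.ofHom (algebraMap B₀ Γ(X, ⊤))))
    [Algebra.FiniteType ℤ R₀] [Algebra.FiniteType R₀ B₀]
    (M₀ : Type u) [AddCommGroup M₀] [Module B₀ M₀] [Module.Finite B₀ M₀]
    [Module R₀ M₀] [IsScalarTower R₀ B₀ M₀] [Module.Flat R₀ M₀]
    (e : Γ(X, ⊤) ⊗[B₀] M₀ ≃ₗ[Γ(X, ⊤)] Γ(F, ⊤)) :
    ∃ (X₀ S₀ : Scheme.{u}) (f₀ : X₀ ⟶ S₀) (g : S ⟶ S₀) (g' : X ⟶ X₀), IsAffine X₀ ∧ IsAffine S₀ ∧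
      IsPullback g' f f₀ g ∧ Algebra.FiniteType ℤ Γ(S₀, ⊤) ∧ LocallyOfFiniteType f₀ ∧
      ∃ F₀ : X₀.Modules, Coh.IsCoh F₀ ∧ FlatMod.IsFlatOver f₀ F₀ ∧
        Nonempty ((Scheme.Modules.pullback g').obj F₀ ≅ F) := by
  have hR := (isPullback_SpecMap_of_isPushout _ _ _ _ hpo).flip
  have hL : IsPullback X.toSpecΓ f (Spec.map f.appTop) S.toSpecΓ :=
    IsPullback.of_horiz_isIso ⟨(Scheme.toSpecΓ_naturality f).symm⟩
  haveI : IsNoetherianRing R₀ := Algebra.FiniteType.isNoetherianRing ℤ R₀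
  haveI : IsNoetherianRing B₀ := Algebra.FiniteType.isNoetherianRing R₀ B₀
  haveI : Module.FinitePresentation B₀ M₀ := Module.finitePresentation_of_finite B₀ M₀
  refine ⟨Spec (CommRingCat.of B₀), Spec (CommRingCat.of R₀),
    Spec.map (CommRingCat.ofHom (algebraMap R₀ B₀)),
    S.toSpecΓ ≫ Spec.map (CommRingCat.ofHom (algebraMap R₀ Γ(S, ⊤))),
    X.toSpecΓ ≫ Spec.map (CommRingCat.ofHom (algebraMap B₀ Γ(X, ⊤))),
    inferInstance, inferInstance, hL.paste_horiz hR, ?_, ?_,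
    tilde (ModuleCat.of (CommRingCat.of B₀) M₀), isCoh_tilde B₀ M₀,
    isFlatOver_tilde R₀ B₀ M₀, ⟨?_⟩⟩
  · let e := Scheme.ΓSpecIso (CommRingCat.of R₀)
    refine Algebra.FiniteType.of_surjective (e.inv.hom.toIntAlgHom) ?_
    intro y
    refine ⟨e.hom.hom y, ?_⟩
    show e.inv.hom (e.hom.hom y) = y
    rw [← CommRingCat.comp_apply, e.hom_inv_id]
    rfl
  · rw [HasRingHomProperty.Spec_iff (P := @LocallyOfFiniteType)]
    exact RingHom.finiteType_algebraMap.mpr inferInstance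
  · exact (Scheme.Modules.pullbackComp X.toSpecΓ
        (Spec.map (CommRingCat.ofHom (algebraMap B₀ Γ(X, ⊤))))).symm.app _ ≪≫
      (Scheme.Modules.pullback X.toSpecΓ).mapIso
        (Groth.Agent.Helper13.Pullback.pullbackTildeIso' B₀ Γ(X, ⊤) M₀) ≪≫
      isoAffineOfEquiv F (Γ(X, ⊤) ⊗[B₀] M₀) e

/-- **Noetherian approximation of a flat finitely presented module on an affine scheme.** -/
theorem exists_flat_module_model {X S : Scheme.{u}} (f : X ⟶ S) [IsAffine X] [IsAffine S]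
    [LocallyOfFinitePresentation f] (F : X.Modules) [F.IsQuasicoherent] (hF : CohB1.IsFP F)
    (hfl : FlatMod.IsFlatOver f F) :
    ∃ (X₀ S₀ : Scheme.{u}) (f₀ : X₀ ⟶ S₀) (g : S ⟶ S₀) (g' : X ⟶ X₀), IsAffine X₀ ∧ IsAffine S₀ ∧
      IsPullback g' f f₀ g ∧ Algebra.FiniteType ℤ Γ(S₀, ⊤) ∧ LocallyOfFiniteType f₀ ∧
      ∃ F₀ : X₀.Modules, Coh.IsCoh F₀ ∧ FlatMod.IsFlatOver f₀ F₀ ∧
        Nonempty ((Scheme.Modules.pullback g').obj F₀ ≅ F) := by
  letI : Algebra Γ(S, ⊤) Γ(X, ⊤) := f.appTop.hom.toAlgebra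
  have hfp : f.appTop.hom.FinitePresentation :=
    (HasRingHomProperty.iff_of_isAffine (P := @LocallyOfFinitePresentation)).mp inferInstance
  haveI : Algebra.FinitePresentation Γ(S, ⊤) Γ(X, ⊤) := hfp
  letI : Module Γ(S, ⊤) Γ(F, ⊤) := Module.compHom Γ(F, ⊤) (algebraMap Γ(S, ⊤) Γ(X, ⊤))
  haveI : IsScalarTower Γ(S, ⊤) Γ(X, ⊤) Γ(F, ⊤) :=
    IsScalarTower.of_algebraMap_smul fun _ _ => rfl
  haveI : Module.FinitePresentation Γ(X, ⊤) Γ(F, ⊤) :=
    Groth.Agent.Helper13.LocFree.finitePresentation_sections_of_isFinitePresentation F (hM := hF)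
      (isAffineOpen_top X)
  haveI : Module.Flat Γ(S, ⊤) Γ(F, ⊤) := flat_sections_top f F hfl
  obtain ⟨R₀, _, _, B₀, _, _, _, _, _, _, M₀, _, _, _, _, _, _, h, hR₀, hB₀, hfin, hflat, hpo,
    hbc⟩ := Groth.Agent.S9456.result Γ(S, ⊤) Γ(X, ⊤) Γ(F, ⊤)
  haveI := hR₀
  haveI := hB₀
  haveI := hfin
  haveI := hflat
  haveI := hpo
  have hpo' := CommRingCat.isPushout_of_isPushout R₀ Γ(S, ⊤) B₀ Γ(X, ⊤)
  exact exists_scheme_model_flat f F R₀ B₀ hpo' M₀ hbc.equiv

end Groth.Agent.Helper21.NAM
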