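import Mathlib
import Groth.Agent.Lib.Helper1.TorFree

/-!
# Separating families modulo a nilpotent ideal with free graded pieces: ring core (helper21)

`R` a ring, `J` a nilpotent ideal with every `J^k / J^{k+1}` free over `R / J`; `u i : M → N i` a
family of linear maps into flat modules.  If the family `(R/J) ⊗ u i` is jointly injective, so is
`(u i)`.
-/

set_option autoImplicit false
set_option linter.style.haveILetI false
set_option linter.unusedSectionVars false

universe u

open TensorProduct Function

namespace Groth.Agent.Helper21.Sep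

variable {R : Type u} [CommRing R]

/-- The multiplication map `I ⊗ M → M`. -/
noncomputable def mulMap (I : Ideal R) (M : Type u) [AddCommGroup M] [Module R M] :
    ↥I ⊗[R] M →ₗ[R] M :=
  (TensorProduct.lid R M).toLinearMap ∘ₗ LinearMap.rTensor M I.subtype

theorem mulMap_tmul (I : Ideal R) (M : Type u) [AddCommGroup M] [Module R M] (a : I) (m : M) :
    mulMap I M (a ⊗ₜ m) = (a : R) • m := by
  simp [mulMap]

theorem range_mulMap (I : Ideal R) (M : Type u) [AddCommGroup M] [Module R M] :
    LinearMap.range (mulMap I M) = I • (⊤ : Submodule R M) := by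
  rw [mulMap, LinearMap.range_comp]
  exact Submodule.map_range_rTensor_subtype_lid

theorem mulMap_injective_of_flat (I : Ideal R) (M : Type u) [AddCommGroup M] [Module R M]
    [Module.Flat R M] : Injective (mulMap I M) := by
  have h := Module.Flat.rTensor_preserves_injective_linearMap (M := M) I.subtype
    (Submodule.injective_subtype I)
  exact (TensorProduct.lid R M).injective.comp h

theorem mulMap_lTensor (I : Ideal R) {M N : Type u} [AddCommGroup M] [Module R M]
    [AddCommGroup N] [Module R N] (f : M →ₗ[R] N) (τ : ↥I ⊗[R] M) :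
    mulMap I N (LinearMap.lTensor I f τ) = f (mulMap I M τ) := by
  induction τ using TensorProduct.induction_on with
  | zero => simp
  | tmul a m => rw [LinearMap.lTensor_tmul, mulMap_tmul, mulMap_tmul, map_smul]
  | add x y hx hy => rw [map_add, map_add, hx, hy, map_add, map_add]

/-- An element of `G ⊗ M`, `G` free over `S`, all of whose coordinates vanish, is zero. -/
theorem eq_zero_of_coords {S : Type u} [CommRing S] [Algebra R S] {G : Type u} [AddCommGroup G]
    [Module R G] [Module S G] [IsScalarTower R S G] [Module.Free S G] {M : Type u}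
    [AddCommGroup M] [Module R M] (y : G ⊗[R] M)
    (h : ∀ c : G →ₗ[R] S, LinearMap.rTensor M c y = 0) : y = 0 := by
  classical
  let b := Module.Free.chooseBasis S G
  let ρb : G ≃ₗ[R] (Module.Free.ChooseBasisIndex S G →₀ S) := b.repr.restrictScalars R
  have h1 : TensorProduct.finsuppLeft R R S M (Module.Free.ChooseBasisIndex S G)
      ((LinearEquiv.rTensor M ρb) y) = 0 := by
    ext i : 1
    rw [TensorProduct.finsuppLeft_apply, Finsupp.zero_apply]
    have h2 : (LinearEquiv.rTensor M ρb) y = LinearMap.rTensor M ρb.toLinearMap y := rfl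
    rw [h2, ← LinearMap.comp_apply, ← LinearMap.rTensor_comp]
    exact h _
  have h3 := (TensorProduct.finsuppLeft R R S M (Module.Free.ChooseBasisIndex S G)).injective
    (h1.trans (map_zero _).symm)
  exact (LinearEquiv.rTensor M ρb).injective (h3.trans (map_zero _).symm)

set_option maxHeartbeats 800000 in
/-- **Ring core.** -/
theorem eq_zero_of_forall_eq_zero (J : Ideal R) (hJ : IsNilpotent J)
    (hfree : ∀ k : ℕ, Module.Free (R ⧸ J) ((R ⧸ J) ⊗[R] ↥(J ^ k)))
    {M : Type u} [AddCommGroup M] [Module R M] {ι : Type*} (N : ι → Type u)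
    [∀ i, AddCommGroup (N i)] [∀ i, Module R (N i)] [∀ i, Module.Flat R (N i)]
    (v : ∀ i, M →ₗ[R] N i)
    (h0 : ∀ z : (R ⧸ J) ⊗[R] M, (∀ i, (v i).baseChange (R ⧸ J) z = 0) → z = 0)
    (t : M) (ht : ∀ i, v i t = 0) : t = 0 := by
  have key : ∀ k : ℕ, t ∈ J ^ k • (⊤ : Submodule R M) := by
    intro k
    induction k with
    | zero => rw [pow_zero, Ideal.one_eq_top, Submodule.top_smul]; exact Submodule.mem_top
    | succ k ih =>
      rw [← range_mulMap] at ih
      obtain ⟨τ, rfl⟩ := ih
      have hτ : ∀ i, LinearMap.lTensor (↥(J ^ k)) (v i) τ = 0 := by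
        intro i
        apply mulMap_injective_of_flat (J ^ k) (N i)
        rw [mulMap_lTensor, ht, map_zero]
      haveI := hfree k
      -- all coordinates vanish
      have hq : LinearMap.rTensor M (TensorProduct.mk R (R ⧸ J) (↥(J ^ k)) 1) τ = 0 := by
        apply eq_zero_of_coords (S := R ⧸ J)
        intro c
        rw [← LinearMap.comp_apply, ← LinearMap.rTensor_comp]
        apply h0
        intro i
        have h1 : (v i).baseChange (R ⧸ J)
            (LinearMap.rTensor M (c ∘ₗ TensorProduct.mk R (R ⧸ J) (↥(J ^ k)) 1) τ) =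
            LinearMap.rTensor (N i) (c ∘ₗ TensorProduct.mk R (R ⧸ J) (↥(J ^ k)) 1)
              (LinearMap.lTensor (↥(J ^ k)) (v i) τ) := by
          have h2 : ∀ w, (v i).baseChange (R ⧸ J) w = LinearMap.lTensor (R ⧸ J) (v i) w :=
            fun w => by rw [← LinearMap.baseChange_eq_ltensor]
          rw [h2, ← LinearMap.comp_apply, ← LinearMap.comp_apply,
            LinearMap.lTensor_comp_rTensor, LinearMap.rTensor_comp_lTensor]
        rw [h1, hτ, map_zero]
      -- hence `1 ⊗ τ = 0`
      have h1τ : (1 : R ⧸ J) ⊗ₜ[R] τ = 0 := by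
        have h3 : ∀ σ : ↥(J ^ k) ⊗[R] M, (TensorProduct.assoc R (R ⧸ J) (↥(J ^ k)) M)
            (LinearMap.rTensor M (TensorProduct.mk R (R ⧸ J) (↥(J ^ k)) 1) σ) =
            (1 : R ⧸ J) ⊗ₜ[R] σ := by
          intro σ
          induction σ using TensorProduct.induction_on with
          | zero => simp
          | tmul a m => simp
          | add x y hx hy => rw [map_add, map_add, hx, hy, TensorProduct.tmul_add]
        rw [← h3, hq, map_zero]
      have hmem : τ ∈ J • (⊤ : Submodule R (↥(J ^ k) ⊗[R] M)) :=
        (Groth.Agent.Helper1.one_tmul_eq_zero_iff J τ).mp h1τ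
      have h4 : mulMap (J ^ k) M τ ∈ (J • (⊤ : Submodule R (↥(J ^ k) ⊗[R] M))).map
          (mulMap (J ^ k) M) := Submodule.mem_map_of_mem hmem
      rw [Submodule.map_smul'', Submodule.map_top, range_mulMap, ← Submodule.mul_smul,
        ← pow_succ'] at h4
      exact h4
  obtain ⟨n, hn⟩ := hJ
  have h5 := key n
  rw [hn, Submodule.zero_eq_bot, Submodule.bot_smul, Submodule.mem_bot] at h5
  exact h5

end Groth.Agent.Helper21.Sep
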