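import Mathlib
import Groth.Agent.Lib.Helper21.Sep1
import Groth.Agent.Lib.Helper21.NAM3
import Groth.Agent.Lib.Helper13.FlatOverAffine
import Groth.Agent.Lib.Helper13.PullbackSections
import Groth.Agent.Lib.Helper13.PullbackLocal
import Groth.Agent.Lib.Helper18.RecPull

/-!
# Separating families modulo a nilpotent ideal: the affine-open case (helper21)
-/

set_option autoImplicit false
set_option linter.style.haveILetI false
set_option linter.unusedSectionVars false
set_option maxRecDepth 8000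

universe u

open CategoryTheory AlgebraicGeometry Limits Opposite TopologicalSpace TensorProduct

namespace Groth.Agent.Helper21.Sep

open Groth.Agent.Helper13.Pullback Groth.Agent.Helper18.Rec Groth.Agent.Helper18.PbCompat

/-- the action of a morphism of modules on sections, as a linear map -/
noncomputable def appLin {X : Scheme.{u}} {M N : X.Modules} (φ : M ⟶ N) (U : X.Opens) :
    Γ(M, U) →ₗ[Γ(X, U)] Γ(N, U) where
  toFun := φ.app U
  map_add' := map_add _
  map_smul' r x := Scheme.Modules.Hom.app_smul φ r x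

theorem appLin_apply {X : Scheme.{u}} {M N : X.Modules} (φ : M ⟶ N) (U : X.Opens) (x : Γ(M, U)) :
    appLin φ U x = φ.app U x := rfl

section

variable {X Y : Scheme.{u}} (j : X ⟶ Y)

theorem map_pullRes {G G' : Y.Modules} (θ : G ⟶ G') {U : X.Opens} {V : Y.Opens}
    (e : U ≤ j ⁻¹ᵁ V) (t : Γ(G, V)) :
    ((Scheme.Modules.pullback j).map θ).app U (pullRes j G e t) = pullRes j G' e (θ.app V t) := by
  unfold pullRes
  rw [hom_naturality, pullback_map_app]

theorem sectionsPullbackEquiv_map {G G' : Y.Modules} [G.IsQuasicoherent] [G'.IsQuasicoherent]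
    (θ : G ⟶ G') {U : X.Opens} (hU : IsAffineOpen U) {V : Y.Opens} (hV : IsAffineOpen V)
    (e : U ≤ j ⁻¹ᵁ V) (x : Γ((Scheme.Modules.pullback j).obj G, U)) :
    letI := (j.appLE V U e).hom.toAlgebra
    sectionsPullbackEquiv j G' hU hV e (((Scheme.Modules.pullback j).map θ).app U x) =
      (appLin θ V).baseChange Γ(X, U) (sectionsPullbackEquiv j G hU hV e x) := by
  letI := (j.appLE V U e).hom.toAlgebra
  have hx : x ∈ Submodule.span Γ(X, U) ((fun t => pullRes j G e t) '' (Set.univ : Set Γ(G, V))) := by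
    rw [span_pullRes j G hU hV e Set.univ (by simp)]; trivial
  induction hx using Submodule.closure_induction with
  | zero => rw [map_zero, map_zero, map_zero, map_zero]
  | add x y _ _ hx hy => rw [map_add, map_add, hx, hy, map_add, map_add]
  | smul_mem r x hx =>
    obtain ⟨t, -, rfl⟩ := hx
    rw [Scheme.Modules.Hom.app_smul, map_smul, map_pullRes, sectionsPullbackEquiv_pullRes,
      map_smul, sectionsPullbackEquiv_pullRes, map_smul, LinearMap.baseChange_tmul]
    rfl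

end

section Alg

theorem cancelBaseChange_baseChange {R S A B M N : Type u} [CommRing R] [CommRing S] [CommRing A]
    [CommRing B] [Algebra R S] [Algebra R A] [Algebra R B] [Algebra A B] [Algebra S B]
    [IsScalarTower R A B] [IsScalarTower R S B] [Algebra.IsPushout R S A B]
    [AddCommGroup M] [Module R M] [Module A M] [IsScalarTower R A M]
    [AddCommGroup N] [Module R N] [Module A N] [IsScalarTower R A N]
    (f : M →ₗ[A] N) (y : B ⊗[A] M) :
    Algebra.IsPushout.cancelBaseChange R S A B N (f.baseChange B y) =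
      (f.restrictScalars R).baseChange S (Algebra.IsPushout.cancelBaseChange R S A B M y) := by
  obtain ⟨w, rfl⟩ := (Algebra.IsPushout.cancelBaseChange R S A B M).symm.surjective y
  rw [LinearEquiv.apply_symm_apply]
  induction w using TensorProduct.induction_on with
  | zero => simp
  | tmul s m =>
    rw [Algebra.IsPushout.cancelBaseChange_symm_tmul, LinearMap.baseChange_tmul,
      LinearMap.baseChange_tmul, ← Algebra.IsPushout.cancelBaseChange_symm_tmul R S A B N,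
      LinearEquiv.apply_symm_apply]
    rfl
  | add x y hx hy => rw [map_add, map_add, map_add, hx, hy, map_add]

end Alg

/-- The square of sections over an affine open `W` of `X` and its preimage in
`X ×_{Spec A} Spec A'` is a pushout square of rings. -/
theorem isPushout_sections {X : Scheme.{u}} {A A' : CommRingCat.{u}} (p : X ⟶ Spec A)
    (φ : A ⟶ A') {W : X.Opens} (hW : IsAffineOpen W) :
    IsPushout ((Scheme.ΓSpecIso A).inv ≫ p.appLE ⊤ W le_top) φ
      ((pullback.fst p (Spec.map φ)).appLE W ((pullback.fst p (Spec.map φ)) ⁻¹ᵁ W) le_rfl)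
      ((Scheme.ΓSpecIso A').inv ≫ (pullback.snd p (Spec.map φ)).appLE ⊤
        ((pullback.fst p (Spec.map φ)) ⁻¹ᵁ W) le_top) := by
  have hiso := isIso_pushoutSection_of_isAffineOpen (IsPullback.of_hasPullback p (Spec.map φ))
    (US := ⊤) (UT := ⊤) (UX := W) (UY := (pullback.fst p (Spec.map φ)) ⁻¹ᵁ W)
    le_top le_top (by simp) (isAffineOpen_top _) (isAffineOpen_top _) hW
  have hpoC := (isIso_pushoutSection_iff (IsPullback.of_hasPullback p (Spec.map φ))
    (US := ⊤) (UT := ⊤) (UX := W) (UY := (pullback.fst p (Spec.map φ)) ⁻¹ᵁ W)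
    le_top le_top (by simp)).mp hiso
  refine hpoC.of_iso (Scheme.ΓSpecIso A) (Iso.refl _) (Scheme.ΓSpecIso A') (Iso.refl _) ?_ ?_ ?_ ?_
  · simp
  · rw [NAM.appLE_top_top]; exact Scheme.ΓSpecIso_naturality φ
  · simp
  · simp

set_option maxHeartbeats 1600000 in
set_option synthInstance.maxHeartbeats 400000 in
/-- **Affine-open case.** -/
theorem sep_affine {X : Scheme.{u}} (A : CommRingCat.{u}) (p : X ⟶ Spec A)
    (J : Ideal ↑A) (hJ : IsNilpotent J)
    (hfree : ∀ k : ℕ, Module.Free (↑A ⧸ J) ((↑A ⧸ J) ⊗[↑A] ↥(J ^ k)))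
    (F : X.Modules) [F.IsQuasicoherent] {ι : Type u} (G : ι → X.Modules)
    [∀ i, (G i).IsQuasicoherent]
    (hG : ∀ i, FlatMod.IsFlatOver p (G i)) (u : ∀ i, F ⟶ G i)
    {W : X.Opens} (hW : IsAffineOpen W)
    (h0 : ∀ (t : Γ((Scheme.Modules.pullback (pullback.fst p
        (Spec.map (CommRingCat.ofHom (Ideal.Quotient.mk J))))).obj F,
        (pullback.fst p (Spec.map (CommRingCat.ofHom (Ideal.Quotient.mk J)))) ⁻¹ᵁ W)),
      (∀ i, ((Scheme.Modules.pullback (pullback.fst p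
        (Spec.map (CommRingCat.ofHom (Ideal.Quotient.mk J))))).map (u i)).app
          ((pullback.fst p (Spec.map (CommRingCat.ofHom (Ideal.Quotient.mk J)))) ⁻¹ᵁ W) t = 0) →
        t = 0)
    (t : Γ(F, W)) (ht : ∀ i, (u i).app W t = 0) : t = 0 := by
  have hpoC := isPushout_sections p (CommRingCat.ofHom (Ideal.Quotient.mk J)) hW
  haveI : IsAffineHom (Spec.map (CommRingCat.ofHom (Ideal.Quotient.mk J))) := inferInstance
  haveI : IsAffineHom (pullback.fst p (Spec.map (CommRingCat.ofHom (Ideal.Quotient.mk J)))) :=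
    MorphismProperty.pullback_fst _ _ ‹_›
  have hW' : IsAffineOpen
      ((pullback.fst p (Spec.map (CommRingCat.ofHom (Ideal.Quotient.mk J)))) ⁻¹ᵁ W) :=
    hW.preimage _
  obtain ⟨g₀, hg₀⟩ : ∃ g₀ : Spec (CommRingCat.of (↑A ⧸ J)) ⟶ Spec A,
      g₀ = Spec.map (CommRingCat.ofHom (Ideal.Quotient.mk J)) := ⟨_, rfl⟩
  rw [← hg₀] at hpoC hW' h0
  letI algAB : Algebra ↑A Γ(X, W) :=
    ((Scheme.ΓSpecIso A).inv ≫ p.appLE ⊤ W le_top).hom.toAlgebra
  letI algA'B' : Algebra (↑A ⧸ J) Γ(pullback p g₀, (pullback.fst p g₀) ⁻¹ᵁ W) :=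
    ((Scheme.ΓSpecIso (CommRingCat.of (↑A ⧸ J))).inv ≫
      (pullback.snd p g₀).appLE ⊤ ((pullback.fst p g₀) ⁻¹ᵁ W) le_top).hom.toAlgebra
  letI algBB' : Algebra Γ(X, W) Γ(pullback p g₀, (pullback.fst p g₀) ⁻¹ᵁ W) :=
    ((pullback.fst p g₀).appLE W ((pullback.fst p g₀) ⁻¹ᵁ W) le_rfl).hom.toAlgebra
  letI algAB' : Algebra ↑A Γ(pullback p g₀, (pullback.fst p g₀) ⁻¹ᵁ W) :=
    (((pullback.fst p g₀).appLE W ((pullback.fst p g₀) ⁻¹ᵁ W) le_rfl).hom.comp
      ((Scheme.ΓSpecIso A).inv ≫ p.appLE ⊤ W le_top).hom).toAlgebra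
  haveI tw1 : IsScalarTower ↑A Γ(X, W) Γ(pullback p g₀, (pullback.fst p g₀) ⁻¹ᵁ W) :=
    IsScalarTower.of_algebraMap_eq fun _ => rfl
  haveI tw2 : IsScalarTower ↑A (↑A ⧸ J) Γ(pullback p g₀, (pullback.fst p g₀) ⁻¹ᵁ W) :=
    IsScalarTower.of_algebraMap_eq fun r => by
      have := congrArg (fun ψ => ψ.hom r) hpoC.w
      exact this
  have hpo1 : Algebra.IsPushout ↑A Γ(X, W) (↑A ⧸ J)
      Γ(pullback p g₀, (pullback.fst p g₀) ⁻¹ᵁ W) :=
    (CommRingCat.isPushout_iff_isPushout (R := ↑A) (S := ↑A ⧸ J) (R' := Γ(X, W))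
      (S' := Γ(pullback p g₀, (pullback.fst p g₀) ⁻¹ᵁ W))).mp hpoC
  haveI hpo : Algebra.IsPushout ↑A (↑A ⧸ J) Γ(X, W)
      Γ(pullback p g₀, (pullback.fst p g₀) ⁻¹ᵁ W) := hpo1.symm
  -- module structures
  letI modAF : Module ↑A Γ(F, W) :=
    Module.compHom Γ(F, W) ((Scheme.ΓSpecIso A).inv ≫ p.appLE ⊤ W le_top).hom
  haveI tw3 : IsScalarTower ↑A Γ(X, W) Γ(F, W) :=
    IsScalarTower.of_algebraMap_smul fun _ _ => rfl
  letI modAG : ∀ i, Module ↑A Γ(G i, W) := fun i =>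
    Module.compHom Γ(G i, W) ((Scheme.ΓSpecIso A).inv ≫ p.appLE ⊤ W le_top).hom
  haveI tw3G : ∀ i, IsScalarTower ↑A Γ(X, W) Γ(G i, W) := fun i =>
    IsScalarTower.of_algebraMap_smul fun _ _ => rfl
  letI modF₀ : Module (↑A ⧸ J) Γ((Scheme.Modules.pullback (pullback.fst p g₀)).obj F,
      (pullback.fst p g₀) ⁻¹ᵁ W) :=
    Module.compHom _ ((Scheme.ΓSpecIso (CommRingCat.of (↑A ⧸ J))).inv ≫
      (pullback.snd p g₀).appLE ⊤ ((pullback.fst p g₀) ⁻¹ᵁ W) le_top).hom
  haveI tw4 : IsScalarTower (↑A ⧸ J) Γ(pullback p g₀, (pullback.fst p g₀) ⁻¹ᵁ W)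
      Γ((Scheme.Modules.pullback (pullback.fst p g₀)).obj F, (pullback.fst p g₀) ⁻¹ᵁ W) :=
    IsScalarTower.of_algebraMap_smul fun _ _ => rfl
  letI modG₀ : ∀ i, Module (↑A ⧸ J) Γ((Scheme.Modules.pullback (pullback.fst p g₀)).obj (G i),
      (pullback.fst p g₀) ⁻¹ᵁ W) := fun i =>
    Module.compHom _ ((Scheme.ΓSpecIso (CommRingCat.of (↑A ⧸ J))).inv ≫
      (pullback.snd p g₀).appLE ⊤ ((pullback.fst p g₀) ⁻¹ᵁ W) le_top).hom
  haveI tw4G : ∀ i, IsScalarTower (↑A ⧸ J) Γ(pullback p g₀, (pullback.fst p g₀) ⁻¹ᵁ W)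
      Γ((Scheme.Modules.pullback (pullback.fst p g₀)).obj (G i), (pullback.fst p g₀) ⁻¹ᵁ W) :=
    fun i => IsScalarTower.of_algebraMap_smul fun _ _ => rfl
  -- sections of the pullbacks
  let EF := ((sectionsPullbackEquiv (pullback.fst p g₀) F hW' hW le_rfl).restrictScalars
      (↑A ⧸ J)) ≪≫ₗ
    Algebra.IsPushout.cancelBaseChange ↑A (↑A ⧸ J) Γ(X, W)
      Γ(pullback p g₀, (pullback.fst p g₀) ⁻¹ᵁ W) Γ(F, W)
  let EG := fun i => ((sectionsPullbackEquiv (pullback.fst p g₀) (G i) hW' hW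
      le_rfl).restrictScalars (↑A ⧸ J)) ≪≫ₗ
    Algebra.IsPushout.cancelBaseChange ↑A (↑A ⧸ J) Γ(X, W)
      Γ(pullback p g₀, (pullback.fst p g₀) ⁻¹ᵁ W) Γ(G i, W)
  have hnat : ∀ i (x : Γ((Scheme.Modules.pullback (pullback.fst p g₀)).obj F,
      (pullback.fst p g₀) ⁻¹ᵁ W)),
      EG i (((Scheme.Modules.pullback (pullback.fst p g₀)).map (u i)).app
        ((pullback.fst p g₀) ⁻¹ᵁ W) x) =
      ((appLin (u i) W).restrictScalars ↑A).baseChange (↑A ⧸ J) (EF x) := by
    intro i x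
    have h1 := sectionsPullbackEquiv_map (pullback.fst p g₀) (u i) hW' hW le_rfl x
    have h2 := cancelBaseChange_baseChange (R := ↑A) (S := ↑A ⧸ J) (A := Γ(X, W))
      (B := Γ(pullback p g₀, (pullback.fst p g₀) ⁻¹ᵁ W)) (appLin (u i) W)
      (sectionsPullbackEquiv (pullback.fst p g₀) F hW' hW le_rfl x)
    change Algebra.IsPushout.cancelBaseChange ↑A (↑A ⧸ J) Γ(X, W)
      Γ(pullback p g₀, (pullback.fst p g₀) ⁻¹ᵁ W) Γ(G i, W)
      (sectionsPullbackEquiv (pullback.fst p g₀) (G i) hW' hW le_rfl _) = _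
    rw [h1]
    exact h2
  -- flatness of the sections of `G i`
  haveI flG : ∀ i, Module.Flat ↑A Γ(G i, W) := by
    intro i
    have hfl := Groth.Agent.Helper13.FlatOver.flat_sections_of_isFlatOverAt p (G i) hW
      (isAffineOpen_top _) le_top (fun x _ => hG i x)
    letI : Algebra Γ(Spec A, ⊤) Γ(X, W) := (p.appLE ⊤ W le_top).hom.toAlgebra
    letI : Module Γ(Spec A, ⊤) Γ(G i, W) := Module.compHom _ (p.appLE ⊤ W le_top).hom
    haveI : IsScalarTower Γ(Spec A, ⊤) Γ(X, W) Γ(G i, W) :=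
      IsScalarTower.of_algebraMap_smul fun _ _ => rfl
    haveI : Module.Flat Γ(Spec A, ⊤) Γ(G i, W) := hfl
    refine NAM.flat_compHom_of_equiv (R₀ := Γ(Spec A, ⊤)) (B₀ := Γ(X, W)) (Γ₀ := ↑A)
      (ΓB := Γ(X, W)) (N := Γ(G i, W)) (M₀ := Γ(G i, W)) (Scheme.ΓSpecIso A).hom.hom
      ((ConcreteCategory.isIso_iff_bijective (Scheme.ΓSpecIso A).hom).mp inferInstance)
      ((Scheme.ΓSpecIso A).inv ≫ p.appLE ⊤ W le_top).hom (RingHom.id _) ?_ (AddEquiv.refl _)
      (fun _ _ => rfl)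
    intro r
    change (p.appLE ⊤ W le_top).hom ((Scheme.ΓSpecIso A).inv.hom
      ((Scheme.ΓSpecIso A).hom.hom r)) = (p.appLE ⊤ W le_top).hom r
    congr 1
    exact congrArg (fun ψ => ψ.hom r) (Scheme.ΓSpecIso A).hom_inv_id
  refine eq_zero_of_forall_eq_zero J hJ hfree (fun i => Γ(G i, W))
    (fun i => (appLin (u i) W).restrictScalars ↑A) ?_ t ht
  intro z hz
  have hx : EF.symm z = 0 := by
    apply h0
    intro i
    apply (EG i).injective
    rw [hnat, LinearEquiv.apply_symm_apply, hz i, map_zero]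
  have := congrArg EF hx
  rwa [LinearEquiv.apply_symm_apply, map_zero] at this

end Groth.Agent.Helper21.Sep
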