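import Mathlib
import Groth.Agent.Lib.Helper13.QCohLoc
import Groth.Agent.Lib.Helper18.PbCompat

/-!
# Separating families on basic opens of an affine open (helper21)
-/

set_option autoImplicit false
set_option linter.style.haveILetI false
set_option linter.unusedSectionVars false

universe u

open CategoryTheory AlgebraicGeometry Limits Opposite TopologicalSpace

namespace Groth.Agent.Helper21.Sep

open Groth.Agent.Helper13.QCohLoc

/-- For quasi-coherent modules on a scheme, a family of homomorphisms is separating on the basic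
open `D(h)` of an affine open `U` iff the corresponding family of maps of sections over `U` is
"separating up to powers of `h`". -/
theorem sep_basicOpen_iff {Y : Scheme.{u}} (F : Y.Modules) [F.IsQuasicoherent] {ι : Type*}
    (G : ι → Y.Modules) [∀ i, (G i).IsQuasicoherent] (v : ∀ i, F ⟶ G i) {U : Y.Opens}
    (hU : IsAffineOpen U) (h : Γ(Y, U)) :
    (∀ t : Γ(F, Y.basicOpen h), (∀ i, (v i).app (Y.basicOpen h) t = 0) → t = 0) ↔
      (∀ m : Γ(F, U), (∀ i, ∃ k : ℕ, h ^ k • (v i).app U m = 0) → ∃ K : ℕ, h ^ K • m = 0) := by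
  letI := modBasicOpen F h
  letI := fun i => modBasicOpen (G i) h
  haveI := isLocalizedModule_basicOpen F hU h
  haveI := fun i => isLocalizedModule_basicOpen (G i) hU h
  have hnat : ∀ i (m : Γ(F, U)), (v i).app (Y.basicOpen h) (resBasicOpen F h m) =
      resBasicOpen (G i) h ((v i).app U m) := fun i m =>
    Groth.Agent.Helper18.PbCompat.hom_naturality (v i) (homOfLE (Y.basicOpen_le h)).op m
  constructor
  · intro H m hm
    have h0 : resBasicOpen F h m = 0 := by
      apply H
      intro i
      rw [hnat]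
      obtain ⟨k, hk⟩ := hm i
      exact (IsLocalizedModule.eq_zero_iff (Submonoid.powers h) (resBasicOpen (G i) h)).mpr
        ⟨⟨h ^ k, k, rfl⟩, hk⟩
    obtain ⟨⟨_, K, rfl⟩, hK⟩ :=
      (IsLocalizedModule.eq_zero_iff (Submonoid.powers h) (resBasicOpen F h)).mp h0
    exact ⟨K, hK⟩
  · intro H t ht
    obtain ⟨⟨m, ⟨_, n, rfl⟩⟩, hmn⟩ := IsLocalizedModule.surj (Submonoid.powers h)
      (resBasicOpen F h) t
    have hmn' : h ^ n • t = resBasicOpen F h m := hmn
    have h1 : ∀ i, ∃ k : ℕ, h ^ k • (v i).app U m = 0 := by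
      intro i
      have h2 : resBasicOpen (G i) h ((v i).app U m) = 0 := by
        rw [← hnat, ← hmn']
        have h3 : (v i).app (Y.basicOpen h) (h ^ n • t) =
            h ^ n • (v i).app (Y.basicOpen h) t :=
          Scheme.Modules.Hom.app_smul (v i) _ t
        rw [h3, ht i, smul_zero]
      obtain ⟨⟨_, k, rfl⟩, hk⟩ :=
        (IsLocalizedModule.eq_zero_iff (Submonoid.powers h) (resBasicOpen (G i) h)).mp h2
      exact ⟨k, hk⟩
    obtain ⟨K, hK⟩ := H m h1
    have h4 : resBasicOpen F h m = 0 :=
      (IsLocalizedModule.eq_zero_iff (Submonoid.powers h) (resBasicOpen F h)).mpr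
        ⟨⟨h ^ K, K, rfl⟩, hK⟩
    rw [h4] at hmn'
    exact IsLocalizedModule.smul_injective (resBasicOpen F h) (⟨h ^ n, n, rfl⟩ : Submonoid.powers h)
      (hmn'.trans (smul_zero _).symm)

end Groth.Agent.Helper21.Sep
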