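import Mathlib

/-!
# Separating families and direct limits of base rings: ring core (helper21)
-/

set_option autoImplicit false
set_option linter.style.haveILetI false
set_option linter.unusedSectionVars false

universe u

open TensorProduct Function

namespace Groth.Agent.Helper21.Sep

section FG

variable {A A' : Type u} [CommRing A] [CommRing A'] [Algebra A A']

theorem range_rTensor_mono {A₁ A₂ : Subalgebra A A'} (h : A₁ ≤ A₂) (Q : Type u) [AddCommGroup Q]
    [Module A Q] :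
    LinearMap.range (LinearMap.rTensor Q A₁.val.toLinearMap) ≤
      LinearMap.range (LinearMap.rTensor Q A₂.val.toLinearMap) := by
  rintro _ ⟨y, rfl⟩
  refine ⟨LinearMap.rTensor Q (Subalgebra.inclusion h).toLinearMap y, ?_⟩
  rw [← LinearMap.comp_apply, ← LinearMap.rTensor_comp]
  rfl

theorem exists_fg_subalgebra_mem_range {Q : Type u} [AddCommGroup Q] [Module A Q]
    (x : A' ⊗[A] Q) :
    ∃ A₁ : Subalgebra A A', A₁.FG ∧
      x ∈ LinearMap.range (LinearMap.rTensor Q A₁.val.toLinearMap) := by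
  induction x using TensorProduct.induction_on with
  | zero => exact ⟨⊥, Subalgebra.fg_bot, Submodule.zero_mem _⟩
  | tmul a q =>
    have hfg : (Algebra.adjoin A ({a} : Set A')).FG := by
      have := Subalgebra.fg_adjoin_finset (R := A) ({a} : Finset A')
      simpa using this
    refine ⟨Algebra.adjoin A {a}, hfg, ?_⟩
    exact ⟨(⟨a, Algebra.subset_adjoin (Set.mem_singleton a)⟩ : Algebra.adjoin A {a}) ⊗ₜ q, rfl⟩
  | add x y hx hy =>
    obtain ⟨A₁, h1, hx1⟩ := hx
    obtain ⟨A₂, h2, hy2⟩ := hy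
    exact ⟨A₁ ⊔ A₂, h1.sup h2, Submodule.add_mem _ (range_rTensor_mono le_sup_left Q hx1)
      (range_rTensor_mono le_sup_right Q hy2)⟩

end FG

section Nat

variable {A B : Type u} [CommRing A] [CommRing B] [Algebra A B]
  {A₁ A' R₁ R' : Type u} [CommRing A₁] [CommRing A'] [CommRing R₁] [CommRing R']
  [Algebra A A₁] [Algebra A A'] [Algebra A R₁] [Algebra A R'] [Algebra A₁ R₁] [Algebra A' R']
  [Algebra B R₁] [Algebra B R'] [IsScalarTower A A₁ R₁] [IsScalarTower A B R₁]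
  [IsScalarTower A A' R'] [IsScalarTower A B R']
  [Algebra.IsPushout A A₁ B R₁] [Algebra.IsPushout A A' B R']
  (ι₁ : A₁ →ₐ[A] A') (ρ : R₁ →ₐ[B] R')
  (hρ : ∀ a : A₁, ρ (algebraMap A₁ R₁ a) = algebraMap A' R' (ι₁ a))

include hρ in
theorem equiv_nat (y : A₁ ⊗[A] B) :
    ρ (Algebra.IsPushout.equiv A A₁ B R₁ y) =
      Algebra.IsPushout.equiv A A' B R' (LinearMap.rTensor B ι₁.toLinearMap y) := by
  induction y using TensorProduct.induction_on with
  | zero => simp
  | tmul a b =>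
    rw [Algebra.IsPushout.equiv_tmul, map_mul, hρ, AlgHom.commutes, LinearMap.rTensor_tmul,
      Algebra.IsPushout.equiv_tmul]
    rfl
  | add x y hx hy => simp only [map_add, hx, hy]

variable {M : Type u} [AddCommGroup M] [Module B M] [Module A M] [IsScalarTower A B M]

include hρ in
theorem cancel_symm_nat (y : A₁ ⊗[A] M) :
    LinearMap.rTensor M ρ.toLinearMap ((Algebra.IsPushout.cancelBaseChange A A₁ B R₁ M).symm y) =
      (Algebra.IsPushout.cancelBaseChange A A' B R' M).symm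
        (LinearMap.rTensor M ι₁.toLinearMap y) := by
  induction y using TensorProduct.induction_on with
  | zero => simp
  | tmul a m =>
    rw [Algebra.IsPushout.cancelBaseChange_symm_tmul, LinearMap.rTensor_tmul,
      LinearMap.rTensor_tmul, Algebra.IsPushout.cancelBaseChange_symm_tmul]
    exact congrArg (· ⊗ₜ[B] m) (hρ a)
  | add x y hx hy => simp only [map_add, hx, hy]

include hρ in
theorem rTensor_injective_of_flat [Module.Flat A M] (hι₁ : Injective ι₁) :
    Injective (LinearMap.rTensor M ρ.toLinearMap) := by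
  have h1 : Injective (LinearMap.rTensor M ι₁.toLinearMap) :=
    Module.Flat.rTensor_preserves_injective_linearMap _ hι₁
  intro x y hxy
  obtain ⟨x', rfl⟩ := (Algebra.IsPushout.cancelBaseChange A A₁ B R₁ M).symm.surjective x
  obtain ⟨y', rfl⟩ := (Algebra.IsPushout.cancelBaseChange A A₁ B R₁ M).symm.surjective y
  rw [cancel_symm_nat ι₁ ρ hρ, cancel_symm_nat ι₁ ρ hρ] at hxy
  rw [h1 ((Algebra.IsPushout.cancelBaseChange A A' B R' M).symm.injective hxy)]

omit [Module A M] [IsScalarTower A B M] in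
theorem rTensor_smul (r : R₁) (y : R₁ ⊗[B] M) :
    LinearMap.rTensor M ρ.toLinearMap (r • y) = ρ r • LinearMap.rTensor M ρ.toLinearMap y := by
  induction y using TensorProduct.induction_on with
  | zero => simp
  | tmul r₁ m =>
    rw [TensorProduct.smul_tmul', LinearMap.rTensor_tmul, LinearMap.rTensor_tmul,
      TensorProduct.smul_tmul', smul_eq_mul, smul_eq_mul]
    exact congrArg (· ⊗ₜ[B] m) (map_mul ρ r r₁)
  | add x y hx hy => simp only [smul_add, map_add, hx, hy]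

omit [Module A M] [IsScalarTower A B M] in
theorem rTensor_baseChange {N : Type u} [AddCommGroup N] [Module B N] (u : M →ₗ[B] N)
    (y : R₁ ⊗[B] M) :
    LinearMap.rTensor N ρ.toLinearMap (u.baseChange R₁ y) =
      u.baseChange R' (LinearMap.rTensor M ρ.toLinearMap y) := by
  induction y using TensorProduct.induction_on with
  | zero => simp
  | tmul r₁ m =>
    rw [LinearMap.baseChange_tmul, LinearMap.rTensor_tmul, LinearMap.rTensor_tmul,
      LinearMap.baseChange_tmul]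
  | add x y hx hy => simp only [map_add, hx, hy]

include hρ in
/-- **Transfer.** -/
theorem core_transfer {ι : Type*} (N : ι → Type u) [∀ i, AddCommGroup (N i)]
    [∀ i, Module B (N i)] [∀ i, Module A (N i)] [∀ i, IsScalarTower A B (N i)]
    [∀ i, Module.Flat A (N i)] (u : ∀ i, M →ₗ[B] N i) (hι₁ : Injective ι₁)
    (P₁ : ∀ (h : R₁) (m : R₁ ⊗[B] M), (∀ i, ∃ k : ℕ, h ^ k • (u i).baseChange R₁ m = 0) →
      ∃ K : ℕ, h ^ K • m = 0)
    (h₁ : R₁) (m₁ : R₁ ⊗[B] M)
    (hyp : ∀ i, ∃ k : ℕ, (ρ h₁) ^ k •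
      (u i).baseChange R' (LinearMap.rTensor M ρ.toLinearMap m₁) = 0) :
    ∃ K : ℕ, (ρ h₁) ^ K • LinearMap.rTensor M ρ.toLinearMap m₁ = 0 := by
  have h1 : ∀ i, ∃ k : ℕ, h₁ ^ k • (u i).baseChange R₁ m₁ = 0 := by
    intro i
    obtain ⟨k, hk⟩ := hyp i
    refine ⟨k, rTensor_injective_of_flat (M := N i) ι₁ ρ hρ hι₁ ?_⟩
    rw [rTensor_smul, map_pow, rTensor_baseChange, hk, map_zero]
  obtain ⟨K, hK⟩ := P₁ h₁ m₁ h1
  refine ⟨K, ?_⟩
  rw [← map_pow, ← rTensor_smul, hK, map_zero]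

end Nat

section Main

variable {A B : Type u} [CommRing A] [CommRing B] [Algebra A B]
  {A' R' : Type u} [CommRing A'] [CommRing R']
  [Algebra A A'] [Algebra A R'] [Algebra A' R']
  [Algebra B R'] [IsScalarTower A A' R'] [IsScalarTower A B R']
  [Algebra.IsPushout A A' B R']
  {M : Type u} [AddCommGroup M] [Module B M] [Module A M] [IsScalarTower A B M]

theorem exists_fg_level (h : R') (m : R' ⊗[B] M) :
    ∃ A₁ : Subalgebra A A', A₁.FG ∧ ∃ (y_h : A₁ ⊗[A] B) (y_m : A₁ ⊗[A] M),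
      Algebra.IsPushout.equiv A A' B R' (LinearMap.rTensor B A₁.val.toLinearMap y_h) = h ∧
      (Algebra.IsPushout.cancelBaseChange A A' B R' M).symm
        (LinearMap.rTensor M A₁.val.toLinearMap y_m) = m := by
  obtain ⟨A₁, h1, hx1⟩ := exists_fg_subalgebra_mem_range
    ((Algebra.IsPushout.equiv A A' B R').symm h)
  obtain ⟨A₂, h2, hx2⟩ := exists_fg_subalgebra_mem_range
    (Algebra.IsPushout.cancelBaseChange A A' B R' M m)
  obtain ⟨y_h, hy_h⟩ := range_rTensor_mono (le_sup_left : A₁ ≤ A₁ ⊔ A₂) B hx1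
  obtain ⟨y_m, hy_m⟩ := range_rTensor_mono (le_sup_right : A₂ ≤ A₁ ⊔ A₂) M hx2
  refine ⟨A₁ ⊔ A₂, h1.sup h2, y_h, y_m, ?_, ?_⟩
  · rw [hy_h, AlgEquiv.apply_symm_apply]
  · rw [hy_m, LinearEquiv.symm_apply_apply]

/-- **Main transfer theorem.** If the "separating up to powers" property holds over (some pushout
of) every finitely generated subalgebra of `A'`, it holds over `A'`. -/
theorem transfer_main {ι : Type*} (N : ι → Type u) [∀ i, AddCommGroup (N i)]
    [∀ i, Module B (N i)] [∀ i, Module A (N i)] [∀ i, IsScalarTower A B (N i)]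
    [∀ i, Module.Flat A (N i)] (u : ∀ i, M →ₗ[B] N i)
    (H : ∀ A₁ : Subalgebra A A', A₁.FG → ∃ (R₁ : Type u) (_ : CommRing R₁) (_ : Algebra A R₁)
      (_ : Algebra A₁ R₁) (_ : Algebra B R₁) (_ : IsScalarTower A A₁ R₁)
      (_ : IsScalarTower A B R₁) (_ : Algebra.IsPushout A A₁ B R₁),
      ∀ (h : R₁) (m : R₁ ⊗[B] M), (∀ i, ∃ k : ℕ, h ^ k • (u i).baseChange R₁ m = 0) →
        ∃ K : ℕ, h ^ K • m = 0)
    (h : R') (m : R' ⊗[B] M) (hyp : ∀ i, ∃ k : ℕ, h ^ k • (u i).baseChange R' m = 0) :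
    ∃ K : ℕ, h ^ K • m = 0 := by
  obtain ⟨A₁, hfg, y_h, y_m, hh, hm⟩ := exists_fg_level (A := A) (A' := A') h m
  obtain ⟨R₁, i1, i2, i3, i4, i5, i6, i7, P₁⟩ := H A₁ hfg
  -- the comparison map
  obtain ⟨ρA, hρA1, hρA2⟩ : ∃ ρA : R₁ →ₐ[A] R', (∀ b : B, ρA (algebraMap B R₁ b) =
      algebraMap B R' b) ∧ ∀ a : A₁, ρA (algebraMap A₁ R₁ a) = algebraMap A' R' (A₁.val a) :=
    ⟨Algebra.pushoutDesc R₁
      ((IsScalarTower.toAlgHom A A' R').comp A₁.val) (IsScalarTower.toAlgHom A B R')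
      (fun _ _ => mul_comm _ _), fun b => Algebra.pushoutDesc_right R₁ _ _ _ b,
      fun a => Algebra.pushoutDesc_left R₁ _ _ _ a⟩
  obtain ⟨ρ, hρρ⟩ : ∃ ρ : R₁ →ₐ[B] R', ∀ r, ρ r = ρA r :=
    ⟨{ (ρA : R₁ →+* R') with commutes' := hρA1 }, fun _ => rfl⟩
  have hρ : ∀ a : A₁, ρ (algebraMap A₁ R₁ a) = algebraMap A' R' (A₁.val a) :=
    fun a => (hρρ _).trans (hρA2 a)
  have key := core_transfer A₁.val ρ hρ N u Subtype.val_injective P₁
    (Algebra.IsPushout.equiv A A₁ B R₁ y_h)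
    ((Algebra.IsPushout.cancelBaseChange A A₁ B R₁ M).symm y_m)
  rw [equiv_nat A₁.val ρ hρ, cancel_symm_nat A₁.val ρ hρ, hh, hm] at key
  exact key hyp

end Main

end Groth.Agent.Helper21.Sep
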