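import Mathlib
import Groth.Agent.Lib.Helper21.Sep2
import Groth.Agent.Lib.Helper21.Sep5
import Groth.Agent.Lib.Helper21.Sep6
import Groth.Agent.Lib.Helper18.QCBasic

/-!
# Separating families and direct limits of base rings: scheme level (helper21)
-/

set_option autoImplicit false
set_option linter.style.haveILetI false
set_option linter.unusedSectionVars false
set_option maxRecDepth 8000

universe u

open CategoryTheory AlgebraicGeometry Limits Opposite TopologicalSpace TensorProduct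

namespace Groth.Agent.Helper21.Sep

open Groth.Agent.Helper13.Pullback

/-- the `A`-algebra structure on the sections of an `A`-scheme. -/
@[reducible] noncomputable def algA {X : Scheme.{u}} {A : CommRingCat.{u}} (p : X ⟶ Spec A)
    (W : X.Opens) : Algebra ↑A Γ(X, W) :=
  ((Scheme.ΓSpecIso A).inv ≫ p.appLE ⊤ W le_top).hom.toAlgebra

/-- the `A`-module structure on the sections of a module on an `A`-scheme. -/
@[reducible] noncomputable def modA {X : Scheme.{u}} {A : CommRingCat.{u}} (p : X ⟶ Spec A)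
    (W : X.Opens) (F : X.Modules) : Module ↑A Γ(F, W) :=
  Module.compHom Γ(F, W) ((Scheme.ΓSpecIso A).inv ≫ p.appLE ⊤ W le_top).hom

theorem isScalarTower_modA {X : Scheme.{u}} {A : CommRingCat.{u}} (p : X ⟶ Spec A)
    (W : X.Opens) (F : X.Modules) :
    letI := algA p W
    letI := modA p W F
    IsScalarTower ↑A Γ(X, W) Γ(F, W) := by
  letI := algA p W
  letI := modA p W F
  exact IsScalarTower.of_algebraMap_smul fun _ _ => rfl

theorem flat_modA {X : Scheme.{u}} {A : CommRingCat.{u}} (p : X ⟶ Spec A) {W : X.Opens}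
    (hW : IsAffineOpen W) (G : X.Modules) [G.IsQuasicoherent] (hG : FlatMod.IsFlatOver p G) :
    letI := modA p W G
    Module.Flat ↑A Γ(G, W) := by
  have hfl := Groth.Agent.Helper13.FlatOver.flat_sections_of_isFlatOverAt p G hW
    (isAffineOpen_top _) le_top (fun x _ => hG x)
  letI : Algebra Γ(Spec A, ⊤) Γ(X, W) := (p.appLE ⊤ W le_top).hom.toAlgebra
  letI : Module Γ(Spec A, ⊤) Γ(G, W) := Module.compHom _ (p.appLE ⊤ W le_top).hom
  haveI : IsScalarTower Γ(Spec A, ⊤) Γ(X, W) Γ(G, W) :=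
    IsScalarTower.of_algebraMap_smul fun _ _ => rfl
  haveI : Module.Flat Γ(Spec A, ⊤) Γ(G, W) := hfl
  refine NAM.flat_compHom_of_equiv (R₀ := Γ(Spec A, ⊤)) (B₀ := Γ(X, W)) (Γ₀ := ↑A)
    (ΓB := Γ(X, W)) (N := Γ(G, W)) (M₀ := Γ(G, W)) (Scheme.ΓSpecIso A).hom.hom
    ((ConcreteCategory.isIso_iff_bijective (Scheme.ΓSpecIso A).hom).mp inferInstance)
    ((Scheme.ΓSpecIso A).inv ≫ p.appLE ⊤ W le_top).hom (RingHom.id _) ?_ (AddEquiv.refl _)
    (fun _ _ => rfl)
  intro r
  change (p.appLE ⊤ W le_top).hom ((Scheme.ΓSpecIso A).inv.hom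
    ((Scheme.ΓSpecIso A).hom.hom r)) = (p.appLE ⊤ W le_top).hom r
  congr 1
  exact congrArg (fun ψ => ψ.hom r) (Scheme.ΓSpecIso A).hom_inv_id

set_option maxHeartbeats 1600000 in
set_option synthInstance.maxHeartbeats 400000 in
/-- **Algebraic model** of the separating property on the basic opens of the preimage of an
affine open `W` of `X` in `X ×_{Spec A} Spec C`. -/
theorem exists_model {X : Scheme.{u}} {A C : CommRingCat.{u}} [Algebra ↑A ↑C] (p : X ⟶ Spec A)
    (ψ : A ⟶ C) (hψ : ψ.hom = algebraMap ↑A ↑C)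
    (F : X.Modules) [F.IsQuasicoherent] {ι : Type u} (G : ι → X.Modules)
    [∀ i, (G i).IsQuasicoherent] (u : ∀ i, F ⟶ G i) {W : X.Opens} (hW : IsAffineOpen W) :
    letI := algA p W
    ∃ (R : Type u) (_ : CommRing R) (_ : Algebra ↑A R) (_ : Algebra ↑C R)
      (_ : Algebra Γ(X, W) R) (_ : IsScalarTower ↑A ↑C R) (_ : IsScalarTower ↑A Γ(X, W) R)
      (_ : Algebra.IsPushout ↑A ↑C Γ(X, W) R),
      ((∀ (h : Γ(pullback p (Spec.map ψ), (pullback.fst p (Spec.map ψ)) ⁻¹ᵁ W))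
          (t : Γ((Scheme.Modules.pullback (pullback.fst p (Spec.map ψ))).obj F,
            (pullback p (Spec.map ψ)).basicOpen h)),
          (∀ i, ((Scheme.Modules.pullback (pullback.fst p (Spec.map ψ))).map (u i)).app
            ((pullback p (Spec.map ψ)).basicOpen h) t = 0) → t = 0) ↔
        ∀ (h : R) (m : R ⊗[Γ(X, W)] Γ(F, W)),
          (∀ i, ∃ k : ℕ, h ^ k • (appLin (u i) W).baseChange R m = 0) →
            ∃ K : ℕ, h ^ K • m = 0) := by
  have hψ' : ψ = CommRingCat.ofHom (algebraMap ↑A ↑C) := CommRingCat.hom_ext hψ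
  subst hψ'
  have hpoC := isPushout_sections p (CommRingCat.ofHom (algebraMap ↑A ↑C)) hW
  haveI : IsAffineHom (Spec.map (CommRingCat.ofHom (algebraMap ↑A ↑C))) := inferInstance
  haveI : IsAffineHom (pullback.fst p (Spec.map (CommRingCat.ofHom (algebraMap ↑A ↑C)))) :=
    MorphismProperty.pullback_fst _ _ ‹_›
  have hW' : IsAffineOpen
      ((pullback.fst p (Spec.map (CommRingCat.ofHom (algebraMap ↑A ↑C)))) ⁻¹ᵁ W) :=
    hW.preimage _
  obtain ⟨g₀, hg₀⟩ : ∃ g₀ : Spec C ⟶ Spec A,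
      g₀ = Spec.map (CommRingCat.ofHom (algebraMap ↑A ↑C)) := ⟨_, rfl⟩
  rw [← hg₀] at hpoC hW' ⊢
  letI algAB : Algebra ↑A Γ(X, W) := algA p W
  letI algCR : Algebra ↑C Γ(pullback p g₀, (pullback.fst p g₀) ⁻¹ᵁ W) :=
    ((Scheme.ΓSpecIso C).inv ≫
      (pullback.snd p g₀).appLE ⊤ ((pullback.fst p g₀) ⁻¹ᵁ W) le_top).hom.toAlgebra
  letI algBR : Algebra Γ(X, W) Γ(pullback p g₀, (pullback.fst p g₀) ⁻¹ᵁ W) :=
    ((pullback.fst p g₀).appLE W ((pullback.fst p g₀) ⁻¹ᵁ W) le_rfl).hom.toAlgebra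
  letI algAR : Algebra ↑A Γ(pullback p g₀, (pullback.fst p g₀) ⁻¹ᵁ W) :=
    (((pullback.fst p g₀).appLE W ((pullback.fst p g₀) ⁻¹ᵁ W) le_rfl).hom.comp
      ((Scheme.ΓSpecIso A).inv ≫ p.appLE ⊤ W le_top).hom).toAlgebra
  haveI tw1 : IsScalarTower ↑A Γ(X, W) Γ(pullback p g₀, (pullback.fst p g₀) ⁻¹ᵁ W) :=
    IsScalarTower.of_algebraMap_eq fun _ => rfl
  haveI tw2 : IsScalarTower ↑A ↑C Γ(pullback p g₀, (pullback.fst p g₀) ⁻¹ᵁ W) :=
    IsScalarTower.of_algebraMap_eq fun r => by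
      have := congrArg (fun ψ => ψ.hom r) hpoC.w
      exact this
  have hpo1 : Algebra.IsPushout ↑A Γ(X, W) ↑C
      Γ(pullback p g₀, (pullback.fst p g₀) ⁻¹ᵁ W) :=
    (CommRingCat.isPushout_iff_isPushout (R := ↑A) (S := ↑C) (R' := Γ(X, W))
      (S' := Γ(pullback p g₀, (pullback.fst p g₀) ⁻¹ᵁ W))).mp hpoC
  have hpo : Algebra.IsPushout ↑A ↑C Γ(X, W)
      Γ(pullback p g₀, (pullback.fst p g₀) ⁻¹ᵁ W) := hpo1.symm
  refine ⟨Γ(pullback p g₀, (pullback.fst p g₀) ⁻¹ᵁ W), inferInstance, algAR, algCR, algBR, tw2,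
    tw1, hpo, ?_⟩
  -- sections of the pullbacks
  let EF := sectionsPullbackEquiv (pullback.fst p g₀) F hW' hW le_rfl
  let EG := fun i => sectionsPullbackEquiv (pullback.fst p g₀) (G i) hW' hW le_rfl
  have hnat : ∀ i (x : Γ((Scheme.Modules.pullback (pullback.fst p g₀)).obj F,
      (pullback.fst p g₀) ⁻¹ᵁ W)),
      EG i (((Scheme.Modules.pullback (pullback.fst p g₀)).map (u i)).app
        ((pullback.fst p g₀) ⁻¹ᵁ W) x) =
      (appLin (u i) W).baseChange Γ(pullback p g₀, (pullback.fst p g₀) ⁻¹ᵁ W) (EF x) :=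
    fun i x => sectionsPullbackEquiv_map (pullback.fst p g₀) (u i) hW' hW le_rfl x
  refine forall_congr' fun h => ?_
  rw [sep_basicOpen_iff ((Scheme.Modules.pullback (pullback.fst p g₀)).obj F)
    (fun i => (Scheme.Modules.pullback (pullback.fst p g₀)).obj (G i))
    (fun i => (Scheme.Modules.pullback (pullback.fst p g₀)).map (u i)) hW' h]
  constructor
  · intro H m hm
    obtain ⟨K, hK⟩ := H (EF.symm m) (fun i => by
      obtain ⟨k, hk⟩ := hm i
      refine ⟨k, (EG i).injective ?_⟩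
      rw [map_smul, hnat, LinearEquiv.apply_symm_apply, hk, map_zero])
    refine ⟨K, ?_⟩
    have := congrArg EF hK
    rwa [map_smul, LinearEquiv.apply_symm_apply, map_zero] at this
  · intro H m hm
    obtain ⟨K, hK⟩ := H (EF m) (fun i => by
      obtain ⟨k, hk⟩ := hm i
      refine ⟨k, ?_⟩
      rw [← hnat, ← map_smul, hk, map_zero])
    refine ⟨K, EF.injective ?_⟩
    rw [map_smul, hK, map_zero]

set_option maxHeartbeats 1600000 in
set_option synthInstance.maxHeartbeats 400000 in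
/-- The family pulled back to `X ×_A A'` is separating on the basic opens of preimages of affine
opens, if it is separating over all finitely generated subalgebras of `A'`. -/
theorem sep_of_fg {X : Scheme.{u}} (A A' : CommRingCat.{u}) (φ : A ⟶ A') (p : X ⟶ Spec A)
    (F : X.Modules) [F.IsQuasicoherent] {ι : Type u} (G : ι → X.Modules)
    [∀ i, (G i).IsQuasicoherent] (hG : ∀ i, FlatMod.IsFlatOver p (G i)) (u : ∀ i, F ⟶ G i)
    (hfg : ∀ (B : CommRingCat.{u}) (a : A ⟶ B) (b : B ⟶ A'), a ≫ b = φ →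
      Function.Injective b.hom → a.hom.FiniteType →
      ∀ (V : (pullback p (Spec.map a)).Opens)
        (t : Γ((Scheme.Modules.pullback (pullback.fst p (Spec.map a))).obj F, V)),
        (∀ i, ((Scheme.Modules.pullback (pullback.fst p (Spec.map a))).map (u i)).app V t = 0) →
          t = 0)
    {W : X.Opens} (hW : IsAffineOpen W)
    (h : Γ(pullback p (Spec.map φ), (pullback.fst p (Spec.map φ)) ⁻¹ᵁ W))
    (t : Γ((Scheme.Modules.pullback (pullback.fst p (Spec.map φ))).obj F,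
      (pullback p (Spec.map φ)).basicOpen h))
    (ht : ∀ i, ((Scheme.Modules.pullback (pullback.fst p (Spec.map φ))).map (u i)).app
      ((pullback p (Spec.map φ)).basicOpen h) t = 0) : t = 0 := by
  letI algAA' : Algebra ↑A ↑A' := φ.hom.toAlgebra
  letI algAB : Algebra ↑A Γ(X, W) := algA p W
  obtain ⟨R', i1, i2, i3, i4, i5, i6, i7, hiff'⟩ := exists_model p φ rfl F G u hW
  refine hiff'.mpr ?_ h t ht
  letI modAF : Module ↑A Γ(F, W) := modA p W F
  letI modAG : ∀ i, Module ↑A Γ(G i, W) := fun i => modA p W (G i)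
  haveI twF : IsScalarTower ↑A Γ(X, W) Γ(F, W) := isScalarTower_modA p W F
  haveI twG : ∀ i, IsScalarTower ↑A Γ(X, W) Γ(G i, W) := fun i => isScalarTower_modA p W (G i)
  haveI flG : ∀ i, Module.Flat ↑A Γ(G i, W) := fun i => flat_modA p hW (G i) (hG i)
  refine transfer_main (A := ↑A) (B := Γ(X, W)) (A' := ↑A') (R' := R') (M := Γ(F, W))
    (fun i => Γ(G i, W)) (fun i => appLin (u i) W) ?_
  intro A₁ hfgA₁
  obtain ⟨R₁, j1, j2, j3, j4, j5, j6, j7, hiff₁⟩ := exists_model (C := CommRingCat.of ↥A₁) p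
    (CommRingCat.ofHom (algebraMap ↑A ↥A₁)) rfl F G u hW
  refine ⟨R₁, j1, j2, j3, j4, j5, j6, j7, hiff₁.mp ?_⟩
  intro h₁ t₁ ht₁
  refine hfg (CommRingCat.of ↥A₁) (CommRingCat.ofHom (algebraMap ↑A ↥A₁))
    (CommRingCat.ofHom A₁.val.toRingHom) ?_ Subtype.val_injective ?_ _ t₁ ht₁
  · ext x
    rfl
  · haveI : Algebra.FiniteType ↑A ↥A₁ := (Subalgebra.fg_iff_finiteType A₁).mp hfgA₁
    exact RingHom.finiteType_algebraMap.mpr inferInstance

/-- A section of a module vanishing on all members of a basis contained in its domain is zero. -/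
theorem eq_zero_of_basis {Y : Scheme.{u}} (𝓕 : Y.Modules) (B : Set Y.Opens)
    (hB : Opens.IsBasis B) (V : Y.Opens) (t : Γ(𝓕, V))
    (h : ∀ D ∈ B, ∀ hDV : D ≤ V, 𝓕.presheaf.map (homOfLE hDV).op t = 0) : t = 0 := by
  refine TopCat.Sheaf.eq_of_locally_eq' (⟨𝓕.presheaf, 𝓕.isSheaf⟩ : TopCat.Sheaf Ab Y)
    (fun D : {D : Y.Opens // D ≤ V ∧ D ∈ B} => D.1) V (fun D => homOfLE D.2.1) ?_ t 0 ?_
  · intro x hx
    obtain ⟨D, hD, hxD, hDV⟩ := (Opens.isBasis_iff_nbhd.mp hB) hx
    exact Opens.mem_iSup.mpr ⟨⟨D, hDV, hD⟩, hxD⟩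
  · rintro ⟨D, hDV, hD⟩
    rw [map_zero]
    exact h D hD hDV

/-- **Limit theorem** (EGA IV 11.9-type): the family pulled back to `X ×_A A'` is separating if it
is separating over all finitely generated subalgebras of `A'`. -/
theorem sep_limit {X : Scheme.{u}} (A A' : CommRingCat.{u}) (φ : A ⟶ A') (p : X ⟶ Spec A)
    (F : X.Modules) [F.IsQuasicoherent] {ι : Type u} (G : ι → X.Modules)
    [∀ i, (G i).IsQuasicoherent] (hG : ∀ i, FlatMod.IsFlatOver p (G i)) (u : ∀ i, F ⟶ G i)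
    (hfg : ∀ (B : CommRingCat.{u}) (a : A ⟶ B) (b : B ⟶ A'), a ≫ b = φ →
      Function.Injective b.hom → a.hom.FiniteType →
      ∀ (V : (pullback p (Spec.map a)).Opens)
        (t : Γ((Scheme.Modules.pullback (pullback.fst p (Spec.map a))).obj F, V)),
        (∀ i, ((Scheme.Modules.pullback (pullback.fst p (Spec.map a))).map (u i)).app V t = 0) →
          t = 0)
    (V : (pullback p (Spec.map φ)).Opens)
    (t : Γ((Scheme.Modules.pullback (pullback.fst p (Spec.map φ))).obj F, V))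
    (ht : ∀ i, ((Scheme.Modules.pullback (pullback.fst p (Spec.map φ))).map (u i)).app V t = 0) :
    t = 0 := by
  haveI : IsAffineHom (Spec.map φ) := inferInstance
  haveI : IsAffineHom (pullback.fst p (Spec.map φ)) := MorphismProperty.pullback_fst _ _ ‹_›
  have hbasis := Groth.Agent.Helper18.QCBasic.isBasis_basicOpen_cover
    (X := pullback p (Spec.map φ))
    {U | ∃ W : X.Opens, IsAffineOpen W ∧ U = (pullback.fst p (Spec.map φ)) ⁻¹ᵁ W}
    (by rintro _ ⟨W, hW, rfl⟩; exact hW.preimage _)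
    (by
      intro x
      have hx : (pullback.fst p (Spec.map φ)) x ∈ (⊤ : X.Opens) := trivial
      obtain ⟨W, hWaff, hxW, -⟩ := (Opens.isBasis_iff_nbhd.mp X.isBasis_affineOpens) hx
      exact ⟨_, ⟨W, hWaff, rfl⟩, hxW⟩)
  refine eq_zero_of_basis _ _ hbasis V t ?_
  rintro D ⟨U, ⟨W, hW, rfl⟩, h, rfl⟩ hDV
  refine sep_of_fg A A' φ p F G hG u hfg hW h _ ?_
  intro i
  have h1 := Groth.Agent.Helper18.PbCompat.hom_naturality
    ((Scheme.Modules.pullback (pullback.fst p (Spec.map φ))).map (u i)) (homOfLE hDV).op t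
  rw [ht i, map_zero] at h1
  exact h1

end Groth.Agent.Helper21.Sep
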