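import Mathlib
import Groth.Agent.Lib.Helper21.FA5
import Groth.Agent.Lib.Helper21.Sep7
import Groth.Agent.Lib.Helper21.ModFlat1
import Groth.Agent.Lib.Helper13.FinAffine2

/-!
# Flatness over an Artinian local base via test families: scheme-level preliminaries (helper21)
-/

set_option autoImplicit false
set_option linter.style.haveILetI false
set_option linter.unusedSectionVars false
set_option maxRecDepth 8000

universe u

open CategoryTheory AlgebraicGeometry Limits Opposite TopologicalSpace TensorProduct Function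

namespace Groth.Agent.Helper21.FA

/-- flatness is insensitive to a bijective change of rings. -/
theorem flat_iff_of_bijective {R S N : Type*} [CommRing R] [CommRing S] [AddCommGroup N]
    [Module R N] [Module S N] (σ : R →+* S) (hσ : Bijective σ)
    (hc : ∀ (r : R) (n : N), σ r • n = r • n) : Module.Flat S N ↔ Module.Flat R N := by
  letI : Algebra R S := σ.toAlgebra
  haveI : IsScalarTower R S N := IsScalarTower.of_algebraMap_smul hc
  haveI : IsLocalization (⊥ : Submonoid R) S := by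
    refine IsLocalization.of_le_isUnit_of_bijective ?_ hσ
    rintro _ ⟨x, hx, rfl⟩
    rw [Submonoid.mem_bot.mp hx, map_one]
    exact isUnit_one
  exact Module.flat_iff_of_isLocalization S (⊥ : Submonoid R) N

/-- every prime of the sections over an affine open is the prime of a point. -/
theorem exists_primeIdealOf_eq {X : Scheme.{u}} {U : X.Opens} (hU : IsAffineOpen U)
    (P : PrimeSpectrum Γ(X, U)) : ∃ (x : X) (hx : x ∈ U), hU.primeIdealOf ⟨x, hx⟩ = P := by
  refine ⟨(hU.isoSpec.inv P).1, (hU.isoSpec.inv P).2, ?_⟩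
  change hU.isoSpec.hom (hU.isoSpec.inv P) = P
  rw [← Scheme.Hom.comp_apply, Iso.inv_hom_id]
  rfl

theorem primeIdealOf_injective {X : Scheme.{u}} {U : X.Opens} (hU : IsAffineOpen U)
    {x y : X} (hx : x ∈ U) (hy : y ∈ U)
    (h : hU.primeIdealOf ⟨x, hx⟩ = hU.primeIdealOf ⟨y, hy⟩) : x = y := by
  have h1 := congrArg (fun P => hU.fromSpec P) h
  simp only [IsAffineOpen.fromSpec_primeIdealOf] at h1
  exact h1

theorem isAffineOpen_pullback_inf {X Y S : Scheme.{u}} (p : X ⟶ S) (q : Y ⟶ S) {US : S.Opens}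
    (hUS : IsAffineOpen US) {W : X.Opens} (hW : IsAffineOpen W) {V : Y.Opens}
    (hV : IsAffineOpen V) (hWS : W ≤ p ⁻¹ᵁ US) (hVS : V ≤ q ⁻¹ᵁ US) :
    IsAffineOpen ((pullback.fst p q) ⁻¹ᵁ W ⊓ (pullback.snd p q) ⁻¹ᵁ V) := by
  have : IsAffine _ := hUS
  have : IsAffine _ := hV
  have : IsAffine _ := hW
  exact .of_isIso
    (Scheme.Hom.isPullback_resLE (IsPullback.of_hasPullback p q) hVS hWS rfl).isoPullback.hom

/-- The square of sections over affine opens `W` of `X`, `V` of `Y` and `pr₁⁻¹ W ∩ pr₂⁻¹ V` in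
`X ×_{Spec A} Y` is a pushout square of rings. -/
theorem isPushout_sections' {X Y : Scheme.{u}} {A : CommRingCat.{u}} (p : X ⟶ Spec A)
    (q : Y ⟶ Spec A) {W : X.Opens} (hW : IsAffineOpen W) {V : Y.Opens} (hV : IsAffineOpen V) :
    IsPushout ((Scheme.ΓSpecIso A).inv ≫ p.appLE ⊤ W le_top)
      ((Scheme.ΓSpecIso A).inv ≫ q.appLE ⊤ V le_top)
      ((pullback.fst p q).appLE W ((pullback.fst p q) ⁻¹ᵁ W ⊓ (pullback.snd p q) ⁻¹ᵁ V)
        inf_le_left)
      ((pullback.snd p q).appLE V ((pullback.fst p q) ⁻¹ᵁ W ⊓ (pullback.snd p q) ⁻¹ᵁ V)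
        inf_le_right) := by
  have hiso := isIso_pushoutSection_of_isAffineOpen (IsPullback.of_hasPullback p q)
    (US := ⊤) (UT := V) (UX := W)
    (UY := (pullback.fst p q) ⁻¹ᵁ W ⊓ (pullback.snd p q) ⁻¹ᵁ V)
    le_top le_top rfl (isAffineOpen_top _) hV hW
  have hpoC := (isIso_pushoutSection_iff (IsPullback.of_hasPullback p q)
    (US := ⊤) (UT := V) (UX := W)
    (UY := (pullback.fst p q) ⁻¹ᵁ W ⊓ (pullback.snd p q) ⁻¹ᵁ V)
    le_top le_top rfl).mp hiso
  refine hpoC.of_iso (Scheme.ΓSpecIso A) (Iso.refl _) (Iso.refl _) (Iso.refl _) ?_ ?_ ?_ ?_ <;> simp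

end Groth.Agent.Helper21.FA
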