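import Mathlib
import Groth.Agent.Lib.Helper21.FA7

/-!
# Flatness over an Artinian local base via test families (EGA IV 11.4.1-type statements) (helper21)
-/

set_option autoImplicit false
set_option linter.style.haveILetI false
set_option linter.unusedSectionVars false
set_option maxRecDepth 8000

universe u

open CategoryTheory AlgebraicGeometry Limits Opposite TopologicalSpace TensorProduct Function
open IsLocalRing

namespace Groth.Agent.Helper21.FA

/-- a finitely generated ideal with `𝔟 ≤ 𝔪 𝔟` for all maximal ideals is zero. -/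
theorem eq_bot_of_forall_maximal_le_smul {Λ : Type u} [CommRing Λ] (𝔟 : Ideal Λ) (hfg : 𝔟.FG)
    (h : ∀ 𝔪 : Ideal Λ, 𝔪.IsMaximal → 𝔟 ≤ 𝔪 • 𝔟) : 𝔟 = ⊥ := by
  by_contra hne
  obtain ⟨x, hx, hx0⟩ := Submodule.exists_mem_ne_zero_of_ne_bot hne
  have hann : Ideal.torsionOf Λ Λ x ≠ ⊤ := by
    intro htop
    have h1 : (1 : Λ) ∈ Ideal.torsionOf Λ Λ x := htop ▸ Submodule.mem_top
    rw [Ideal.mem_torsionOf_iff, one_smul] at h1
    exact hx0 h1
  obtain ⟨𝔪, hm, hle⟩ := Ideal.exists_le_maximal _ hann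
  obtain ⟨r, hr1, hr2⟩ :=
    Submodule.exists_sub_one_mem_and_smul_eq_zero_of_fg_of_le_smul 𝔪 𝔟 hfg (h 𝔪 hm)
  have h2 : r ∈ 𝔪 := hle ((Ideal.mem_torsionOf_iff x r).mpr (hr2 x hx))
  have h3 : (1 : Λ) ∈ 𝔪 := by
    have := 𝔪.sub_mem h2 hr1
    rwa [sub_sub_cancel] at this
  exact hm.ne_top ((Ideal.eq_top_iff_one _).mpr h3)

/-- **EGA IV 11.4.1-type statement, local test rings.** -/
theorem flat_of_local_family {A : Type u} [CommRing A] [IsArtinianRing A] [IsLocalRing A]
    {X : Scheme.{u}} (f : X ⟶ Spec (CommRingCat.of A)) [LocallyOfFiniteType f] (F : X.Modules)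
    (hF : Coh.IsCoh F) (x : X) {ι : Type u} (A' : ι → Type u) [∀ i, CommRing (A' i)]
    [∀ i, IsLocalRing (A' i)] (u : ∀ i, A →+* A' i)
    (hu : ∀ a : A, (∀ i, u i a = 0) → a = 0)
    (hflat : ∀ (i : ι) (x' : ↥(pullback f (Spec.map (CommRingCat.ofHom (u i))))),
      pullback.fst f (Spec.map (CommRingCat.ofHom (u i))) x' = x →
      pullback.snd f (Spec.map (CommRingCat.ofHom (u i))) x' = IsLocalRing.closedPoint (A' i) →
      FlatMod.IsFlatOverAt (pullback.snd f (Spec.map (CommRingCat.ofHom (u i))))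
        ((Scheme.Modules.pullback (pullback.fst f (Spec.map (CommRingCat.ofHom (u i))))).obj F)
        x') :
    FlatMod.IsFlatOverAt f F x := by
  obtain ⟨J, hJ1, hJ2⟩ := exists_test_ideal f F hF x
  apply hJ1
  rw [eq_bot_iff]
  intro a ha
  rw [Ideal.mem_bot]
  apply hu
  intro i
  have hcl : IsClosed ({closedPoint (A' i)} : Set (Spec (CommRingCat.of (A' i)))) :=
    IsLocalRing.isClosed_singleton_closedPoint _
  have hmax := (isAffineOpen_top (Spec (CommRingCat.of (A' i)))).primeIdealOf_isMaximal_of_isClosed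
    ⟨closedPoint (A' i), trivial⟩ hcl
  have h1 := hJ2 (Spec (CommRingCat.of (A' i))) (Spec.map (CommRingCat.ofHom (u i))) ⊤
    (isAffineOpen_top _) (closedPoint (A' i)) trivial hmax (hflat i)
  obtain ⟨φ, hφ⟩ : ∃ φ : A →+* Γ(Spec (CommRingCat.of (A' i)), ⊤),
    φ = ((Scheme.ΓSpecIso (CommRingCat.of A)).inv ≫
      (Spec.map (CommRingCat.ofHom (u i))).appLE ⊤ ⊤ le_top).hom := ⟨_, rfl⟩
  rw [← hφ] at h1
  have hφa : ∀ a, φ a = (Scheme.ΓSpecIso (CommRingCat.of (A' i))).inv.hom (u i a) := by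
    intro a
    rw [hφ, NAM.appLE_top_top, ← Scheme.ΓSpecIso_inv_naturality]
    rfl
  haveI : IsLocalRing Γ(Spec (CommRingCat.of (A' i)), ⊤) :=
    RingEquiv.isLocalRing
      (Scheme.ΓSpecIso (CommRingCat.of (A' i))).symm.commRingCatIsoToRingEquiv
  have hfg : (J.map φ).FG := Ideal.FG.map (IsNoetherian.noetherian J) φ
  have hle : ((isAffineOpen_top (Spec (CommRingCat.of (A' i)))).primeIdealOf
      ⟨closedPoint (A' i), trivial⟩).asIdeal ≤ Ideal.jacobson ⊥ := by
    rw [IsLocalRing.eq_maximalIdeal hmax]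
    exact IsLocalRing.maximalIdeal_le_jacobson _
  have hbot := Submodule.eq_bot_of_le_smul_of_le_jacobson_bot _ (J.map φ) hfg h1 hle
  have h2 : φ a = 0 := by
    have h3 := Ideal.mem_map_of_mem φ ha
    rw [hbot] at h3
    exact h3
  rw [hφa] at h2
  have hinj := ((ConcreteCategory.isIso_iff_bijective
    (Scheme.ΓSpecIso (CommRingCat.of (A' i))).inv).mp inferInstance).1
  exact hinj (h2.trans (map_zero _).symm)

end Groth.Agent.Helper21.FA
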