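import Mathlib
import Groth.Agent.Lib.Helper21.FA8

/-!
# Flatness over an Artinian local base via a family of test schemes (helper21)
-/

set_option autoImplicit false
set_option linter.style.haveILetI false
set_option linter.unusedSectionVars false
set_option maxRecDepth 8000

universe u

open CategoryTheory AlgebraicGeometry Limits Opposite TopologicalSpace TensorProduct Function
open IsLocalRing

namespace Groth.Agent.Helper21.FA

/-- **EGA IV 11.4.1-type statement, test schemes.** -/
theorem flat_of_scheme_family {A : Type u} [CommRing A] [IsArtinianRing A] [IsLocalRing A]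
    {X : Scheme.{u}} (f : X ⟶ Spec (CommRingCat.of A)) [LocallyOfFiniteType f] (F : X.Modules)
    (hF : Coh.IsCoh F) (x : X) {ι : Type u} (Y : ι → Scheme.{u})
    (g : ∀ i, Y i ⟶ Spec (CommRingCat.of A))
    (hg : ∀ a : A, (∀ i, (g i).appTop ((Scheme.ΓSpecIso (CommRingCat.of A)).inv a) = 0) → a = 0)
    (hflat : ∀ (i : ι) (x' : ↥(pullback f (g i))), pullback.fst f (g i) x' = x →
      FlatMod.IsFlatOverAt (pullback.snd f (g i))
        ((Scheme.Modules.pullback (pullback.fst f (g i))).obj F) x') :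
    FlatMod.IsFlatOverAt f F x := by
  obtain ⟨J, hJ1, hJ2⟩ := exists_test_ideal f F hF x
  apply hJ1
  rw [eq_bot_iff]
  intro a ha
  rw [Ideal.mem_bot]
  apply hg
  intro i
  have hV0 : ∀ (V : (Y i).Opens) (hV : IsAffineOpen V),
      J.map ((Scheme.ΓSpecIso (CommRingCat.of A)).inv ≫ (g i).appLE ⊤ V le_top).hom = ⊥ := by
    intro V hV
    refine eq_bot_of_forall_maximal_le_smul _ (Ideal.FG.map (IsNoetherian.noetherian J) _) ?_
    intro 𝔪 h𝔪
    obtain ⟨y, hy, hyP⟩ := exists_primeIdealOf_eq hV ⟨𝔪, h𝔪.isPrime⟩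
    have h1 := hJ2 (Y i) (g i) V hV y hy (by rw [hyP]; exact h𝔪)
      (fun x' hx' _ => hflat i x' hx')
    rw [hyP] at h1
    exact h1
  refine TopCat.Sheaf.eq_of_locally_eq' (Y i).sheaf (fun V : (Y i).affineOpens => V.1) ⊤
    (fun V => homOfLE le_top) (by rw [iSup_affineOpens_eq_top]) _ _ ?_
  intro V
  refine Eq.trans ?_ (map_zero _).symm
  have h2 : ((Scheme.ΓSpecIso (CommRingCat.of A)).inv ≫ (g i).appLE ⊤ V.1 le_top).hom a = 0 := by
    have h3 := Ideal.mem_map_of_mem
      ((Scheme.ΓSpecIso (CommRingCat.of A)).inv ≫ (g i).appLE ⊤ V.1 le_top).hom ha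
    rw [hV0 V.1 V.2] at h3
    exact h3
  exact h2

end Groth.Agent.Helper21.FA
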