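import Mathlib
import Groth.Agent.Lib.Helper21.FI1
import Groth.Agent.Lib.Helper21.GrL3

/-!
# The generic flattening ideal over a Noetherian ring (helper21)

`𝔸` Noetherian, `S₁` of finite type, `M₁` finite over `S₁`, `𝔭` a prime of `𝔸`.  There is `s ∉ 𝔭`
such that for every `n` there is an ideal `J` of `𝔸` with: for every `𝔸`-algebra `A'` in which `s`
is invertible and `𝔭 ^ n` dies, `J A' ≤ 𝔭 A'` and (`A' ⊗ M₁` flat over `A'` iff `J A' = 0`).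
-/

set_option autoImplicit false
set_option linter.style.haveILetI false
set_option linter.unusedSectionVars false

universe u

open TensorProduct Function

namespace Groth.Agent.Helper21.FI

open Groth.Agent.Helper21.GrL

/-- Abstract form. -/
theorem free_quot_of_data {A : Type u} [CommRing A] {M₀ : Type u}
    [AddCommGroup M₀] [Module A M₀] (R' : Type u) [CommRing R'] [Algebra A R']
    (𝔭 : Ideal A)
    (K : Type u) [CommRing K] [Algebra A K] {L : Type u} [AddCommGroup L] [Module K L]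
    [Module A L] [IsScalarTower A K L] (g : M₀ →ₗ[A] L) (hg : IsBaseChange K g) [Module.Free K L]
    (φ : K →ₐ[A] (R' ⧸ 𝔭.map (algebraMap A R'))) :
    Module.Free (R' ⧸ 𝔭.map (algebraMap A R'))
      ((R' ⧸ 𝔭.map (algebraMap A R')) ⊗[R'] (R' ⊗[A] M₀)) := by
  letI : Algebra K (R' ⧸ 𝔭.map (algebraMap A R')) := φ.toRingHom.toAlgebra
  haveI : IsScalarTower A K (R' ⧸ 𝔭.map (algebraMap A R')) :=
    IsScalarTower.of_algebraMap_eq fun a => (φ.commutes a).symm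
  have hQfree : Module.Free (R' ⧸ 𝔭.map (algebraMap A R'))
      ((R' ⧸ 𝔭.map (algebraMap A R')) ⊗[A] M₀) :=
    free_tensor_of_isBaseChange K g hg (R' ⧸ 𝔭.map (algebraMap A R'))
  exact Module.Free.of_equiv (AlgebraTensorModule.cancelBaseChange A R'
      (R' ⧸ 𝔭.map (algebraMap A R')) (R' ⧸ 𝔭.map (algebraMap A R')) M₀).symm

set_option maxHeartbeats 1600000 in
set_option synthInstance.maxHeartbeats 400000 in
/-- Freeness modulo `𝔭` from generic freeness over `A/𝔭` (no flatness needed). -/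
theorem free_quot_of_gfree_data {A : Type u} [CommRing A] {M₀ : Type u}
    [AddCommGroup M₀] [Module A M₀] (R' : Type u) [CommRing R'] [Algebra A R']
    (𝔭 : Ideal A) [𝔭.IsPrime] (s : A) (hs : IsUnit (algebraMap A R' s))
    [Module.Free (Localization.Away (Ideal.Quotient.mk 𝔭 s))
      (LocalizedModule.Away (Ideal.Quotient.mk 𝔭 s) ((A ⧸ 𝔭) ⊗[A] M₀))] :
    Module.Free (R' ⧸ 𝔭.map (algebraMap A R'))
      ((R' ⧸ 𝔭.map (algebraMap A R')) ⊗[R'] (R' ⊗[A] M₀)) := by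
  have hkill : ∀ a : A, a ∈ 𝔭 →
      ((Ideal.Quotient.mk (𝔭.map (algebraMap A R'))).comp (algebraMap A R')) a = 0 := by
    intro a ha
    exact Ideal.Quotient.eq_zero_iff_mem.mpr (Ideal.mem_map_of_mem _ ha)
  let φ₀ : (A ⧸ 𝔭) →+* (R' ⧸ 𝔭.map (algebraMap A R')) :=
    Ideal.Quotient.lift 𝔭 ((Ideal.Quotient.mk (𝔭.map (algebraMap A R'))).comp (algebraMap A R'))
      hkill
  have hφ₀ : ∀ a : A, φ₀ (Ideal.Quotient.mk 𝔭 a) =
      Ideal.Quotient.mk (𝔭.map (algebraMap A R')) (algebraMap A R' a) := fun a =>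
    Ideal.Quotient.lift_mk _ _ _
  have hsu : IsUnit (φ₀ (Ideal.Quotient.mk 𝔭 s)) := by
    rw [hφ₀]
    exact hs.map _
  let φ₁ : Localization.Away (Ideal.Quotient.mk 𝔭 s) →+* (R' ⧸ 𝔭.map (algebraMap A R')) :=
    IsLocalization.Away.lift (Ideal.Quotient.mk 𝔭 s) hsu
  let φ : Localization.Away (Ideal.Quotient.mk 𝔭 s) →ₐ[A] (R' ⧸ 𝔭.map (algebraMap A R')) :=
    { φ₁ with
      commutes' := fun a => by
        change φ₁ (algebraMap A (Localization.Away (Ideal.Quotient.mk 𝔭 s)) a) = _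
        rw [IsScalarTower.algebraMap_apply A (A ⧸ 𝔭) (Localization.Away (Ideal.Quotient.mk 𝔭 s)),
          IsLocalization.Away.lift_eq]
        exact hφ₀ a }
  have hg₁ : IsBaseChange (A ⧸ 𝔭) (TensorProduct.mk A (A ⧸ 𝔭) M₀ 1) :=
    TensorProduct.isBaseChange A M₀ (A ⧸ 𝔭)
  have hg₂ : IsBaseChange (Localization.Away (Ideal.Quotient.mk 𝔭 s))
      (LocalizedModule.mkLinearMap (Submonoid.powers (Ideal.Quotient.mk 𝔭 s))
        ((A ⧸ 𝔭) ⊗[A] M₀)) :=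
    IsLocalizedModule.isBaseChange (Submonoid.powers (Ideal.Quotient.mk 𝔭 s)) _ _
  have hgc := IsBaseChange.comp hg₁ hg₂
  haveI : IsScalarTower A (Localization.Away (Ideal.Quotient.mk 𝔭 s))
      (LocalizedModule.Away (Ideal.Quotient.mk 𝔭 s) ((A ⧸ 𝔭) ⊗[A] M₀)) := inferInstance
  refine free_quot_of_data R' 𝔭 (Localization.Away (Ideal.Quotient.mk 𝔭 s))
    (L := LocalizedModule.Away (Ideal.Quotient.mk 𝔭 s) ((A ⧸ 𝔭) ⊗[A] M₀))
    (((LocalizedModule.mkLinearMap (Submonoid.powers (Ideal.Quotient.mk 𝔭 s))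
        ((A ⧸ 𝔭) ⊗[A] M₀)).restrictScalars A).comp (TensorProduct.mk A (A ⧸ 𝔭) M₀ 1)) ?_ φ
  exact hgc

/-- Ideals of `A_s / I A_s` are extended from `A`. -/
theorem map_comap_Rq {A : Type u} [CommRing A] (I : Ideal A) (s : A) (J₁ : Ideal (Rq A I s)) :
    (J₁.comap (algebraMap A (Rq A I s))).map (algebraMap A (Rq A I s)) = J₁ := by
  have h1 : algebraMap A (Rq A I s) =
      (Ideal.Quotient.mk (I.map (algebraMap A (Localization.Away s)))).comp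
        (algebraMap A (Localization.Away s)) := rfl
  rw [h1, ← Ideal.comap_comap, ← Ideal.map_map,
    IsLocalization.map_under (Submonoid.powers s) (Localization.Away s),
    Ideal.map_comap_of_surjective _ Ideal.Quotient.mk_surjective]

section Noeth

variable (𝔸 : Type u) [CommRing 𝔸] [IsNoetherianRing 𝔸] (S₁ : Type u) [CommRing S₁] [Algebra 𝔸 S₁]
  [Algebra.FiniteType 𝔸 S₁] (M₁ : Type u) [AddCommGroup M₁] [Module S₁ M₁] [Module 𝔸 M₁]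
  [IsScalarTower 𝔸 S₁ M₁] [Module.Finite S₁ M₁]

include S₁

set_option maxHeartbeats 1600000 in
set_option synthInstance.maxHeartbeats 400000 in
/-- **The generic flattening ideal over a Noetherian ring.** -/
theorem exists_flattening_noeth (𝔭 : Ideal 𝔸) [𝔭.IsPrime] :
    ∃ s : 𝔸, s ∉ 𝔭 ∧ ∀ n : ℕ, ∃ J : Ideal 𝔸,
      ∀ (A' : Type u) [CommRing A'] [Algebra 𝔸 A'], IsUnit (algebraMap 𝔸 A' s) →
        (𝔭 ^ n).map (algebraMap 𝔸 A') = ⊥ →
        (J.map (algebraMap 𝔸 A') ≤ 𝔭.map (algebraMap 𝔸 A') ∧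
          (Module.Flat A' (A' ⊗[𝔸] M₁) ↔ J.map (algebraMap 𝔸 A') = ⊥)) := by
  obtain ⟨s, hs, hfree⟩ := exists_gfree_quot 𝔸 S₁ M₁ 𝔭
  haveI := hfree
  refine ⟨s, hs, fun n => ?_⟩
  have hI₁ : IsNilpotent (𝔭.map (algebraMap 𝔸 (Rq 𝔸 (𝔭 ^ n) s))) := by
    refine ⟨n, ?_⟩
    rw [← Ideal.map_pow, Ideal.zero_eq_bot, eq_bot_iff, Ideal.map_le_iff_le_comap]
    intro a ha
    rw [Ideal.mem_comap, Ideal.mem_bot]
    exact algebraMap_Rq_eq_zero _ _ ha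
  have hsu : IsUnit (algebraMap 𝔸 (Rq 𝔸 (𝔭 ^ n) s) s) := isUnit_algebraMap_Rq _ _
  haveI := free_quot_of_gfree_data (M₀ := M₁) (Rq 𝔸 (𝔭 ^ n) s) 𝔭 s hsu
  obtain ⟨J₁, hJ₁I, hJ₁⟩ := exists_flattening_ideal_of_nilpotent
    (𝔭.map (algebraMap 𝔸 (Rq 𝔸 (𝔭 ^ n) s))) hI₁ ((Rq 𝔸 (𝔭 ^ n) s) ⊗[𝔸] M₁)
  refine ⟨J₁.comap (algebraMap 𝔸 (Rq 𝔸 (𝔭 ^ n) s)), fun A' _ _ hu hz => ?_⟩
  let ψ : Rq 𝔸 (𝔭 ^ n) s →ₐ[𝔸] A' := RqLift (𝔭 ^ n) s A' hu (fun a ha => by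
    have h1 : algebraMap 𝔸 A' a ∈ (𝔭 ^ n).map (algebraMap 𝔸 A') := Ideal.mem_map_of_mem _ ha
    rw [hz] at h1
    exact h1)
  letI : Algebra (Rq 𝔸 (𝔭 ^ n) s) A' := ψ.toRingHom.toAlgebra
  haveI : IsScalarTower 𝔸 (Rq 𝔸 (𝔭 ^ n) s) A' :=
    IsScalarTower.of_algebraMap_eq fun a => (ψ.commutes a).symm
  have hmap : (J₁.comap (algebraMap 𝔸 (Rq 𝔸 (𝔭 ^ n) s))).map (algebraMap 𝔸 A') =
      J₁.map (algebraMap (Rq 𝔸 (𝔭 ^ n) s) A') := by
    rw [IsScalarTower.algebraMap_eq 𝔸 (Rq 𝔸 (𝔭 ^ n) s) A', ← Ideal.map_map, map_comap_Rq]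
  have h𝔭map : 𝔭.map (algebraMap 𝔸 A') =
      (𝔭.map (algebraMap 𝔸 (Rq 𝔸 (𝔭 ^ n) s))).map (algebraMap (Rq 𝔸 (𝔭 ^ n) s) A') := by
    rw [IsScalarTower.algebraMap_eq 𝔸 (Rq 𝔸 (𝔭 ^ n) s) A', ← Ideal.map_map]
  constructor
  · rw [hmap, h𝔭map]
    exact Ideal.map_mono hJ₁I
  · rw [hmap, ← hJ₁ A']
    exact ⟨fun h => Module.Flat.of_linearEquiv
        (AlgebraTensorModule.cancelBaseChange 𝔸 (Rq 𝔸 (𝔭 ^ n) s) A' A' M₁),
      fun h => Module.Flat.of_linearEquiv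
        (AlgebraTensorModule.cancelBaseChange 𝔸 (Rq 𝔸 (𝔭 ^ n) s) A' A' M₁).symm⟩

end Noeth

end Groth.Agent.Helper21.FI
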