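import Mathlib
import Groth.Agent.Lib.Helper21.FI2
import Groth.Agent.Lib.Helper21.GrL5

/-!
# The generic flattening ideal over a ring with prime nilradical (helper21)
-/

set_option autoImplicit false
set_option linter.style.haveILetI false
set_option linter.unusedSectionVars false

universe u

open TensorProduct Function

namespace Groth.Agent.Helper21.FI

open Groth.Agent.Helper21.GrL

/-- Flatness over `S` of `S ⊗[R] M`, where `S` is an `R`-algebra via `ψ` and `M` is an `R`-module
via `φ`. -/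
def FlatBC {R : Type u} [CommRing R] {B : Type u} [CommRing B] (φ : R →+* B) (M : Type u)
    [AddCommGroup M] [Module B M] {S : Type u} [CommRing S] (ψ : R →+* S) : Prop :=
  letI := ψ.toAlgebra
  letI := Module.compHom M φ
  Module.Flat S (S ⊗[R] M)

set_option maxHeartbeats 1600000 in
set_option synthInstance.maxHeartbeats 400000 in
/-- **The generic flattening ideal**: ring form. -/
theorem exists_flattening_core {R : Type u} [CommRing R] (hnil : (nilradical R).IsPrime)
    {B : Type u} [CommRing B] (φ : R →+* B) (hφ : φ.FinitePresentation) (M : Type u)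
    [AddCommGroup M] [Module B M] [Module.FinitePresentation B M] :
    ∃ h : R, ¬ IsNilpotent h ∧ ∃ 𝔞 : Ideal R, 𝔞.FG ∧
      ∀ (S : Type u) [CommRing S] (ψ : R →+* S), IsUnit (ψ h) →
        (𝔞.map ψ ≤ nilradical S ∧ (FlatBC φ M ψ ↔ 𝔞.map ψ = ⊥)) := by
  letI : Algebra R B := φ.toAlgebra
  letI : Module R M := Module.compHom M φ
  haveI : IsScalarTower R B M := IsScalarTower.of_algebraMap_smul fun _ _ => rfl
  haveI : Algebra.FinitePresentation R B := hφ
  obtain ⟨𝔸, _, _, S₁, _, _, _, _, _, _, M₁, _, _, _, _, _, _, f, h𝔸, hS₁, hfin, hpo, hbc⟩ :=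
    exists_noeth_model R B M
  haveI := h𝔸
  haveI := hS₁
  haveI := hfin
  haveI := hpo
  haveI : IsNoetherianRing 𝔸 := Algebra.FiniteType.isNoetherianRing ℤ 𝔸
  let e : R ⊗[𝔸] M₁ ≃ₗ[R] M := FS.baseChangeEquiv f hbc
  haveI := hnil
  haveI : ((nilradical R).comap (algebraMap 𝔸 R)).IsPrime := Ideal.comap_isPrime _ _
  obtain ⟨s, hs, hN⟩ := exists_flattening_noeth 𝔸 S₁ M₁ ((nilradical R).comap (algebraMap 𝔸 R))
  have hle : ((nilradical R).comap (algebraMap 𝔸 R)).map (algebraMap 𝔸 R) ≤ nilradical R :=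
    Ideal.map_comap_le
  have hfg : (((nilradical R).comap (algebraMap 𝔸 R)).map (algebraMap 𝔸 R)).FG :=
    Ideal.FG.map (IsNoetherian.noetherian _) _
  obtain ⟨n, hn⟩ := (Ideal.FG.isNilpotent_iff_le_nilradical hfg).mpr hle
  obtain ⟨J, hJ⟩ := hN n
  refine ⟨algebraMap 𝔸 R s, ?_, J.map (algebraMap 𝔸 R),
    Ideal.FG.map (IsNoetherian.noetherian J) _, ?_⟩
  · intro hnilp
    exact hs (Ideal.mem_comap.mpr (mem_nilradical.mpr hnilp))
  · intro S _ ψ hu
    letI : Algebra R S := ψ.toAlgebra
    letI : Algebra 𝔸 S := (ψ.comp (algebraMap 𝔸 R)).toAlgebra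
    haveI : IsScalarTower 𝔸 R S := IsScalarTower.of_algebraMap_eq fun _ => rfl
    have hu' : IsUnit (algebraMap 𝔸 S s) := hu
    have hz : (((nilradical R).comap (algebraMap 𝔸 R)) ^ n).map (algebraMap 𝔸 S) = ⊥ := by
      rw [IsScalarTower.algebraMap_eq 𝔸 R S, ← Ideal.map_map, Ideal.map_pow, hn,
        Ideal.zero_eq_bot, Ideal.map_bot]
    obtain ⟨h1, h2⟩ := hJ S hu' hz
    have hmap : (J.map (algebraMap 𝔸 R)).map ψ = J.map (algebraMap 𝔸 S) := by
      rw [Ideal.map_map]
      rfl
    rw [hmap]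
    constructor
    · refine h1.trans ?_
      rw [IsScalarTower.algebraMap_eq 𝔸 R S, ← Ideal.map_map]
      refine (Ideal.map_mono hle).trans ?_
      rw [Ideal.map_le_iff_le_comap]
      intro a ha
      exact mem_nilradical.mpr ((mem_nilradical.mp ha).map ψ)
    · rw [← h2]
      let E : S ⊗[𝔸] M₁ ≃ₗ[S] S ⊗[R] M :=
        (AlgebraTensorModule.cancelBaseChange 𝔸 R S S M₁).symm ≪≫ₗ
          (AlgebraTensorModule.congr (LinearEquiv.refl S S) e)
      constructor
      · intro h
        haveI : Module.Flat S (S ⊗[R] M) := h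
        exact Module.Flat.of_linearEquiv E
      · intro h
        exact (Module.Flat.of_linearEquiv E.symm : Module.Flat S (S ⊗[R] M))

end Groth.Agent.Helper21.FI
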