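import Mathlib
import Groth.Agent.Lib.Helper21.FI3
import Groth.Agent.Lib.Helper13.FlatOverAffine
import Groth.Agent.Lib.Helper13.PullbackSections
import Groth.Agent.Lib.Helper13.PullbackLocal

/-!
# Flatness of a pulled back module over an affine base change, on affine pieces (helper21)
-/

set_option autoImplicit false
set_option linter.style.haveILetI false
set_option linter.unusedSectionVars false

universe u

open CategoryTheory AlgebraicGeometry Limits Opposite TopologicalSpace TensorProduct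

namespace Groth.Agent.Helper21.FI

open Groth.Agent.Helper13.Pullback

set_option maxHeartbeats 1600000 in
set_option synthInstance.maxHeartbeats 400000 in
/-- **Bridge.** For `f : X ⟶ S`, `g : T ⟶ S` with `S`, `T` affine, `W` an affine open of `X`: the
pullback of `F` to `X ×_S T` is flat over `T` at all points above `W` iff
`Γ(T, ⊤) ⊗[Γ(S, ⊤)] Γ(F, W)` is flat over `Γ(T, ⊤)`. -/
theorem flatBC_iff_isFlatOverAt {X S T : Scheme.{u}} [IsAffine S] [IsAffine T] (f : X ⟶ S)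
    (g : T ⟶ S) (F : X.Modules) [F.IsQuasicoherent] {W : X.Opens} (hW : IsAffineOpen W) :
    FlatBC (f.appLE ⊤ W le_top).hom Γ(F, W) (g.appLE ⊤ ⊤ le_top).hom ↔
      ∀ x : (pullback f g : Scheme.{u}), x ∈ (pullback.fst f g) ⁻¹ᵁ W →
        FlatMod.IsFlatOverAt (pullback.snd f g)
          ((Scheme.Modules.pullback (pullback.fst f g)).obj F) x := by
  haveI : IsAffineHom g := inferInstance
  haveI : IsAffineHom (pullback.fst f g) := MorphismProperty.pullback_fst _ _ ‹_›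
  have hW' : IsAffineOpen ((pullback.fst f g) ⁻¹ᵁ W) := hW.preimage (pullback.fst f g)
  have hT : IsAffineOpen (⊤ : T.Opens) := isAffineOpen_top T
  have hS : IsAffineOpen (⊤ : S.Opens) := isAffineOpen_top S
  have step1 : (∀ x : (pullback f g : Scheme.{u}), x ∈ (pullback.fst f g) ⁻¹ᵁ W →
        FlatMod.IsFlatOverAt (pullback.snd f g)
          ((Scheme.Modules.pullback (pullback.fst f g)).obj F) x) ↔
      @Module.Flat Γ(T, ⊤) Γ((Scheme.Modules.pullback (pullback.fst f g)).obj F,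
        (pullback.fst f g) ⁻¹ᵁ W) _ _
        (Module.compHom _ ((pullback.snd f g).appLE ⊤ ((pullback.fst f g) ⁻¹ᵁ W) le_top).hom) :=
    ⟨fun h => Groth.Agent.Helper13.FlatOver.flat_sections_of_isFlatOverAt (pullback.snd f g)
        ((Scheme.Modules.pullback (pullback.fst f g)).obj F) hW' hT le_top h,
      fun h => Groth.Agent.Helper13.FlatOver.isFlatOverAt_of_flat_sections (pullback.snd f g)
        ((Scheme.Modules.pullback (pullback.fst f g)).obj F) hW' hT le_top h⟩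
  rw [step1]
  letI algRS : Algebra Γ(S, ⊤) Γ(T, ⊤) := (g.appLE ⊤ ⊤ le_top).hom.toAlgebra
  letI algRB : Algebra Γ(S, ⊤) Γ(X, W) := (f.appLE ⊤ W le_top).hom.toAlgebra
  letI algBB' : Algebra Γ(X, W) Γ(pullback f g, (pullback.fst f g) ⁻¹ᵁ W) :=
    ((pullback.fst f g).appLE W ((pullback.fst f g) ⁻¹ᵁ W) le_rfl).hom.toAlgebra
  letI algSB' : Algebra Γ(T, ⊤) Γ(pullback f g, (pullback.fst f g) ⁻¹ᵁ W) :=
    ((pullback.snd f g).appLE ⊤ ((pullback.fst f g) ⁻¹ᵁ W) le_top).hom.toAlgebra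
  letI algRB' : Algebra Γ(S, ⊤) Γ(pullback f g, (pullback.fst f g) ⁻¹ᵁ W) :=
    (((pullback.fst f g).appLE W ((pullback.fst f g) ⁻¹ᵁ W) le_rfl).hom.comp
      (f.appLE ⊤ W le_top).hom).toAlgebra
  haveI tw1 : IsScalarTower Γ(S, ⊤) Γ(X, W) Γ(pullback f g, (pullback.fst f g) ⁻¹ᵁ W) :=
    IsScalarTower.of_algebraMap_eq fun _ => rfl
  have hcomm : f.appLE ⊤ W le_top ≫ (pullback.fst f g).appLE W ((pullback.fst f g) ⁻¹ᵁ W) le_rfl =
      g.appLE ⊤ ⊤ le_top ≫ (pullback.snd f g).appLE ⊤ ((pullback.fst f g) ⁻¹ᵁ W) le_top := by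
    simp only [Scheme.Hom.appLE_comp_appLE, pullback.condition]
  haveI tw2 : IsScalarTower Γ(S, ⊤) Γ(T, ⊤) Γ(pullback f g, (pullback.fst f g) ⁻¹ᵁ W) :=
    IsScalarTower.of_algebraMap_eq fun r => by
      have := congrArg (fun ψ => ψ.hom r) hcomm
      exact this
  letI modRM : Module Γ(S, ⊤) Γ(F, W) := Module.compHom Γ(F, W) (f.appLE ⊤ W le_top).hom
  haveI tw3 : IsScalarTower Γ(S, ⊤) Γ(X, W) Γ(F, W) :=
    IsScalarTower.of_algebraMap_smul fun _ _ => rfl
  -- the pushout square of sections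
  have hiso := isIso_pushoutSection_of_isAffineOpen (IsPullback.of_hasPullback f g)
    (US := ⊤) (UT := ⊤) (UX := W) (UY := (pullback.fst f g) ⁻¹ᵁ W)
    le_top le_top (by simp) hS hT hW
  have hpoC := (isIso_pushoutSection_iff (IsPullback.of_hasPullback f g)
    (US := ⊤) (UT := ⊤) (UX := W) (UY := (pullback.fst f g) ⁻¹ᵁ W)
    le_top le_top (by simp)).mp hiso
  have hpo1 : Algebra.IsPushout Γ(S, ⊤) Γ(X, W) Γ(T, ⊤)
      Γ(pullback f g, (pullback.fst f g) ⁻¹ᵁ W) :=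
    (CommRingCat.isPushout_iff_isPushout (R := Γ(S, ⊤)) (S := Γ(T, ⊤)) (R' := Γ(X, W))
      (S' := Γ(pullback f g, (pullback.fst f g) ⁻¹ᵁ W))).mp hpoC
  haveI hpo : Algebra.IsPushout Γ(S, ⊤) Γ(T, ⊤) Γ(X, W)
      Γ(pullback f g, (pullback.fst f g) ⁻¹ᵁ W) := hpo1.symm
  -- sections of the pullback
  let e₁ := sectionsPullbackEquiv (pullback.fst f g) F hW' hW le_rfl
  let e₂ := Algebra.IsPushout.cancelBaseChange Γ(S, ⊤) Γ(T, ⊤) Γ(X, W)
    Γ(pullback f g, (pullback.fst f g) ⁻¹ᵁ W) Γ(F, W)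
  letI modSN : Module Γ(T, ⊤) Γ((Scheme.Modules.pullback (pullback.fst f g)).obj F,
      (pullback.fst f g) ⁻¹ᵁ W) :=
    Module.compHom _ ((pullback.snd f g).appLE ⊤ ((pullback.fst f g) ⁻¹ᵁ W) le_top).hom
  haveI tw4 : IsScalarTower Γ(T, ⊤) Γ(pullback f g, (pullback.fst f g) ⁻¹ᵁ W)
      Γ((Scheme.Modules.pullback (pullback.fst f g)).obj F, (pullback.fst f g) ⁻¹ᵁ W) :=
    IsScalarTower.of_algebraMap_smul fun _ _ => rfl
  let E := (e₁.restrictScalars Γ(T, ⊤)) ≪≫ₗ e₂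
  constructor
  · intro h
    haveI : Module.Flat Γ(T, ⊤) (Γ(T, ⊤) ⊗[Γ(S, ⊤)] Γ(F, W)) := h
    exact Module.Flat.of_linearEquiv E
  · intro h
    exact (Module.Flat.of_linearEquiv E.symm : Module.Flat Γ(T, ⊤) (Γ(T, ⊤) ⊗[Γ(S, ⊤)] Γ(F, W)))

end Groth.Agent.Helper21.FI
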