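import Mathlib
import Groth.Prelude.Def_FlatMod2
import Groth.Agent.Lib.Helper21.FI4
import Groth.Agent.Lib.Helper21.NAM3
import Groth.Agent.Lib.Helper13.FinPresAffine

/-!
# The generic flattening ideal: scheme form (helper21)
-/

set_option autoImplicit false
set_option linter.style.haveILetI false
set_option linter.unusedSectionVars false

universe u

open CategoryTheory AlgebraicGeometry Limits Opposite TopologicalSpace TensorProduct

namespace Groth.Agent.Helper21.FI

theorem isPrime_nilradical_of_ringEquiv {R A : Type*} [CommRing R] [CommRing A] (ρ : R ≃+* A)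
    (h : (nilradical A).IsPrime) : (nilradical R).IsPrime := by
  have h1 : nilradical R = (nilradical A).comap (ρ : R →+* A) := by
    ext x
    rw [Ideal.mem_comap, mem_nilradical, mem_nilradical]
    exact (IsNilpotent.map_iff (f := (ρ : R →+* A)) ρ.injective).symm
  rw [h1]
  exact Ideal.comap_isPrime _ _

theorem map_map_eq_bot_iff {R S A' : Type*} [CommRing R] [CommRing S] [CommRing A']
    (ψ : R →+* S) (ρ' : S ≃+* A') (I : Ideal R) :
    (I.map ψ).map (ρ' : S →+* A') = ⊥ ↔ I.map ψ = ⊥ :=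
  Ideal.map_eq_bot_iff_of_injective (f := (ρ' : S →+* A')) ρ'.injective

set_option maxHeartbeats 1600000 in
set_option synthInstance.maxHeartbeats 400000 in
/-- **Generic flattening ideal** (EGA IV 11.4-type statement, affine irreducible base). -/
theorem exists_flattening_generic {A : Type u} [CommRing A] [IrreducibleSpace (PrimeSpectrum A)]
    {X : Scheme.{u}} (f : X ⟶ Spec (CommRingCat.of A))
    [LocallyOfFinitePresentation f] [QuasiCompact f]
    (F : X.Modules) [F.IsQuasicoherent]
    (hF : SheafOfModules.IsFinitePresentation (R := X.ringCatSheaf) F) :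
    ∃ (h : A) (_ : ¬ IsNilpotent h) (J : Ideal (Localization.Away h)) (_ : J.FG)
      (_ : J ≤ nilradical (Localization.Away h)),
      ∀ (A' : Type u) [CommRing A'] [Algebra (Localization.Away h) A'],
        (FlatMod.IsFlatOver
          (pullback.snd f (Spec.map (CommRingCat.ofHom
            ((algebraMap (Localization.Away h) A').comp (algebraMap A (Localization.Away h))))))
          ((Scheme.Modules.pullback (pullback.fst f (Spec.map (CommRingCat.ofHom
            ((algebraMap (Localization.Away h) A').comp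
              (algebraMap A (Localization.Away h))))))).obj F) ↔
          Ideal.map (algebraMap (Localization.Away h) A') J = ⊥) := by
  classical
  let ρ : Γ(Spec (CommRingCat.of A), ⊤) ≃+* A :=
    (Scheme.ΓSpecIso (CommRingCat.of A)).commRingCatIsoToRingEquiv
  have hnilA : (nilradical A).IsPrime :=
    PrimeSpectrum.irreducibleSpace_iff_isPrime_nilradical.mp inferInstance
  have hnilR : (nilradical Γ(Spec (CommRingCat.of A), ⊤)).IsPrime :=
    isPrime_nilradical_of_ringEquiv ρ hnilA
  haveI : CompactSpace X := QuasiCompact.compactSpace_of_compactSpace f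
  obtain ⟨s, hsfin, hscov⟩ :=
    (isCompact_and_isOpen_iff_finite_and_eq_biUnion_affineOpens (X := X) (U := Set.univ)).mp
      ⟨isCompact_univ, isOpen_univ⟩
  have key : ∀ W : X.affineOpens, ∃ h : Γ(Spec (CommRingCat.of A), ⊤), ¬ IsNilpotent h ∧
      ∃ 𝔞 : Ideal Γ(Spec (CommRingCat.of A), ⊤), 𝔞.FG ∧
        ∀ (S : Type u) [CommRing S] (ψ : Γ(Spec (CommRingCat.of A), ⊤) →+* S), IsUnit (ψ h) →
          (𝔞.map ψ ≤ nilradical S ∧
            (FlatBC (f.appLE ⊤ W.1 le_top).hom Γ(F, W.1) ψ ↔ 𝔞.map ψ = ⊥)) := by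
    intro W
    haveI := Groth.Agent.Helper13.LocFree.finitePresentation_sections_of_isFinitePresentation
      F W.2
    exact exists_flattening_core hnilR (f.appLE ⊤ W.1 le_top).hom
      (HasRingHomProperty.appLE (P := @LocallyOfFinitePresentation) f inferInstance
        ⟨⊤, isAffineOpen_top _⟩ W le_top) Γ(F, W.1)
  choose hh hh1 aa aa1 aa2 using key
  obtain ⟨hR, hRdef⟩ : ∃ hR, hR = ∏ W ∈ hsfin.toFinset, hh W := ⟨_, rfl⟩
  obtain ⟨aR, aRdef⟩ : ∃ aR, aR = ⨆ W ∈ hsfin.toFinset, aa W := ⟨_, rfl⟩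
  have hRnil : ¬ IsNilpotent hR := by
    intro hn
    have h1 : hR ∈ nilradical Γ(Spec (CommRingCat.of A), ⊤) := mem_nilradical.mpr hn
    rw [hRdef] at h1
    obtain ⟨W, -, hW'⟩ := (Ideal.IsPrime.prod_mem_iff (hp := hnilR)).mp h1
    exact hh1 W (mem_nilradical.mp hW')
  have haRfg : aR.FG := by
    rw [aRdef]
    exact Submodule.fg_biSup _ aa (fun W _ => aa1 W)
  have hunit_of : ∀ (S : Type u) [CommRing S] (ψ : Γ(Spec (CommRingCat.of A), ⊤) →+* S),
      IsUnit (ψ hR) → ∀ W ∈ hsfin.toFinset, IsUnit (ψ (hh W)) := by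
    intro S _ ψ hu
    rw [hRdef, map_prod] at hu
    exact IsUnit.prod_iff.mp hu
  have hmap_of : ∀ (S : Type u) [CommRing S] (ψ : Γ(Spec (CommRingCat.of A), ⊤) →+* S),
      aR.map ψ = ⨆ W ∈ hsfin.toFinset, (aa W).map ψ := by
    intro S _ ψ
    rw [aRdef]
    simp only [Ideal.map_iSup]
  refine ⟨ρ hR, fun hn => hRnil ((IsNilpotent.map_iff (f := (ρ : _ →+* A)) ρ.injective).mp hn),
    aR.map ((algebraMap A (Localization.Away (ρ hR))).comp (ρ : _ →+* A)),
    Ideal.FG.map haRfg _, ?_, ?_⟩
  · have hu0 : IsUnit (algebraMap A (Localization.Away (ρ hR)) (ρ hR)) :=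
      IsLocalization.Away.algebraMap_isUnit (ρ hR)
    have hu : IsUnit (((algebraMap A (Localization.Away (ρ hR))).comp (ρ : _ →+* A)) hR) := hu0
    rw [hmap_of]
    exact iSup₂_le fun W hW => (aa2 W _ _ (hunit_of _ _ hu W hW)).1
  · intro A' _ _
    obtain ⟨χ, hχ⟩ : ∃ χ : A →+* A', χ = (algebraMap (Localization.Away (ρ hR)) A').comp
      (algebraMap A (Localization.Away (ρ hR))) := ⟨_, rfl⟩
    rw [← hχ]
    let ρ' : Γ(Spec (CommRingCat.of A'), ⊤) ≃+* A' :=
      (Scheme.ΓSpecIso (CommRingCat.of A')).commRingCatIsoToRingEquiv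
    have hnat : ∀ r, ρ' (((Spec.map (CommRingCat.ofHom χ)).appLE ⊤ ⊤ le_top).hom r) =
        χ (ρ r) := by
      intro r
      have h := Scheme.ΓSpecIso_naturality (CommRingCat.ofHom χ)
      have h2 := congrArg (fun θ => θ.hom r) h
      rw [Groth.Agent.Helper21.NAM.appLE_top_top]
      exact h2
    have hnat' : (ρ' : _ →+* A').comp ((Spec.map (CommRingCat.ofHom χ)).appLE ⊤ ⊤ le_top).hom =
        χ.comp (ρ : _ →+* A) := RingHom.ext hnat
    have hunitR : IsUnit (((Spec.map (CommRingCat.ofHom χ)).appLE ⊤ ⊤ le_top).hom hR) := by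
      have h1 : IsUnit (ρ' (((Spec.map (CommRingCat.ofHom χ)).appLE ⊤ ⊤ le_top).hom hR)) := by
        rw [hnat, hχ]
        have hu0 : IsUnit (algebraMap A (Localization.Away (ρ hR)) (ρ hR)) :=
          IsLocalization.Away.algebraMap_isUnit (ρ hR)
        exact hu0.map (algebraMap (Localization.Away (ρ hR)) A')
      exact (isUnit_map_iff ρ' _).mp h1
    have hunit := hunit_of _ _ hunitR
    have hJ : Ideal.map (algebraMap (Localization.Away (ρ hR)) A')
        (aR.map ((algebraMap A (Localization.Away (ρ hR))).comp (ρ : _ →+* A))) =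
        (aR.map ((Spec.map (CommRingCat.ofHom χ)).appLE ⊤ ⊤ le_top).hom).map
          (ρ' : _ →+* A') := by
      rw [Ideal.map_map, Ideal.map_map, hnat', hχ, RingHom.comp_assoc]
    have hbot : (aR.map ((Spec.map (CommRingCat.ofHom χ)).appLE ⊤ ⊤ le_top).hom).map
        (ρ' : _ →+* A') = ⊥ ↔ ∀ W ∈ hsfin.toFinset,
          (aa W).map ((Spec.map (CommRingCat.ofHom χ)).appLE ⊤ ⊤ le_top).hom = ⊥ := by
      refine (map_map_eq_bot_iff ((Spec.map (CommRingCat.ofHom χ)).appLE ⊤ ⊤ le_top).hom
        ρ' aR).trans ?_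
      rw [hmap_of]
      simp only [iSup_eq_bot]
    rw [hJ]
    refine Iff.trans ?_ hbot.symm
    constructor
    · intro hfl W hW
      rw [← (aa2 W _ _ (hunit W hW)).2,
        flatBC_iff_isFlatOverAt f (Spec.map (CommRingCat.ofHom χ)) F W.2]
      exact fun x _ => hfl x
    · intro hall x
      have hx : (pullback.fst f (Spec.map (CommRingCat.ofHom χ)) x) ∈ (Set.univ : Set X) :=
        trivial
      rw [hscov] at hx
      obtain ⟨W, hWs, hxW⟩ := Set.mem_iUnion₂.mp hx
      have hWt : W ∈ hsfin.toFinset := hsfin.mem_toFinset.mpr hWs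
      exact (flatBC_iff_isFlatOverAt f (Spec.map (CommRingCat.ofHom χ)) F W.2).mp
        ((aa2 W _ _ (hunit W hWt)).2.mpr (hall W hWt)) x hxW

end Groth.Agent.Helper21.FI
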