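import Mathlib
import Groth.Agent.Lib.Helper21.FI5
import Groth.Agent.Lib.Helper14.SepClosedIn

/-!
# Zero divisors in tensor products of fields with a primary extension (helper21)

If `K / k` is a primary field extension and `κ / k` any field extension then every zero divisor
of `K ⊗[k] κ` is nilpotent.
-/

set_option autoImplicit false
set_option linter.style.haveILetI false
set_option linter.unusedSectionVars false

universe u

open TensorProduct Function Polynomial

namespace Groth.Agent.Helper21.FB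

/-- **Abstract statement.** In an algebra `C` over a domain `D` which is flat and algebraic over
`D` and has prime nilradical, an element which is not nilpotent is not a zero divisor. -/
theorem mem_nonZeroDivisors_of_not_isNilpotent {D C : Type*} [CommRing D] [IsDomain D]
    [CommRing C] [Algebra D C] [Algebra.IsAlgebraic D C]
    (hreg : ∀ d : D, d ≠ 0 → ∀ b : C, algebraMap D C d * b = 0 → b = 0)
    (hnil : (nilradical C).IsPrime) (c : C) (hc : ¬ IsNilpotent c) : c ∈ nonZeroDivisors C := by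
  -- `c` divides a nonzero element of `D`
  obtain ⟨p, hp0, hp⟩ := Algebra.IsAlgebraic.isAlgebraic (R := D) c
  obtain ⟨q, hq1, hq2⟩ := Polynomial.exists_eq_pow_rootMultiplicity_mul_and_not_dvd p hp0 0
  rw [map_zero, sub_zero] at hq1 hq2
  have hq0 : q.coeff 0 ≠ 0 := fun h => hq2 (Polynomial.X_dvd_iff.mpr h)
  obtain ⟨n, hn⟩ : ∃ n : ℕ, n = p.rootMultiplicity 0 := ⟨_, rfl⟩
  rw [← hn] at hq1
  have h1 : c ^ n * aeval c q = 0 := by
    rw [← hp, hq1, map_mul, map_pow, aeval_X]
  have h2 : IsNilpotent (aeval c q) := by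
    have h3 : c ^ n * aeval c q ∈ nilradical C := by
      rw [h1]; exact zero_mem _
    rcases hnil.mem_or_mem h3 with h4 | h4
    · exact absurd (mem_nilradical.mp (hnil.mem_of_pow_mem _ h4)) hc
    · exact mem_nilradical.mp h4
  obtain ⟨N, hN⟩ := h2
  have h5 : aeval c q = aeval c q.divX * c + algebraMap D C (q.coeff 0) := by
    conv_lhs => rw [← Polynomial.divX_mul_X_add q]
    rw [map_add, map_mul, aeval_X, aeval_C]
  have h6 : aeval c q - algebraMap D C (q.coeff 0) ∣
      (aeval c q) ^ N - (algebraMap D C (q.coeff 0)) ^ N := sub_dvd_pow_sub_pow _ _ N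
  rw [hN, zero_sub, h5, add_sub_cancel_right] at h6
  have h7 : c ∣ algebraMap D C ((q.coeff 0) ^ N) := by
    rw [map_pow]
    exact (Dvd.intro_left _ rfl).trans ((dvd_neg).mp h6)
  obtain ⟨w, hw⟩ := h7
  rw [mem_nonZeroDivisors_iff_right]
  intro b hb
  apply hreg _ (pow_ne_zero N hq0)
  rw [hw, mul_comm c w, mul_assoc, mul_comm c b, hb, mul_zero]

theorem flat_of_subalgebra_field {k K : Type u} [Field k] [Field K] [Algebra k K]
    (P : Subalgebra k K) : Module.Flat P K := by
  letI := FractionRing.liftAlgebra P K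
  haveI := FractionRing.isScalarTower_liftAlgebra P K
  haveI : Module.Flat (FractionRing P) K := Module.Flat.of_free
  exact Module.Flat.trans P (FractionRing P) K

theorem isDomain_tensor_of_equiv_mvPolynomial {k : Type u} [Field k] {P : Type u} [CommRing P]
    [Algebra k P] {ι : Type u} (e0 : MvPolynomial ι k ≃ₐ[k] P) (κ : Type u) [Field κ]
    [Algebra k κ] : IsDomain (P ⊗[k] κ) := by
  let e1 : P ⊗[k] κ ≃ₐ[k] MvPolynomial ι κ :=
    ((Algebra.TensorProduct.congr e0.symm (AlgEquiv.refl (R := k) (A₁ := κ))).trans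
      (Algebra.TensorProduct.comm k _ κ)).trans
      ((MvPolynomial.algebraTensorAlgEquiv k κ).restrictScalars k)
  exact e1.toRingEquiv.toMulEquiv.isDomain _

theorem faithfulSMul_tensor {k : Type u} [Field k] {P : Type u} [CommRing P]
    [Algebra k P] (κ : Type u) [Field κ] [Algebra k κ] : FaithfulSMul P (P ⊗[k] κ) := by
  refine (faithfulSMul_iff_algebraMap_injective P (P ⊗[k] κ)).mpr ?_
  exact Algebra.TensorProduct.includeLeft_injective (S := P)
      (FaithfulSMul.algebraMap_injective k κ)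

/-- the ring isomorphism `(P ⊗[k] κ) ⊗[P] K ≃ K ⊗[k] κ`. -/
noncomputable def tensorEquiv (k : Type u) [Field k] (P : Type u) [CommRing P] [Algebra k P]
    (K : Type u) [Field K] [Algebra k K] [Algebra P K] [IsScalarTower k P K]
    (κ : Type u) [Field κ] [Algebra k κ] :
    (P ⊗[k] κ) ⊗[P] K ≃+* K ⊗[k] κ :=
  ((Algebra.TensorProduct.comm P (P ⊗[k] κ) K).trans
      (Algebra.TensorProduct.cancelBaseChange k P P K κ)).toRingEquiv

theorem aux_mem_nonZeroDivisors (k : Type u) [Field k] (P : Type u) [CommRing P] [Algebra k P]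
    (K : Type u) [Field K] [Algebra k K] [Algebra P K] [IsScalarTower k P K]
    [Algebra.IsAlgebraic P K] [Module.Flat P K] (κ : Type u) [Field κ] [Algebra k κ]
    [IsDomain (P ⊗[k] κ)]
    (hnil : (nilradical ((P ⊗[k] κ) ⊗[P] K)).IsPrime) (c : (P ⊗[k] κ) ⊗[P] K)
    (hc : ¬ IsNilpotent c) : c ∈ nonZeroDivisors ((P ⊗[k] κ) ⊗[P] K) := by
  haveI : FaithfulSMul P (P ⊗[k] κ) := faithfulSMul_tensor κ
  refine mem_nonZeroDivisors_of_not_isNilpotent (D := P ⊗[k] κ) ?_ hnil c hc
  intro d hd b hb
  have hinj : Injective (LinearMap.mulLeft P d) := fun x y hxy => by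
    have h1 : d * x = d * y := hxy
    exact mul_left_cancel₀ hd h1
  have h2 := Module.Flat.rTensor_preserves_injective_linearMap (M := K) _ hinj
  apply h2
  rw [map_zero, ← hb]
  clear hb
  induction b using TensorProduct.induction_on with
  | zero => rw [map_zero, mul_zero]
  | tmul x y =>
    rw [LinearMap.rTensor_tmul, Algebra.TensorProduct.algebraMap_apply,
      Algebra.TensorProduct.tmul_mul_tmul, one_mul]
    rfl
  | add x y hx hy => rw [map_add, hx, hy, mul_add]

theorem core_mem_nonZeroDivisors (k : Type u) [Field k] (P : Type u) [CommRing P] [Algebra k P]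
    (K : Type u) [Field K] [Algebra k K] [Algebra P K] [IsScalarTower k P K]
    [Algebra.IsAlgebraic P K] [Module.Flat P K] (κ : Type u) [Field κ] [Algebra k κ]
    [IsDomain (P ⊗[k] κ)] (hnilK : (nilradical (κ ⊗[k] K)).IsPrime)
    (c : K ⊗[k] κ) (hc : ¬ IsNilpotent c) : c ∈ nonZeroDivisors (K ⊗[k] κ) := by
  obtain ⟨φ, hφ⟩ : ∃ φ : (P ⊗[k] κ) ⊗[P] K ≃+* K ⊗[k] κ, φ = tensorEquiv k P K κ := ⟨_, rfl⟩
  have hnil : (nilradical ((P ⊗[k] κ) ⊗[P] K)).IsPrime :=
    FI.isPrime_nilradical_of_ringEquiv (φ.trans (Algebra.TensorProduct.comm k K κ).toRingEquiv)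
      hnilK
  have h1 : ¬ IsNilpotent (φ.symm c) := fun h => by
    have h3 := h.map φ
    rw [RingEquiv.apply_symm_apply] at h3
    exact hc h3
  have h2 := aux_mem_nonZeroDivisors k P K κ hnil (φ.symm c) h1
  exact mem_nonZeroDivisors_of_injective (f := φ.symm) φ.symm.injective h2

/-- **Zero divisors of `K ⊗[k] κ` are nilpotent when `K / k` is primary.** -/
theorem tensor_mem_nonZeroDivisors_of_not_isNilpotent {k K : Type u} [Field k] [Field K]
    [Algebra k K] (hK : ∀ α : K, IsSeparable k α → α ∈ Set.range (algebraMap k K))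
    (κ : Type u) [Field κ] [Algebra k κ] (c : K ⊗[k] κ) (hc : ¬ IsNilpotent c) :
    c ∈ nonZeroDivisors (K ⊗[k] κ) := by
  obtain ⟨ι, x, hx⟩ := exists_isTranscendenceBasis'.{u, u} k K
  obtain ⟨P, hP⟩ : ∃ P : Subalgebra k K, P = Algebra.adjoin k (Set.range x) := ⟨_, rfl⟩
  haveI : Algebra.IsAlgebraic P K := hP ▸ hx.isAlgebraic
  haveI : Module.Flat P K := flat_of_subalgebra_field P
  let e0 : MvPolynomial ι k ≃ₐ[k] P := hx.1.aevalEquiv.trans (Subalgebra.equivOfEq _ _ hP.symm)
  haveI : IsDomain (P ⊗[k] κ) := isDomain_tensor_of_equiv_mvPolynomial e0 κ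
  exact core_mem_nonZeroDivisors k P K κ
    (Groth.Agent.Helper14.SepClosedIn.isPrime_nilradical_of_sepClosedIn hK κ) c hc

theorem compatibleSMul_of_surjective {A k K κ : Type u} [CommRing A] [CommRing k] [CommRing K]
    [CommRing κ] [Algebra A k] [Algebra A K] [Algebra A κ] [Algebra k K] [Algebra k κ]
    [IsScalarTower A k K] [IsScalarTower A k κ] (hsurj : Surjective (algebraMap A k)) :
    TensorProduct.CompatibleSMul A k K κ := ⟨fun c m n => by
  obtain ⟨a, rfl⟩ := hsurj c
  rw [IsScalarTower.algebraMap_smul, IsScalarTower.algebraMap_smul, TensorProduct.smul_tmul]⟩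

/-- `K ⊗[A] κ ≃ K ⊗[k] κ` for a quotient `k` of `A`. -/
noncomputable def tensorRingEquiv {A k K κ : Type u} [CommRing A] [CommRing k] [CommRing K]
    [CommRing κ] [Algebra A k] [Algebra A K] [Algebra A κ] [Algebra k K] [Algebra k κ]
    [IsScalarTower A k K] [IsScalarTower A k κ] (hsurj : Surjective (algebraMap A k)) :
    K ⊗[A] κ ≃+* K ⊗[k] κ :=
  haveI := compatibleSMul_of_surjective (K := K) (κ := κ) hsurj
  (Algebra.TensorProduct.equivOfCompatibleSMul k A A K κ).toRingEquiv

/-- **Zero divisors of `K ⊗[A] κ` are nilpotent when `K` is primary over the quotient field `k`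
of `A`.** -/
theorem tensor_mem_nonZeroDivisors_of_not_isNilpotent' {A k K κ : Type u} [CommRing A]
    [Field k] [Field K] [Field κ] [Algebra A k] [Algebra A K] [Algebra A κ] [Algebra k K]
    [Algebra k κ] [IsScalarTower A k K] [IsScalarTower A k κ]
    (hsurj : Surjective (algebraMap A k))
    (hK : ∀ α : K, IsSeparable k α → α ∈ Set.range (algebraMap k K))
    (c : K ⊗[A] κ) (hc : ¬ IsNilpotent c) : c ∈ nonZeroDivisors (K ⊗[A] κ) := by
  obtain ⟨φ, -⟩ : ∃ φ : K ⊗[A] κ ≃+* K ⊗[k] κ, φ = tensorRingEquiv hsurj := ⟨_, rfl⟩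
  have h1 : ¬ IsNilpotent (φ c) := fun h => by
    have h3 := h.map φ.symm
    rw [RingEquiv.symm_apply_apply] at h3
    exact hc h3
  have h2 := tensor_mem_nonZeroDivisors_of_not_isNilpotent hK κ (φ c) h1
  exact mem_nonZeroDivisors_of_injective (f := φ) φ.injective h2

end Groth.Agent.Helper21.FB
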