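import Mathlib
import Groth.Agent.Lib.Helper21.FA2

/-!
# The pushout ring acting on `Q ⊗[A] P`: functoriality and injectivity of multiplications (helper21)
-/

set_option autoImplicit false
set_option linter.style.haveILetI false
set_option linter.unusedSectionVars false

universe u

open TensorProduct Function IsLocalRing

namespace Groth.Agent.Helper21.FB

open Groth.Agent.Helper21.FA

section Functoriality

variable (A Λ BW R : Type u) [CommRing A] [CommRing Λ] [CommRing BW] [CommRing R]
  [Algebra A Λ] [Algebra A BW] [Algebra A R] [Algebra Λ R] [Algebra BW R]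
  [IsScalarTower A Λ R] [IsScalarTower A BW R] [Algebra.IsPushout A Λ BW R]
  {Q : Type u} [AddCommGroup Q] [Module A Q] [Module BW Q] [IsScalarTower A BW Q]
  {Q' : Type u} [AddCommGroup Q'] [Module A Q'] [Module BW Q'] [IsScalarTower A BW Q']
  (P : Type u) [AddCommGroup P] [Module A P] [Module Λ P] [IsScalarTower A Λ P]

include A in
/-- induction principle for the pushout ring. -/
theorem pushout_induction (motive : R → Prop) (zero : motive 0)
    (left : ∀ b : BW, motive (algebraMap BW R b))
    (smul : ∀ (l : Λ) (n : R), motive n → motive (algebraMap Λ R l * n))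
    (add : ∀ n₁ n₂, motive n₁ → motive n₂ → motive (n₁ + n₂)) (s : R) : motive s := by
  have h := (Algebra.IsPushout.out : IsBaseChange Λ (IsScalarTower.toAlgHom A BW R).toLinearMap)
  refine h.inductionOn s motive zero (fun b => left b) (fun l n hn => ?_) add
  rw [Algebra.smul_def]
  exact smul l n hn

theorem act_smul_mul (l : Λ) (n : R) (w : Q ⊗[A] P) :
    act A Λ BW R Q P (algebraMap Λ R l * n) w = actΛ A Λ Q P l (act A Λ BW R Q P n w) := by
  rw [map_mul, act_algebraMap_Λ]
  rfl

/-- functoriality of the action in the left factor. -/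
theorem act_rTensor (φ : Q →ₗ[BW] Q') (s : R) (w : Q ⊗[A] P) :
    LinearMap.rTensor P (φ.restrictScalars A) (act A Λ BW R Q P s w) =
      act A Λ BW R Q' P s (LinearMap.rTensor P (φ.restrictScalars A) w) := by
  revert w
  induction s using pushout_induction A Λ BW R with
  | zero => intro w; simp only [map_zero, LinearMap.zero_apply]
  | left b =>
    intro w
    rw [act_algebraMap_B, act_algebraMap_B, actB_apply, actB_apply]
    induction w using TensorProduct.induction_on with
    | zero => rw [smul_zero, map_zero, smul_zero]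
    | tmul q p =>
      rw [TensorProduct.smul_tmul', LinearMap.rTensor_tmul, LinearMap.rTensor_tmul,
        TensorProduct.smul_tmul']
      congr 1
      exact φ.map_smul b q
    | add x y hx hy => rw [smul_add, map_add, hx, hy, map_add, smul_add]
  | smul l n hn =>
    intro w
    rw [act_smul_mul, act_smul_mul, ← hn w]
    generalize act A Λ BW R Q P n w = v
    induction v using TensorProduct.induction_on with
    | zero => rw [map_zero, map_zero, map_zero]
    | tmul q p => rw [actΛ_tmul, LinearMap.rTensor_tmul, LinearMap.rTensor_tmul, actΛ_tmul]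
    | add x y hx hy => rw [map_add, map_add, hx, hy, map_add, map_add]
  | add n₁ n₂ h₁ h₂ =>
    intro w
    rw [map_add, LinearMap.add_apply, map_add, h₁ w, h₂ w, map_add, LinearMap.add_apply]

end Functoriality

section AlgebraCase

variable (A Λ BW R : Type u) [CommRing A] [CommRing Λ] [CommRing BW] [CommRing R]
  [Algebra A Λ] [Algebra A BW] [Algebra A R] [Algebra Λ R] [Algebra BW R]
  [IsScalarTower A Λ R] [IsScalarTower A BW R] [Algebra.IsPushout A Λ BW R]
  (K : Type u) [CommRing K] [Algebra A K] [Algebra BW K] [IsScalarTower A BW K]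
  (κ : Type u) [CommRing κ] [Algebra A κ] [Algebra Λ κ] [IsScalarTower A Λ κ]

/-- the canonical map `R → K ⊗[A] κ`. -/
noncomputable def rhoBar : R →ₐ[A] K ⊗[A] κ :=
  Algebra.pushoutDesc R
    ((Algebra.TensorProduct.includeRight : κ →ₐ[A] K ⊗[A] κ).comp (IsScalarTower.toAlgHom A Λ κ))
    ((Algebra.TensorProduct.includeLeft : K →ₐ[A] K ⊗[A] κ).comp (IsScalarTower.toAlgHom A BW K))
    (fun _ _ => mul_comm _ _)

theorem rhoBar_algebraMap_Λ (l : Λ) :
    rhoBar A Λ BW R K κ (algebraMap Λ R l) = 1 ⊗ₜ[A] algebraMap Λ κ l :=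
  Algebra.pushoutDesc_left R _ _ _ l

theorem rhoBar_algebraMap_B (b : BW) :
    rhoBar A Λ BW R K κ (algebraMap BW R b) = algebraMap BW K b ⊗ₜ[A] 1 :=
  Algebra.pushoutDesc_right R _ _ _ b

/-- on a tensor product of algebras, the action is multiplication through `rhoBar`. -/
theorem act_eq_mul (s : R) (w : K ⊗[A] κ) :
    act A Λ BW R K κ s w = rhoBar A Λ BW R K κ s * w := by
  revert w
  induction s using pushout_induction A Λ BW R with
  | zero => intro w; rw [map_zero, LinearMap.zero_apply, map_zero, zero_mul]
  | left b =>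
    intro w
    rw [act_algebraMap_B, actB_apply, rhoBar_algebraMap_B]
    induction w using TensorProduct.induction_on with
    | zero => rw [smul_zero, mul_zero]
    | tmul x y =>
      rw [TensorProduct.smul_tmul', Algebra.TensorProduct.tmul_mul_tmul, one_mul, Algebra.smul_def]
    | add x y hx hy => rw [smul_add, hx, hy, mul_add]
  | smul l n hn =>
    intro w
    rw [act_smul_mul, hn w, map_mul (rhoBar A Λ BW R K κ), rhoBar_algebraMap_Λ, mul_assoc]
    generalize rhoBar A Λ BW R K κ n * w = v
    induction v using TensorProduct.induction_on with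
    | zero => rw [map_zero, mul_zero]
    | tmul x y =>
      rw [actΛ_tmul, Algebra.TensorProduct.tmul_mul_tmul, one_mul, Algebra.smul_def]
    | add x y hx hy => rw [map_add, hx, hy, mul_add]
  | add n₁ n₂ h₁ h₂ =>
    intro w
    rw [map_add, LinearMap.add_apply, h₁ w, h₂ w, map_add, add_mul]

end AlgebraCase

section Retraction

/-- over a local ring, submodules of modules killed by the maximal ideal are direct summands. -/
theorem exists_retraction {A : Type u} [CommRing A] [IsLocalRing A] {B : Type u} [CommRing B]
    [Algebra A B] {M : Type u} [AddCommGroup M] [Module B M] [Module A M] [IsScalarTower A B M]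
    (hM : ∀ a ∈ maximalIdeal A, ∀ m : M, a • m = 0) (M' : Submodule B M) :
    ∃ ρ : M →ₗ[A] M', ∀ x : M', ρ x = x := by
  letI : Field (A ⧸ maximalIdeal A) := Ideal.Quotient.field _
  have hM1 : Module.IsTorsionBySet A M (maximalIdeal A : Set A) := fun v a => hM a.1 a.2 v
  have hM2 : Module.IsTorsionBySet A M' (maximalIdeal A : Set A) :=
    fun v a => Subtype.ext (hM a.1 a.2 v.1)
  letI := hM1.module
  letI := hM2.module
  haveI : IsScalarTower A (A ⧸ maximalIdeal A) M := hM1.isScalarTower
  haveI : IsScalarTower A (A ⧸ maximalIdeal A) M' := hM2.isScalarTower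
  let f : M' →ₗ[A ⧸ maximalIdeal A] M :=
    LinearMap.extendScalarsOfSurjective Ideal.Quotient.mk_surjective
      (M'.subtype.restrictScalars A)
  have hf : LinearMap.ker f = ⊥ := LinearMap.ker_eq_bot.mpr (fun x y hxy => Subtype.ext hxy)
  obtain ⟨g, hg⟩ := LinearMap.exists_leftInverse_of_injective f hf
  exact ⟨g.restrictScalars A, fun x => LinearMap.congr_fun hg x⟩

end Retraction

section Inj

variable {A : Type u} [CommRing A] [IsLocalRing A]
  {BW : Type u} [CommRing BW] [Algebra A BW]
  {B : Type u} [CommRing B] [IsLocalRing B] [Algebra BW B] [Algebra A B] [IsScalarTower A BW B]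
  {Λ : Type u} [CommRing Λ] [Algebra A Λ]
  {R : Type u} [CommRing R] [Algebra A R] [Algebra Λ R] [Algebra BW R] [IsScalarTower A Λ R]
  [IsScalarTower A BW R] [Algebra.IsPushout A Λ BW R]
  (κ : Type u) [AddCommGroup κ] [Module A κ] [Module Λ κ] [IsScalarTower A Λ κ]
  (s : R)

/-- the extension step. -/
theorem act_injective_of_sub_quot {M : Type u} [AddCommGroup M] [Module B M] [Module BW M]
    [IsScalarTower BW B M] [Module A M] [IsScalarTower A B M] [IsScalarTower A BW M]
    (hkill : ∀ a ∈ maximalIdeal A, ∀ m : M, a • m = 0) (M' : Submodule B M)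
    (h1 : ∀ w : ↥M' ⊗[A] κ, act A Λ BW R ↥M' κ s w = 0 → w = 0)
    (h2 : ∀ w : (M ⧸ M') ⊗[A] κ, act A Λ BW R (M ⧸ M') κ s w = 0 → w = 0) :
    ∀ w : M ⊗[A] κ, act A Λ BW R M κ s w = 0 → w = 0 := by
  intro w hw
  let i : ↥M' →ₗ[BW] M := M'.subtype.restrictScalars BW
  let p : M →ₗ[BW] M ⧸ M' := M'.mkQ.restrictScalars BW
  have hp : LinearMap.rTensor κ (p.restrictScalars A) w = 0 := by
    apply h2
    rw [← act_rTensor, hw, map_zero]
  have hex : Function.Exact (LinearMap.rTensor κ (i.restrictScalars A))
      (LinearMap.rTensor κ (p.restrictScalars A)) := by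
    refine rTensor_exact κ ?_ ?_
    · intro x
      exact LinearMap.exact_subtype_mkQ M' x
    · exact Submodule.mkQ_surjective M'
  obtain ⟨w', rfl⟩ := (hex w).mp hp
  obtain ⟨ρ, hρ⟩ := exists_retraction (A := A) hkill M'
  have hinj : Injective (LinearMap.rTensor κ (i.restrictScalars A)) := by
    have h3 : (LinearMap.rTensor κ ρ) ∘ₗ (LinearMap.rTensor κ (i.restrictScalars A)) =
        LinearMap.id := by
      rw [← LinearMap.rTensor_comp]
      have h4 : ρ ∘ₗ (i.restrictScalars A) = LinearMap.id := LinearMap.ext fun x => hρ x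
      rw [h4, LinearMap.rTensor_id]
    exact Function.LeftInverse.injective (fun x => LinearMap.congr_fun h3 x)
  have h5 : act A Λ BW R ↥M' κ s w' = 0 := by
    apply hinj
    rw [act_rTensor, hw, map_zero]
  rw [h1 w' h5, map_zero]

/-- **Multiplication by `s` is injective on `M ⊗[A] κ` for `M` of finite length over `B` killed
by the maximal ideal of `A`, if it is on `k(B) ⊗[A] κ`.** -/
theorem act_injective_of_isFiniteLength
    (h0 : ∀ w : (ResidueField B) ⊗[A] κ, act A Λ BW R (ResidueField B) κ s w = 0 → w = 0)
    {M : Type u} [AddCommGroup M] [Module B M] (hfl : IsFiniteLength B M) :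
    ∀ [Module BW M] [IsScalarTower BW B M] [Module A M] [IsScalarTower A B M]
      [IsScalarTower A BW M], (∀ a ∈ maximalIdeal A, ∀ m : M, a • m = 0) →
      ∀ w : M ⊗[A] κ, act A Λ BW R M κ s w = 0 → w = 0 := by
  induction hfl with
  | of_subsingleton =>
    intro _ _ _ _ _ _ w _
    clear * -
    induction w using TensorProduct.induction_on with
    | zero => rfl
    | tmul m x => rw [Subsingleton.elim m 0, TensorProduct.zero_tmul]
    | add x y hx hy => rw [hx, hy, add_zero]
  | @of_simple_quotient M _ _ N' hsimple _ ih =>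
    intro _ _ _ _ _ hkill
    refine act_injective_of_sub_quot κ s hkill N' ?_ ?_
    · exact ih (fun a ha m => Subtype.ext (hkill a ha m.1))
    · obtain ⟨I, hI, ⟨e⟩⟩ := isSimpleModule_iff_quot_maximal.mp hsimple
      have hIm : I = maximalIdeal B := IsLocalRing.eq_maximalIdeal hI
      subst hIm
      intro w hw
      let e' : (M ⧸ N') →ₗ[BW] ResidueField B := e.toLinearMap.restrictScalars BW
      have hinj : Injective (LinearMap.rTensor κ (e'.restrictScalars A)) :=
        (LinearEquiv.rTensor κ (e.restrictScalars A)).injective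
      apply hinj
      rw [map_zero]
      apply h0
      rw [← act_rTensor, hw, map_zero]

end Inj

end Groth.Agent.Helper21.FB
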