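import Mathlib
import Groth.Agent.Lib.Helper21.FA5
import Groth.Agent.Lib.Helper21.FB2

/-!
# Flatness over an Artinian local base via test families, one point per test ring:
the ring-level statement (helper21)
-/

set_option autoImplicit false
set_option linter.style.haveILetI false
set_option linter.unusedSectionVars false

universe u

open TensorProduct Function IsLocalRing

namespace Groth.Agent.Helper21.FB

open Groth.Agent.Helper21.FA

theorem isFiniteLength_quotient_smul_top {B : Type u} [CommRing B] [IsLocalRing B]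
    [IsNoetherianRing B] {N : Type u} [AddCommGroup N] [Module B N] [Module.Finite B N]
    (I : Ideal B) (i : ℕ) (hI : maximalIdeal B ^ i ≤ I) :
    IsFiniteLength B (N ⧸ (I • ⊤ : Submodule B N)) := by
  by_cases htop : I = ⊤
  · subst htop
    haveI : Subsingleton (N ⧸ ((⊤ : Ideal B) • ⊤ : Submodule B N)) := by
      rw [Submodule.top_smul]
      exact Submodule.Quotient.subsingleton_iff.mpr rfl
    exact IsFiniteLength.of_subsingleton
  haveI : Nontrivial (B ⧸ I) := Ideal.Quotient.nontrivial_iff.mpr htop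
  haveI : IsLocalRing (B ⧸ I) := .of_surjective' (Ideal.Quotient.mk I) Ideal.Quotient.mk_surjective
  have hmax : maximalIdeal (B ⧸ I) = (maximalIdeal B).map (Ideal.Quotient.mk I) :=
    (IsLocalRing.map_maximalIdeal_of_surjective (Ideal.Quotient.mk I)
      Ideal.Quotient.mk_surjective).symm
  haveI : IsArtinianRing (B ⧸ I) := by
    rw [isArtinianRing_iff_isNilpotent_maximalIdeal]
    refine ⟨i, ?_⟩
    rw [hmax, ← Ideal.map_pow, Ideal.zero_eq_bot, Ideal.map_eq_bot_iff_le_ker, Ideal.mk_ker]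
    exact hI
  haveI : Module.Finite (B ⧸ I) (N ⧸ (I • ⊤ : Submodule B N)) :=
    Module.Finite.of_restrictScalars_finite B _ _
  haveI : IsArtinian (B ⧸ I) (N ⧸ (I • ⊤ : Submodule B N)) := inferInstance
  haveI : IsArtinian B (N ⧸ (I • ⊤ : Submodule B N)) :=
    isArtinian_of_surjective_algebraMap (R := B ⧸ I) Ideal.Quotient.mk_surjective
  exact isFiniteLength_iff_isNoetherian_isArtinian.mpr ⟨inferInstance, inferInstance⟩

theorem mem_range_rTensor_subtype {A : Type u} [CommRing A] {B : Type u} [CommRing B]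
    [Algebra A B] {N : Type u} [AddCommGroup N] [Module B N] [Module A N] [IsScalarTower A B N]
    (X : Type u) [AddCommGroup X] [Module A X] (U : Submodule B N) (t : N ⊗[A] X)
    (ht : LinearMap.rTensor X (U.mkQ.restrictScalars A) t = 0) :
    ∃ t' : ↥U ⊗[A] X, LinearMap.rTensor X (U.subtype.restrictScalars A) t' = t := by
  have hex : Function.Exact
      (LinearMap.rTensor X (U.subtype.restrictScalars A))
      (LinearMap.rTensor X (U.mkQ.restrictScalars A)) := by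
    refine rTensor_exact X ?_ ?_
    · intro x
      exact LinearMap.exact_subtype_mkQ U x
    · exact Submodule.mkQ_surjective _
  exact (hex t).mp ht

/-- elements of `N ⊗ X` dying in `(N ⧸ I N) ⊗ X` lie in `I (N ⊗ X)`. -/
theorem mem_smul_top_of_rTensor_mkQ_eq_zero {A : Type u} [CommRing A] {B : Type u} [CommRing B]
    [Algebra A B] {N : Type u} [AddCommGroup N] [Module B N] [Module A N] [IsScalarTower A B N]
    (X : Type u) [AddCommGroup X] [Module A X] (I : Ideal B) (t : N ⊗[A] X)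
    (ht : LinearMap.rTensor X (((I • ⊤ : Submodule B N).mkQ).restrictScalars A) t = 0) :
    t ∈ (I • ⊤ : Submodule B (N ⊗[A] X)) := by
  obtain ⟨t', rfl⟩ := mem_range_rTensor_subtype X _ t ht
  clear ht
  induction t' using TensorProduct.induction_on with
  | zero => rw [map_zero]; exact zero_mem _
  | tmul x c =>
    rw [LinearMap.rTensor_tmul]
    obtain ⟨x, hx⟩ := x
    change x ⊗ₜ[A] c ∈ _
    refine Submodule.smul_induction_on hx (fun β hβ n _ => ?_) (fun x₁ x₂ h₁ h₂ => ?_)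
    · rw [← TensorProduct.smul_tmul']
      exact Submodule.smul_mem_smul hβ Submodule.mem_top
    · rw [TensorProduct.add_tmul]
      exact add_mem h₁ h₂
  | add x y hx hy => rw [map_add]; exact add_mem hx hy

section Key

variable {A : Type u} [CommRing A] [IsLocalRing A]
  {BW : Type u} [CommRing BW] [Algebra A BW]
  {B : Type u} [CommRing B] [IsLocalRing B] [IsNoetherianRing B] [Algebra BW B] [Algebra A B]
  [IsScalarTower A BW B]
  {N : Type u} [AddCommGroup N] [Module BW N] [Module B N] [IsScalarTower BW B N] [Module A N]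
  [IsScalarTower A BW N] [IsScalarTower A B N] [Module.Finite B N]
  {Λ : Type u} [CommRing Λ] [Algebra A Λ]
  {R : Type u} [CommRing R] [Algebra A R] [Algebra Λ R] [Algebra BW R] [IsScalarTower A Λ R]
  [IsScalarTower A BW R] [Algebra.IsPushout A Λ BW R]
  (κ : Type u) [AddCommGroup κ] [Module A κ] [Module Λ κ] [IsScalarTower A Λ κ]

theorem smul_tensor_residue_eq_zero (a : A) (ha : a ∈ maximalIdeal A)
    (t : N ⊗[A] (A ⧸ maximalIdeal A)) : a • t = 0 := by
  induction t using TensorProduct.induction_on with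
  | zero => rw [smul_zero]
  | tmul n c =>
    obtain ⟨c, rfl⟩ := Ideal.Quotient.mk_surjective c
    rw [← TensorProduct.tmul_smul]
    have h : a • (Ideal.Quotient.mk (maximalIdeal A) c) = 0 := by
      rw [Algebra.smul_def, Ideal.Quotient.algebraMap_eq, ← map_mul]
      exact Ideal.Quotient.eq_zero_iff_mem.mpr (Ideal.mul_mem_right _ _ ha)
    rw [h, TensorProduct.tmul_zero]
  | add x y hx hy => rw [smul_add, hx, hy, add_zero]

set_option maxHeartbeats 1600000 in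
/-- **The key lemma.** -/
theorem lTensor_eq_zero_of_act_eq_zero (s : R)
    (h0 : ∀ w : (ResidueField B) ⊗[A] κ, act A Λ BW R (ResidueField B) κ s w = 0 → w = 0)
    (y : N ⊗[A] κ) (hy : act A Λ BW R N κ s y = 0) (μ : κ →ₗ[A] (A ⧸ maximalIdeal A)) :
    TensorProduct.AlgebraTensorModule.lTensor B N μ y = 0 := by
  haveI : Module.Finite B (N ⊗[A] (A ⧸ maximalIdeal A)) := finite_tensor_quotient _
  have hkrull := Ideal.iInf_pow_smul_eq_bot_of_isLocalRing (R := B)
    (M := N ⊗[A] (A ⧸ maximalIdeal A)) (maximalIdeal B) Ideal.IsPrime.ne_top'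
  rw [← Submodule.mem_bot B, ← hkrull, Submodule.mem_iInf]
  intro i
  obtain ⟨I, hI⟩ : ∃ I : Ideal B,
    I = maximalIdeal B ^ i ⊔ (maximalIdeal A).map (algebraMap A B) := ⟨_, rfl⟩
  have hfl : IsFiniteLength B (N ⧸ (I • ⊤ : Submodule B N)) :=
    isFiniteLength_quotient_smul_top I i (hI ▸ le_sup_left)
  have hkill : ∀ a ∈ maximalIdeal A, ∀ m : N ⧸ (I • ⊤ : Submodule B N), a • m = 0 := by
    intro a ha m
    obtain ⟨n, rfl⟩ := Submodule.Quotient.mk_surjective _ m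
    rw [← Submodule.Quotient.mk_smul, Submodule.Quotient.mk_eq_zero,
      ← IsScalarTower.algebraMap_smul B a n]
    refine Submodule.smul_mem_smul ?_ Submodule.mem_top
    rw [hI]
    exact Ideal.mem_sup_right (Ideal.mem_map_of_mem _ ha)
  have hinj := act_injective_of_isFiniteLength (A := A) (BW := BW) (Λ := Λ) (R := R) κ s h0 hfl hkill
  obtain ⟨p, hp⟩ : ∃ p : N →ₗ[BW] N ⧸ (I • ⊤ : Submodule B N),
    p = ((I • ⊤ : Submodule B N).mkQ).restrictScalars BW := ⟨_, rfl⟩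
  have h1 : LinearMap.rTensor κ (p.restrictScalars A) y = 0 := by
    apply hinj
    rw [← act_rTensor, hy, map_zero]
  have h2 : LinearMap.rTensor (A ⧸ maximalIdeal A) (p.restrictScalars A)
      (LinearMap.lTensor N μ y) = 0 := by
    rw [← LinearMap.comp_apply, LinearMap.rTensor_comp_lTensor, ← LinearMap.lTensor_comp_rTensor,
      LinearMap.comp_apply, h1, map_zero]
  subst hp
  have h3 := mem_smul_top_of_rTensor_mkQ_eq_zero (A := A) (B := B) (N := N)
    (A ⧸ maximalIdeal A) I (LinearMap.lTensor N μ y) h2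
  rw [hI, Submodule.sup_smul] at h3
  have h4 : ((maximalIdeal A).map (algebraMap A B) • ⊤ :
      Submodule B (N ⊗[A] (A ⧸ maximalIdeal A))) = ⊥ := by
    rw [eq_bot_iff, Submodule.smul_le]
    intro β hβ t _
    rw [Submodule.mem_bot]
    have h5 : ∀ β ∈ (maximalIdeal A).map (algebraMap A B),
        ∀ t : N ⊗[A] (A ⧸ maximalIdeal A), β • t = 0 := by
      intro β hβ
      refine Submodule.span_induction
        (p := fun β _ => ∀ t : N ⊗[A] (A ⧸ maximalIdeal A), β • t = 0) ?_ ?_ ?_ ?_ hβ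
      · rintro _ ⟨a, ha, rfl⟩ t
        rw [IsScalarTower.algebraMap_smul]
        exact smul_tensor_residue_eq_zero a ha t
      · intro t; rw [zero_smul]
      · intro x y _ _ hx hy t; rw [add_smul, hx, hy, add_zero]
      · intro c x _ hx t; rw [smul_eq_mul, mul_smul, hx, smul_zero]
    exact h5 β hβ t
  rw [h4, sup_bot_eq] at h3
  exact h3

end Key

section Tau

variable {A : Type u} [CommRing A]
  {BW : Type u} [CommRing BW] [Algebra A BW] (𝔮 : Ideal BW) [𝔮.IsPrime]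
  {B : Type u} [CommRing B] [IsLocalRing B] [Algebra BW B] [IsLocalization.AtPrime B 𝔮]
  [Algebra A B] [IsScalarTower A BW B]
  {Λ : Type u} [CommRing Λ] [Algebra A Λ] (𝔪 : Ideal Λ)
  {R : Type u} [CommRing R] [Algebra A R] [Algebra Λ R] [Algebra BW R] [IsScalarTower A Λ R]
  [IsScalarTower A BW R] [Algebra.IsPushout A Λ BW R]
  (P₀ : Ideal R) [P₀.IsPrime]

set_option maxHeartbeats 1600000 in
/-- elements outside a prime over `(𝔮, 𝔪)` are not nilpotent in `k(𝔮) ⊗[A] Λ ⧸ 𝔪`. -/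
theorem not_isNilpotent_rhoBar (h1 : P₀.comap (algebraMap BW R) = 𝔮)
    (h2 : P₀.comap (algebraMap Λ R) = 𝔪) (s : R) (hs : s ∉ P₀) :
    ¬ IsNilpotent (rhoBar A Λ BW R (ResidueField B) (Λ ⧸ 𝔪) s) := by
  obtain ⟨ω, hωdef⟩ : ∃ ω : R →+* P₀.ResidueField, ω = algebraMap R P₀.ResidueField := ⟨_, rfl⟩
  have hω : ∀ r, ω r = 0 ↔ r ∈ P₀ := fun r => by
    rw [hωdef, ← RingHom.mem_ker, Ideal.ker_algebraMap_residueField]
  have hωA : ∀ a : A, ω (algebraMap A R a) = algebraMap A P₀.ResidueField a := fun a => by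
    rw [hωdef, ← IsScalarTower.algebraMap_apply]
  have hunit : ∀ y : 𝔮.primeCompl, IsUnit ((ω.comp (algebraMap BW R)) y) := fun y => by
    rw [isUnit_iff_ne_zero]
    intro h0
    have h3 : (y : BW) ∈ P₀.comap (algebraMap BW R) := (hω _).mp h0
    exact y.2 ((SetLike.ext_iff.mp h1 (y : BW)).mp h3)
  obtain ⟨g₀, hg₀def⟩ : ∃ g₀ : B →+* P₀.ResidueField, g₀ = IsLocalization.lift hunit := ⟨_, rfl⟩
  have hg₀ : ∀ x, g₀ (algebraMap BW B x) = ω (algebraMap BW R x) := fun x => by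
    rw [hg₀def, IsLocalization.lift_eq]
    rfl
  have hker : ∀ b ∈ maximalIdeal B, g₀ b = 0 := by
    intro b hb
    obtain ⟨⟨x, t⟩, rfl⟩ := IsLocalization.mk'_surjective 𝔮.primeCompl b
    have hx : x ∈ 𝔮 := (IsLocalization.AtPrime.mk'_mem_maximal_iff B 𝔮 x t).mp hb
    have hx0 : (ω.comp (algebraMap BW R)) x = 0 := by
      rw [RingHom.comp_apply, hω]
      exact (SetLike.ext_iff.mp h1 x).mpr hx
    rw [hg₀def, IsLocalization.lift_mk', hx0, zero_mul]
  let f₁ : ResidueField B →+* P₀.ResidueField := Ideal.Quotient.lift (maximalIdeal B) g₀ hker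
  have hf₁ : ∀ b : B, f₁ (algebraMap B (ResidueField B) b) = g₀ b := fun b =>
    Ideal.Quotient.lift_mk _ _ _
  let f : ResidueField B →ₐ[A] P₀.ResidueField :=
    { f₁ with
      commutes' := fun a => by
        change f₁ (algebraMap A (ResidueField B) a) = _
        rw [IsScalarTower.algebraMap_apply A B (ResidueField B), hf₁,
          IsScalarTower.algebraMap_apply A BW B, hg₀, ← IsScalarTower.algebraMap_apply A BW R,
          hωA] }
  have hker2 : ∀ l ∈ 𝔪, (ω.comp (algebraMap Λ R)) l = 0 := by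
    intro l hl
    rw [RingHom.comp_apply, hω]
    exact (SetLike.ext_iff.mp h2 l).mpr hl
  let g₁ : (Λ ⧸ 𝔪) →+* P₀.ResidueField := Ideal.Quotient.lift 𝔪 (ω.comp (algebraMap Λ R)) hker2
  have hg₁ : ∀ l : Λ, g₁ (algebraMap Λ (Λ ⧸ 𝔪) l) = ω (algebraMap Λ R l) := fun l =>
    Ideal.Quotient.lift_mk _ _ _
  let g : (Λ ⧸ 𝔪) →ₐ[A] P₀.ResidueField :=
    { g₁ with
      commutes' := fun a => by
        change g₁ (algebraMap A (Λ ⧸ 𝔪) a) = _
        rw [IsScalarTower.algebraMap_apply A Λ (Λ ⧸ 𝔪), hg₁,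
          ← IsScalarTower.algebraMap_apply A Λ R, hωA] }
  obtain ⟨τ, hτdef⟩ : ∃ τ : (ResidueField B) ⊗[A] (Λ ⧸ 𝔪) →ₐ[A] P₀.ResidueField,
    τ = Algebra.TensorProduct.productMap f g := ⟨_, rfl⟩
  have hτ : ∀ s : R, τ (rhoBar A Λ BW R (ResidueField B) (Λ ⧸ 𝔪) s) = ω s := by
    intro s
    induction s using pushout_induction A Λ BW R with
    | zero => rw [map_zero, map_zero, map_zero]
    | left b =>
      rw [rhoBar_algebraMap_B, hτdef, Algebra.TensorProduct.productMap_apply_tmul, map_one,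
        mul_one]
      change f₁ (algebraMap BW (ResidueField B) b) = _
      rw [IsScalarTower.algebraMap_apply BW B (ResidueField B), hf₁, hg₀]
    | smul l n hn =>
      rw [map_mul, map_mul, hn, map_mul, rhoBar_algebraMap_Λ, hτdef,
        Algebra.TensorProduct.productMap_apply_tmul, map_one, one_mul]
      congr 1
    | add n₁ n₂ h₁ h₂ => rw [map_add, map_add, h₁, h₂, map_add]
  rintro ⟨n, hn⟩
  have h3 : ω s ^ n = 0 := by rw [← hτ, ← map_pow, hn, map_zero]
  exact hs ((hω s).mp (eq_zero_of_pow_eq_zero h3))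

end Tau

section Main

variable {A : Type u} [CommRing A] [IsLocalRing A]
  {BW : Type u} [CommRing BW] [Algebra A BW] (𝔮 : Ideal BW) [𝔮.IsPrime]
  {MW : Type u} [AddCommGroup MW] [Module BW MW] [Module A MW] [IsScalarTower A BW MW]
  {B : Type u} [CommRing B] [IsLocalRing B] [Algebra BW B] [IsLocalization.AtPrime B 𝔮]
  [Algebra A B] [IsScalarTower A BW B] [IsNoetherianRing B]
  {N : Type u} [AddCommGroup N] [Module BW N] [Module B N] [IsScalarTower BW B N] [Module A N]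
  [IsScalarTower A BW N] [IsScalarTower A B N] [Module.Finite B N]
  (f₀ : MW →ₗ[BW] N) [IsLocalizedModule 𝔮.primeCompl f₀]
  {ι : Type u} (g : (ι →₀ A) →ₗ[A] N) (hg : Surjective g)
  (hcoord : ∀ k ∈ LinearMap.ker g, ∀ i, k i ∈ maximalIdeal A)
  {Λ : Type u} [CommRing Λ] [Algebra A Λ] (𝔪 : Ideal Λ) [𝔪.IsMaximal]
  {R : Type u} [CommRing R] [Algebra A R] [Algebra Λ R] [Algebra BW R] [IsScalarTower A Λ R]
  [IsScalarTower A BW R] [Algebra.IsPushout A Λ BW R]
  {L : Type u} [AddCommGroup L] [Module R L] [Module Λ L] [IsScalarTower Λ R L] [Module BW L]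
  [IsScalarTower BW R L]
  (j : MW →ₗ[BW] L) (hj : IsBaseChange R j)

include f₀ hg hcoord hj in
set_option maxHeartbeats 1600000 in
/-- the key step, with flatness at one point only. -/
theorem relation_mem_smul_top_one (hnil : IsNilpotent (maximalIdeal A))
    (P₀ : Ideal R) [P₀.IsPrime] (h1 : P₀.comap (algebraMap BW R) = 𝔮)
    (h2 : P₀.comap (algebraMap Λ R) = 𝔪)
    (hfl : Module.Flat Λ (LocalizedModule P₀.primeCompl L))
    (hZ : ∀ c : (ResidueField B) ⊗[A] (Λ ⧸ 𝔪), ¬ IsNilpotent c →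
      c ∈ nonZeroDivisors ((ResidueField B) ⊗[A] (Λ ⧸ 𝔪)))
    (𝔟 : Ideal Λ) (r : ι →₀ A) (hr : r ∈ LinearMap.ker g)
    (hb : ∀ α, algebraMap A Λ (r α) ∈ 𝔟) (β : ι) :
    (⟨algebraMap A Λ (r β), hb β⟩ : ↥𝔟) ∈ 𝔪 • (⊤ : Submodule Λ ↥𝔟) := by
  classical
  have hu : ∀ a ∈ maximalIdeal A, algebraMap A Λ a ∈ 𝔪 := by
    intro a ha
    obtain ⟨n, hn⟩ := hnil
    have h1 : a ^ n ∈ (maximalIdeal A) ^ n := Ideal.pow_mem_pow ha n
    rw [hn] at h1
    have h2 : a ^ n = 0 := h1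
    have h3 : (algebraMap A Λ a) ^ n = 0 := by rw [← map_pow, h2, map_zero]
    exact (Ideal.IsMaximal.isPrime ‹_›).mem_of_pow_mem n (h3 ▸ zero_mem _)
  have hκA : ∀ a ∈ maximalIdeal A, ∀ v : Λ ⧸ 𝔪, a • v = 0 := by
    intro a ha v
    rw [← IsScalarTower.algebraMap_smul Λ a v, Algebra.smul_def,
      Ideal.Quotient.algebraMap_eq, Ideal.Quotient.eq_zero_iff_mem.mpr (hu a ha), zero_mul]
  by_cases hβ : β ∈ r.support
  swap
  · have h0 : r β = 0 := Finsupp.notMem_support_iff.mp hβ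
    have h1 : (⟨algebraMap A Λ (r β), hb β⟩ : ↥𝔟) = 0 := by
      apply Subtype.ext
      change algebraMap A Λ (r β) = 0
      rw [h0, map_zero]
    rw [h1]
    exact zero_mem _
  -- the relation
  have hsum : ∑ α ∈ r.support, r α • g (Finsupp.single α 1) = 0 := by
    have h1 : g r = 0 := LinearMap.mem_ker.mp hr
    rw [← Finsupp.sum_single r, Finsupp.sum, map_sum] at h1
    rw [← h1]
    refine Finset.sum_congr rfl fun α _ => ?_
    rw [← map_smul, Finsupp.smul_single, smul_eq_mul, mul_one]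
  obtain ⟨σ, hσ, m, hm1, hm2⟩ := exists_clear 𝔮.primeCompl f₀ r.support
    (fun α => g (Finsupp.single α 1)) r hsum
  obtain ⟨ζ, hζdef⟩ : ∃ ζ : L ⊗[Λ] ↥𝔟,
    ζ = ∑ α ∈ r.support, j (m α) ⊗ₜ[Λ] (⟨algebraMap A Λ (r α), hb α⟩ : ↥𝔟) := ⟨_, rfl⟩
  have hcompat : ∀ (a : A) (x : MW), algebraMap A Λ a • j x = j (a • x) := by
    intro a x
    rw [← IsScalarTower.algebraMap_smul R (algebraMap A Λ a) (j x),
      ← IsScalarTower.algebraMap_apply A Λ R, IsScalarTower.algebraMap_apply A BW R,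
      IsScalarTower.algebraMap_smul, ← map_smul, IsScalarTower.algebraMap_smul]
  have hζ : mulR 𝔟 L ζ = 0 := by
    rw [hζdef, map_sum]
    have : ∀ α ∈ r.support, mulR 𝔟 L (j (m α) ⊗ₜ[Λ] (⟨algebraMap A Λ (r α), hb α⟩ : ↥𝔟)) =
        j (r α • m α) := fun α _ => by rw [mulR_tmul]; exact hcompat _ _
    rw [Finset.sum_congr rfl this, ← map_sum, hm2, map_zero]
  -- flatness at the one point
  obtain ⟨s₀, hs₀, hs₀ζ⟩ := exists_smul_eq_zero_of_flat 𝔟 P₀ hfl ζ hζ
  have h0 : ∀ w : (ResidueField B) ⊗[A] (Λ ⧸ 𝔪),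
      act A Λ BW R (ResidueField B) (Λ ⧸ 𝔪) s₀ w = 0 → w = 0 := by
    intro w hw
    have hw' : rhoBar A Λ BW R (ResidueField B) (Λ ⧸ 𝔪) s₀ * w = 0 :=
      (act_eq_mul A Λ BW R (ResidueField B) (Λ ⧸ 𝔪) s₀ w).symm.trans hw
    have h3 := hZ _ (not_isNilpotent_rhoBar 𝔮 𝔪 P₀ h1 h2 s₀ hs₀)
    exact (mem_nonZeroDivisors_iff_left.mp h3) w hw'
  -- reduce to functionals
  letI : Field (Λ ⧸ 𝔪) := Ideal.Quotient.field 𝔪
  refine (Submodule.Quotient.mk_eq_zero _).mp ?_
  rw [← Module.forall_dual_apply_eq_zero_iff (Λ ⧸ 𝔪)]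
  intro φ
  obtain ⟨π, hπ⟩ : ∃ π : ↥𝔟 →ₗ[Λ] (Λ ⧸ 𝔪),
    π = (φ.restrictScalars Λ) ∘ₗ (Submodule.mkQ (𝔪 • (⊤ : Submodule Λ ↥𝔟))) := ⟨_, rfl⟩
  have hgoal : φ (Submodule.Quotient.mk (⟨algebraMap A Λ (r β), hb β⟩ : ↥𝔟)) =
      π ⟨algebraMap A Λ (r β), hb β⟩ := by rw [hπ]; rfl
  rw [hgoal]
  -- evaluate
  letI := pushMod A Λ BW R N (Λ ⧸ 𝔪)
  obtain ⟨ev, hev⟩ := exists_ev A Λ BW R f₀ π j hj
  have hy0 : act A Λ BW R N (Λ ⧸ 𝔪) s₀ (ev ζ) = 0 := by
    have h3 : s₀ • ev ζ = 0 := by rw [← map_smul, hs₀ζ, map_zero]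
    exact h3
  have hyform : ev ζ = ∑ α ∈ r.support, (σ • g (Finsupp.single α 1)) ⊗ₜ[A]
      π (⟨algebraMap A Λ (r α), hb α⟩ : ↥𝔟) := by
    rw [hζdef, map_sum]
    refine Finset.sum_congr rfl fun α hα => ?_
    rw [hev, hm1 α hα]
  refine eq_zero_of_forall_dual hκA _ fun μ => ?_
  have h3 := lTensor_eq_zero_of_act_eq_zero (B := B) (Λ ⧸ 𝔪) s₀ h0 (ev ζ) hy0 μ
  rw [hyform, map_sum] at h3
  have h4 : ∀ α ∈ r.support, TensorProduct.AlgebraTensorModule.lTensor B N μ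
      ((σ • g (Finsupp.single α 1)) ⊗ₜ[A] π (⟨algebraMap A Λ (r α), hb α⟩ : ↥𝔟)) =
      (σ • g (Finsupp.single α 1)) ⊗ₜ[A] μ (π (⟨algebraMap A Λ (r α), hb α⟩ : ↥𝔟)) :=
    fun α _ => rfl
  rw [Finset.sum_congr rfl h4] at h3
  exact coords_eq_zero 𝔮 (B := B) g hg hcoord σ hσ r.support
    (fun α => μ (π (⟨algebraMap A Λ (r α), hb α⟩ : ↥𝔟))) h3 β hβ

include f₀ hg hcoord hj in
/-- **Ring-level statement, flatness at one point only.** -/
theorem map_coordIdeal_le_smul_one (hnil : IsNilpotent (maximalIdeal A))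
    (P₀ : Ideal R) [P₀.IsPrime] (h1 : P₀.comap (algebraMap BW R) = 𝔮)
    (h2 : P₀.comap (algebraMap Λ R) = 𝔪)
    (hfl : Module.Flat Λ (LocalizedModule P₀.primeCompl L))
    (hZ : ∀ c : (ResidueField B) ⊗[A] (Λ ⧸ 𝔪), ¬ IsNilpotent c →
      c ∈ nonZeroDivisors ((ResidueField B) ⊗[A] (Λ ⧸ 𝔪))) :
    (FI.coordIdeal g).map (algebraMap A Λ) ≤ 𝔪 • (FI.coordIdeal g).map (algebraMap A Λ) := by
  obtain ⟨𝔟, h𝔟⟩ : ∃ 𝔟 : Ideal Λ, 𝔟 = (FI.coordIdeal g).map (algebraMap A Λ) := ⟨_, rfl⟩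
  rw [← h𝔟]
  have hgen : 𝔟 = Ideal.span (algebraMap A Λ '' {a | ∃ k ∈ LinearMap.ker g, ∃ i, k i = a}) := by
    rw [h𝔟, FI.coordIdeal, Ideal.map_span]
  have hmem : ∀ r ∈ LinearMap.ker g, ∀ α, algebraMap A Λ (r α) ∈ 𝔟 := by
    intro r hr α
    rw [hgen]
    exact Ideal.subset_span ⟨_, ⟨r, hr, α, rfl⟩, rfl⟩
  nth_rw 1 [hgen]
  rw [Ideal.span_le]
  rintro _ ⟨_, ⟨r, hr, β, rfl⟩, rfl⟩
  have h3 := relation_mem_smul_top_one 𝔮 (B := B) f₀ g hg hcoord 𝔪 j hj hnil P₀ h1 h2 hfl hZ 𝔟 r hr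
    (hmem r hr) β
  have h4 := Submodule.mem_map_of_mem (f := (𝔟 : Submodule Λ Λ).subtype) h3
  rw [Submodule.map_smul'', Submodule.map_top, Submodule.range_subtype] at h4
  exact h4

end Main

end Groth.Agent.Helper21.FB
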