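import Mathlib
import Groth.Agent.Lib.Helper21.FB1

/-!
# Primary residue field extensions and zero divisors in `K ⊗[A] κ` (helper21)
-/

set_option autoImplicit false
set_option linter.style.haveILetI false
set_option linter.unusedSectionVars false

universe u

open TensorProduct Function IsLocalRing

namespace Groth.Agent.Helper21.FB

/-- transport of "separably closed in" along an isomorphism. -/
theorem primary_of_ringEquiv {k K K' : Type u} [Field k] [Field K] [Field K'] [Algebra k K]
    [Algebra k K'] (e : K ≃+* K') (he : ∀ a, e (algebraMap k K a) = algebraMap k K' a)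
    (hK' : ∀ α : K', IsSeparable k α → α ∈ Set.range (algebraMap k K')) :
    ∀ α : K, IsSeparable k α → α ∈ Set.range (algebraMap k K) := by
  intro α hα
  let e' : K ≃ₐ[k] K' := AlgEquiv.ofRingEquiv (f := e) he
  have h1 : IsSeparable k (e' α) := by
    rw [IsSeparable, minpoly.algEquiv_eq]
    exact hα
  obtain ⟨b, hb⟩ := hK' _ h1
  refine ⟨b, e.injective ?_⟩
  rw [he]
  exact hb

/-- **Zero divisors of `K ⊗[A] κ` are nilpotent**, when `A` is local with nilpotent maximal
ideal, `K` is primary over a residue field `k` of `A` and `κ` is any field over `A`. -/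
theorem tensor_mem_nonZeroDivisors_of_primary {A k K κ : Type u} [CommRing A] [IsLocalRing A]
    [Field k] [Field K] [Field κ] [Algebra A k] [Algebra A K] [Algebra A κ] [Algebra k K]
    [IsScalarTower A k K] (hnil : IsNilpotent (maximalIdeal A))
    (hsurj : Surjective (algebraMap A k))
    (hK : ∀ α : K, IsSeparable k α → α ∈ Set.range (algebraMap k K))
    (c : K ⊗[A] κ) (hc : ¬ IsNilpotent c) : c ∈ nonZeroDivisors (K ⊗[A] κ) := by
  have hker : RingHom.ker (algebraMap A k) ≤ RingHom.ker (algebraMap A κ) := by
    intro a ha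
    have h1 : a ∈ maximalIdeal A := by
      rw [mem_maximalIdeal, mem_nonunits_iff]
      intro hu
      have h2 := hu.map (algebraMap A k)
      rw [RingHom.mem_ker.mp ha] at h2
      exact not_isUnit_zero h2
    obtain ⟨n, hn⟩ := hnil
    have h2 : a ^ n ∈ maximalIdeal A ^ n := Ideal.pow_mem_pow h1 n
    rw [hn] at h2
    have h3 : (algebraMap A κ a) ^ n = 0 := by rw [← map_pow, (h2 : a ^ n = 0), map_zero]
    exact RingHom.mem_ker.mpr (eq_zero_of_pow_eq_zero h3)
  let φ : k →+* κ := RingHom.liftOfSurjective (algebraMap A k) hsurj ⟨algebraMap A κ, hker⟩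
  letI : Algebra k κ := φ.toAlgebra
  haveI : IsScalarTower A k κ := IsScalarTower.of_algebraMap_eq fun a =>
    (RingHom.liftOfSurjective_comp_apply (algebraMap A k) hsurj ⟨algebraMap A κ, hker⟩ a).symm
  exact tensor_mem_nonZeroDivisors_of_not_isNilpotent' hsurj hK c hc

end Groth.Agent.Helper21.FB
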