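import Mathlib
import Groth.Agent.Lib.Helper21.FB4
import Groth.Agent.Lib.Helper21.Sep7

/-!
# Residue fields at a point of a scheme over an Artinian local ring (helper21)
-/

set_option autoImplicit false
set_option linter.style.haveILetI false
set_option linter.unusedSectionVars false
set_option maxRecDepth 8000

universe u

open CategoryTheory AlgebraicGeometry Limits Opposite TopologicalSpace TensorProduct Function
open IsLocalRing

namespace Groth.Agent.Helper21.FB

open Groth.Agent.Helper21.Sep

/-- the residue field of a point of the spectrum of an Artinian ring is a quotient of the ring. -/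
theorem surjective_to_residueField {A : Type u} [CommRing A] [IsArtinianRing A]
    (p : Spec (CommRingCat.of A)) :
    Surjective ((Scheme.ΓSpecIso (CommRingCat.of A)).inv ≫
      (Spec (CommRingCat.of A)).Γevaluation p).hom := by
  haveI : p.asIdeal.IsMaximal := IsArtinianRing.isMaximal_of_isPrime p.asIdeal
  have h := Scheme.Spec.algebraMap_residueFieldIso_inv (CommRingCat.of A) p
  have h2 : ((Scheme.ΓSpecIso (CommRingCat.of A)).inv ≫
      (Spec (CommRingCat.of A)).Γevaluation p) =
      CommRingCat.ofHom (algebraMap A p.asIdeal.ResidueField) ≫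
        (Scheme.Spec.residueFieldIso (CommRingCat.of A) p).inv := h.symm
  rw [h2, CommRingCat.hom_comp]
  have h3 : Surjective (Scheme.Spec.residueFieldIso (CommRingCat.of A) p).inv.hom :=
    ((ConcreteCategory.isIso_iff_bijective
      (Scheme.Spec.residueFieldIso (CommRingCat.of A) p).inv).mp inferInstance).2
  exact h3.comp (Ideal.algebraMap_residueField_surjective p.asIdeal)

/-- the residue field of the localization of the sections over an affine neighbourhood is the
residue field of the point. -/
theorem exists_residueField_equiv {X : Scheme.{u}} (x : X) {W : X.Opens} (hW : IsAffineOpen W)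
    (hxW : x ∈ W) (𝔮 : Ideal Γ(X, W)) [𝔮.IsPrime]
    (h𝔮 : 𝔮 = (hW.primeIdealOf ⟨x, hxW⟩).asIdeal) :
    ∃ e : ResidueField (Localization.AtPrime 𝔮) ≃+* ↑(X.residueField x),
      ∀ b : Γ(X, W), e (algebraMap Γ(X, W) (ResidueField (Localization.AtPrime 𝔮)) b) =
        (X.evaluation W x hxW).hom b := by
  subst h𝔮
  letI : Algebra Γ(X, W) (X.presheaf.stalk x) :=
    TopCat.Presheaf.algebra_section_stalk X.presheaf ⟨x, hxW⟩
  haveI : IsLocalization.AtPrime (X.presheaf.stalk x) (hW.primeIdealOf ⟨x, hxW⟩).asIdeal :=
    hW.isLocalization_stalk ⟨x, hxW⟩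
  let ε : Localization.AtPrime (hW.primeIdealOf ⟨x, hxW⟩).asIdeal ≃ₐ[Γ(X, W)]
      X.presheaf.stalk x :=
    IsLocalization.algEquiv (hW.primeIdealOf ⟨x, hxW⟩).asIdeal.primeCompl _ _
  refine ⟨IsLocalRing.ResidueField.mapEquiv ε.toRingEquiv, fun b => ?_⟩
  rw [IsScalarTower.algebraMap_apply Γ(X, W)
    (Localization.AtPrime (hW.primeIdealOf ⟨x, hxW⟩).asIdeal)
    (ResidueField (Localization.AtPrime (hW.primeIdealOf ⟨x, hxW⟩).asIdeal))]
  change IsLocalRing.residue _ (ε (algebraMap _ _ b)) = _
  rw [ε.commutes]
  rfl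

set_option maxHeartbeats 1600000 in
/-- **Zero divisors are nilpotent in `k(x) ⊗[A] κ` for a point `x` with primary residue field
extension.** -/
theorem hZ_of_hprim {A : Type u} [CommRing A] [IsArtinianRing A] [IsLocalRing A]
    {X : Scheme.{u}} (f : X ⟶ Spec (CommRingCat.of A)) (x : X)
    (hprim : letI := (f.residueFieldMap x).hom.toAlgebra
      ∀ a : ↑(X.residueField x), IsSeparable ↑((Spec (CommRingCat.of A)).residueField (f x)) a →
        a ∈ (f.residueFieldMap x).hom.range)
    {W : X.Opens} (hW : IsAffineOpen W) (hxW : x ∈ W) (𝔮 : Ideal Γ(X, W)) [𝔮.IsPrime]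
    (h𝔮 : 𝔮 = (hW.primeIdealOf ⟨x, hxW⟩).asIdeal) (κ : Type u) [Field κ] [Algebra A κ] :
    letI := algA (A := CommRingCat.of A) f W
    ∀ c : (ResidueField (Localization.AtPrime 𝔮)) ⊗[A] κ, ¬ IsNilpotent c →
      c ∈ nonZeroDivisors ((ResidueField (Localization.AtPrime 𝔮)) ⊗[A] κ) := by
  letI algAB := algA (A := CommRingCat.of A) f W
  intro c hc
  obtain ⟨e, he⟩ := exists_residueField_equiv x hW hxW 𝔮 h𝔮
  letI algAk : Algebra A ↑((Spec (CommRingCat.of A)).residueField (f x)) :=
    ((Scheme.ΓSpecIso (CommRingCat.of A)).inv ≫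
      (Spec (CommRingCat.of A)).Γevaluation (f x)).hom.toAlgebra
  have hsurj : Surjective (algebraMap A ↑((Spec (CommRingCat.of A)).residueField (f x))) :=
    surjective_to_residueField (f x)
  letI algkK' : Algebra ↑((Spec (CommRingCat.of A)).residueField (f x)) ↑(X.residueField x) :=
    (f.residueFieldMap x).hom.toAlgebra
  letI algkK : Algebra ↑((Spec (CommRingCat.of A)).residueField (f x))
      (ResidueField (Localization.AtPrime 𝔮)) :=
    ((e.symm : ↑(X.residueField x) →+* ResidueField (Localization.AtPrime 𝔮)).comp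
      (f.residueFieldMap x).hom).toAlgebra
  have he2 : ∀ a, e (algebraMap ↑((Spec (CommRingCat.of A)).residueField (f x))
      (ResidueField (Localization.AtPrime 𝔮)) a) =
      algebraMap ↑((Spec (CommRingCat.of A)).residueField (f x)) ↑(X.residueField x) a :=
    fun a => e.apply_symm_apply _
  haveI tower : IsScalarTower A ↑((Spec (CommRingCat.of A)).residueField (f x))
      (ResidueField (Localization.AtPrime 𝔮)) := by
    refine IsScalarTower.of_algebraMap_eq fun a => ?_
    apply e.injective
    rw [he2, IsScalarTower.algebraMap_apply A Γ(X, W) (ResidueField (Localization.AtPrime 𝔮)), he]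
    change (X.evaluation W x hxW).hom ((f.appLE ⊤ W le_top).hom
        ((Scheme.ΓSpecIso (CommRingCat.of A)).inv.hom a)) =
      (f.residueFieldMap x).hom (((Spec (CommRingCat.of A)).Γevaluation (f x)).hom
        ((Scheme.ΓSpecIso (CommRingCat.of A)).inv.hom a))
    generalize (Scheme.ΓSpecIso (CommRingCat.of A)).inv.hom a = s
    have h1 := Scheme.evaluation_naturality_apply f (V := ⊤) x trivial s
    refine Eq.trans ?_ h1.symm
    simp only [Scheme.evaluation, Scheme.Hom.appLE, CommRingCat.comp_apply,
      TopCat.Presheaf.germ_res_apply]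
  have hK : ∀ α : ResidueField (Localization.AtPrime 𝔮),
      IsSeparable ↑((Spec (CommRingCat.of A)).residueField (f x)) α →
      α ∈ Set.range (algebraMap ↑((Spec (CommRingCat.of A)).residueField (f x))
        (ResidueField (Localization.AtPrime 𝔮))) := by
    refine primary_of_ringEquiv e he2 ?_
    intro α hα
    obtain ⟨b, hb⟩ := RingHom.mem_range.mp (hprim α hα)
    exact ⟨b, hb⟩
  have hnil : IsNilpotent (maximalIdeal A) := by
    rw [← IsLocalRing.jacobson_eq_maximalIdeal ⊥ bot_ne_top]
    exact IsArtinianRing.isNilpotent_jacobson_bot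
  exact tensor_mem_nonZeroDivisors_of_primary hnil hsurj hK c hc

end Groth.Agent.Helper21.FB
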