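import Mathlib
import Groth.Agent.Lib.Helper21.FA7
import Groth.Agent.Lib.Helper21.FB3
import Groth.Agent.Lib.Helper21.FB5

/-!
# Flatness over an Artinian local base via test families, one point per test ring:
scheme-level statement (helper21)
-/

set_option autoImplicit false
set_option linter.style.haveILetI false
set_option linter.unusedSectionVars false
set_option maxRecDepth 8000

universe u

open CategoryTheory AlgebraicGeometry Limits Opposite TopologicalSpace TensorProduct Function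
open IsLocalRing

namespace Groth.Agent.Helper21.FB

open Groth.Agent.Helper13.Pullback Groth.Agent.Helper21.Sep Groth.Agent.Helper21.FA

section TestStep

variable {A : Type u} [CommRing A] [IsLocalRing A]
  {X Y P : Scheme.{u}} (p1 : P ⟶ X) (p2 : P ⟶ Y) (F : X.Modules) [F.IsQuasicoherent]
  {W : X.Opens} (hW : IsAffineOpen W) {V : Y.Opens} (hV : IsAffineOpen V) {U' : P.Opens}
  (hU' : IsAffineOpen U') (e1 : U' ≤ p1 ⁻¹ᵁ W) (e2 : U' ≤ p2 ⁻¹ᵁ V)
  [Algebra A Γ(X, W)] [Module A Γ(F, W)] [IsScalarTower A Γ(X, W) Γ(F, W)] [Algebra A Γ(Y, V)]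

include hU' in
set_option maxHeartbeats 3200000 in
set_option synthInstance.maxHeartbeats 400000 in
theorem test_step_one (hnil : IsNilpotent (maximalIdeal A))
    (hpoC : IsPushout (CommRingCat.ofHom (algebraMap A Γ(X, W)))
      (CommRingCat.ofHom (algebraMap A Γ(Y, V))) (p1.appLE W U' e1) (p2.appLE V U' e2))
    (x : X) (hxW : x ∈ W) (y : Y) (hy : y ∈ V)
    (hmax : (hV.primeIdealOf ⟨y, hy⟩).asIdeal.IsMaximal)
    (x' : P) (hx'U : x' ∈ U') (ex : p1 x' = x) (ey : p2 x' = y)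
    (hfl : FlatMod.IsFlatOverAt p2 ((Scheme.Modules.pullback p1).obj F) x')
    (𝔮 : Ideal Γ(X, W)) [𝔮.IsPrime] (h𝔮 : 𝔮 = (hW.primeIdealOf ⟨x, hxW⟩).asIdeal)
    [IsNoetherianRing (Localization.AtPrime 𝔮)]
    [Module.Finite (Localization.AtPrime 𝔮) (LocalizedModule 𝔮.primeCompl Γ(F, W))]
    (hZ : ∀ c : (ResidueField (Localization.AtPrime 𝔮)) ⊗[A]
        (Γ(Y, V) ⧸ (hV.primeIdealOf ⟨y, hy⟩).asIdeal), ¬ IsNilpotent c →
      c ∈ nonZeroDivisors ((ResidueField (Localization.AtPrime 𝔮)) ⊗[A]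
        (Γ(Y, V) ⧸ (hV.primeIdealOf ⟨y, hy⟩).asIdeal)))
    {ι : Type u} (g : (ι →₀ A) →ₗ[A] LocalizedModule 𝔮.primeCompl Γ(F, W)) (hg : Surjective g)
    (hcoord : ∀ k ∈ LinearMap.ker g, ∀ i, k i ∈ maximalIdeal A) :
    (FI.coordIdeal g).map (algebraMap A Γ(Y, V)) ≤
      (hV.primeIdealOf ⟨y, hy⟩).asIdeal • (FI.coordIdeal g).map (algebraMap A Γ(Y, V)) := by
  letI algBR : Algebra Γ(X, W) Γ(P, U') := (p1.appLE W U' e1).hom.toAlgebra
  letI algΛR : Algebra Γ(Y, V) Γ(P, U') := (p2.appLE V U' e2).hom.toAlgebra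
  letI algAR : Algebra A Γ(P, U') :=
    ((p1.appLE W U' e1).hom.comp (algebraMap A Γ(X, W))).toAlgebra
  haveI tw1 : IsScalarTower A Γ(X, W) Γ(P, U') := IsScalarTower.of_algebraMap_eq fun _ => rfl
  haveI tw2 : IsScalarTower A Γ(Y, V) Γ(P, U') := IsScalarTower.of_algebraMap_eq fun r => by
    have := congrArg (fun ψ => ψ.hom r) hpoC.w
    exact this
  have hpo1 : Algebra.IsPushout A Γ(X, W) Γ(Y, V) Γ(P, U') :=
    (CommRingCat.isPushout_iff_isPushout (R := A) (S := Γ(Y, V)) (R' := Γ(X, W))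
      (S' := Γ(P, U'))).mp hpoC
  haveI hpo : Algebra.IsPushout A Γ(Y, V) Γ(X, W) Γ(P, U') := hpo1.symm
  letI modΛL : Module Γ(Y, V) Γ((Scheme.Modules.pullback p1).obj F, U') :=
    Module.compHom _ (p2.appLE V U' e2).hom
  haveI : IsScalarTower Γ(Y, V) Γ(P, U') Γ((Scheme.Modules.pullback p1).obj F, U') :=
    IsScalarTower.of_algebraMap_smul fun _ _ => rfl
  letI modBL : Module Γ(X, W) Γ((Scheme.Modules.pullback p1).obj F, U') :=
    Module.compHom _ (p1.appLE W U' e1).hom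
  haveI : IsScalarTower Γ(X, W) Γ(P, U') Γ((Scheme.Modules.pullback p1).obj F, U') :=
    IsScalarTower.of_algebraMap_smul fun _ _ => rfl
  let EF := sectionsPullbackEquiv p1 F hU' hW e1
  let j : Γ(F, W) →ₗ[Γ(X, W)] Γ((Scheme.Modules.pullback p1).obj F, U') :=
    (EF.symm.toLinearMap.restrictScalars Γ(X, W)) ∘ₗ (TensorProduct.mk Γ(X, W) Γ(P, U') Γ(F, W) 1)
  have hj : IsBaseChange Γ(P, U') j := IsBaseChange.of_equiv EF.symm (fun _ => rfl)
  haveI := hmax
  haveI hP₀ : (hU'.primeIdealOf ⟨x', hx'U⟩).asIdeal.IsPrime := (hU'.primeIdealOf ⟨x', hx'U⟩).isPrime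
  have h1 : (hU'.primeIdealOf ⟨x', hx'U⟩).asIdeal.comap (algebraMap Γ(X, W) Γ(P, U')) = 𝔮 := by
    have h3 := IsAffineOpen.comap_primeIdealOf_appLE W hW U' hU' e1 hx'U
    have h4 := congr($(h3).1)
    subst ex
    rw [h𝔮]
    exact h4
  have h2 : (hU'.primeIdealOf ⟨x', hx'U⟩).asIdeal.comap (algebraMap Γ(Y, V) Γ(P, U')) =
      (hV.primeIdealOf ⟨y, hy⟩).asIdeal := by
    have h3 := IsAffineOpen.comap_primeIdealOf_appLE V hV U' hU' e2 hx'U
    have h4 := congr($(h3).1)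
    subst ey
    exact h4
  have hfl' := (ModFlat.isFlatOverAt_iff p2 ((Scheme.Modules.pullback p1).obj F) hU' hV e2 rfl
    x' hx'U).mp hfl
  exact map_coordIdeal_le_smul_one 𝔮 (B := Localization.AtPrime 𝔮)
    (LocalizedModule.mkLinearMap 𝔮.primeCompl Γ(F, W)) g hg hcoord
    (hV.primeIdealOf ⟨y, hy⟩).asIdeal j hj hnil (hU'.primeIdealOf ⟨x', hx'U⟩).asIdeal h1 h2 hfl' hZ

end TestStep

set_option maxHeartbeats 3200000 in
set_option synthInstance.maxHeartbeats 400000 in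
theorem exists_test_ideal_one {A : Type u} [CommRing A] [IsArtinianRing A] [IsLocalRing A]
    {X : Scheme.{u}} (f : X ⟶ Spec (CommRingCat.of A)) [LocallyOfFiniteType f] (F : X.Modules)
    (hF : Coh.IsCoh F) (x : X)
    (hprim : letI := (f.residueFieldMap x).hom.toAlgebra
      ∀ a : ↑(X.residueField x), IsSeparable ↑((Spec (CommRingCat.of A)).residueField (f x)) a →
        a ∈ (f.residueFieldMap x).hom.range) :
    ∃ J : Ideal A, (J = ⊥ → FlatMod.IsFlatOverAt f F x) ∧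
      ∀ (Y : Scheme.{u}) (q : Y ⟶ Spec (CommRingCat.of A)) (V : Y.Opens) (hV : IsAffineOpen V)
        (y : Y) (hy : y ∈ V), (hV.primeIdealOf ⟨y, hy⟩).asIdeal.IsMaximal →
        (∃ x' : ↥(pullback f q), pullback.fst f q x' = x ∧ pullback.snd f q x' = y ∧
          FlatMod.IsFlatOverAt (pullback.snd f q)
            ((Scheme.Modules.pullback (pullback.fst f q)).obj F) x') →
        J.map ((Scheme.ΓSpecIso (CommRingCat.of A)).inv ≫ q.appLE ⊤ V le_top).hom ≤
          (hV.primeIdealOf ⟨y, hy⟩).asIdeal •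
            J.map ((Scheme.ΓSpecIso (CommRingCat.of A)).inv ≫ q.appLE ⊤ V le_top).hom := by
  classical
  haveI : F.IsQuasicoherent := hF.1
  haveI : SheafOfModules.IsFiniteType (R := X.ringCatSheaf) F := hF.2
  obtain ⟨W, hWaff, hxW, -⟩ :=
    (Opens.isBasis_iff_nbhd.mp X.isBasis_affineOpens) (show x ∈ (⊤ : X.Opens) from trivial)
  replace hWaff : IsAffineOpen W := hWaff
  letI algAB : Algebra A Γ(X, W) := algA (A := CommRingCat.of A) f W
  letI modAM : Module A Γ(F, W) := modA (A := CommRingCat.of A) f W F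
  haveI tAM : IsScalarTower A Γ(X, W) Γ(F, W) := isScalarTower_modA (A := CommRingCat.of A) f W F
  have hft : Algebra.FiniteType A Γ(X, W) := by
    have h1 : (f.appLE ⊤ W le_top).hom.FiniteType :=
      HasRingHomProperty.appLE (P := @LocallyOfFiniteType) f inferInstance
        ⟨⊤, isAffineOpen_top _⟩ ⟨W, hWaff⟩ le_top
    have h2 : ((Scheme.ΓSpecIso (CommRingCat.of A)).inv ≫ f.appLE ⊤ W le_top).hom.FiniteType := by
      rw [CommRingCat.hom_comp]
      refine RingHom.FiniteType.comp h1 (RingHom.FiniteType.of_surjective _ ?_)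
      exact ((ConcreteCategory.isIso_iff_bijective
        (Scheme.ΓSpecIso (CommRingCat.of A)).inv).mp inferInstance).2
    exact h2
  haveI : IsNoetherianRing Γ(X, W) := Algebra.FiniteType.isNoetherianRing A _
  haveI : Module.Finite Γ(X, W) Γ(F, W) :=
    Groth.Agent.Helper13.FinType.finite_sections_of_isFiniteType F hWaff
  obtain ⟨𝔮, h𝔮⟩ : ∃ 𝔮 : Ideal Γ(X, W), 𝔮 = (hWaff.primeIdealOf ⟨x, hxW⟩).asIdeal := ⟨_, rfl⟩
  haveI h𝔮p : 𝔮.IsPrime := h𝔮 ▸ (hWaff.primeIdealOf ⟨x, hxW⟩).isPrime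
  haveI : IsNoetherianRing (Localization.AtPrime 𝔮) :=
    IsLocalization.isNoetherianRing 𝔮.primeCompl _ inferInstance
  haveI : Module.Finite (Localization.AtPrime 𝔮) (LocalizedModule 𝔮.primeCompl Γ(F, W)) :=
    Module.Finite.of_isLocalizedModule 𝔮.primeCompl
      (LocalizedModule.mkLinearMap 𝔮.primeCompl Γ(F, W))
  have hnil : IsNilpotent (maximalIdeal A) := by
    rw [← IsLocalRing.jacobson_eq_maximalIdeal ⊥ bot_ne_top]
    exact IsArtinianRing.isNilpotent_jacobson_bot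
  letI : Field (A ⧸ maximalIdeal A) := Ideal.Quotient.field _
  obtain ⟨ι, g, hg, hcoord⟩ := FI.exists_good_surjection (maximalIdeal A) hnil
    (LocalizedModule 𝔮.primeCompl Γ(F, W))
  refine ⟨FI.coordIdeal g, ?_, ?_⟩
  · intro hJ
    have hinj : Injective g := by
      rw [← LinearMap.ker_eq_bot, eq_bot_iff]
      intro k hk
      rw [Submodule.mem_bot]
      ext i
      have h1 : k i ∈ FI.coordIdeal g := Ideal.subset_span ⟨k, hk, i, rfl⟩
      rw [hJ] at h1
      exact h1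
    have hflN : Module.Flat A (LocalizedModule 𝔮.primeCompl Γ(F, W)) :=
      Module.Flat.of_linearEquiv (LinearEquiv.ofBijective g ⟨hinj, hg⟩).symm
    letI alg0 : Algebra Γ(Spec (CommRingCat.of A), ⊤) Γ(X, W) :=
      (f.appLE ⊤ W le_top).hom.toAlgebra
    letI mod0 : Module Γ(Spec (CommRingCat.of A), ⊤) Γ(F, W) :=
      Module.compHom _ (f.appLE ⊤ W le_top).hom
    haveI : IsScalarTower Γ(Spec (CommRingCat.of A), ⊤) Γ(X, W) Γ(F, W) :=
      IsScalarTower.of_algebraMap_smul fun _ _ => rfl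
    subst h𝔮
    rw [ModFlat.isFlatOverAt_iff f F hWaff (isAffineOpen_top _) le_top rfl x hxW]
    refine (flat_iff_of_bijective (Scheme.ΓSpecIso (CommRingCat.of A)).inv.hom
      ((ConcreteCategory.isIso_iff_bijective
        (Scheme.ΓSpecIso (CommRingCat.of A)).inv).mp inferInstance) ?_).mpr hflN
    intro r n
    induction n using LocalizedModule.induction_on with
    | h m s =>
      rw [LocalizedModule.smul'_mk, LocalizedModule.smul'_mk]
      rfl
  · intro Y q V hV y hy hmax hfl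
    obtain ⟨x', ex, ey, hflx⟩ := hfl
    letI algAΛ : Algebra A Γ(Y, V) := algA (A := CommRingCat.of A) q V
    have hpoC := isPushout_sections' f q hWaff hV
    have hU' := isAffineOpen_pullback_inf f q (isAffineOpen_top _) hWaff hV le_top le_top
    haveI := hmax
    letI fld : Field (Γ(Y, V) ⧸ (hV.primeIdealOf ⟨y, hy⟩).asIdeal) := Ideal.Quotient.field _
    have hZ := hZ_of_hprim f x hprim hWaff hxW 𝔮 h𝔮
      (Γ(Y, V) ⧸ (hV.primeIdealOf ⟨y, hy⟩).asIdeal)
    have hx'U : x' ∈ (pullback.fst f q ⁻¹ᵁ W) ⊓ (pullback.snd f q ⁻¹ᵁ V) := by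
      refine ⟨?_, ?_⟩
      · change pullback.fst f q x' ∈ W
        rw [ex]; exact hxW
      · change pullback.snd f q x' ∈ V
        rw [ey]; exact hy
    exact test_step_one (pullback.fst f q) (pullback.snd f q) F hWaff hV hU' inf_le_left
      inf_le_right hnil hpoC x hxW y hy hmax x' hx'U ex ey hflx 𝔮 h𝔮 hZ g hg hcoord

end Groth.Agent.Helper21.FB
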