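import Mathlib
import Groth.Agent.Lib.Helper12.FlatModBC3

/-!
# Descent of flatness from a base change along a surjection on local rings of the base (helper21)
-/

set_option autoImplicit false
set_option linter.style.haveILetI false
set_option linter.unusedSectionVars false

universe u

open AlgebraicGeometry CategoryTheory Limits TensorProduct Function

namespace Groth.Agent.Helper21.FC

open Groth.Agent.Helper12.FlatModBC

variable {X S X' S' : Scheme.{u}} {f : X ⟶ S} {f' : X' ⟶ S'} {g' : X' ⟶ X} {g : S' ⟶ S}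

attribute [local instance] Algebra.TensorProduct.rightAlgebra

/-- generic base change of "`A₁ ⊗ N` is `A₁`-flat" along an algebra map `A₁ → A₂`. -/
theorem flat_baseChange_of_tower {R A₁ A₂ : Type u} [CommRing R] [CommRing A₁] [CommRing A₂]
    [Algebra R A₁] [Algebra R A₂] [Algebra A₁ A₂] [IsScalarTower R A₁ A₂]
    (N : Type u) [AddCommGroup N] [Module R N] [Module.Flat A₁ (A₁ ⊗[R] N)] :
    Module.Flat A₂ (A₂ ⊗[R] N) := by
  have h1 : Module.Flat A₂ (A₂ ⊗[A₁] (A₁ ⊗[R] N)) := inferInstance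
  exact Module.Flat.of_linearEquiv
    (TensorProduct.AlgebraTensorModule.cancelBaseChange R A₁ A₂ A₂ N).symm

set_option maxHeartbeats 1600000 in
/-- **Descent.** If the local ring of the new base is a quotient of the local ring of the old
base, flatness of the base change at a point implies flatness of `A' ⊗ F_x` over `A'`. -/
theorem flat_tensor_of_isFlatOverAt_baseChange (hc : IsPullback g' f' f g)
    (F : X.Modules) [F.IsQuasicoherent] (x' : X') (hsurj : Surjective (gam hc x').hom)
    (h : FlatMod.IsFlatOverAt f' ((Scheme.Modules.pullback g').obj F) x') :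
    letI : Algebra (S.presheaf.stalk (f (g' x'))) (S'.presheaf.stalk (f' x')) :=
      (gam hc x').hom.toAlgebra
    letI := FlatMod.moduleStalkOver f F (g' x')
    Module.Flat (S'.presheaf.stalk (f' x'))
      ((S'.presheaf.stalk (f' x')) ⊗[S.presheaf.stalk (f (g' x'))] (F.presheaf.stalk (g' x'))) := by
  letI iAA' : Algebra (S.presheaf.stalk (f (g' x'))) (S'.presheaf.stalk (f' x')) :=
    (gam hc x').hom.toAlgebra
  letI iAB : Algebra (S.presheaf.stalk (f (g' x'))) (X.presheaf.stalk (g' x')) :=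
    (f.stalkMap (g' x')).hom.toAlgebra
  letI iA'B' : Algebra (S'.presheaf.stalk (f' x')) (X'.presheaf.stalk x') :=
    (f'.stalkMap x').hom.toAlgebra
  letI iBB' : Algebra (X.presheaf.stalk (g' x')) (X'.presheaf.stalk x') :=
    (g'.stalkMap x').hom.toAlgebra
  obtain ⟨φ, hφ, hφflat⟩ := flat_tensor_stalk hc x'
  obtain ⟨e⟩ := Groth.Agent.Helper13.Pullback.exists_stalk_pullback_equiv g' F x'
  letI iCB' : Algebra ((S'.presheaf.stalk (f' x')) ⊗[S.presheaf.stalk (f (g' x'))]
      (X.presheaf.stalk (g' x'))) (X'.presheaf.stalk x') := φ.toAlgebra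
  haveI t1 : IsScalarTower (S'.presheaf.stalk (f' x'))
      ((S'.presheaf.stalk (f' x')) ⊗[S.presheaf.stalk (f (g' x'))]
      (X.presheaf.stalk (g' x'))) (X'.presheaf.stalk x') :=
    IsScalarTower.of_algebraMap_eq fun r => by
      change (f'.stalkMap x').hom r = φ (r ⊗ₜ 1)
      rw [hφ, map_one, mul_one]
  haveI t2 : IsScalarTower (X.presheaf.stalk (g' x'))
      ((S'.presheaf.stalk (f' x')) ⊗[S.presheaf.stalk (f (g' x'))]
      (X.presheaf.stalk (g' x'))) (X'.presheaf.stalk x') :=
    IsScalarTower.of_algebraMap_eq fun r => by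
      change (g'.stalkMap x').hom r = φ (1 ⊗ₜ r)
      rw [hφ, map_one, one_mul]
  haveI fl : Module.Flat ((S'.presheaf.stalk (f' x')) ⊗[S.presheaf.stalk (f (g' x'))]
      (X.presheaf.stalk (g' x'))) (X'.presheaf.stalk x') := hφflat
  -- `C = A' ⊗ B` is a quotient of `B`
  have hBC : Surjective (algebraMap (X.presheaf.stalk (g' x'))
      ((S'.presheaf.stalk (f' x')) ⊗[S.presheaf.stalk (f (g' x'))]
      (X.presheaf.stalk (g' x')))) := by
    intro c
    induction c using TensorProduct.induction_on with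
    | zero => exact ⟨0, map_zero _⟩
    | tmul a b =>
      obtain ⟨a, rfl⟩ := hsurj a
      refine ⟨algebraMap _ _ a * b, ?_⟩
      change (1 : S'.presheaf.stalk (f' x')) ⊗ₜ[S.presheaf.stalk (f (g' x'))]
        (algebraMap _ _ a * b) = _
      rw [← Algebra.smul_def, ← TensorProduct.smul_tmul, Algebra.smul_def, mul_one]
      rfl
    | add x y hx hy =>
      obtain ⟨a, rfl⟩ := hx
      obtain ⟨b, rfl⟩ := hy
      exact ⟨a + b, map_add _ _ _⟩
  haveI : Nontrivial ((S'.presheaf.stalk (f' x')) ⊗[S.presheaf.stalk (f (g' x'))]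
      (X.presheaf.stalk (g' x'))) := (algebraMap _ (X'.presheaf.stalk x')).domain_nontrivial
  haveI : IsLocalRing ((S'.presheaf.stalk (f' x')) ⊗[S.presheaf.stalk (f (g' x'))]
      (X.presheaf.stalk (g' x'))) := .of_surjective' (algebraMap _ _) hBC
  haveI : IsLocalHom (algebraMap ((S'.presheaf.stalk (f' x')) ⊗[S.presheaf.stalk (f (g' x'))]
      (X.presheaf.stalk (g' x'))) (X'.presheaf.stalk x')) := by
    refine ⟨fun c hc' => ?_⟩
    obtain ⟨b, rfl⟩ := hBC c
    rw [← IsScalarTower.algebraMap_apply] at hc'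
    have hb : IsUnit b := by
      haveI : IsLocalHom (g'.stalkMap x').hom := inferInstance
      exact isUnit_of_map_unit (g'.stalkMap x').hom b hc'
    exact hb.map _
  haveI : Module.FaithfullyFlat ((S'.presheaf.stalk (f' x')) ⊗[S.presheaf.stalk (f (g' x'))]
      (X.presheaf.stalk (g' x'))) (X'.presheaf.stalk x') :=
    Module.FaithfullyFlat.of_flat_of_isLocalHom
  letI iAM : Module (S.presheaf.stalk (f (g' x'))) (F.presheaf.stalk (g' x')) :=
    FlatMod.moduleStalkOver f F (g' x')
  haveI : IsScalarTower (S.presheaf.stalk (f (g' x'))) (X.presheaf.stalk (g' x'))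
      (F.presheaf.stalk (g' x')) := IsScalarTower.of_algebraMap_smul fun r x => rfl
  letI iA'M' : Module (S'.presheaf.stalk (f' x'))
      (((Scheme.Modules.pullback g').obj F).presheaf.stalk x') :=
    FlatMod.moduleStalkOver f' _ x'
  haveI : IsScalarTower (S'.presheaf.stalk (f' x')) (X'.presheaf.stalk x')
      (((Scheme.Modules.pullback g').obj F).presheaf.stalk x') :=
    IsScalarTower.of_algebraMap_smul fun r x => rfl
  haveI hfl0 : Module.Flat (S'.presheaf.stalk (f' x'))
      (((Scheme.Modules.pullback g').obj F).presheaf.stalk x') := h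
  have hfl1 : Module.Flat (S'.presheaf.stalk (f' x'))
      ((X'.presheaf.stalk x') ⊗[X.presheaf.stalk (g' x')] (F.presheaf.stalk (g' x'))) :=
    Module.Flat.of_linearEquiv (e.restrictScalars (S'.presheaf.stalk (f' x'))).symm
  let e2 : (X'.presheaf.stalk x') ⊗[(S'.presheaf.stalk (f' x')) ⊗[S.presheaf.stalk (f (g' x'))]
      (X.presheaf.stalk (g' x'))] (((S'.presheaf.stalk (f' x')) ⊗[S.presheaf.stalk (f (g' x'))]
      (X.presheaf.stalk (g' x'))) ⊗[X.presheaf.stalk (g' x')] (F.presheaf.stalk (g' x')))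
      ≃ₗ[X'.presheaf.stalk x']
      (X'.presheaf.stalk x') ⊗[X.presheaf.stalk (g' x')] (F.presheaf.stalk (g' x')) :=
    TensorProduct.AlgebraTensorModule.cancelBaseChange _ _ _ _ _
  haveI hfl2 : Module.Flat (S'.presheaf.stalk (f' x'))
      ((X'.presheaf.stalk x') ⊗[(S'.presheaf.stalk (f' x')) ⊗[S.presheaf.stalk (f (g' x'))]
      (X.presheaf.stalk (g' x'))] (((S'.presheaf.stalk (f' x')) ⊗[S.presheaf.stalk (f (g' x'))]
      (X.presheaf.stalk (g' x'))) ⊗[X.presheaf.stalk (g' x')] (F.presheaf.stalk (g' x')))) :=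
    Module.Flat.of_linearEquiv (e2.restrictScalars (S'.presheaf.stalk (f' x')))
  have hfl3 : Module.Flat (S'.presheaf.stalk (f' x'))
      (((S'.presheaf.stalk (f' x')) ⊗[S.presheaf.stalk (f (g' x'))]
      (X.presheaf.stalk (g' x'))) ⊗[X.presheaf.stalk (g' x')] (F.presheaf.stalk (g' x'))) :=
    flat_of_flat_baseChange_faithfullyFlat (A := S'.presheaf.stalk (f' x'))
      (B := (S'.presheaf.stalk (f' x')) ⊗[S.presheaf.stalk (f (g' x'))]
        (X.presheaf.stalk (g' x'))) (B' := X'.presheaf.stalk x') _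
  have e1 : ((S'.presheaf.stalk (f' x')) ⊗[S.presheaf.stalk (f (g' x'))]
      (X.presheaf.stalk (g' x'))) ⊗[X.presheaf.stalk (g' x')] (F.presheaf.stalk (g' x'))
      ≃ₗ[S'.presheaf.stalk (f' x')]
      (S'.presheaf.stalk (f' x')) ⊗[S.presheaf.stalk (f (g' x'))] (F.presheaf.stalk (g' x')) :=
    Algebra.IsPushout.cancelBaseChange _ _ _ _ _
  exact Module.Flat.of_linearEquiv e1.symm

end Groth.Agent.Helper21.FC
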