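import Mathlib
import Groth.Agent.Lib.Helper21.FC1

/-!
# Descent of flatness along `Spec (𝒪_{Y,y} ⧸ 𝔞) ⟶ Y` (helper21)
-/

set_option autoImplicit false
set_option linter.style.haveILetI false
set_option linter.unusedSectionVars false

universe u

open AlgebraicGeometry CategoryTheory Limits TensorProduct Function IsLocalRing

namespace Groth.Agent.Helper21.FC

open Groth.Agent.Helper12.FlatModBC

variable {X S X' S' : Scheme.{u}} {f : X ⟶ S} {f' : X' ⟶ S'} {g' : X' ⟶ X} {g : S' ⟶ S}

/-- transported version of `flat_tensor_of_isFlatOverAt_baseChange`. -/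
theorem flat_tensor_of_isFlatOverAt_baseChange' (hc : IsPullback g' f' f g)
    (F : X.Modules) [F.IsQuasicoherent] (x' : X') (x : X) (hx : g' x' = x) (s' : S')
    (hs' : f' x' = s') (hy : f x = g s')
    (hsurj : Surjective ((S.presheaf.stalkCongr (.of_eq hy)).hom ≫ g.stalkMap s').hom)
    (h : FlatMod.IsFlatOverAt f' ((Scheme.Modules.pullback g').obj F) x') :
    letI : Algebra (S.presheaf.stalk (f x)) (S'.presheaf.stalk s') :=
      ((S.presheaf.stalkCongr (.of_eq hy)).hom ≫ g.stalkMap s').hom.toAlgebra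
    letI := FlatMod.moduleStalkOver f F x
    Module.Flat (S'.presheaf.stalk s')
      ((S'.presheaf.stalk s') ⊗[S.presheaf.stalk (f x)] (F.presheaf.stalk x)) := by
  subst hx hs'
  exact flat_tensor_of_isFlatOverAt_baseChange hc F x' hsurj h

/-- the local homomorphism attached to `Spec R ⟶ Spec 𝒪_{Y,y} ⟶ Y` is the given one. -/
theorem stalkCongr_stalkMap_closedPoint {Y : Scheme.{u}} (y : Y) {R : Type u} [CommRing R]
    [IsLocalRing R] (π : Y.presheaf.stalk y ⟶ CommRingCat.of R) [IsLocalHom π.hom]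
    (hy : y = (Spec.map π ≫ Y.fromSpecStalk y) (closedPoint R)) :
    (Y.presheaf.stalkCongr (.of_eq hy)).hom ≫
      (Spec.map π ≫ Y.fromSpecStalk y).stalkMap (closedPoint R) ≫
        (stalkClosedPointIso (CommRingCat.of R)).hom = π := by
  change (Y.presheaf.stalkCongr (.of_eq hy)).hom ≫
    Scheme.stalkClosedPointTo (Spec.map π ≫ Y.fromSpecStalk y) = π
  refine TopCat.Presheaf.stalk_hom_ext _ fun U hU => ?_
  rw [TopCat.Presheaf.stalkCongr_hom, TopCat.Presheaf.germ_stalkSpecializes_assoc,
    Scheme.germ_stalkClosedPointTo_Spec_fromSpecStalk]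

end Groth.Agent.Helper21.FC
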