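import Mathlib
import Groth.Agent.Lib.Helper21.FC2
import Groth.Prelude.Def_DerSch

/-!
# Flatness of iterated pullbacks (helper21)
-/

set_option autoImplicit false
set_option linter.style.haveILetI false
set_option linter.unusedSectionVars false

universe u

open AlgebraicGeometry CategoryTheory Limits TensorProduct Function IsLocalRing

namespace Groth.Agent.Helper21.FC

open Groth.Agent.Helper12.FlatModBC

/-- relative flatness at a point is invariant under isomorphisms of modules. -/
theorem isFlatOverAt_of_iso {X S : Scheme.{u}} (f : X ⟶ S) {M N : X.Modules} (e : M ≅ N) (x : X)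
    (h : FlatMod.IsFlatOverAt f M x) : FlatMod.IsFlatOverAt f N x := by
  change Module.Flat (S.presheaf.stalk (f.base x)) ((DerSch.stalkOver f x).obj M) at h
  change Module.Flat (S.presheaf.stalk (f.base x)) ((DerSch.stalkOver f x).obj N)
  haveI := h
  exact Module.Flat.of_linearEquiv ((DerSch.stalkOver f x).mapIso e).toLinearEquiv.symm

/-- Flatness of the pullback to `X ×_Y Y₁` at the relevant points gives flatness of the iterated
pullback to `(X ×_Y Ȳ) ×_Ȳ Y₂` whenever `Y₂ ⟶ Ȳ ⟶ Y` factors through `Y₁ ⟶ Y`. -/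
theorem isFlatOverAt_pullback_of_square {X Y Yb Y₁ Y₂ : Scheme.{u}} (f : X ⟶ Y) (gb : Yb ⟶ Y)
    (g₁ : Y₁ ⟶ Y) (u : Y₂ ⟶ Yb) (π : Y₂ ⟶ Y₁) (hsq : u ≫ gb = π ≫ g₁)
    (F : X.Modules) [F.IsQuasicoherent] (x : X) (y₁ : Y₁)
    (hflat : ∀ x₁ : ↥(pullback f g₁), pullback.fst f g₁ x₁ = x → pullback.snd f g₁ x₁ = y₁ →
      FlatMod.IsFlatOverAt (pullback.snd f g₁) ((Scheme.Modules.pullback (pullback.fst f g₁)).obj F)
        x₁)
    (z : ↥(pullback (pullback.snd f gb) u))
    (hz1 : pullback.fst f gb (pullback.fst (pullback.snd f gb) u z) = x)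
    (hz2 : π (pullback.snd (pullback.snd f gb) u z) = y₁) :
    FlatMod.IsFlatOverAt (pullback.snd (pullback.snd f gb) u)
      ((Scheme.Modules.pullback (pullback.fst (pullback.snd f gb) u)).obj
        ((Scheme.Modules.pullback (pullback.fst f gb)).obj F)) z := by
  have hw : (pullback.fst (pullback.snd f gb) u ≫ pullback.fst f gb) ≫ f =
      (pullback.snd (pullback.snd f gb) u ≫ π) ≫ g₁ := by
    rw [Category.assoc, pullback.condition, ← Category.assoc, pullback.condition, Category.assoc,
      hsq, Category.assoc]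
  obtain ⟨θ, hθ⟩ : ∃ θ : pullback (pullback.snd f gb) u ⟶ pullback f g₁,
      θ = pullback.lift (pullback.fst (pullback.snd f gb) u ≫ pullback.fst f gb)
        (pullback.snd (pullback.snd f gb) u ≫ π) hw := ⟨_, rfl⟩
  have hθ1 : θ ≫ pullback.fst f g₁ =
      pullback.fst (pullback.snd f gb) u ≫ pullback.fst f gb := by
    rw [hθ, pullback.lift_fst]
  have hθ2 : θ ≫ pullback.snd f g₁ = pullback.snd (pullback.snd f gb) u ≫ π := by
    rw [hθ, pullback.lift_snd]
  have hbig : IsPullback (θ ≫ pullback.fst f g₁) (pullback.snd (pullback.snd f gb) u) f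
      (π ≫ g₁) := by
    rw [hθ1, ← hsq]
    exact (IsPullback.of_hasPullback (pullback.snd f gb) u).paste_horiz
      (IsPullback.of_hasPullback f gb)
  have hc : IsPullback θ (pullback.snd (pullback.snd f gb) u) (pullback.snd f g₁) π :=
    IsPullback.of_right hbig hθ2 (IsPullback.of_hasPullback f g₁)
  have hx1 : pullback.fst f g₁ (θ z) = x := by
    rw [← Scheme.Hom.comp_apply, hθ1, Scheme.Hom.comp_apply, hz1]
  have hx2 : pullback.snd f g₁ (θ z) = y₁ := by
    rw [← Scheme.Hom.comp_apply, hθ2, Scheme.Hom.comp_apply, hz2]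
  have h1 := isFlatOverAt_baseChange hc ((Scheme.Modules.pullback (pullback.fst f g₁)).obj F) z
    (hflat (θ z) hx1 hx2)
  refine isFlatOverAt_of_iso _ ?_ z h1
  exact (Scheme.Modules.pullbackComp θ (pullback.fst f g₁)).app F ≪≫
    (Scheme.Modules.pullbackCongr hθ1).app F ≪≫
    ((Scheme.Modules.pullbackComp (pullback.fst (pullback.snd f gb) u) (pullback.fst f gb)).app
      F).symm

end Groth.Agent.Helper21.FC
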