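import Mathlib
import Groth.Agent.Lib.Helper21.FC1
import Groth.Agent.Lib.Helper1.LocalCriterion

/-!
# Ring-level reductions for flatness tested on a family of local homomorphisms (helper21)
-/

set_option autoImplicit false
set_option linter.style.haveILetI false
set_option linter.unusedSectionVars false

universe u

open TensorProduct Function IsLocalRing

namespace Groth.Agent.Helper21.FC

section QIdeal

variable {𝒪 : Type u} [CommRing 𝒪] [IsLocalRing 𝒪] {ι : Type u} (A : ι → Type u)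
  [∀ i, CommRing (A i)] [∀ i, IsLocalRing (A i)] (φ : ∀ i, 𝒪 →+* A i) [∀ i, IsLocalHom (φ i)]

/-- the test ideal attached to a finite set of indices and exponents. -/
def qIdeal (s : Finset (ι × ℕ)) : Ideal 𝒪 :=
  ⨅ p : {p : ι × ℕ // p ∈ s}, Ideal.comap (φ p.1.1) (maximalIdeal (A p.1.1) ^ (p.1.2 + 1))

theorem qIdeal_le_comap (s : Finset (ι × ℕ)) (p : {p : ι × ℕ // p ∈ s}) :
    qIdeal A φ s ≤ Ideal.comap (φ p.1.1) (maximalIdeal (A p.1.1) ^ (p.1.2 + 1)) :=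
  iInf_le _ p

theorem qIdeal_le (s : Finset (ι × ℕ)) :
    qIdeal A φ s ≤ ⨅ p ∈ s, Ideal.comap (φ p.1) (maximalIdeal (A p.1) ^ p.2) := by
  refine le_iInf fun p => le_iInf fun hp => ?_
  refine (qIdeal_le_comap A φ s ⟨p, hp⟩).trans (Ideal.comap_mono ?_)
  exact Ideal.pow_le_pow_right (Nat.le_succ _)

theorem pow_le_qIdeal (s : Finset (ι × ℕ)) : ∃ K, maximalIdeal 𝒪 ^ K ≤ qIdeal A φ s := by
  refine ⟨s.sup (fun p => p.2 + 1), le_iInf fun p => ?_⟩
  have h1 : maximalIdeal 𝒪 ≤ Ideal.comap (φ p.1.1) (maximalIdeal (A p.1.1)) := by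
    rw [← Ideal.map_le_iff_le_comap]
    exact map_maximalIdeal_le (φ p.1.1)
  have h2 : p.1.2 + 1 ≤ s.sup (fun p => p.2 + 1) := Finset.le_sup (f := fun p => p.2 + 1) p.2
  calc maximalIdeal 𝒪 ^ s.sup (fun p => p.2 + 1) ≤ maximalIdeal 𝒪 ^ (p.1.2 + 1) :=
        Ideal.pow_le_pow_right h2
    _ ≤ (Ideal.comap (φ p.1.1) (maximalIdeal (A p.1.1))) ^ (p.1.2 + 1) := Ideal.pow_right_mono h1 _
    _ ≤ Ideal.comap (φ p.1.1) (maximalIdeal (A p.1.1) ^ (p.1.2 + 1)) := Ideal.le_comap_pow _ _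

theorem isArtinianRing_quotient_qIdeal [IsNoetherianRing 𝒪] (s : Finset (ι × ℕ))
    [IsLocalRing (𝒪 ⧸ qIdeal A φ s)] : IsArtinianRing (𝒪 ⧸ qIdeal A φ s) := by
  rw [isArtinianRing_iff_isNilpotent_maximalIdeal]
  obtain ⟨K, hK⟩ := pow_le_qIdeal A φ s
  haveI : IsLocalHom (Ideal.Quotient.mk (qIdeal A φ s)) :=
    .of_surjective _ Ideal.Quotient.mk_surjective
  refine ⟨K, ?_⟩
  have h1 : maximalIdeal (𝒪 ⧸ qIdeal A φ s) = (maximalIdeal 𝒪).map (Ideal.Quotient.mk _) := by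
    refine le_antisymm (fun a ha => ?_) (map_maximalIdeal_le _)
    obtain ⟨a, rfl⟩ := Ideal.Quotient.mk_surjective a
    refine Ideal.mem_map_of_mem _ ?_
    rw [mem_maximalIdeal, mem_nonunits_iff] at ha ⊢
    exact fun h => ha (h.map _)
  rw [h1, ← Ideal.map_pow, Ideal.zero_eq_bot, Ideal.map_eq_bot_iff_le_ker, Ideal.mk_ker]
  exact hK

/-- the residue rings of the test family. -/
abbrev QRing (s : Finset (ι × ℕ)) (p : {p : ι × ℕ // p ∈ s}) : Type u :=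
  A p.1.1 ⧸ maximalIdeal (A p.1.1) ^ (p.1.2 + 1)

instance (s : Finset (ι × ℕ)) (p : {p : ι × ℕ // p ∈ s}) : IsLocalRing (QRing A s p) := by
  haveI : Nontrivial (QRing A s p) := by
    refine Ideal.Quotient.nontrivial_iff.mpr fun h => ?_
    have h1 : maximalIdeal (A p.1.1) ^ (p.1.2 + 1) ≤ maximalIdeal (A p.1.1) :=
      Ideal.pow_le_self (Nat.succ_ne_zero _)
    exact (maximalIdeal.isMaximal (A p.1.1)).ne_top (top_le_iff.mp (h ▸ h1))
  exact .of_surjective' (Ideal.Quotient.mk _) Ideal.Quotient.mk_surjective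

/-- the induced maps on the quotients. -/
def qMap (s : Finset (ι × ℕ)) (p : {p : ι × ℕ // p ∈ s}) :
    𝒪 ⧸ qIdeal A φ s →+* QRing A s p :=
  Ideal.Quotient.lift _ ((Ideal.Quotient.mk _).comp (φ p.1.1)) fun a ha => by
    rw [RingHom.comp_apply, Ideal.Quotient.eq_zero_iff_mem]
    exact qIdeal_le_comap A φ s p ha

theorem qMap_mk (s : Finset (ι × ℕ)) (p : {p : ι × ℕ // p ∈ s}) (a : 𝒪) :
    qMap A φ s p (Ideal.Quotient.mk _ a) = Ideal.Quotient.mk _ (φ p.1.1 a) := rfl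

theorem qMap_comp_mk (s : Finset (ι × ℕ)) (p : {p : ι × ℕ // p ∈ s}) :
    (qMap A φ s p).comp (Ideal.Quotient.mk _) = (Ideal.Quotient.mk _).comp (φ p.1.1) := rfl

theorem qMap_jointly_injective (s : Finset (ι × ℕ)) (a : 𝒪 ⧸ qIdeal A φ s)
    (h : ∀ p, qMap A φ s p a = 0) : a = 0 := by
  obtain ⟨a, rfl⟩ := Ideal.Quotient.mk_surjective a
  rw [Ideal.Quotient.eq_zero_iff_mem]
  refine (Ideal.mem_iInf).mpr fun p => ?_
  have := h p
  rw [qMap_mk, Ideal.Quotient.eq_zero_iff_mem] at this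
  exact this

end QIdeal

section Main

/-- Flatness can be tested on the Artinian quotients cut out by the test ideals. -/
theorem flat_of_quotient_family {𝒪 : Type u} (B : Type u) {N : Type u} [CommRing 𝒪] [IsLocalRing 𝒪]
    [IsNoetherianRing 𝒪] [CommRing B]
    [IsLocalRing B] [IsNoetherianRing B] [Algebra 𝒪 B] [IsLocalHom (algebraMap 𝒪 B)]
    [AddCommGroup N] [Module 𝒪 N] [Module B N] [IsScalarTower 𝒪 B N] [Module.Finite B N]
    {ι : Type u} (A : ι → Type u)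
    [∀ i, CommRing (A i)] [∀ i, IsLocalRing (A i)] (φ : ∀ i, 𝒪 →+* A i) [∀ i, IsLocalHom (φ i)]
    (htop : ∀ n : ℕ, ∃ s : Finset (ι × ℕ),
      ⨅ p ∈ s, Ideal.comap (φ p.1) (maximalIdeal (A p.1) ^ p.2) ≤ maximalIdeal 𝒪 ^ n)
    (H : ∀ s : Finset (ι × ℕ), qIdeal A φ s ≠ ⊤ →
      Module.Flat (𝒪 ⧸ qIdeal A φ s) ((𝒪 ⧸ qIdeal A φ s) ⊗[𝒪] N)) : Module.Flat 𝒪 N := by
  refine Groth.Agent.Helper1.flat_of_flat_quotient_pow (R := 𝒪) (S := B) (M := N)
    (maximalIdeal 𝒪) ?_ fun n hn => ?_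
  · rw [jacobson_eq_maximalIdeal _ bot_ne_top]
    exact map_maximalIdeal_le _
  · obtain ⟨s, hs⟩ := htop n
    have hle : qIdeal A φ s ≤ maximalIdeal 𝒪 ^ n := (qIdeal_le A φ s).trans hs
    have hne : qIdeal A φ s ≠ ⊤ := fun h =>
      (maximalIdeal.isMaximal 𝒪).ne_top
        (top_le_iff.mp ((h ▸ hle).trans (Ideal.pow_le_self hn.ne')))
    haveI := H s hne
    letI : Algebra (𝒪 ⧸ qIdeal A φ s) (𝒪 ⧸ maximalIdeal 𝒪 ^ n) :=
      (Ideal.Quotient.factor hle).toAlgebra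
    haveI : IsScalarTower 𝒪 (𝒪 ⧸ qIdeal A φ s) (𝒪 ⧸ maximalIdeal 𝒪 ^ n) :=
      IsScalarTower.of_algebraMap_eq fun r => rfl
    exact flat_baseChange_of_tower (R := 𝒪) (A₁ := 𝒪 ⧸ qIdeal A φ s) N

end Main

end Groth.Agent.Helper21.FC
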