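import Mathlib
import Groth.Agent.Lib.Helper21.FC2

/-!
# Descent of flatness along `Spec (𝒪_{Y,y} ⧸ 𝔞) ⟶ Y`, II (helper21)
-/

set_option autoImplicit false
set_option linter.style.haveILetI false
set_option linter.unusedSectionVars false

universe u

open AlgebraicGeometry CategoryTheory Limits TensorProduct Function IsLocalRing

namespace Groth.Agent.Helper21.FC

open Groth.Agent.Helper12.FlatModBC

/-- the closed point of `Spec (𝒪_{Y,y} ⧸ 𝔞)` maps to `y`. -/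
theorem quotient_closedPoint {Y : Scheme.{u}} (y : Y) (𝔞 : Ideal (Y.presheaf.stalk y))
    [IsLocalRing (Y.presheaf.stalk y ⧸ 𝔞)] :
    (Spec.map (CommRingCat.ofHom (Ideal.Quotient.mk 𝔞)) ≫ Y.fromSpecStalk y)
      (closedPoint (Y.presheaf.stalk y ⧸ 𝔞)) = y := by
  haveI : IsLocalHom (Ideal.Quotient.mk 𝔞) := .of_surjective _ Ideal.Quotient.mk_surjective
  rw [Scheme.Hom.comp_apply]
  have h1 : Spec.map (CommRingCat.ofHom (Ideal.Quotient.mk 𝔞))
      (closedPoint (Y.presheaf.stalk y ⧸ 𝔞)) = closedPoint (Y.presheaf.stalk y) :=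
    comap_closedPoint (Ideal.Quotient.mk 𝔞)
  rw [h1]
  exact Scheme.fromSpecStalk_closedPoint

set_option maxHeartbeats 1600000 in
/-- **Descent along a quotient of the local ring of the base.** -/
theorem flat_quotient_tensor_of_isFlatOverAt {X Y : Scheme.{u}} (f : X ⟶ Y) (F : X.Modules)
    [F.IsQuasicoherent] (x : X) (𝔞 : Ideal (Y.presheaf.stalk (f x)))
    [IsLocalRing (Y.presheaf.stalk (f x) ⧸ 𝔞)]
    (xb : ↥(pullback f (Spec.map (CommRingCat.ofHom (Ideal.Quotient.mk 𝔞)) ≫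
      Y.fromSpecStalk (f x))))
    (h1 : pullback.fst f (Spec.map (CommRingCat.ofHom (Ideal.Quotient.mk 𝔞)) ≫
      Y.fromSpecStalk (f x)) xb = x)
    (h2 : pullback.snd f (Spec.map (CommRingCat.ofHom (Ideal.Quotient.mk 𝔞)) ≫
      Y.fromSpecStalk (f x)) xb = closedPoint (Y.presheaf.stalk (f x) ⧸ 𝔞))
    (hfl : FlatMod.IsFlatOverAt (pullback.snd f (Spec.map (CommRingCat.ofHom
        (Ideal.Quotient.mk 𝔞)) ≫ Y.fromSpecStalk (f x)))
      ((Scheme.Modules.pullback (pullback.fst f (Spec.map (CommRingCat.ofHom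
        (Ideal.Quotient.mk 𝔞)) ≫ Y.fromSpecStalk (f x)))).obj F) xb) :
    letI := FlatMod.moduleStalkOver f F x
    Module.Flat (Y.presheaf.stalk (f x) ⧸ 𝔞)
      ((Y.presheaf.stalk (f x) ⧸ 𝔞) ⊗[Y.presheaf.stalk (f x)] (F.presheaf.stalk x)) := by
  haveI : IsLocalHom (Ideal.Quotient.mk 𝔞) := .of_surjective _ Ideal.Quotient.mk_surjective
  haveI : IsLocalHom (CommRingCat.ofHom (Ideal.Quotient.mk 𝔞)).hom :=
    ‹IsLocalHom (Ideal.Quotient.mk 𝔞)›
  have hy : f x = (Spec.map (CommRingCat.ofHom (Ideal.Quotient.mk 𝔞)) ≫ Y.fromSpecStalk (f x))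
      (closedPoint (Y.presheaf.stalk (f x) ⧸ 𝔞)) := (quotient_closedPoint (f x) 𝔞).symm
  have hkey := stalkCongr_stalkMap_closedPoint (f x) (CommRingCat.ofHom (Ideal.Quotient.mk 𝔞)) hy
  obtain ⟨α, hα⟩ : ∃ α : Y.presheaf.stalk (f x) ⟶
      (Spec (CommRingCat.of (Y.presheaf.stalk (f x) ⧸ 𝔞))).presheaf.stalk
        (closedPoint (Y.presheaf.stalk (f x) ⧸ 𝔞)),
      α = (Y.presheaf.stalkCongr (.of_eq hy)).hom ≫
        (Spec.map (CommRingCat.ofHom (Ideal.Quotient.mk 𝔞)) ≫ Y.fromSpecStalk (f x)).stalkMap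
          (closedPoint (Y.presheaf.stalk (f x) ⧸ 𝔞)) := ⟨_, rfl⟩
  have hkey' : α ≫ (stalkClosedPointIso (CommRingCat.of (Y.presheaf.stalk (f x) ⧸ 𝔞))).hom =
      CommRingCat.ofHom (Ideal.Quotient.mk 𝔞) := by
    rw [hα, Category.assoc]; exact hkey
  have hαπ : ∀ a, (stalkClosedPointIso (CommRingCat.of (Y.presheaf.stalk (f x) ⧸ 𝔞))).hom.hom
      (α.hom a) = Ideal.Quotient.mk 𝔞 a := by
    intro a
    have := congrArg (fun q => q.hom a) hkey'
    simpa using this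
  have hsurj : Surjective α.hom := by
    intro b
    obtain ⟨a, ha⟩ := Ideal.Quotient.mk_surjective
      ((stalkClosedPointIso (CommRingCat.of (Y.presheaf.stalk (f x) ⧸ 𝔞))).hom.hom b)
    refine ⟨a, ?_⟩
    have hinj : Injective
        (stalkClosedPointIso (CommRingCat.of (Y.presheaf.stalk (f x) ⧸ 𝔞))).hom.hom :=
      ((ConcreteCategory.isIso_iff_bijective
        (stalkClosedPointIso (CommRingCat.of (Y.presheaf.stalk (f x) ⧸ 𝔞))).hom).mp
          inferInstance).1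
    apply hinj
    rw [hαπ, ha]
  have hmain := flat_tensor_of_isFlatOverAt_baseChange'
    (IsPullback.of_hasPullback f (Spec.map (CommRingCat.ofHom (Ideal.Quotient.mk 𝔞)) ≫
      Y.fromSpecStalk (f x))) F xb x h1
    (closedPoint (Y.presheaf.stalk (f x) ⧸ 𝔞)) h2 hy (hα ▸ hsurj) hfl
  rw [← hα] at hmain
  letI iA : Algebra (Y.presheaf.stalk (f x))
      ((Spec (CommRingCat.of (Y.presheaf.stalk (f x) ⧸ 𝔞))).presheaf.stalk
        (closedPoint (Y.presheaf.stalk (f x) ⧸ 𝔞))) := α.hom.toAlgebra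
  letI iM := FlatMod.moduleStalkOver f F x
  haveI : Module.Flat ((Spec (CommRingCat.of (Y.presheaf.stalk (f x) ⧸ 𝔞))).presheaf.stalk
        (closedPoint (Y.presheaf.stalk (f x) ⧸ 𝔞)))
      (((Spec (CommRingCat.of (Y.presheaf.stalk (f x) ⧸ 𝔞))).presheaf.stalk
        (closedPoint (Y.presheaf.stalk (f x) ⧸ 𝔞))) ⊗[Y.presheaf.stalk (f x)]
        (F.presheaf.stalk x)) := hmain
  letI iB : Algebra ((Spec (CommRingCat.of (Y.presheaf.stalk (f x) ⧸ 𝔞))).presheaf.stalk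
        (closedPoint (Y.presheaf.stalk (f x) ⧸ 𝔞))) (Y.presheaf.stalk (f x) ⧸ 𝔞) :=
    (stalkClosedPointIso (CommRingCat.of (Y.presheaf.stalk (f x) ⧸ 𝔞))).hom.hom.toAlgebra
  haveI : IsScalarTower (Y.presheaf.stalk (f x))
      ((Spec (CommRingCat.of (Y.presheaf.stalk (f x) ⧸ 𝔞))).presheaf.stalk
        (closedPoint (Y.presheaf.stalk (f x) ⧸ 𝔞))) (Y.presheaf.stalk (f x) ⧸ 𝔞) :=
    IsScalarTower.of_algebraMap_eq fun r => (hαπ r).symm
  exact flat_baseChange_of_tower (R := Y.presheaf.stalk (f x))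
    (A₁ := (Spec (CommRingCat.of (Y.presheaf.stalk (f x) ⧸ 𝔞))).presheaf.stalk
        (closedPoint (Y.presheaf.stalk (f x) ⧸ 𝔞))) (F.presheaf.stalk x)

end Groth.Agent.Helper21.FC
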