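import Mathlib
import Groth.Agent.Lib.Helper21.FC3
import Groth.Agent.Lib.Helper21.FC4
import Groth.Agent.Lib.Helper21.FC5
import Groth.Agent.Lib.Helper21.FA8
import Groth.Agent.Lib.Helper4.QuasiFlat
import Groth.Agent.Lib.Helper13.FittPullback

/-!
# Flatness tested on a family of local homomorphisms from the local ring of the base (helper21)
-/

set_option autoImplicit false
set_option linter.style.haveILetI false
set_option linter.unusedSectionVars false

universe u

open AlgebraicGeometry CategoryTheory Limits TensorProduct Function IsLocalRing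

namespace Groth.Agent.Helper21.FC

set_option maxHeartbeats 1600000 in
/-- **EGA IV 11.4.2-type statement**: flatness at `x` tested on a family of local homomorphisms
from `𝒪_{Y, f x}` defining the `𝔪`-adic topology. -/
theorem flat_of_stalk_family {X Y : Scheme.{u}} [IsLocallyNoetherian Y]
    (f : X ⟶ Y) [LocallyOfFiniteType f] (F : X.Modules) (hF : Coh.IsCoh F) (x : X)
    {ι : Type u} (A : ι → Type u) [∀ i, CommRing (A i)] [∀ i, IsLocalRing (A i)]
    (φ : ∀ i, (Y.presheaf.stalk (f x) : Type u) →+* A i) [∀ i, IsLocalHom (φ i)]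
    (htop : ∀ N : ℕ, ∃ s : Finset (ι × ℕ),
      ⨅ p ∈ s, Ideal.comap (φ p.1) (IsLocalRing.maximalIdeal (A p.1) ^ p.2) ≤
        IsLocalRing.maximalIdeal ↑(Y.presheaf.stalk (f x)) ^ N)
    (hflat : ∀ (i : ι) (x' : ↥(pullback f (Spec.map (CommRingCat.ofHom (φ i)) ≫
        Y.fromSpecStalk (f x)))),
      pullback.fst f (Spec.map (CommRingCat.ofHom (φ i)) ≫ Y.fromSpecStalk (f x)) x' = x →
      pullback.snd f (Spec.map (CommRingCat.ofHom (φ i)) ≫ Y.fromSpecStalk (f x)) x' =
        IsLocalRing.closedPoint (A i) →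
      FlatMod.IsFlatOverAt (pullback.snd f (Spec.map (CommRingCat.ofHom (φ i)) ≫
          Y.fromSpecStalk (f x)))
        ((Scheme.Modules.pullback (pullback.fst f (Spec.map (CommRingCat.ofHom (φ i)) ≫
          Y.fromSpecStalk (f x)))).obj F) x') :
    FlatMod.IsFlatOverAt f F x := by
  haveI : F.IsQuasicoherent := hF.1
  haveI : SheafOfModules.IsFiniteType (R := X.ringCatSheaf) F := hF.2
  haveI : IsLocallyNoetherian X := LocallyOfFiniteType.isLocallyNoetherian f
  letI iAlg : Algebra (Y.presheaf.stalk (f x)) (X.presheaf.stalk x) :=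
    (f.stalkMap x).hom.toAlgebra
  letI iMod := FlatMod.moduleStalkOver f F x
  haveI : IsScalarTower (Y.presheaf.stalk (f x)) (X.presheaf.stalk x) (F.presheaf.stalk x) :=
    IsScalarTower.of_algebraMap_smul fun r x => rfl
  haveI : Module.Finite (X.presheaf.stalk x) (F.presheaf.stalk x) :=
    Groth.Agent.Helper4.QuasiFlat.finite_stalk F hF.2 x
  haveI : IsLocalHom (algebraMap (Y.presheaf.stalk (f x)) (X.presheaf.stalk x)) :=
    (inferInstance : IsLocalHom (f.stalkMap x).hom)
  change Module.Flat (Y.presheaf.stalk (f x)) (F.presheaf.stalk x)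
  refine flat_of_quotient_family (X.presheaf.stalk x) A φ htop fun s hne => ?_
  haveI : Nontrivial (Y.presheaf.stalk (f x) ⧸ qIdeal A φ s) :=
    Ideal.Quotient.nontrivial_iff.mpr hne
  haveI : IsLocalRing (Y.presheaf.stalk (f x) ⧸ qIdeal A φ s) :=
    .of_surjective' (Ideal.Quotient.mk _) Ideal.Quotient.mk_surjective
  haveI := isArtinianRing_quotient_qIdeal A φ s
  obtain ⟨xb, hxb1, hxb2⟩ := Scheme.Pullback.exists_preimage_pullback (f := f)
    (g := Spec.map (CommRingCat.ofHom (Ideal.Quotient.mk (qIdeal A φ s))) ≫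
      Y.fromSpecStalk (f x)) x (closedPoint (Y.presheaf.stalk (f x) ⧸ qIdeal A φ s))
    (quotient_closedPoint (f x) (qIdeal A φ s)).symm
  refine flat_quotient_tensor_of_isFlatOverAt f F x (qIdeal A φ s) xb hxb1 hxb2 ?_
  refine Groth.Agent.Helper21.FA.flat_of_local_family
    (pullback.snd f (Spec.map (CommRingCat.ofHom (Ideal.Quotient.mk (qIdeal A φ s))) ≫
      Y.fromSpecStalk (f x))) _ ⟨inferInstance, inferInstance⟩ xb (QRing A s) (qMap A φ s)
    (qMap_jointly_injective A φ s) fun p z hz1 hz2 => ?_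
  have hsq : Spec.map (CommRingCat.ofHom (qMap A φ s p)) ≫
      (Spec.map (CommRingCat.ofHom (Ideal.Quotient.mk (qIdeal A φ s))) ≫
        Y.fromSpecStalk (f x)) =
      Spec.map (CommRingCat.ofHom (Ideal.Quotient.mk
        (maximalIdeal (A p.1.1) ^ (p.1.2 + 1)))) ≫
      (Spec.map (CommRingCat.ofHom (φ p.1.1)) ≫ Y.fromSpecStalk (f x)) := by
    rw [← Category.assoc, ← Category.assoc, ← Spec.map_comp, ← Spec.map_comp,
      ← CommRingCat.ofHom_comp, ← CommRingCat.ofHom_comp, qMap_comp_mk]
  haveI : IsLocalHom (Ideal.Quotient.mk (maximalIdeal (A p.1.1) ^ (p.1.2 + 1))) :=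
    .of_surjective _ Ideal.Quotient.mk_surjective
  refine isFlatOverAt_pullback_of_square f _ _ _ _ hsq F x (closedPoint (A p.1.1))
    (hflat p.1.1) z ?_ ?_
  · rw [hz1, hxb1]
  · rw [hz2]
    exact comap_closedPoint (Ideal.Quotient.mk (maximalIdeal (A p.1.1) ^ (p.1.2 + 1)))

end Groth.Agent.Helper21.FC
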