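import Mathlib

/-!
# Transfer of "primary residue field extension" along base change by a morphism surjective on
stalks (helper21)
-/

set_option autoImplicit false
set_option linter.style.haveILetI false
set_option linter.unusedSectionVars false

universe u

open AlgebraicGeometry CategoryTheory Limits Function Polynomial

namespace Groth.Agent.Helper21.FD

/-- field-theoretic transfer of the "no new separable elements" condition. -/
theorem primary_transfer {k K k' K' : Type u} [Field k] [Field K] [Field k'] [Field K']
    (ρ : k →+* K) (ι : K →+* K') (j : k →+* k') (ρ' : k' →+* K')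
    (hcomm : ι.comp ρ = ρ'.comp j) (hι : Surjective ι) (hj : Surjective j)
    (hprim : letI := ρ.toAlgebra; ∀ a : K, IsSeparable k a → a ∈ ρ.range) :
    letI := ρ'.toAlgebra; ∀ a : K', IsSeparable k' a → a ∈ ρ'.range := by
  letI iρ := ρ.toAlgebra
  letI iρ' := ρ'.toAlgebra
  intro a ha
  obtain ⟨b, rfl⟩ := hι a
  obtain ⟨Q, hQ⟩ := Polynomial.map_surjective j hj (minpoly k' (ι b))
  have hQsep : Q.Separable := by
    rw [← Polynomial.separable_map j, hQ]
    exact ha
  have hQb : Polynomial.aeval b Q = 0 := by
    apply ι.injective
    rw [map_zero, Polynomial.aeval_def, Polynomial.hom_eval₂]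
    change Polynomial.eval₂ (ι.comp ρ) (ι b) Q = 0
    rw [hcomm, ← Polynomial.eval₂_map, hQ]
    exact minpoly.aeval k' (ι b)
  have hbsep : IsSeparable k b := hQsep.of_dvd (minpoly.dvd k b hQb)
  obtain ⟨b0, rfl⟩ := hprim b hbsep
  refine ⟨j b0, ?_⟩
  have := congrArg (fun q => q b0) hcomm
  exact this.symm

/-- residue field maps of a morphism surjective on stalks are surjective. -/
theorem residueFieldMap_surjective {X Y : Scheme.{u}} (g : X ⟶ Y) [SurjectiveOnStalks g] (x : X) :
    Surjective (g.residueFieldMap x).hom := by
  intro a
  obtain ⟨b, rfl⟩ := X.residue_surjective x a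
  obtain ⟨c, rfl⟩ := g.stalkMap_surjective x b
  refine ⟨(Y.residue (g x)).hom c, ?_⟩
  have := congrArg (fun q => q.hom c) (Scheme.residue_residueFieldMap g x)
  exact this

/-- **Transfer of primarity along base change by a morphism surjective on stalks.** -/
theorem hprim_pullback {X S S' : Scheme.{u}} (f : X ⟶ S) (g : S' ⟶ S) [SurjectiveOnStalks g]
    (x' : ↥(pullback f g)) (x : X) (hx : pullback.fst f g x' = x)
    (hprim : letI := (f.residueFieldMap x).hom.toAlgebra
      ∀ a : ↑(X.residueField x), IsSeparable ↑(S.residueField (f x)) a →
        a ∈ (f.residueFieldMap x).hom.range) :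
    letI := ((pullback.snd f g).residueFieldMap x').hom.toAlgebra
    ∀ a : ↑((pullback f g).residueField x'),
      IsSeparable ↑(S'.residueField (pullback.snd f g x')) a →
        a ∈ ((pullback.snd f g).residueFieldMap x').hom.range := by
  subst hx
  have hpt : f (pullback.fst f g x') = g (pullback.snd f g x') := by
    rw [← Scheme.Hom.comp_apply, pullback.condition, Scheme.Hom.comp_apply]
  haveI : SurjectiveOnStalks (pullback.fst f g) :=
    MorphismProperty.pullback_fst (P := @SurjectiveOnStalks) f g inferInstance
  have h1 := Scheme.Hom.residueFieldMap_congr (pullback.condition (f := f) (g := g)) x'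
  rw [Scheme.residueFieldMap_comp, Scheme.residueFieldMap_comp] at h1
  refine primary_transfer (f.residueFieldMap (pullback.fst f g x')).hom
    ((pullback.fst f g).residueFieldMap x').hom
    ((S.residueFieldCongr hpt).hom ≫ g.residueFieldMap (pullback.snd f g x')).hom
    ((pullback.snd f g).residueFieldMap x').hom ?_ ?_ ?_ hprim
  · rw [← CommRingCat.hom_comp, ← CommRingCat.hom_comp, h1, Category.assoc]
    rfl
  · exact residueFieldMap_surjective (pullback.fst f g) x'
  · rw [CommRingCat.hom_comp]
    refine (residueFieldMap_surjective g (pullback.snd f g x')).comp ?_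
    exact ((ConcreteCategory.isIso_iff_bijective (S.residueFieldCongr hpt).hom).mp
      inferInstance).2

end Groth.Agent.Helper21.FD
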