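import Mathlib
import Groth.Agent.Lib.Helper21.FC3

/-!
# Flatness of iterated pullbacks, one-point version (helper21)
-/

set_option autoImplicit false
set_option linter.style.haveILetI false
set_option linter.unusedSectionVars false

universe u

open AlgebraicGeometry CategoryTheory Limits TensorProduct Function IsLocalRing

namespace Groth.Agent.Helper21.FD

open Groth.Agent.Helper12.FlatModBC Groth.Agent.Helper21.FC

/-- One-point version of `isFlatOverAt_pullback_of_square`: a flat point of `X ×_Y Y₁` lifts to a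
flat point of `(X ×_Y Ȳ) ×_Ȳ Y₂` above any prescribed compatible point of `Y₂`. -/
theorem exists_isFlatOverAt_pullback_of_square {X Y Yb Y₁ Y₂ : Scheme.{u}} (f : X ⟶ Y)
    (gb : Yb ⟶ Y) (g₁ : Y₁ ⟶ Y) (u : Y₂ ⟶ Yb) (π : Y₂ ⟶ Y₁) (hsq : u ≫ gb = π ≫ g₁)
    (F : X.Modules) [F.IsQuasicoherent] (x₁ : ↥(pullback f g₁)) (y₂ : Y₂)
    (hy₂ : π y₂ = pullback.snd f g₁ x₁)
    (hflat : FlatMod.IsFlatOverAt (pullback.snd f g₁)
      ((Scheme.Modules.pullback (pullback.fst f g₁)).obj F) x₁) :
    ∃ z : ↥(pullback (pullback.snd f gb) u),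
      pullback.fst f gb (pullback.fst (pullback.snd f gb) u z) = pullback.fst f g₁ x₁ ∧
      pullback.snd (pullback.snd f gb) u z = y₂ ∧
      FlatMod.IsFlatOverAt (pullback.snd (pullback.snd f gb) u)
        ((Scheme.Modules.pullback (pullback.fst (pullback.snd f gb) u)).obj
          ((Scheme.Modules.pullback (pullback.fst f gb)).obj F)) z := by
  have hw : (pullback.fst (pullback.snd f gb) u ≫ pullback.fst f gb) ≫ f =
      (pullback.snd (pullback.snd f gb) u ≫ π) ≫ g₁ := by
    rw [Category.assoc, pullback.condition, ← Category.assoc, pullback.condition, Category.assoc,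
      hsq, Category.assoc]
  obtain ⟨θ, hθ⟩ : ∃ θ : pullback (pullback.snd f gb) u ⟶ pullback f g₁,
      θ = pullback.lift (pullback.fst (pullback.snd f gb) u ≫ pullback.fst f gb)
        (pullback.snd (pullback.snd f gb) u ≫ π) hw := ⟨_, rfl⟩
  have hθ1 : θ ≫ pullback.fst f g₁ =
      pullback.fst (pullback.snd f gb) u ≫ pullback.fst f gb := by
    rw [hθ, pullback.lift_fst]
  have hθ2 : θ ≫ pullback.snd f g₁ = pullback.snd (pullback.snd f gb) u ≫ π := by
    rw [hθ, pullback.lift_snd]
  have hbig : IsPullback (θ ≫ pullback.fst f g₁) (pullback.snd (pullback.snd f gb) u) f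
      (π ≫ g₁) := by
    rw [hθ1, ← hsq]
    exact (IsPullback.of_hasPullback (pullback.snd f gb) u).paste_horiz
      (IsPullback.of_hasPullback f gb)
  have hc : IsPullback θ (pullback.snd (pullback.snd f gb) u) (pullback.snd f g₁) π :=
    IsPullback.of_right hbig hθ2 (IsPullback.of_hasPullback f g₁)
  obtain ⟨z0, hz01, hz02⟩ := Scheme.Pullback.exists_preimage_pullback
    (f := pullback.snd f g₁) (g := π) x₁ y₂ hy₂.symm
  have hz1 : θ (hc.isoPullback.inv z0) = x₁ := by
    rw [← Scheme.Hom.comp_apply, IsPullback.isoPullback_inv_fst, hz01]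
  have hz2 : pullback.snd (pullback.snd f gb) u (hc.isoPullback.inv z0) = y₂ := by
    rw [← Scheme.Hom.comp_apply, IsPullback.isoPullback_inv_snd, hz02]
  refine ⟨hc.isoPullback.inv z0, ?_, hz2, ?_⟩
  · rw [← Scheme.Hom.comp_apply, ← hθ1, Scheme.Hom.comp_apply, hz1]
  · have h1 := isFlatOverAt_baseChange hc ((Scheme.Modules.pullback (pullback.fst f g₁)).obj F)
      (hc.isoPullback.inv z0) (hz1 ▸ hflat)
    refine isFlatOverAt_of_iso _ ?_ _ h1
    exact (Scheme.Modules.pullbackComp θ (pullback.fst f g₁)).app F ≪≫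
      (Scheme.Modules.pullbackCongr hθ1).app F ≪≫
      ((Scheme.Modules.pullbackComp (pullback.fst (pullback.snd f gb) u) (pullback.fst f gb)).app
        F).symm

end Groth.Agent.Helper21.FD
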