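import Mathlib
import Groth.Agent.Lib.Helper21.FC6
import Groth.Agent.Lib.Helper21.FD1
import Groth.Agent.Lib.Helper21.FD2
import Groth.Agent.Lib.Helper21.FB7

/-!
# Flatness tested on one point per member of a family of local homomorphisms, primary residue
field extension (helper21)
-/

set_option autoImplicit false
set_option linter.style.haveILetI false
set_option linter.unusedSectionVars false

universe u

open AlgebraicGeometry CategoryTheory Limits TensorProduct Function IsLocalRing

namespace Groth.Agent.Helper21.FD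

open Groth.Agent.Helper21.FC

set_option maxHeartbeats 1600000 in
/-- **EGA IV 11.4.4-type statement**: one point per test ring, primary residue extension. -/
theorem flat_of_stalk_family_one {X Y : Scheme.{u}} [IsLocallyNoetherian Y]
    (f : X ⟶ Y) [LocallyOfFiniteType f] (F : X.Modules) (hF : Coh.IsCoh F) (x : X)
    (hprim : letI := (f.residueFieldMap x).hom.toAlgebra
      ∀ a : ↑(X.residueField x), IsSeparable ↑(Y.residueField (f x)) a →
        a ∈ (f.residueFieldMap x).hom.range)
    {ι : Type u} (A : ι → Type u) [∀ i, CommRing (A i)] [∀ i, IsLocalRing (A i)]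
    (φ : ∀ i, (Y.presheaf.stalk (f x) : Type u) →+* A i) [∀ i, IsLocalHom (φ i)]
    (htop : ∀ N : ℕ, ∃ s : Finset (ι × ℕ),
      ⨅ p ∈ s, Ideal.comap (φ p.1) (IsLocalRing.maximalIdeal (A p.1) ^ p.2) ≤
        IsLocalRing.maximalIdeal ↑(Y.presheaf.stalk (f x)) ^ N)
    (hflat : ∀ i : ι, ∃ x' : ↥(pullback f (Spec.map (CommRingCat.ofHom (φ i)) ≫
        Y.fromSpecStalk (f x))),
      pullback.fst f (Spec.map (CommRingCat.ofHom (φ i)) ≫ Y.fromSpecStalk (f x)) x' = x ∧
      pullback.snd f (Spec.map (CommRingCat.ofHom (φ i)) ≫ Y.fromSpecStalk (f x)) x' =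
        IsLocalRing.closedPoint (A i) ∧
      FlatMod.IsFlatOverAt (pullback.snd f (Spec.map (CommRingCat.ofHom (φ i)) ≫
          Y.fromSpecStalk (f x)))
        ((Scheme.Modules.pullback (pullback.fst f (Spec.map (CommRingCat.ofHom (φ i)) ≫
          Y.fromSpecStalk (f x)))).obj F) x') :
    FlatMod.IsFlatOverAt f F x := by
  haveI : F.IsQuasicoherent := hF.1
  haveI : SheafOfModules.IsFiniteType (R := X.ringCatSheaf) F := hF.2
  haveI : IsLocallyNoetherian X := LocallyOfFiniteType.isLocallyNoetherian f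
  letI iAlg : Algebra (Y.presheaf.stalk (f x)) (X.presheaf.stalk x) :=
    (f.stalkMap x).hom.toAlgebra
  letI iMod := FlatMod.moduleStalkOver f F x
  haveI : IsScalarTower (Y.presheaf.stalk (f x)) (X.presheaf.stalk x) (F.presheaf.stalk x) :=
    IsScalarTower.of_algebraMap_smul fun r x => rfl
  haveI : Module.Finite (X.presheaf.stalk x) (F.presheaf.stalk x) :=
    Groth.Agent.Helper4.QuasiFlat.finite_stalk F hF.2 x
  haveI : IsLocalHom (algebraMap (Y.presheaf.stalk (f x)) (X.presheaf.stalk x)) :=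
    (inferInstance : IsLocalHom (f.stalkMap x).hom)
  change Module.Flat (Y.presheaf.stalk (f x)) (F.presheaf.stalk x)
  refine flat_of_quotient_family (X.presheaf.stalk x) A φ htop fun s hne => ?_
  haveI : Nontrivial (Y.presheaf.stalk (f x) ⧸ qIdeal A φ s) :=
    Ideal.Quotient.nontrivial_iff.mpr hne
  haveI : IsLocalRing (Y.presheaf.stalk (f x) ⧸ qIdeal A φ s) :=
    .of_surjective' (Ideal.Quotient.mk _) Ideal.Quotient.mk_surjective
  haveI := isArtinianRing_quotient_qIdeal A φ s
  haveI : IsClosedImmersion (Spec.map (CommRingCat.ofHom (Ideal.Quotient.mk (qIdeal A φ s)))) :=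
    IsClosedImmersion.spec_of_surjective _ Ideal.Quotient.mk_surjective
  haveI : IsPreimmersion (Spec.map (CommRingCat.ofHom (Ideal.Quotient.mk (qIdeal A φ s))) ≫
      Y.fromSpecStalk (f x)) := inferInstance
  obtain ⟨xb, hxb1, hxb2⟩ := Scheme.Pullback.exists_preimage_pullback (f := f)
    (g := Spec.map (CommRingCat.ofHom (Ideal.Quotient.mk (qIdeal A φ s))) ≫
      Y.fromSpecStalk (f x)) x (closedPoint (Y.presheaf.stalk (f x) ⧸ qIdeal A φ s))
    (quotient_closedPoint (f x) (qIdeal A φ s)).symm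
  refine flat_quotient_tensor_of_isFlatOverAt f F x (qIdeal A φ s) xb hxb1 hxb2 ?_
  have hprim' := hprim_pullback f
    (Spec.map (CommRingCat.ofHom (Ideal.Quotient.mk (qIdeal A φ s))) ≫
      Y.fromSpecStalk (f x)) xb x hxb1 hprim
  refine Groth.Agent.Helper21.FB.flat_of_local_family_one
    (pullback.snd f (Spec.map (CommRingCat.ofHom (Ideal.Quotient.mk (qIdeal A φ s))) ≫
      Y.fromSpecStalk (f x))) _ ⟨inferInstance, inferInstance⟩ xb (QRing A s) (qMap A φ s)
    (qMap_jointly_injective A φ s) hprim' fun p => ?_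
  have hsq : Spec.map (CommRingCat.ofHom (qMap A φ s p)) ≫
      (Spec.map (CommRingCat.ofHom (Ideal.Quotient.mk (qIdeal A φ s))) ≫
        Y.fromSpecStalk (f x)) =
      Spec.map (CommRingCat.ofHom (Ideal.Quotient.mk
        (maximalIdeal (A p.1.1) ^ (p.1.2 + 1)))) ≫
      (Spec.map (CommRingCat.ofHom (φ p.1.1)) ≫ Y.fromSpecStalk (f x)) := by
    rw [← Category.assoc, ← Category.assoc, ← Spec.map_comp, ← Spec.map_comp,
      ← CommRingCat.ofHom_comp, ← CommRingCat.ofHom_comp, qMap_comp_mk]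
  haveI : IsLocalHom (Ideal.Quotient.mk (maximalIdeal (A p.1.1) ^ (p.1.2 + 1))) :=
    .of_surjective _ Ideal.Quotient.mk_surjective
  obtain ⟨x', hx'1, hx'2, hx'fl⟩ := hflat p.1.1
  have hy₂ : Spec.map (CommRingCat.ofHom (Ideal.Quotient.mk
      (maximalIdeal (A p.1.1) ^ (p.1.2 + 1)))) (closedPoint (QRing A s p)) =
      pullback.snd f (Spec.map (CommRingCat.ofHom (φ p.1.1)) ≫ Y.fromSpecStalk (f x)) x' := by
    rw [hx'2]
    exact comap_closedPoint (Ideal.Quotient.mk (maximalIdeal (A p.1.1) ^ (p.1.2 + 1)))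
  obtain ⟨z, hz1, hz2, hzfl⟩ := exists_isFlatOverAt_pullback_of_square f _ _ _ _ hsq F x'
    (closedPoint (QRing A s p)) hy₂ hx'fl
  refine ⟨z, ?_, hz2, hzfl⟩
  apply (pullback.fst f (Spec.map (CommRingCat.ofHom (Ideal.Quotient.mk (qIdeal A φ s))) ≫
      Y.fromSpecStalk (f x))).isEmbedding.injective
  rw [hz1, hx'1, hxb1]

end Groth.Agent.Helper21.FD
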