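import Mathlib

/-!
# The topology induced on a Noetherian local ring by a finite injective extension (helper21)
-/

set_option autoImplicit false
set_option linter.style.haveILetI false
set_option linter.unusedSectionVars false

universe u

open Function IsLocalRing

namespace Groth.Agent.Helper21.FE

variable {𝒪 A' : Type u} [CommRing 𝒪] [IsLocalRing 𝒪] [CommRing A'] [Algebra 𝒪 A']
  [Module.Finite 𝒪 A']

/-- maximal ideals of a finite algebra over a local ring lie over the maximal ideal. -/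
theorem comap_eq_maximalIdeal (i : Ideal A') [i.IsMaximal] :
    i.comap (algebraMap 𝒪 A') = maximalIdeal 𝒪 := by
  haveI : Algebra.IsIntegral 𝒪 A' := Algebra.IsIntegral.of_finite 𝒪 A'
  exact IsLocalRing.eq_maximalIdeal (Ideal.isMaximal_comap_of_isIntegral_of_isMaximal i)

/-- the composite `𝒪 → A' → A'_𝔪` is local. -/
theorem isLocalHom_comp_localization (i : Ideal A') [i.IsMaximal] :
    IsLocalHom ((algebraMap A' (Localization.AtPrime i)).comp (algebraMap 𝒪 A')) := by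
  refine ⟨fun a ha => ?_⟩
  rw [RingHom.comp_apply, IsLocalization.AtPrime.isUnit_to_map_iff (Localization.AtPrime i) i] at ha
  by_contra hna
  have h1 : a ∈ maximalIdeal 𝒪 := (mem_maximalIdeal a).mpr hna
  rw [← comap_eq_maximalIdeal (𝒪 := 𝒪) i] at h1
  exact ha h1

variable [IsNoetherianRing 𝒪]

/-- **Artin–Rees**: the `𝔪A'`-adic topology induces the `𝔪`-adic topology on `𝒪 ⊆ A'`. -/
theorem exists_comap_map_pow_le (hinj : Injective (algebraMap 𝒪 A')) :
    ∃ k, ∀ n, ((maximalIdeal 𝒪 ^ (n + k)).map (algebraMap 𝒪 A')).comap (algebraMap 𝒪 A') ≤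
      maximalIdeal 𝒪 ^ n := by
  obtain ⟨k, hk⟩ := Ideal.exists_pow_inf_eq_pow_smul (maximalIdeal 𝒪)
    (LinearMap.range (Algebra.linearMap 𝒪 A'))
  refine ⟨k, fun n a ha => ?_⟩
  rw [Ideal.mem_comap] at ha
  have h1 : algebraMap 𝒪 A' a ∈ (maximalIdeal 𝒪 ^ (n + k) • ⊤ ⊓
      LinearMap.range (Algebra.linearMap 𝒪 A') : Submodule 𝒪 A') := by
    refine ⟨?_, ⟨a, rfl⟩⟩
    rw [Ideal.smul_top_eq_map]
    exact ha
  rw [hk (n + k) (Nat.le_add_left _ _), Nat.add_sub_cancel] at h1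
  have h2 : (maximalIdeal 𝒪 ^ n • (maximalIdeal 𝒪 ^ k • ⊤ ⊓
      LinearMap.range (Algebra.linearMap 𝒪 A')) : Submodule 𝒪 A') ≤
      maximalIdeal 𝒪 ^ n • LinearMap.range (Algebra.linearMap 𝒪 A') :=
    Submodule.smul_mono le_rfl inf_le_right
  have h3 := h2 h1
  rw [LinearMap.range_eq_map, ← Submodule.map_smul''] at h3
  obtain ⟨a', ha', h4⟩ := h3
  have h5 : a' = a := hinj h4
  have h6 : a' ∈ maximalIdeal 𝒪 ^ n := by
    have : (maximalIdeal 𝒪 ^ n • (⊤ : Submodule 𝒪 𝒪)) = maximalIdeal 𝒪 ^ n := by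
      rw [smul_eq_mul, Ideal.mul_top]
    rw [← this]
    exact ha'
  exact h5 ▸ h6

theorem isArtinianRing_quotient_map_pow (n : ℕ) :
    IsArtinianRing (A' ⧸ (maximalIdeal 𝒪 ^ n).map (algebraMap 𝒪 A')) := by
  by_cases hn : maximalIdeal 𝒪 ^ n = ⊤
  · rw [hn, Ideal.map_top]
    haveI : Subsingleton (A' ⧸ (⊤ : Ideal A')) := Ideal.Quotient.subsingleton_iff.mpr rfl
    infer_instance
  haveI : Nontrivial (𝒪 ⧸ maximalIdeal 𝒪 ^ n) := Ideal.Quotient.nontrivial_iff.mpr hn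
  haveI : IsLocalRing (𝒪 ⧸ maximalIdeal 𝒪 ^ n) :=
    .of_surjective' (Ideal.Quotient.mk _) Ideal.Quotient.mk_surjective
  haveI : IsArtinianRing (𝒪 ⧸ maximalIdeal 𝒪 ^ n) := by
    rw [isArtinianRing_iff_isNilpotent_maximalIdeal]
    refine ⟨n, ?_⟩
    rw [← IsLocalRing.map_maximalIdeal_of_surjective (Ideal.Quotient.mk (maximalIdeal 𝒪 ^ n))
      Ideal.Quotient.mk_surjective, ← Ideal.map_pow, Ideal.zero_eq_bot,
      Ideal.map_eq_bot_iff_le_ker, Ideal.mk_ker]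
  haveI : Module.Finite (𝒪 ⧸ maximalIdeal 𝒪 ^ n)
      (A' ⧸ (maximalIdeal 𝒪 ^ n).map (algebraMap 𝒪 A')) :=
    Module.Finite.of_restrictScalars_finite 𝒪 _ _
  exact IsArtinianRing.of_finite (𝒪 ⧸ maximalIdeal 𝒪 ^ n) _

end Groth.Agent.Helper21.FE
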