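import Mathlib
import Groth.Agent.Lib.Helper21.FE1

/-!
# The topology induced on a Noetherian local ring by a finite injective extension, II (helper21)
-/

set_option autoImplicit false
set_option linter.style.haveILetI false
set_option linter.unusedSectionVars false

universe u

open Function IsLocalRing

namespace Groth.Agent.Helper21.FE

variable {𝒪 A' : Type u} [CommRing 𝒪] [IsLocalRing 𝒪] [IsNoetherianRing 𝒪] [CommRing A']
  [Algebra 𝒪 A'] [Module.Finite 𝒪 A']

/-- a finite algebra over a Noetherian local ring is semilocal. -/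
theorem finite_maximalSpectrum (𝒪 : Type u) {A' : Type u} [CommRing 𝒪] [IsLocalRing 𝒪]
    [IsNoetherianRing 𝒪] [CommRing A'] [Algebra 𝒪 A'] [Module.Finite 𝒪 A'] :
    Finite (MaximalSpectrum A') := by
  haveI := isArtinianRing_quotient_map_pow (𝒪 := 𝒪) (A' := A') 1
  obtain ⟨K, hK⟩ : ∃ K : Ideal A', K = (maximalIdeal 𝒪 ^ 1).map (algebraMap 𝒪 A') := ⟨_, rfl⟩
  rw [← hK] at this
  let g : MaximalSpectrum (A' ⧸ K) → MaximalSpectrum A' := fun J =>
    ⟨J.asIdeal.comap (Ideal.Quotient.mk K),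
      Ideal.comap_isMaximal_of_surjective _ Ideal.Quotient.mk_surjective⟩
  refine Finite.of_surjective g fun i => ?_
  haveI := i.isMaximal
  have hKi : K ≤ i.asIdeal := by
    rw [hK, Ideal.map_le_iff_le_comap, pow_one, comap_eq_maximalIdeal]
  have hcm : (i.asIdeal.map (Ideal.Quotient.mk K)).comap (Ideal.Quotient.mk K) = i.asIdeal := by
    rw [Ideal.comap_map_of_surjective _ Ideal.Quotient.mk_surjective, ← RingHom.ker_eq_comap_bot,
      Ideal.mk_ker, sup_eq_left.mpr hKi]
  have hmax : (i.asIdeal.map (Ideal.Quotient.mk K)).IsMaximal := by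
    refine (Ideal.map_eq_top_or_isMaximal_of_surjective _ Ideal.Quotient.mk_surjective
      i.isMaximal).resolve_left fun h => ?_
    rw [h, Ideal.comap_top] at hcm
    exact i.isMaximal.ne_top hcm.symm
  exact ⟨⟨_, hmax⟩, MaximalSpectrum.ext hcm⟩

/-- elements which are deep in every localization at a maximal ideal lie in `𝔪ⁿA'`. -/
theorem exists_pow_forall_mem (n : ℕ) :
    ∃ n₀ : ℕ, ∀ b : A', (∀ i : MaximalSpectrum A',
      algebraMap A' (Localization.AtPrime i.asIdeal) b ∈
        maximalIdeal (Localization.AtPrime i.asIdeal) ^ n₀) →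
      b ∈ (maximalIdeal 𝒪 ^ n).map (algebraMap 𝒪 A') := by
  haveI := isArtinianRing_quotient_map_pow (𝒪 := 𝒪) (A' := A') n
  obtain ⟨K, hK⟩ : ∃ K : Ideal A', K = (maximalIdeal 𝒪 ^ n).map (algebraMap 𝒪 A') := ⟨_, rfl⟩
  rw [← hK] at this ⊢
  have hnil : ∀ J : MaximalSpectrum (A' ⧸ K), ∃ m : ℕ,
      maximalIdeal (Localization.AtPrime J.asIdeal) ^ m = ⊥ := by
    intro J
    have h1 := (isArtinianRing_iff_isNilpotent_maximalIdeal
      (Localization.AtPrime J.asIdeal)).mp inferInstance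
    obtain ⟨m, hm⟩ := h1
    exact ⟨m, hm⟩
  choose nJ hnJ using hnil
  obtain ⟨n₀, hn₀⟩ := (Set.finite_range nJ).bddAbove
  refine ⟨n₀, fun b hb => ?_⟩
  rw [← Ideal.Quotient.eq_zero_iff_mem]
  refine eq_zero_of_localization _ fun J hJ => ?_
  haveI := hJ
  haveI hi : (J.comap (Ideal.Quotient.mk K)).IsMaximal :=
    Ideal.comap_isMaximal_of_surjective _ Ideal.Quotient.mk_surjective
  have hb' := hb ⟨J.comap (Ideal.Quotient.mk K), hi⟩
  haveI := Localization.isLocalHom_localRingHom (J.comap (Ideal.Quotient.mk K)) J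
    (Ideal.Quotient.mk K) rfl
  have h1 := Ideal.mem_map_of_mem (Localization.localRingHom (J.comap (Ideal.Quotient.mk K)) J
    (Ideal.Quotient.mk K) rfl) hb'
  rw [Localization.localRingHom_to_map, Ideal.map_pow] at h1
  have h2 : (maximalIdeal (Localization.AtPrime (J.comap (Ideal.Quotient.mk K)))).map
      (Localization.localRingHom (J.comap (Ideal.Quotient.mk K)) J (Ideal.Quotient.mk K) rfl) ≤
      maximalIdeal (Localization.AtPrime J) := map_maximalIdeal_le _
  have h3 := Ideal.pow_right_mono h2 n₀ h1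
  have h4 : nJ ⟨J, hJ⟩ ≤ n₀ := hn₀ ⟨⟨J, hJ⟩, rfl⟩
  have h5 := Ideal.pow_le_pow_right h4 h3
  rw [hnJ ⟨J, hJ⟩] at h5
  exact h5

/-- **The family of localizations at the maximal ideals of a finite injective extension defines
the `𝔪`-adic topology.** -/
theorem htop_of_finite_injective (hinj : Injective (algebraMap 𝒪 A')) (N : ℕ) :
    ∃ s : Finset (MaximalSpectrum A' × ℕ),
      ⨅ p ∈ s, Ideal.comap ((algebraMap A' (Localization.AtPrime p.1.asIdeal)).comp
        (algebraMap 𝒪 A')) (maximalIdeal (Localization.AtPrime p.1.asIdeal) ^ p.2) ≤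
      maximalIdeal 𝒪 ^ N := by
  classical
  obtain ⟨k, hk⟩ := exists_comap_map_pow_le (𝒪 := 𝒪) (A' := A') hinj
  obtain ⟨n₀, hn₀⟩ := exists_pow_forall_mem (𝒪 := 𝒪) (A' := A') (N + k)
  haveI := finite_maximalSpectrum 𝒪 (A' := A')
  letI := Fintype.ofFinite (MaximalSpectrum A')
  refine ⟨(Finset.univ : Finset (MaximalSpectrum A')).image (fun i => (i, n₀)), fun a ha => ?_⟩
  apply hk N
  rw [Ideal.mem_comap]
  apply hn₀
  intro i
  rw [Ideal.mem_iInf] at ha
  have h1 := ha (i, n₀)
  rw [Ideal.mem_iInf] at h1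
  exact h1 (Finset.mem_image.mpr ⟨i, Finset.mem_univ _, rfl⟩)

end Groth.Agent.Helper21.FE
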