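import Mathlib
import Groth.Agent.Lib.Helper21.FC6
import Groth.Agent.Lib.Helper21.FE2

/-!
# Flatness tested after a finite injective extension of the local ring of the base (helper21)
-/

set_option autoImplicit false
set_option linter.style.haveILetI false
set_option linter.unusedSectionVars false

universe u

open AlgebraicGeometry CategoryTheory Limits TensorProduct Function IsLocalRing

namespace Groth.Agent.Helper21.FE

open Groth.Agent.Helper12.FlatModBC Groth.Agent.Helper21.FC

/-- Flatness of the pullback along `g₁` at the relevant point gives flatness of the pullback along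
`g₂ = π ≫ g₁`. -/
theorem isFlatOverAt_pullback_of_comp {X Y Y₁ Y₂ : Scheme.{u}} (f : X ⟶ Y) (g₁ : Y₁ ⟶ Y)
    (π : Y₂ ⟶ Y₁) (g₂ : Y₂ ⟶ Y) (hg : g₂ = π ≫ g₁) (F : X.Modules) [F.IsQuasicoherent]
    (x₂ : ↥(pullback f g₂))
    (hflat : ∀ x₁ : ↥(pullback f g₁), pullback.fst f g₁ x₁ = pullback.fst f g₂ x₂ →
      pullback.snd f g₁ x₁ = π (pullback.snd f g₂ x₂) →
      FlatMod.IsFlatOverAt (pullback.snd f g₁) ((Scheme.Modules.pullback (pullback.fst f g₁)).obj F)
        x₁) :
    FlatMod.IsFlatOverAt (pullback.snd f g₂)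
      ((Scheme.Modules.pullback (pullback.fst f g₂)).obj F) x₂ := by
  subst hg
  have hw : pullback.fst f (π ≫ g₁) ≫ f = (pullback.snd f (π ≫ g₁) ≫ π) ≫ g₁ := by
    rw [pullback.condition, Category.assoc]
  obtain ⟨θ, hθ⟩ : ∃ θ : pullback f (π ≫ g₁) ⟶ pullback f g₁,
      θ = pullback.lift (pullback.fst f (π ≫ g₁)) (pullback.snd f (π ≫ g₁) ≫ π) hw := ⟨_, rfl⟩
  have hθ1 : θ ≫ pullback.fst f g₁ = pullback.fst f (π ≫ g₁) := by
    rw [hθ, pullback.lift_fst]
  have hθ2 : θ ≫ pullback.snd f g₁ = pullback.snd f (π ≫ g₁) ≫ π := by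
    rw [hθ, pullback.lift_snd]
  have hbig : IsPullback (θ ≫ pullback.fst f g₁) (pullback.snd f (π ≫ g₁)) f (π ≫ g₁) := by
    rw [hθ1]
    exact IsPullback.of_hasPullback f (π ≫ g₁)
  have hc : IsPullback θ (pullback.snd f (π ≫ g₁)) (pullback.snd f g₁) π :=
    IsPullback.of_right hbig hθ2 (IsPullback.of_hasPullback f g₁)
  have hx1 : pullback.fst f g₁ (θ x₂) = pullback.fst f (π ≫ g₁) x₂ := by
    rw [← Scheme.Hom.comp_apply, hθ1]
  have hx2 : pullback.snd f g₁ (θ x₂) = π (pullback.snd f (π ≫ g₁) x₂) := by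
    rw [← Scheme.Hom.comp_apply, hθ2, Scheme.Hom.comp_apply]
  have h1 := isFlatOverAt_baseChange hc ((Scheme.Modules.pullback (pullback.fst f g₁)).obj F) x₂
    (hflat (θ x₂) hx1 hx2)
  refine isFlatOverAt_of_iso _ ?_ x₂ h1
  exact (Scheme.Modules.pullbackComp θ (pullback.fst f g₁)).app F ≪≫
    (Scheme.Modules.pullbackCongr hθ1).app F

/-- `isFlatOverAt_baseChange` with the image point named. -/
theorem isFlatOverAt_baseChange_of_eq {X S X' S' : Scheme.{u}} {f : X ⟶ S} {f' : X' ⟶ S'}
    {g' : X' ⟶ X} {g : S' ⟶ S} (hc : IsPullback g' f' f g)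
    (F : X.Modules) [F.IsQuasicoherent] (x' : X') (x : X) (hx : g' x' = x)
    (h : FlatMod.IsFlatOverAt f F x) :
    FlatMod.IsFlatOverAt f' ((Scheme.Modules.pullback g').obj F) x' := by
  subst hx
  exact isFlatOverAt_baseChange hc F x' h

set_option maxHeartbeats 1600000 in
/-- **EGA IV 11.4.?-type statement**: flatness at `x` can be tested after a finite injective
extension of `𝒪_{Y, f x}`, at the points over `x` and over closed points. -/
theorem isFlatOverAt_iff_finite_injective {X Y : Scheme.{u}} [IsLocallyNoetherian Y]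
    (f : X ⟶ Y) [LocallyOfFiniteType f] (F : X.Modules) (hF : Coh.IsCoh F) (x : X)
    (A' : CommRingCat.{u}) (φ : Y.presheaf.stalk (f x) ⟶ A') (hfin : φ.hom.Finite)
    (hinj : Function.Injective φ.hom) :
    FlatMod.IsFlatOverAt f F x ↔
      ∀ x' : ↥(pullback f (Spec.map φ ≫ Y.fromSpecStalk (f x))),
        pullback.fst f (Spec.map φ ≫ Y.fromSpecStalk (f x)) x' = x →
        IsClosed ({pullback.snd f (Spec.map φ ≫ Y.fromSpecStalk (f x)) x'} : Set ↥(Spec A')) →
          FlatMod.IsFlatOverAt (pullback.snd f (Spec.map φ ≫ Y.fromSpecStalk (f x)))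
            ((Scheme.Modules.pullback
              (pullback.fst f (Spec.map φ ≫ Y.fromSpecStalk (f x)))).obj F) x' := by
  haveI : F.IsQuasicoherent := hF.1
  constructor
  · intro h x' hx' _
    exact isFlatOverAt_baseChange_of_eq (IsPullback.of_hasPullback f _) F x' x hx' h
  · intro H
    letI iAlg : Algebra (Y.presheaf.stalk (f x)) A' := φ.hom.toAlgebra
    haveI : Module.Finite (Y.presheaf.stalk (f x)) A' := hfin
    haveI : ∀ i : MaximalSpectrum A', IsLocalHom
        ((algebraMap A' (Localization.AtPrime i.asIdeal)).comp φ.hom) := fun i =>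
      haveI := i.isMaximal
      isLocalHom_comp_localization (𝒪 := Y.presheaf.stalk (f x)) i.asIdeal
    refine flat_of_stalk_family f F hF x
      (fun i : MaximalSpectrum A' => Localization.AtPrime i.asIdeal)
      (fun i => (algebraMap A' (Localization.AtPrime i.asIdeal)).comp φ.hom)
      (fun N => htop_of_finite_injective (𝒪 := Y.presheaf.stalk (f x)) (A' := A') hinj N)
      fun i x₂ hx₂1 hx₂2 => ?_
    refine isFlatOverAt_pullback_of_comp f (Spec.map φ ≫ Y.fromSpecStalk (f x))
      (Spec.map (CommRingCat.ofHom (algebraMap A' (Localization.AtPrime i.asIdeal)))) _ ?_ F x₂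
      fun x₁ hx₁1 hx₁2 => H x₁ (hx₁1.trans hx₂1) ?_
    · rw [← Category.assoc, ← Spec.map_comp]
      rfl
    · rw [hx₁2, hx₂2]
      have h1 : Spec.map (CommRingCat.ofHom (algebraMap A' (Localization.AtPrime i.asIdeal)))
          (closedPoint (Localization.AtPrime i.asIdeal)) = ⟨i.asIdeal, i.isMaximal.isPrime⟩ := by
        apply PrimeSpectrum.ext
        exact Localization.AtPrime.under_maximalIdeal (I := i.asIdeal)
      rw [h1]
      exact (PrimeSpectrum.isClosed_singleton_iff_isMaximal _).mpr i.isMaximal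

end Groth.Agent.Helper21.FE
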