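import Mathlib
import Groth.Agent.Lib.Helper21.ModFlat3
import Groth.Agent.Lib.Helper21.GrA2

/-!
# Openness of the locus where all pieces of a finitely generated "graded" module are flat (helper21)
-/

set_option autoImplicit false
set_option linter.style.haveILetI false
set_option linter.unusedSectionVars false

universe u

open TensorProduct Function

namespace Groth.Agent.Helper21.FN

/-- flatness of a localized module in terms of the base change to the local ring. -/
theorem flat_localizedModule_iff {C : Type u} [CommRing C] (q : Ideal C) [q.IsPrime] (Y : Type u)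
    [AddCommGroup Y] [Module C Y] :
    Module.Flat C (LocalizedModule q.primeCompl Y) ↔
      Module.Flat (Localization.AtPrime q) (Localization.AtPrime q ⊗[C] Y) := by
  rw [← Module.flat_iff_of_isLocalization (Localization.AtPrime q) q.primeCompl
    (LocalizedModule q.primeCompl Y)]
  have e : Localization.AtPrime q ⊗[C] Y ≃ₗ[Localization.AtPrime q]
      LocalizedModule q.primeCompl Y :=
    (IsLocalizedModule.isBaseChange q.primeCompl (Localization.AtPrime q)
      (LocalizedModule.mkLinearMap q.primeCompl Y)).equiv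
  exact ⟨fun h => Module.Flat.of_linearEquiv e, fun h => Module.Flat.of_linearEquiv e.symm⟩

/-- flatness of a localized module is invariant under linear equivalences. -/
theorem flat_localizedModule_congr {C : Type u} [CommRing C] (q : Ideal C) [q.IsPrime]
    {Y Y' : Type u} [AddCommGroup Y] [Module C Y] [AddCommGroup Y'] [Module C Y']
    (e : Y ≃ₗ[C] Y') :
    Module.Flat C (LocalizedModule q.primeCompl Y) ↔
      Module.Flat C (LocalizedModule q.primeCompl Y') := by
  rw [flat_localizedModule_iff, flat_localizedModule_iff]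
  have e' : Localization.AtPrime q ⊗[C] Y ≃ₗ[Localization.AtPrime q]
      Localization.AtPrime q ⊗[C] Y' := e.baseChange C (Localization.AtPrime q) _ _
  exact ⟨fun h => Module.Flat.of_linearEquiv e'.symm, fun h => Module.Flat.of_linearEquiv e'⟩

attribute [local instance] Algebra.TensorProduct.rightAlgebra

set_option maxHeartbeats 1600000 in
set_option synthInstance.maxHeartbeats 400000 in
/-- **Openness of the locus of flatness of all pieces.** `B₀` Noetherian, `ℛ` a finite type
`B₀`-algebra, `𝓜` a finite `ℛ`-module which is the direct sum of `B₀`-modules `Pk k`; then for any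
`B₀`-algebra `C` the set of primes of `C` at which all `C ⊗ Pk k` are flat over `C` is open. -/
theorem isOpen_flat_pieces {B₀ C ℛ 𝓜 : Type u} [CommRing B₀] [IsNoetherianRing B₀] [CommRing C]
    [Algebra B₀ C] [CommRing ℛ] [Algebra B₀ ℛ] [Algebra.FiniteType B₀ ℛ] [AddCommGroup 𝓜]
    [Module ℛ 𝓜] [Module B₀ 𝓜] [IsScalarTower B₀ ℛ 𝓜] [Module.Finite ℛ 𝓜]
    {Pk : ℕ → Type u} [∀ k, AddCommGroup (Pk k)] [∀ k, Module B₀ (Pk k)]
    (i : ∀ k, Pk k →ₗ[B₀] 𝓜) (r : ∀ k, 𝓜 →ₗ[B₀] Pk k)
    (hri : ∀ k x, r k (i k x) = x) (hrij : ∀ j k x, j ≠ k → r k (i j x) = 0)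
    (hfin : ∀ x : 𝓜, ∃ n, x = ∑ k ∈ Finset.range n, i k (r k x)) :
    IsOpen {q : PrimeSpectrum C | ∀ k, Module.Flat C
      (LocalizedModule q.asIdeal.primeCompl (C ⊗[B₀] Pk k))} := by
  haveI : Algebra.FinitePresentation B₀ ℛ :=
    Algebra.FinitePresentation.of_finiteType.mp inferInstance
  haveI : IsNoetherianRing ℛ := Algebra.FiniteType.isNoetherianRing B₀ ℛ
  haveI : Module.FinitePresentation ℛ 𝓜 := Module.finitePresentation_of_finite ℛ 𝓜
  have hopen := ModFlat.isOpen_setOf_flat_localizedModule_base (A := C) (B := C)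
    (C := C ⊗[B₀] ℛ) ((C ⊗[B₀] ℛ) ⊗[ℛ] 𝓜)
  convert hopen using 2
  ext q
  have e : (C ⊗[B₀] ℛ) ⊗[ℛ] 𝓜 ≃ₗ[C] C ⊗[B₀] 𝓜 :=
    Algebra.IsPushout.cancelBaseChange B₀ C ℛ (C ⊗[B₀] ℛ) 𝓜
  rw [flat_localizedModule_congr q.asIdeal e, flat_localizedModule_iff]
  have e2 : Localization.AtPrime q.asIdeal ⊗[C] (C ⊗[B₀] 𝓜) ≃ₗ[Localization.AtPrime q.asIdeal]
      Localization.AtPrime q.asIdeal ⊗[B₀] 𝓜 :=
    TensorProduct.AlgebraTensorModule.cancelBaseChange B₀ C (Localization.AtPrime q.asIdeal)
      (Localization.AtPrime q.asIdeal) 𝓜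
  have e3 : ∀ k, Localization.AtPrime q.asIdeal ⊗[C] (C ⊗[B₀] Pk k) ≃ₗ[Localization.AtPrime q.asIdeal]
      Localization.AtPrime q.asIdeal ⊗[B₀] Pk k := fun k =>
    TensorProduct.AlgebraTensorModule.cancelBaseChange B₀ C (Localization.AtPrime q.asIdeal)
      (Localization.AtPrime q.asIdeal) (Pk k)
  constructor
  · intro h
    haveI : ∀ k, Module.Flat (Localization.AtPrime q.asIdeal)
        (Localization.AtPrime q.asIdeal ⊗[B₀] Pk k) := fun k =>
      haveI := (flat_localizedModule_iff q.asIdeal _).mp (h k)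
      Module.Flat.of_linearEquiv (e3 k).symm
    haveI := GrA.flat_of_pieces (Localization.AtPrime q.asIdeal) i r hri hrij hfin inferInstance
    exact Module.Flat.of_linearEquiv e2
  · intro h k
    haveI : Module.Flat (Localization.AtPrime q.asIdeal)
        (Localization.AtPrime q.asIdeal ⊗[B₀] 𝓜) := Module.Flat.of_linearEquiv e2.symm
    haveI := GrA.flat_piece (Localization.AtPrime q.asIdeal) i r hri k
    exact (flat_localizedModule_iff q.asIdeal _).mpr (Module.Flat.of_linearEquiv (e3 k))

end Groth.Agent.Helper21.FN
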