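import Mathlib
import Groth.Agent.Lib.Helper21.FN1
import Groth.Agent.Lib.Helper21.GrRees2

/-!
# Openness of the locus where all `C ⊗ J₀^k M₀` are flat (helper21)
-/

set_option autoImplicit false
set_option linter.style.haveILetI false
set_option linter.unusedSectionVars false

universe u

open TensorProduct Function

namespace Groth.Agent.Helper21.FN

open Groth.Agent.Helper21.GrRees

set_option maxHeartbeats 1600000 in
set_option synthInstance.maxHeartbeats 400000 in
/-- `B₀` Noetherian, `M₀` a finite `B₀`-module, `J₀` an ideal: for every `B₀`-algebra `C`, the set of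
primes of `C` at which all `C ⊗ J₀^k M₀` are flat over `C` is open. -/
theorem isOpen_flat_pow_pieces {B₀ C M₀ : Type u} [CommRing B₀] [IsNoetherianRing B₀] [CommRing C]
    [Algebra B₀ C] [AddCommGroup M₀] [Module B₀ M₀] [Module.Finite B₀ M₀] (J₀ : Ideal B₀) :
    IsOpen {q : PrimeSpectrum C | ∀ k : ℕ, Module.Flat C
      (LocalizedModule q.asIdeal.primeCompl
        (C ⊗[B₀] ↥(J₀ ^ k • (⊤ : Submodule B₀ M₀))))} := by
  obtain ⟨F, hF⟩ : ∃ F : J₀.Filtration M₀, F = J₀.stableFiltration ⊤ := ⟨_, rfl⟩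
  have hFN : ∀ k, F.N k = J₀ ^ k • (⊤ : Submodule B₀ M₀) := fun k => by rw [hF]; rfl
  have hstable : F.Stable := hF ▸ J₀.stableFiltration_stable ⊤
  have hfg : F.submodule.FG :=
    (F.submodule_fg_iff_stable (fun i => IsNoetherian.noetherian _)).mpr hstable
  haveI : Module.Finite (reesAlgebra J₀) ↥F.submodule := Module.Finite.iff_fg.mpr hfg
  have h := isOpen_flat_pieces (B₀ := B₀) (C := C) (ℛ := reesAlgebra J₀) (𝓜 := ↥F.submodule)
    (Pk := fun k => ↥(F.N k)) (fun k => sX B₀ F k) (fun k => cX B₀ F k)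
    (fun k x => cX_sX B₀ F k x)
    (fun j k x hjk => by
      apply Subtype.ext
      rw [cX_coe, sX_coe, coeff_single, if_neg hjk]
      rfl)
    (fun x => by
      obtain ⟨n, hn⟩ := exists_sum_πX B₀ F x
      exact ⟨n, hn n le_rfl⟩)
  subst hF
  exact h

end Groth.Agent.Helper21.FN
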