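import Mathlib
import Groth.Agent.Lib.Helper21.FN1

/-!
# Localization at a prime of a quotient ring versus localization at its preimage (helper21)
-/

set_option autoImplicit false
set_option linter.style.haveILetI false
set_option linter.unusedSectionVars false

universe u

open TensorProduct Function

namespace Groth.Agent.Helper21.FN

/-- a linear equivalence over `B` between `C`-modules is `C`-linear when `B → C` is surjective. -/
noncomputable def equivOfSurjective {B C Z₁ Z₂ : Type u} [CommRing B] [CommRing C] [Algebra B C]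
    (hsurj : Surjective (algebraMap B C)) [AddCommMonoid Z₁] [Module B Z₁] [Module C Z₁]
    [IsScalarTower B C Z₁] [AddCommMonoid Z₂] [Module B Z₂] [Module C Z₂] [IsScalarTower B C Z₂]
    (e : Z₁ ≃ₗ[B] Z₂) : Z₁ ≃ₗ[C] Z₂ :=
  { e with
    map_smul' := fun c z => by
      obtain ⟨b, rfl⟩ := hsurj c
      simp only [algebraMap_smul, AddHom.toFun_eq_coe, LinearMap.coe_toAddHom,
        LinearEquiv.coe_coe, RingHom.id_apply]
      exact e.map_smul b z }

theorem flat_congr_of_surjective {B C Z₁ Z₂ : Type u} [CommRing B] [CommRing C] [Algebra B C]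
    (hsurj : Surjective (algebraMap B C)) [AddCommMonoid Z₁] [Module B Z₁] [Module C Z₁]
    [IsScalarTower B C Z₁] [AddCommMonoid Z₂] [Module B Z₂] [Module C Z₂] [IsScalarTower B C Z₂]
    (e : Z₁ ≃ₗ[B] Z₂) : Module.Flat C Z₁ ↔ Module.Flat C Z₂ :=
  ⟨fun _ => Module.Flat.of_linearEquiv (equivOfSurjective hsurj e).symm,
    fun _ => Module.Flat.of_linearEquiv (equivOfSurjective hsurj e)⟩

theorem algebraMapSubmonoid_primeCompl {B C : Type u} [CommRing B] [CommRing C] [Algebra B C]
    (hsurj : Surjective (algebraMap B C)) (qb : Ideal C) [qb.IsPrime] :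
    Algebra.algebraMapSubmonoid C (qb.comap (algebraMap B C)).primeCompl = qb.primeCompl := by
  ext c
  constructor
  · rintro ⟨b, hb, rfl⟩
    exact hb
  · intro hc
    obtain ⟨b, rfl⟩ := hsurj c
    exact ⟨b, hc, rfl⟩

set_option maxHeartbeats 1600000 in
set_option synthInstance.maxHeartbeats 400000 in
/-- `C ⊗_B X_q` versus `(C ⊗_B X)_{q̄}` for a surjection `B → C` and `q` the preimage of `q̄`. -/
theorem flat_tensor_localizedModule_iff {B C : Type u} [CommRing B] [CommRing C] [Algebra B C]
    (hsurj : Surjective (algebraMap B C)) (qb : Ideal C) [qb.IsPrime]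
    (X : Type u) [AddCommGroup X] [Module B X] :
    Module.Flat C (C ⊗[B] LocalizedModule (qb.comap (algebraMap B C)).primeCompl X) ↔
      Module.Flat C (LocalizedModule qb.primeCompl (C ⊗[B] X)) := by
  haveI hqp : (qb.comap (algebraMap B C)).IsPrime := Ideal.comap_isPrime _ _
  have hS : Algebra.algebraMapSubmonoid C (qb.comap (algebraMap B C)).primeCompl =
      qb.primeCompl := algebraMapSubmonoid_primeCompl hsurj qb
  rw [← hS]
  let e1 : LocalizedModule (qb.comap (algebraMap B C)).primeCompl X ≃ₗ[B] Localization.AtPrime (qb.comap (algebraMap B C)) ⊗[B] X :=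
    ((IsLocalizedModule.isBaseChange (qb.comap (algebraMap B C)).primeCompl (Localization.AtPrime (qb.comap (algebraMap B C)))
      (LocalizedModule.mkLinearMap (qb.comap (algebraMap B C)).primeCompl X)).equiv.symm).restrictScalars B
  let ea : C ⊗[B] LocalizedModule (qb.comap (algebraMap B C)).primeCompl X ≃ₗ[B] C ⊗[B] (Localization.AtPrime (qb.comap (algebraMap B C)) ⊗[B] X) :=
    TensorProduct.congr (LinearEquiv.refl B C) e1
  let eb : C ⊗[B] (Localization.AtPrime (qb.comap (algebraMap B C)) ⊗[B] X) ≃ₗ[B]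
      Localization.AtPrime (qb.comap (algebraMap B C)) ⊗[B] (C ⊗[B] X) := TensorProduct.leftComm B C _ X
  let ec : Localization.AtPrime (qb.comap (algebraMap B C)) ⊗[B] (C ⊗[B] X) ≃ₗ[B]
      LocalizedModule (qb.comap (algebraMap B C)).primeCompl (C ⊗[B] X) :=
    ((IsLocalizedModule.isBaseChange (qb.comap (algebraMap B C)).primeCompl (Localization.AtPrime (qb.comap (algebraMap B C)))
      (LocalizedModule.mkLinearMap (qb.comap (algebraMap B C)).primeCompl (C ⊗[B] X))).equiv).restrictScalars B
  let ed : LocalizedModule (qb.comap (algebraMap B C)).primeCompl (C ⊗[B] X) ≃ₗ[B]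
      LocalizedModule (Algebra.algebraMapSubmonoid C (qb.comap (algebraMap B C)).primeCompl) (C ⊗[B] X) :=
    ModFlat.locEquiv (C := C) B (C ⊗[B] X) (qb.comap (algebraMap B C))
  have key : C ⊗[B] LocalizedModule (qb.comap (algebraMap B C)).primeCompl X ≃ₗ[B]
      LocalizedModule (Algebra.algebraMapSubmonoid C (qb.comap (algebraMap B C)).primeCompl)
        (C ⊗[B] X) := ea ≪≫ₗ eb ≪≫ₗ ec ≪≫ₗ ed
  exact flat_congr_of_surjective hsurj key

end Groth.Agent.Helper21.FN
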