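import Mathlib

/-!
# Base change of the quotient `M ⧸ I M`
-/

open TensorProduct Function

namespace Groth.Agent.Helper21.GrI

universe u

section QuotBC

variable {S₁ B₀ : Type u} [CommRing S₁] [CommRing B₀] [Algebra S₁ B₀]
  {M₁ M₀ : Type u} [AddCommGroup M₁] [Module S₁ M₁] [AddCommGroup M₀] [Module B₀ M₀]
  [Module S₁ M₀] [IsScalarTower S₁ B₀ M₀]
  (h : M₁ →ₗ[S₁] M₀)

theorem span_range_eq_top_of_isBaseChange (hh : IsBaseChange B₀ h) :
    Submodule.span B₀ (Set.range h) = ⊤ := by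
  rw [eq_top_iff]
  rintro x -
  induction x using hh.inductionOn with
  | zero => exact Submodule.zero_mem _
  | tmul m => exact Submodule.subset_span ⟨m, rfl⟩
  | smul s n hn => exact Submodule.smul_mem _ _ hn
  | add n₁ n₂ h₁ h₂ => exact Submodule.add_mem _ h₁ h₂

/-- `I₀ M₀` is spanned by the image of `I₁ M₁`. -/
theorem map_smul_top_le_span (hh : IsBaseChange B₀ h) (I₁ : Ideal S₁) :
    ((I₁.map (algebraMap S₁ B₀)) • (⊤ : Submodule B₀ M₀)) ≤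
      Submodule.span B₀ (h '' ((I₁ • (⊤ : Submodule S₁ M₁) : Submodule S₁ M₁) : Set M₁)) := by
  rw [← span_range_eq_top_of_isBaseChange h hh, Ideal.map, Submodule.span_smul_span]
  refine Submodule.span_le.mpr ?_
  rintro _ ⟨_, ⟨j, hj, rfl⟩, _, ⟨m, rfl⟩, rfl⟩
  refine Submodule.subset_span ⟨j • m, Submodule.smul_mem_smul hj trivial, ?_⟩
  rw [map_smul]
  exact (algebraMap_smul B₀ j (h m)).symm

theorem map_mem_map_smul_top (I₁ : Ideal S₁) (x : M₁)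
    (hx : x ∈ (I₁ • (⊤ : Submodule S₁ M₁) : Submodule S₁ M₁)) :
    h x ∈ ((I₁.map (algebraMap S₁ B₀)) • (⊤ : Submodule B₀ M₀)) := by
  refine Submodule.smul_induction_on hx ?_ ?_
  · intro j hj m _
    rw [map_smul, ← algebraMap_smul B₀ j (h m)]
    exact Submodule.smul_mem_smul (Ideal.mem_map_of_mem _ hj) trivial
  · intro x y hx hy
    rw [map_add]; exact Submodule.add_mem _ hx hy

variable (B₀) in
/-- The map induced by `h` on the quotients by `I₁ M₁` and `I₀ M₀`. -/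
noncomputable def hbar (I₁ : Ideal S₁) :
    (M₁ ⧸ (I₁ • (⊤ : Submodule S₁ M₁) : Submodule S₁ M₁)) →ₗ[S₁]
      (M₀ ⧸ ((I₁.map (algebraMap S₁ B₀)) • (⊤ : Submodule B₀ M₀))) :=
  Submodule.liftQ _
    ((((I₁.map (algebraMap S₁ B₀)) • (⊤ : Submodule B₀ M₀)).mkQ.restrictScalars S₁) ∘ₗ h)
    (by
      intro x hx
      rw [LinearMap.mem_ker, LinearMap.comp_apply, LinearMap.restrictScalars_apply,
        Submodule.mkQ_apply, Submodule.Quotient.mk_eq_zero]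
      exact map_mem_map_smul_top h I₁ x hx)

@[simp]
theorem hbar_mk (I₁ : Ideal S₁) (m : M₁) :
    hbar B₀ h I₁ (Submodule.Quotient.mk m) = Submodule.Quotient.mk (h m) := rfl

/-- The quotient map `M₁ ⧸ I₁ M₁ → M₀ ⧸ I₀ M₀` is again a base change. -/
theorem isBaseChange_hbar (hh : IsBaseChange B₀ h) (I₁ : Ideal S₁) :
    IsBaseChange B₀ (hbar B₀ h I₁) := by
  set P₁ : Submodule S₁ M₁ := I₁ • (⊤ : Submodule S₁ M₁) with hP₁
  set P₀ : Submodule B₀ M₀ := (I₁.map (algebraMap S₁ B₀)) • (⊤ : Submodule B₀ M₀) with hP₀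
  let φ : B₀ ⊗[S₁] M₁ →ₗ[B₀] M₀ ⧸ P₀ := P₀.mkQ ∘ₗ hh.equiv.toLinearMap
  let ψ : B₀ ⊗[S₁] M₁ →ₗ[B₀] B₀ ⊗[S₁] (M₁ ⧸ P₁) := P₁.mkQ.baseChange B₀
  have hφ : Surjective φ := P₀.mkQ_surjective.comp hh.equiv.surjective
  have hψ : Surjective ψ := LinearMap.lTensor_surjective B₀ P₁.mkQ_surjective
  have hkerψ : LinearMap.ker ψ = P₁.baseChange B₀ := by
    have hex := lTensor_exact B₀ (LinearMap.exact_subtype_mkQ P₁) P₁.mkQ_surjective
    exact (LinearMap.exact_iff.mp hex)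
  have hker : LinearMap.ker ψ = LinearMap.ker φ := by
    rw [hkerψ, Submodule.baseChange_eq_span]
    apply le_antisymm
    · refine Submodule.span_le.mpr ?_
      rintro _ ⟨p, hp, rfl⟩
      rw [SetLike.mem_coe, LinearMap.mem_ker]
      change P₀.mkQ (hh.equiv ((1 : B₀) ⊗ₜ[S₁] p)) = 0
      rw [hh.equiv_tmul, one_smul, Submodule.mkQ_apply, Submodule.Quotient.mk_eq_zero]
      exact map_mem_map_smul_top h I₁ p hp
    · intro t ht
      rw [LinearMap.mem_ker] at ht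
      change P₀.mkQ (hh.equiv t) = 0 at ht
      rw [Submodule.mkQ_apply, Submodule.Quotient.mk_eq_zero] at ht
      have h1 := map_smul_top_le_span h hh I₁ ht
      have h2 : Submodule.span B₀ (h '' (P₁ : Set M₁)) ≤
          (Submodule.span B₀ ((P₁.map (TensorProduct.mk S₁ B₀ M₁ 1) : Submodule S₁ _) :
            Set (B₀ ⊗[S₁] M₁))).map hh.equiv.toLinearMap := by
        refine Submodule.span_le.mpr ?_
        rintro _ ⟨p, hp, rfl⟩
        refine ⟨(1 : B₀) ⊗ₜ[S₁] p, Submodule.subset_span ⟨p, hp, rfl⟩, ?_⟩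
        change hh.equiv ((1 : B₀) ⊗ₜ[S₁] p) = h p
        rw [hh.equiv_tmul, one_smul]
      obtain ⟨t', ht', hte⟩ := h2 h1
      have : t' = t := hh.equiv.injective hte
      rw [← this]
      exact ht'
  let e : B₀ ⊗[S₁] (M₁ ⧸ P₁) ≃ₗ[B₀] M₀ ⧸ P₀ :=
    (ψ.quotKerEquivOfSurjective hψ).symm ≪≫ₗ (Submodule.quotEquivOfEq _ _ hker) ≪≫ₗ
      (φ.quotKerEquivOfSurjective hφ)
  refine IsBaseChange.of_equiv e ?_
  intro x
  obtain ⟨m, rfl⟩ := P₁.mkQ_surjective x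
  have h1 : (1 : B₀) ⊗ₜ[S₁] P₁.mkQ m = ψ ((1 : B₀) ⊗ₜ[S₁] m) := rfl
  have h2 : (ψ.quotKerEquivOfSurjective hψ).symm (ψ ((1 : B₀) ⊗ₜ[S₁] m)) =
      Submodule.Quotient.mk ((1 : B₀) ⊗ₜ[S₁] m) := by
    rw [LinearEquiv.symm_apply_eq]
    rfl
  change (φ.quotKerEquivOfSurjective hφ) ((Submodule.quotEquivOfEq _ _ hker)
    ((ψ.quotKerEquivOfSurjective hψ).symm ((1 : B₀) ⊗ₜ[S₁] P₁.mkQ m))) = _
  rw [h1, h2, Submodule.quotEquivOfEq_mk]
  change φ ((1 : B₀) ⊗ₜ[S₁] m) = _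
  change P₀.mkQ (hh.equiv ((1 : B₀) ⊗ₜ[S₁] m)) = _
  rw [hh.equiv_tmul, one_smul]
  rfl

end QuotBC

end Groth.Agent.Helper21.GrI
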