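import Mathlib
import Groth.Agent.Lib.Helper21.GrI1

/-!
# Base change of the graded pieces `J^k M / J^(k+1) M` under flatness of the truncations (helper21)
-/

set_option autoImplicit false
set_option linter.style.haveILetI false
set_option linter.unusedSectionVars false

universe u

open TensorProduct Function

namespace Groth.Agent.Helper21.FN

section G1

variable {B : Type u} [CommRing B] (J : Ideal B) {Y : Type u} [AddCommGroup Y] [Module B Y]

/-- `(B ⧸ J) ⊗ Y → (B ⧸ J) ⊗ (Y ⧸ K)` is bijective when `K ⊆ J Y`. -/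
theorem lTensor_mkQ_bijective (K : Submodule B Y) (hK : K ≤ J • ⊤) :
    Bijective (K.mkQ.lTensor (B ⧸ J)) := by
  refine ⟨?_, LinearMap.lTensor_surjective _ K.mkQ_surjective⟩
  rw [injective_iff_map_eq_zero]
  intro x hx
  have hex := lTensor_exact (B ⧸ J) (LinearMap.exact_subtype_mkQ K) K.mkQ_surjective
  obtain ⟨ζ, rfl⟩ := (hex x).mp hx
  clear hx
  induction ζ using TensorProduct.induction_on with
  | zero => rw [map_zero]
  | tmul c κ =>
    rw [LinearMap.lTensor_tmul, Submodule.subtype_apply]
    have hκ : (κ : Y) ∈ J • (⊤ : Submodule B Y) := hK κ.2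
    refine Submodule.smul_induction_on hκ (fun j hj y _ => ?_) (fun y₁ y₂ h₁ h₂ => ?_)
    · rw [← TensorProduct.smul_tmul]
      have : j • c = 0 := by
        rw [Algebra.smul_def]
        have : algebraMap B (B ⧸ J) j = 0 := Ideal.Quotient.eq_zero_iff_mem.mpr hj
        rw [this, zero_mul]
      rw [this, TensorProduct.zero_tmul]
    · rw [TensorProduct.tmul_add, h₁, h₂, add_zero]
  | add x y hx hy => rw [map_add, hx, hy, add_zero]

/-- the submodule of `J^k M` cut out by `J^(k+1) M` is `J · (J^k M)`. -/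
theorem comap_subtype_pow_succ {M : Type u} [AddCommGroup M] [Module B M] (k : ℕ) :
    Submodule.comap (J ^ k • (⊤ : Submodule B M)).subtype (J ^ (k + 1) • ⊤) =
      J • (⊤ : Submodule B ↥(J ^ k • (⊤ : Submodule B M))) := by
  have h1 : Submodule.map (J ^ k • (⊤ : Submodule B M)).subtype
      (J • (⊤ : Submodule B ↥(J ^ k • (⊤ : Submodule B M)))) = J ^ (k + 1) • ⊤ := by
    rw [Submodule.map_smul'', Submodule.map_subtype_top, ← mul_smul, pow_succ']
  rw [← h1, Submodule.comap_map_eq_of_injective (Submodule.injective_subtype _)]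

end G1

section Pushout

/-- injectivity of `B ⊗_{B₀} P → B ⊗_{B₀} M₀` from flatness of `M₀ ⧸ P` over `A₀`. -/
theorem lTensor_subtype_injective {A₀ : Type u} (A : Type u) {B₀ B : Type u} [CommRing A₀]
    [CommRing A] [CommRing B₀] [CommRing B]
    [Algebra A₀ A] [Algebra A₀ B₀] [Algebra A B] [Algebra B₀ B] [Algebra A₀ B]
    [IsScalarTower A₀ A B] [IsScalarTower A₀ B₀ B] [Algebra.IsPushout A₀ A B₀ B]
    {M₀ : Type u} [AddCommGroup M₀] [Module B₀ M₀] [Module A₀ M₀]
    [IsScalarTower A₀ B₀ M₀] (P : Submodule B₀ M₀) [Module.Flat A₀ (M₀ ⧸ P)] :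
    Injective (P.subtype.lTensor B) := by
  have h1 : Injective ((P.subtype.restrictScalars A₀).lTensor A) :=
    LinearMap.lTensor_injective_of_exact_of_flat (P.mkQ.restrictScalars A₀) P.mkQ_surjective
      (P.subtype.restrictScalars A₀) P.injective_subtype (LinearMap.exact_subtype_mkQ P) A
  let eP := Algebra.IsPushout.cancelBaseChange A₀ A B₀ B ↥P
  let eM := Algebra.IsPushout.cancelBaseChange A₀ A B₀ B M₀
  have hnat : ∀ z : A ⊗[A₀] ↥P, P.subtype.lTensor B (eP.symm z) =
      eM.symm ((P.subtype.restrictScalars A₀).lTensor A z) := by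
    intro z
    induction z using TensorProduct.induction_on with
    | zero => simp
    | tmul a x =>
      rw [Algebra.IsPushout.cancelBaseChange_symm_tmul, LinearMap.lTensor_tmul,
        LinearMap.lTensor_tmul, Algebra.IsPushout.cancelBaseChange_symm_tmul]
      rfl
    | add x y hx hy => simp only [map_add, hx, hy]
  intro x y hxy
  have h2 : eP.symm (eP x) = x := eP.symm_apply_apply x
  have h3 : eP.symm (eP y) = y := eP.symm_apply_apply y
  rw [← h2, ← h3, hnat, hnat] at hxy
  have h4 := h1 (eM.symm.injective hxy)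
  exact eP.injective h4

end Pushout

end Groth.Agent.Helper21.FN
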