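import Mathlib
import Groth.Agent.Lib.Helper21.FN4

/-!
# Base change of the graded pieces, II: the comparison isomorphisms (helper21)
-/

set_option autoImplicit false
set_option linter.style.haveILetI false
set_option linter.unusedSectionVars false

universe u

open TensorProduct Function

namespace Groth.Agent.Helper21.FN

open Groth.Agent.Helper21.GrI

section

variable {B₀ B : Type u} [CommRing B₀] [CommRing B] [Algebra B₀ B]
  {M₀ : Type u} [AddCommGroup M₀] [Module B₀ M₀]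
  {M : Type u} [AddCommGroup M] [Module B M] [Module B₀ M] [IsScalarTower B₀ B M]
  (h₀ : M₀ →ₗ[B₀] M) (J₀ : Ideal B₀)

/-- the map `J₀^k M₀ → J^k M` induced by `h₀`. -/
noncomputable def powMap (k : ℕ) : ↥(J₀ ^ k • (⊤ : Submodule B₀ M₀)) →ₗ[B₀]
    ↥((J₀.map (algebraMap B₀ B)) ^ k • (⊤ : Submodule B M)) where
  toFun x := ⟨h₀ x.1, by
    have := map_mem_map_smul_top (B₀ := B) h₀ (J₀ ^ k) x.1 x.2
    rwa [Ideal.map_pow] at this⟩
  map_add' x y := by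
    apply Subtype.ext
    simp only [Submodule.coe_add, map_add]
  map_smul' c x := by
    apply Subtype.ext
    simp only [Submodule.coe_smul_of_tower, map_smul, RingHom.id_apply]

@[simp]
theorem powMap_coe (k : ℕ) (x : ↥(J₀ ^ k • (⊤ : Submodule B₀ M₀))) :
    ((powMap h₀ J₀ k x : ↥((J₀.map (algebraMap B₀ B)) ^ k • (⊤ : Submodule B M))) : M) =
      h₀ x.1 := rfl

/-- the comparison map `B ⊗ J₀^k M₀ → J^k M`. -/
noncomputable def betaMap (k : ℕ) : B ⊗[B₀] ↥(J₀ ^ k • (⊤ : Submodule B₀ M₀)) →ₗ[B]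
    ↥((J₀.map (algebraMap B₀ B)) ^ k • (⊤ : Submodule B M)) :=
  LinearMap.liftBaseChange B (powMap h₀ J₀ k)

theorem betaMap_tmul (k : ℕ) (b : B) (x : ↥(J₀ ^ k • (⊤ : Submodule B₀ M₀))) :
    ((betaMap h₀ J₀ k (b ⊗ₜ x) : ↥((J₀.map (algebraMap B₀ B)) ^ k • (⊤ : Submodule B M))) : M) =
      b • h₀ x.1 := by
  rw [betaMap, LinearMap.liftBaseChange_tmul]
  rfl

theorem betaMap_surjective (hh : IsBaseChange B h₀) (k : ℕ) : Surjective (betaMap (B := B) h₀ J₀ k) := by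
  have hle := map_smul_top_le_span h₀ hh (J₀ ^ k)
  rw [Ideal.map_pow] at hle
  rintro ⟨y, hy⟩
  have key : ∃ z, ((betaMap h₀ J₀ k z :
      ↥((J₀.map (algebraMap B₀ B)) ^ k • (⊤ : Submodule B M))) : M) = y := by
    refine Submodule.span_induction (p := fun y _ => ∃ z, ((betaMap h₀ J₀ k z :
      ↥((J₀.map (algebraMap B₀ B)) ^ k • (⊤ : Submodule B M))) : M) = y) ?_ ?_ ?_ ?_ (hle hy)
    · rintro _ ⟨x, hx, rfl⟩
      exact ⟨1 ⊗ₜ ⟨x, hx⟩, by rw [betaMap_tmul, one_smul]⟩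
    · exact ⟨0, by rw [map_zero]; rfl⟩
    · rintro y₁ y₂ _ _ ⟨z₁, h₁⟩ ⟨z₂, h₂⟩
      exact ⟨z₁ + z₂, by rw [map_add, Submodule.coe_add, h₁, h₂]⟩
    · rintro b y₁ _ ⟨z₁, h₁⟩
      exact ⟨b • z₁, by rw [map_smul, Submodule.coe_smul, h₁]⟩
  obtain ⟨z, hz⟩ := key
  exact ⟨z, Subtype.ext hz⟩

end

section

variable {A₀ : Type u} (A : Type u) {B₀ B : Type u} [CommRing A₀]
  [CommRing A] [CommRing B₀] [CommRing B]
  [Algebra A₀ A] [Algebra A₀ B₀] [Algebra A B] [Algebra B₀ B] [Algebra A₀ B]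
  [IsScalarTower A₀ A B] [IsScalarTower A₀ B₀ B] [Algebra.IsPushout A₀ A B₀ B]
  {M₀ : Type u} [AddCommGroup M₀] [Module B₀ M₀] [Module A₀ M₀] [IsScalarTower A₀ B₀ M₀]
  {M : Type u} [AddCommGroup M] [Module B M] [Module B₀ M] [IsScalarTower B₀ B M]
  (h₀ : M₀ →ₗ[B₀] M) (J₀ : Ideal B₀)

include A in
theorem betaMap_injective (hh : IsBaseChange B h₀) (k : ℕ)
    [Module.Flat A₀ (M₀ ⧸ (J₀ ^ k • (⊤ : Submodule B₀ M₀)))] : Injective (betaMap (B := B) h₀ J₀ k) := by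
  have hinj := lTensor_subtype_injective (A₀ := A₀) A (B := B) (J₀ ^ k • (⊤ : Submodule B₀ M₀))
  have hcomp : ∀ z : B ⊗[B₀] ↥(J₀ ^ k • (⊤ : Submodule B₀ M₀)),
      ((betaMap h₀ J₀ k z : ↥((J₀.map (algebraMap B₀ B)) ^ k • (⊤ : Submodule B M))) : M) =
        hh.equiv ((J₀ ^ k • (⊤ : Submodule B₀ M₀)).subtype.lTensor B z) := by
    intro z
    induction z using TensorProduct.induction_on with
    | zero => simp
    | tmul b x =>
      rw [betaMap_tmul, LinearMap.lTensor_tmul, IsBaseChange.equiv_tmul, Submodule.subtype_apply]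
    | add x y hx hy => rw [map_add, Submodule.coe_add, hx, hy, map_add, map_add]
  rw [injective_iff_map_eq_zero]
  intro z hz
  have h1 := hcomp z
  rw [hz, Submodule.coe_zero] at h1
  have h2 : (J₀ ^ k • (⊤ : Submodule B₀ M₀)).subtype.lTensor B z = 0 :=
    hh.equiv.injective (by rw [← h1, map_zero])
  exact hinj (by rw [h2, map_zero])

include A in
/-- **Base change of the graded pieces.** -/
theorem nonempty_gr_equiv (hh : IsBaseChange B h₀) (k : ℕ)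
    [Module.Flat A₀ (M₀ ⧸ (J₀ ^ k • (⊤ : Submodule B₀ M₀)))] :
    Nonempty ((B ⧸ J₀.map (algebraMap B₀ B)) ⊗[B₀] ↥(J₀ ^ k • (⊤ : Submodule B₀ M₀))
      ≃ₗ[B ⧸ J₀.map (algebraMap B₀ B)]
      (B ⧸ J₀.map (algebraMap B₀ B)) ⊗[B]
        (↥((J₀.map (algebraMap B₀ B)) ^ k • (⊤ : Submodule B M)) ⧸
          Submodule.comap ((J₀.map (algebraMap B₀ B)) ^ k • (⊤ : Submodule B M)).subtype
            ((J₀.map (algebraMap B₀ B)) ^ (k + 1) • ⊤))) := by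
  let β : B ⊗[B₀] ↥(J₀ ^ k • (⊤ : Submodule B₀ M₀)) ≃ₗ[B]
      ↥((J₀.map (algebraMap B₀ B)) ^ k • (⊤ : Submodule B M)) :=
    LinearEquiv.ofBijective (betaMap h₀ J₀ k)
      ⟨betaMap_injective (A₀ := A₀) A h₀ J₀ hh k, betaMap_surjective h₀ J₀ hh k⟩
  let e1 : (B ⧸ J₀.map (algebraMap B₀ B)) ⊗[B] (B ⊗[B₀] ↥(J₀ ^ k • (⊤ : Submodule B₀ M₀)))
      ≃ₗ[B ⧸ J₀.map (algebraMap B₀ B)]
      (B ⧸ J₀.map (algebraMap B₀ B)) ⊗[B₀] ↥(J₀ ^ k • (⊤ : Submodule B₀ M₀)) :=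
    TensorProduct.AlgebraTensorModule.cancelBaseChange B₀ B (B ⧸ J₀.map (algebraMap B₀ B))
      (B ⧸ J₀.map (algebraMap B₀ B)) _
  let e2 := β.baseChange B (B ⧸ J₀.map (algebraMap B₀ B)) _ _
  have hbij := lTensor_mkQ_bijective (J₀.map (algebraMap B₀ B))
    (Submodule.comap ((J₀.map (algebraMap B₀ B)) ^ k • (⊤ : Submodule B M)).subtype
      ((J₀.map (algebraMap B₀ B)) ^ (k + 1) • ⊤))
    (le_of_eq (comap_subtype_pow_succ (J₀.map (algebraMap B₀ B)) k))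
  let e3 := LinearEquiv.ofBijective
    ((Submodule.comap ((J₀.map (algebraMap B₀ B)) ^ k • (⊤ : Submodule B M)).subtype
      ((J₀.map (algebraMap B₀ B)) ^ (k + 1) • ⊤)).mkQ.baseChange (B ⧸ J₀.map (algebraMap B₀ B)))
    hbij
  exact ⟨e1.symm ≪≫ₗ e2 ≪≫ₗ e3⟩

end

end Groth.Agent.Helper21.FN
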