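import Mathlib
import Groth.Agent.Lib.Helper21.FN2
import Groth.Agent.Lib.Helper21.FN3
import Groth.Agent.Lib.Helper21.FN5

/-!
# Openness of the normally flat locus, given a Noetherian model (helper21)
-/

set_option autoImplicit false
set_option linter.style.haveILetI false
set_option linter.unusedSectionVars false

universe u

open TensorProduct Function

namespace Groth.Agent.Helper21.FN

set_option maxHeartbeats 1600000 in
set_option synthInstance.maxHeartbeats 400000 in
/-- **Openness of the normally flat locus, given a Noetherian model with flat truncations.** -/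
theorem isOpen_normallyFlat_of_model {A₀ : Type u} (A : Type u) {B₀ B : Type u} [CommRing A₀]
    [CommRing A] [CommRing B₀] [CommRing B]
    [Algebra A₀ A] [Algebra A₀ B₀] [Algebra A B] [Algebra B₀ B] [Algebra A₀ B]
    [IsScalarTower A₀ A B] [IsScalarTower A₀ B₀ B] [Algebra.IsPushout A₀ A B₀ B]
    [IsNoetherianRing B₀]
    {M₀ : Type u} [AddCommGroup M₀] [Module B₀ M₀] [Module A₀ M₀] [IsScalarTower A₀ B₀ M₀]
    [Module.Finite B₀ M₀]
    {M : Type u} [AddCommGroup M] [Module B M] [Module B₀ M] [IsScalarTower B₀ B M]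
    (h₀ : M₀ →ₗ[B₀] M) (hh : IsBaseChange B h₀) (J₀ : Ideal B₀)
    (hflat : ∀ k : ℕ, Module.Flat A₀ (M₀ ⧸ (J₀ ^ k • (⊤ : Submodule B₀ M₀)))) :
    IsOpen {q : PrimeSpectrum B | J₀.map (algebraMap B₀ B) ≤ q.asIdeal → ∀ k : ℕ,
      Module.Flat (B ⧸ J₀.map (algebraMap B₀ B))
        ((B ⧸ J₀.map (algebraMap B₀ B)) ⊗[B] LocalizedModule q.asIdeal.primeCompl
          (↥((J₀.map (algebraMap B₀ B)) ^ k • (⊤ : Submodule B M)) ⧸
            Submodule.comap ((J₀.map (algebraMap B₀ B)) ^ k • (⊤ : Submodule B M)).subtype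
              ((J₀.map (algebraMap B₀ B)) ^ (k + 1) • ⊤)))} := by
  obtain ⟨J, hJ⟩ : ∃ J : Ideal B, J = J₀.map (algebraMap B₀ B) := ⟨_, rfl⟩
  have hsurj : Surjective (algebraMap B (B ⧸ J₀.map (algebraMap B₀ B))) :=
    Ideal.Quotient.mk_surjective
  have hU := isOpen_flat_pow_pieces (B₀ := B₀) (C := B ⧸ J₀.map (algebraMap B₀ B)) (M₀ := M₀) J₀
  have hemb := PrimeSpectrum.isClosedEmbedding_comap_of_surjective
    (B ⧸ J₀.map (algebraMap B₀ B)) (algebraMap B (B ⧸ J₀.map (algebraMap B₀ B))) hsurj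
  obtain ⟨O, hO, hOU⟩ := hemb.toIsInducing.isOpen_iff.mp hU
  have hrange := _root_.range_comap_of_surjective
    (B ⧸ J₀.map (algebraMap B₀ B)) (algebraMap B (B ⧸ J₀.map (algebraMap B₀ B))) hsurj
  have hker : RingHom.ker (algebraMap B (B ⧸ J₀.map (algebraMap B₀ B))) =
      J₀.map (algebraMap B₀ B) := Ideal.mk_ker
  rw [hker] at hrange
  have hW : {q : PrimeSpectrum B | J₀.map (algebraMap B₀ B) ≤ q.asIdeal → ∀ k : ℕ,
      Module.Flat (B ⧸ J₀.map (algebraMap B₀ B))
        ((B ⧸ J₀.map (algebraMap B₀ B)) ⊗[B] LocalizedModule q.asIdeal.primeCompl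
          (↥((J₀.map (algebraMap B₀ B)) ^ k • (⊤ : Submodule B M)) ⧸
            Submodule.comap ((J₀.map (algebraMap B₀ B)) ^ k • (⊤ : Submodule B M)).subtype
              ((J₀.map (algebraMap B₀ B)) ^ (k + 1) • ⊤)))} =
      (PrimeSpectrum.zeroLocus (J₀.map (algebraMap B₀ B) : Set B))ᶜ ∪ O := by
    ext q
    simp only [Set.mem_ofPred_eq, Set.mem_union, Set.mem_compl_iff, PrimeSpectrum.mem_zeroLocus,
      SetLike.coe_subset_coe]
    by_cases hq : J₀.map (algebraMap B₀ B) ≤ q.asIdeal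
    · have hqr : q ∈ Set.range (PrimeSpectrum.comap
          (algebraMap B (B ⧸ J₀.map (algebraMap B₀ B)))) := by
        rw [hrange]; exact (PrimeSpectrum.mem_zeroLocus _ _).mpr hq
      obtain ⟨qb, rfl⟩ := hqr
      have hmem : PrimeSpectrum.comap (algebraMap B (B ⧸ J₀.map (algebraMap B₀ B))) qb ∈ O ↔
          qb ∈ {q : PrimeSpectrum (B ⧸ J₀.map (algebraMap B₀ B)) | ∀ k : ℕ,
            Module.Flat (B ⧸ J₀.map (algebraMap B₀ B))
              (LocalizedModule q.asIdeal.primeCompl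
                ((B ⧸ J₀.map (algebraMap B₀ B)) ⊗[B₀]
                  ↥(J₀ ^ k • (⊤ : Submodule B₀ M₀))))} := by
        rw [← hOU]; rfl
      rw [hmem]
      simp only [hq, forall_true_left, not_true_eq_false, false_or, Set.mem_ofPred_eq]
      refine forall_congr' fun k => ?_
      haveI := hflat k
      obtain ⟨Λ⟩ := nonempty_gr_equiv (A₀ := A₀) A (B := B) h₀ J₀ hh k
      rw [flat_localizedModule_congr qb.asIdeal Λ]
      exact flat_tensor_localizedModule_iff hsurj qb.asIdeal _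
    · simp only [hq, false_imp_iff, not_false_eq_true, true_or]
  rw [hW]
  exact (PrimeSpectrum.isClosed_zeroLocus _).isOpen_compl.union hO

end Groth.Agent.Helper21.FN
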