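import Mathlib
import Groth.Agent.Lib.Helper21.GrI1
import Groth.Agent.Lib.Helper21.GrRees4
import Groth.Agent.Lib.Helper21.StageColim1

/-!
# Descent of flatness of all `M ⧸ J^k M` to a stage of a directed colimit (model form)
-/

set_option linter.style.haveILetI false
set_option linter.unusedSectionVars false

open TensorProduct Function

namespace Groth.Agent.Helper21.GrI

open Groth.Agent.Helper21.GrA Groth.Agent.Helper21.GrAbs Groth.Agent.Helper21.GrRees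
  Groth.Agent.Helper21.StageColim

universe u

section QuotConv

variable {A₀ : Type u} [CommRing A₀] (X : Type u) [CommRing X] [Algebra A₀ X]
  {B₀ : Type u} [CommRing B₀] [Algebra A₀ B₀]
  {M₀ : Type u} [AddCommGroup M₀] [Module B₀ M₀] [Module A₀ M₀] [IsScalarTower A₀ B₀ M₀]

/-- The quotient in the statement of S4869 is `X ⊗ (M₀ ⧸ P)`. -/
theorem flat_quot_range_iff (P : Submodule B₀ M₀) :
    Module.Flat X ((X ⊗[A₀] M₀) ⧸
      LinearMap.range ((P.restrictScalars A₀).subtype.baseChange X)) ↔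
      Module.Flat X (X ⊗[A₀] (M₀ ⧸ P)) := by
  let ψ : X ⊗[A₀] M₀ →ₗ[X] X ⊗[A₀] (M₀ ⧸ P.restrictScalars A₀) :=
    (P.restrictScalars A₀).mkQ.baseChange X
  have hψ : Surjective ψ := LinearMap.lTensor_surjective X (P.restrictScalars A₀).mkQ_surjective
  have hker : LinearMap.range ((P.restrictScalars A₀).subtype.baseChange X) = LinearMap.ker ψ := by
    have hex := lTensor_exact X (LinearMap.exact_subtype_mkQ (P.restrictScalars A₀))
      (P.restrictScalars A₀).mkQ_surjective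
    have h2 := (LinearMap.exact_iff.mp hex).symm
    ext x
    have h3 : x ∈ LinearMap.range (LinearMap.lTensor X (P.restrictScalars A₀).subtype) ↔
        x ∈ LinearMap.ker (LinearMap.lTensor X (P.restrictScalars A₀).mkQ) := by rw [h2]
    exact h3
  exact Module.Flat.equiv_iff ((Submodule.quotEquivOfEq _ _ hker) ≪≫ₗ
    (ψ.quotKerEquivOfSurjective hψ) ≪≫ₗ
    ((Submodule.Quotient.restrictScalarsEquiv A₀ P).baseChange A₀ X _ _))

end QuotConv

section Main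

variable {𝔸 A₀ S₁ B₀ : Type u} [CommRing 𝔸] [CommRing A₀] [CommRing S₁] [CommRing B₀]
  [Algebra 𝔸 A₀] [Algebra 𝔸 S₁] [Algebra A₀ B₀] [Algebra S₁ B₀] [Algebra 𝔸 B₀]
  [IsScalarTower 𝔸 A₀ B₀] [IsScalarTower 𝔸 S₁ B₀] [Algebra.IsPushout 𝔸 A₀ S₁ B₀]
  [IsNoetherianRing 𝔸] [Algebra.FiniteType 𝔸 S₁]
  {M₁ : Type u} [AddCommGroup M₁] [Module S₁ M₁] [Module.Finite S₁ M₁]
  {M₀ : Type u} [AddCommGroup M₀] [Module B₀ M₀] [Module A₀ M₀] [IsScalarTower A₀ B₀ M₀]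
  [Module S₁ M₀] [IsScalarTower S₁ B₀ M₀]

variable (𝔸) in
include 𝔸 in
/-- stage flatness of all `M₀ ⧸ J₀^k M₀`, given a Noetherian model -/
theorem exists_stage_flat_pieces (h : M₁ →ₗ[S₁] M₀) (hh : IsBaseChange B₀ h) (J₁ : Ideal S₁)
    {ι : Type u} [Preorder ι] (G : ι → Type u) [∀ i, CommRing (G i)] [∀ i, Algebra A₀ (G i)]
    (g : ∀ i j, i ≤ j → G i →ₐ[A₀] G j)
    (A : Type u) [CommRing A] [Algebra A₀ A] [∀ i, Algebra (G i) A]
    [∀ i, IsScalarTower A₀ (G i) A]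
    (hcolim : FlatCA.IsDirectedColimitRing G (fun i j h => (g i j h).toRingHom) A)
    (hflat : ∀ k : ℕ, Module.Flat A (A ⊗[A₀]
      (M₀ ⧸ ((J₁.map (algebraMap S₁ B₀)) ^ k • (⊤ : Submodule B₀ M₀))))) :
    ∃ i, ∀ k : ℕ, Module.Flat (G i) (G i ⊗[A₀]
      (M₀ ⧸ ((J₁.map (algebraMap S₁ B₀)) ^ k • (⊤ : Submodule B₀ M₀)))) := by
  classical
  letI : Module 𝔸 M₁ := Module.compHom M₁ (algebraMap 𝔸 S₁)
  haveI : IsScalarTower 𝔸 S₁ M₁ := IsScalarTower.of_algebraMap_smul fun _ _ => rfl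
  letI : ∀ i, Algebra 𝔸 (G i) := fun i =>
    ((algebraMap A₀ (G i)).comp (algebraMap 𝔸 A₀)).toAlgebra
  haveI : ∀ i, IsScalarTower 𝔸 A₀ (G i) := fun i => IsScalarTower.of_algebraMap_eq fun _ => rfl
  letI : Algebra 𝔸 A := ((algebraMap A₀ A).comp (algebraMap 𝔸 A₀)).toAlgebra
  haveI : IsScalarTower 𝔸 A₀ A := IsScalarTower.of_algebraMap_eq fun _ => rfl
  haveI : ∀ i, IsScalarTower 𝔸 (G i) A := fun i => IsScalarTower.of_algebraMap_eq fun x => by
    change algebraMap A₀ A (algebraMap 𝔸 A₀ x) =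
      algebraMap (G i) A (algebraMap A₀ (G i) (algebraMap 𝔸 A₀ x))
    rw [← IsScalarTower.algebraMap_apply A₀ (G i) A]
  -- the comparison isomorphisms
  let e : ∀ k : ℕ, A₀ ⊗[𝔸] (M₁ ⧸ (J₁ ^ k • (⊤ : Submodule S₁ M₁))) ≃ₗ[A₀]
      (M₀ ⧸ ((J₁.map (algebraMap S₁ B₀)) ^ k • (⊤ : Submodule B₀ M₀))) := fun k =>
    (FS.baseChangeEquiv (hbar B₀ h (J₁ ^ k)) (isBaseChange_hbar h hh (J₁ ^ k))) ≪≫ₗ
      ((Submodule.quotEquivOfEq _ _ (by rw [Ideal.map_pow])).restrictScalars A₀)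
  have hflat1 : ∀ k : ℕ, Module.Flat A (A ⊗[𝔸] (M₁ ⧸ (J₁ ^ k • (⊤ : Submodule S₁ M₁)))) :=
    fun k => (flat_model_iff (X := A) (e k)).mp (hflat k)
  obtain ⟨R', hfg, hR'⟩ := exists_fg_subalgebra_flat_pieces 𝔸 J₁ M₁ A hflat1
  obtain ⟨j, φ, hφ⟩ := exists_ringHom_of_fg G (fun i j h => (g i j h).toRingHom) A hcolim
    (fun i j h x => by
      change g i j h (algebraMap A₀ (G i) (algebraMap 𝔸 A₀ x)) =
        algebraMap A₀ (G j) (algebraMap 𝔸 A₀ x)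
      rw [AlgHom.commutes]) R' hfg
  letI : Algebra R' (G j) := φ.toAlgebra
  haveI : IsScalarTower 𝔸 R' (G j) := IsScalarTower.of_algebraMap_eq fun x => (hφ x).symm
  refine ⟨j, fun k => ?_⟩
  haveI := hR' k
  haveI : Module.Flat (G j) (G j ⊗[𝔸] (M₁ ⧸ (J₁ ^ k • (⊤ : Submodule S₁ M₁)))) :=
    flat_trans 𝔸 R' (G j) _
  exact (flat_model_iff (X := G j) (e k)).mpr inferInstance

end Main

end Groth.Agent.Helper21.GrI
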