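import Mathlib
import Groth.Agent.Lib.Helper21.GrJ1
import Groth.Agent.Lib.Helper21.GrI2
import Groth.Agent.Lib.Helper21.FS6

/-!
# Flatness at primes containing `J`, given a Noetherian model
-/

set_option linter.style.haveILetI false
set_option linter.unusedSectionVars false

open TensorProduct Function

namespace Groth.Agent.Helper21.GrJ

open Groth.Agent.Helper21

universe u

section Quot

variable {𝔸 A S₁ B : Type u} [CommRing 𝔸] [CommRing A] [CommRing S₁] [CommRing B]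
  [Algebra 𝔸 A] [Algebra 𝔸 S₁] [Algebra A B] [Algebra S₁ B] [Algebra 𝔸 B]
  [IsScalarTower 𝔸 A B] [IsScalarTower 𝔸 S₁ B] [Algebra.IsPushout 𝔸 A S₁ B]
  [IsNoetherianRing 𝔸] [Algebra.FiniteType 𝔸 S₁]
  {M₁ : Type u} [AddCommGroup M₁] [Module S₁ M₁] [Module.Finite S₁ M₁]
  [Module 𝔸 M₁] [IsScalarTower 𝔸 S₁ M₁]
  {M : Type u} [AddCommGroup M] [Module B M] [Module A M] [IsScalarTower A B M]
  [Module S₁ M] [IsScalarTower S₁ B M]

variable (𝔸) in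
/-- the comparison isomorphism for the quotients by powers of `J` -/
noncomputable def quotEquiv (h : M₁ →ₗ[S₁] M) (hh : IsBaseChange B h) (J₁ : Ideal S₁) (k : ℕ) :
    A ⊗[𝔸] (M₁ ⧸ (J₁ ^ k • (⊤ : Submodule S₁ M₁))) ≃ₗ[A]
      (M ⧸ ((J₁.map (algebraMap S₁ B)) ^ k • (⊤ : Submodule B M))) :=
  (FS.baseChangeEquiv (GrI.hbar B h (J₁ ^ k)) (GrI.isBaseChange_hbar h hh (J₁ ^ k))) ≪≫ₗ
    ((Submodule.quotEquivOfEq _ _ (by rw [Ideal.map_pow])).restrictScalars A)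

end Quot

section Stage

variable {𝔸 A S₁ B : Type u} [CommRing 𝔸] [CommRing A] [CommRing S₁] [CommRing B]
  [Algebra 𝔸 A] [Algebra 𝔸 S₁] [Algebra A B] [Algebra S₁ B] [Algebra 𝔸 B]
  [IsScalarTower 𝔸 A B] [IsScalarTower 𝔸 S₁ B] [Algebra.IsPushout 𝔸 A S₁ B]
  [IsNoetherianRing 𝔸] [Algebra.FiniteType 𝔸 S₁]
  (R' : Type u) [CommRing R'] [Algebra 𝔸 R'] [Algebra R' A] [IsScalarTower 𝔸 R' A] [Algebra R' B]
  [IsScalarTower R' A B] [IsScalarTower 𝔸 R' B] [IsNoetherianRing R']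
  {M₁ : Type u} [AddCommGroup M₁] [Module S₁ M₁] [Module.Finite S₁ M₁]
  [Module 𝔸 M₁] [IsScalarTower 𝔸 S₁ M₁]
  {M : Type u} [AddCommGroup M] [Module B M] [Module A M] [IsScalarTower A B M]
  [Module S₁ M] [IsScalarTower S₁ B M]

attribute [local instance] FS.stageAlgebra Algebra.TensorProduct.rightAlgebra

variable (𝔸) in
/-- flatness of the quotients at the intermediate stage -/
theorem stage_flat_quot (J₁ : Ideal S₁) (k : ℕ)
    [Module.Flat R' (R' ⊗[𝔸] (M₁ ⧸ (J₁ ^ k • (⊤ : Submodule S₁ M₁))))] :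
    Module.Flat R' (((R' ⊗[𝔸] S₁) ⊗[S₁] M₁) ⧸
      ((J₁.map (algebraMap S₁ (R' ⊗[𝔸] S₁))) ^ k •
        (⊤ : Submodule (R' ⊗[𝔸] S₁) ((R' ⊗[𝔸] S₁) ⊗[S₁] M₁)))) :=
  Module.Flat.of_linearEquiv
    (quotEquiv (A := R') (B := R' ⊗[𝔸] S₁) 𝔸 (TensorProduct.mk S₁ (R' ⊗[𝔸] S₁) M₁ 1)
      (TensorProduct.isBaseChange S₁ M₁ (R' ⊗[𝔸] S₁)) J₁ k).symm

variable (𝔸) in
include 𝔸 in
/-- flatness at primes containing `J`, given a Noetherian intermediate stage -/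
theorem flat_localizedModule_of_stage [Module (R' ⊗[𝔸] S₁) M] [IsScalarTower (R' ⊗[𝔸] S₁) B M]
    (h : M₁ →ₗ[S₁] M) (hh : IsBaseChange B h) (J₁ : Ideal S₁)
    (hR' : ∀ k : ℕ, Module.Flat R' (R' ⊗[𝔸] (M₁ ⧸ (J₁ ^ k • (⊤ : Submodule S₁ M₁)))))
    (q : Ideal B) [q.IsPrime] (hq : J₁.map (algebraMap S₁ B) ≤ q) :
    Module.Flat A (LocalizedModule q.primeCompl M) := by
  haveI : Algebra.IsPushout R' A (R' ⊗[𝔸] S₁) B := FS.stage_isPushout 𝔸 S₁ B R'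
  haveI : IsNoetherianRing (R' ⊗[𝔸] S₁) :=
    Algebra.FiniteType.isNoetherianRing R' (R' ⊗[𝔸] S₁)
  have hq' : (J₁.map (algebraMap S₁ (R' ⊗[𝔸] S₁))) ≤
      q.comap (algebraMap (R' ⊗[𝔸] S₁) B) := by
    rw [Ideal.map_le_iff_le_comap, Ideal.comap_comap, ← IsScalarTower.algebraMap_eq,
      ← Ideal.map_le_iff_le_comap]
    exact hq
  haveI : Module.Flat R' (LocalizedModule (q.comap (algebraMap (R' ⊗[𝔸] S₁) B)).primeCompl
      ((R' ⊗[𝔸] S₁) ⊗[S₁] M₁)) :=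
    flat_localizedModule_of_flat_quot_pow (J₁.map (algebraMap S₁ (R' ⊗[𝔸] S₁)))
      (fun k => haveI := hR' k; stage_flat_quot 𝔸 R' J₁ k) _ hq'
  exact FL.flat_localizedModule_of_isBaseChange (R₀ := R') (R := A) (S₀ := R' ⊗[𝔸] S₁) (S := B)
    (FS.stageMap 𝔸 S₁ B R' h) (FS.stageMap_isBaseChange 𝔸 S₁ B R' h hh) q

end Stage

section Main

variable {𝔸 A S₁ B : Type u} [CommRing 𝔸] [CommRing A] [CommRing S₁] [CommRing B]
  [Algebra 𝔸 A] [Algebra 𝔸 S₁] [Algebra A B] [Algebra S₁ B] [Algebra 𝔸 B]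
  [IsScalarTower 𝔸 A B] [IsScalarTower 𝔸 S₁ B] [Algebra.IsPushout 𝔸 A S₁ B]
  [IsNoetherianRing 𝔸] [Algebra.FiniteType 𝔸 S₁]
  {M₁ : Type u} [AddCommGroup M₁] [Module S₁ M₁] [Module.Finite S₁ M₁]
  {M : Type u} [AddCommGroup M] [Module B M] [Module A M] [IsScalarTower A B M]
  [Module S₁ M] [IsScalarTower S₁ B M]

variable (𝔸) in
include 𝔸 in
attribute [local instance] FS.stageAlgebra Algebra.TensorProduct.rightAlgebra in
/-- flatness at primes containing `J`, given a Noetherian model -/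
theorem flat_localizedModule_of_model (h : M₁ →ₗ[S₁] M) (hh : IsBaseChange B h) (J₁ : Ideal S₁)
    (hflat : ∀ k : ℕ, Module.Flat A
      (M ⧸ ((J₁.map (algebraMap S₁ B)) ^ k • (⊤ : Submodule B M))))
    (q : Ideal B) [q.IsPrime] (hq : J₁.map (algebraMap S₁ B) ≤ q) :
    Module.Flat A (LocalizedModule q.primeCompl M) := by
  classical
  letI : Module 𝔸 M₁ := Module.compHom M₁ (algebraMap 𝔸 S₁)
  haveI : IsScalarTower 𝔸 S₁ M₁ := IsScalarTower.of_algebraMap_smul fun _ _ => rfl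
  have hflat1 : ∀ k : ℕ, Module.Flat A (A ⊗[𝔸] (M₁ ⧸ (J₁ ^ k • (⊤ : Submodule S₁ M₁)))) :=
    fun k => haveI := hflat k; Module.Flat.of_linearEquiv (quotEquiv 𝔸 h hh J₁ k)
  obtain ⟨R', hfg, hR'⟩ := GrRees.exists_fg_subalgebra_flat_pieces 𝔸 J₁ M₁ A hflat1
  haveI : Algebra.FiniteType 𝔸 R' := (Subalgebra.fg_iff_finiteType R').mp hfg
  haveI : IsNoetherianRing R' := Algebra.FiniteType.isNoetherianRing 𝔸 R'
  haveI : IsScalarTower 𝔸 R' B := IsScalarTower.of_algebraMap_eq fun a => by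
    rw [IsScalarTower.algebraMap_apply 𝔸 A B]
    rfl
  letI : Module (R' ⊗[𝔸] S₁) M := Module.compHom M (algebraMap (R' ⊗[𝔸] S₁) B)
  haveI : IsScalarTower (R' ⊗[𝔸] S₁) B M := IsScalarTower.of_algebraMap_smul fun _ _ => rfl
  exact flat_localizedModule_of_stage 𝔸 R' h hh J₁ hR' q hq

end Main

end Groth.Agent.Helper21.GrJ
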