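import Mathlib
import Groth.Agent.Lib.Helper21.FN6
import Groth.Agent.Lib.Helper21.GrJ2

/-!
# Openness of the normally flat locus: passing to a Noetherian stage (helper21)
-/

set_option autoImplicit false
set_option linter.style.haveILetI false
set_option linter.unusedSectionVars false

open TensorProduct Function

namespace Groth.Agent.Helper21.FN

open Groth.Agent.Helper21

universe u

section Stage

variable {𝔸 A S₁ B : Type u} [CommRing 𝔸] [CommRing A] [CommRing S₁] [CommRing B]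
  [Algebra 𝔸 A] [Algebra 𝔸 S₁] [Algebra A B] [Algebra S₁ B] [Algebra 𝔸 B]
  [IsScalarTower 𝔸 A B] [IsScalarTower 𝔸 S₁ B] [Algebra.IsPushout 𝔸 A S₁ B]
  [IsNoetherianRing 𝔸] [Algebra.FiniteType 𝔸 S₁]
  (R' : Type u) [CommRing R'] [Algebra 𝔸 R'] [Algebra R' A] [IsScalarTower 𝔸 R' A] [Algebra R' B]
  [IsScalarTower R' A B] [IsScalarTower 𝔸 R' B] [IsNoetherianRing R']
  {M₁ : Type u} [AddCommGroup M₁] [Module S₁ M₁] [Module.Finite S₁ M₁]
  [Module 𝔸 M₁] [IsScalarTower 𝔸 S₁ M₁]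
  {M : Type u} [AddCommGroup M] [Module B M] [Module A M] [IsScalarTower A B M]
  [Module S₁ M] [IsScalarTower S₁ B M]

attribute [local instance] FS.stageAlgebra Algebra.TensorProduct.rightAlgebra

variable (𝔸 A) in
include 𝔸 A in
set_option maxHeartbeats 1600000 in
set_option synthInstance.maxHeartbeats 400000 in
/-- openness of the normally flat locus, given a Noetherian intermediate stage -/
theorem isOpen_normallyFlat_of_stage [Module (R' ⊗[𝔸] S₁) M] [IsScalarTower (R' ⊗[𝔸] S₁) B M]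
    (h : M₁ →ₗ[S₁] M) (hh : IsBaseChange B h) (J₁ : Ideal S₁)
    (hR' : ∀ k : ℕ, Module.Flat R' (R' ⊗[𝔸] (M₁ ⧸ (J₁ ^ k • (⊤ : Submodule S₁ M₁))))) :
    IsOpen {q : PrimeSpectrum B | J₁.map (algebraMap S₁ B) ≤ q.asIdeal → ∀ k : ℕ,
      Module.Flat (B ⧸ J₁.map (algebraMap S₁ B))
        ((B ⧸ J₁.map (algebraMap S₁ B)) ⊗[B] LocalizedModule q.asIdeal.primeCompl
          (↥((J₁.map (algebraMap S₁ B)) ^ k • (⊤ : Submodule B M)) ⧸
            Submodule.comap ((J₁.map (algebraMap S₁ B)) ^ k • (⊤ : Submodule B M)).subtype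
              ((J₁.map (algebraMap S₁ B)) ^ (k + 1) • ⊤)))} := by
  haveI : Algebra.IsPushout R' A (R' ⊗[𝔸] S₁) B := FS.stage_isPushout 𝔸 S₁ B R'
  haveI : IsNoetherianRing (R' ⊗[𝔸] S₁) :=
    Algebra.FiniteType.isNoetherianRing R' (R' ⊗[𝔸] S₁)
  have hmm : (J₁.map (algebraMap S₁ (R' ⊗[𝔸] S₁))).map (algebraMap (R' ⊗[𝔸] S₁) B) =
      J₁.map (algebraMap S₁ B) := by
    rw [Ideal.map_map, ← IsScalarTower.algebraMap_eq]
  have key := isOpen_normallyFlat_of_model (A₀ := R') A (B₀ := R' ⊗[𝔸] S₁) (B := B)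
    (FS.stageMap 𝔸 S₁ B R' h) (FS.stageMap_isBaseChange 𝔸 S₁ B R' h hh)
    (J₁.map (algebraMap S₁ (R' ⊗[𝔸] S₁)))
    (fun k => haveI := hR' k; GrJ.stage_flat_quot 𝔸 R' J₁ k)
  rw [hmm] at key
  exact key

end Stage

section Main

variable {𝔸 A S₁ B : Type u} [CommRing 𝔸] [CommRing A] [CommRing S₁] [CommRing B]
  [Algebra 𝔸 A] [Algebra 𝔸 S₁] [Algebra A B] [Algebra S₁ B] [Algebra 𝔸 B]
  [IsScalarTower 𝔸 A B] [IsScalarTower 𝔸 S₁ B] [Algebra.IsPushout 𝔸 A S₁ B]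
  [IsNoetherianRing 𝔸] [Algebra.FiniteType 𝔸 S₁]
  {M₁ : Type u} [AddCommGroup M₁] [Module S₁ M₁] [Module.Finite S₁ M₁]
  {M : Type u} [AddCommGroup M] [Module B M] [Module A M] [IsScalarTower A B M]
  [Module S₁ M] [IsScalarTower S₁ B M]

variable (𝔸) in
include 𝔸 in
attribute [local instance] FS.stageAlgebra Algebra.TensorProduct.rightAlgebra in
/-- openness of the normally flat locus, given a Noetherian model -/
theorem isOpen_normallyFlat_of_noeth_model (h : M₁ →ₗ[S₁] M) (hh : IsBaseChange B h)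
    (J₁ : Ideal S₁)
    (hflat : ∀ k : ℕ, Module.Flat A
      (M ⧸ ((J₁.map (algebraMap S₁ B)) ^ k • (⊤ : Submodule B M)))) :
    IsOpen {q : PrimeSpectrum B | J₁.map (algebraMap S₁ B) ≤ q.asIdeal → ∀ k : ℕ,
      Module.Flat (B ⧸ J₁.map (algebraMap S₁ B))
        ((B ⧸ J₁.map (algebraMap S₁ B)) ⊗[B] LocalizedModule q.asIdeal.primeCompl
          (↥((J₁.map (algebraMap S₁ B)) ^ k • (⊤ : Submodule B M)) ⧸
            Submodule.comap ((J₁.map (algebraMap S₁ B)) ^ k • (⊤ : Submodule B M)).subtype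
              ((J₁.map (algebraMap S₁ B)) ^ (k + 1) • ⊤)))} := by
  classical
  letI : Module 𝔸 M₁ := Module.compHom M₁ (algebraMap 𝔸 S₁)
  haveI : IsScalarTower 𝔸 S₁ M₁ := IsScalarTower.of_algebraMap_smul fun _ _ => rfl
  have hflat1 : ∀ k : ℕ, Module.Flat A (A ⊗[𝔸] (M₁ ⧸ (J₁ ^ k • (⊤ : Submodule S₁ M₁)))) :=
    fun k => haveI := hflat k; Module.Flat.of_linearEquiv (GrJ.quotEquiv 𝔸 h hh J₁ k)
  obtain ⟨R', hfg, hR'⟩ := GrRees.exists_fg_subalgebra_flat_pieces 𝔸 J₁ M₁ A hflat1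
  haveI : Algebra.FiniteType 𝔸 R' := (Subalgebra.fg_iff_finiteType R').mp hfg
  haveI : IsNoetherianRing R' := Algebra.FiniteType.isNoetherianRing 𝔸 R'
  haveI : IsScalarTower 𝔸 R' B := IsScalarTower.of_algebraMap_eq fun a => by
    rw [IsScalarTower.algebraMap_apply 𝔸 A B]
    rfl
  letI : Module (R' ⊗[𝔸] S₁) M := Module.compHom M (algebraMap (R' ⊗[𝔸] S₁) B)
  haveI : IsScalarTower (R' ⊗[𝔸] S₁) B M := IsScalarTower.of_algebraMap_smul fun _ _ => rfl
  exact isOpen_normallyFlat_of_stage 𝔸 A R' h hh J₁ hR'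

end Main

end Groth.Agent.Helper21.FN
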