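import Mathlib
import Groth.Agent.Lib.Helper21.FN7
import Groth.Agent.Lib.Helper21.GrJ3

/-!
# Openness of the normally flat locus (EGA IV 11.3-type statement, affine form) (helper21)
-/

set_option linter.style.haveILetI false
set_option linter.unusedSectionVars false

open TensorProduct Function

namespace Groth.Agent.Helper21.FN

open Groth.Agent.Helper21

universe u

set_option maxHeartbeats 1600000 in
/-- If `B` is a finitely presented `A`-algebra, `J ⊆ B` a finitely generated ideal, `M` a finitely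
presented `B`-module such that all `J^k M / J^(k+1) M` are flat over `A`, then the locus of primes
`q` (containing `J`) at which `M` is normally flat along `V(J)` is open. -/
theorem isOpen_normallyFlat {A B : Type u} [CommRing A] [CommRing B] [Algebra A B]
    [Algebra.FinitePresentation A B] (J : Ideal B) (hJ : J.FG)
    (M : Type u) [AddCommGroup M] [Module B M] [Module A M] [IsScalarTower A B M]
    [Module.FinitePresentation B M]
    (hgrM : ∀ k : ℕ, Module.Flat A
      (↥(J ^ k • (⊤ : Submodule B M)) ⧸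
        Submodule.comap (J ^ k • (⊤ : Submodule B M)).subtype (J ^ (k + 1) • ⊤))) :
    IsOpen {q : PrimeSpectrum B | J ≤ q.asIdeal → ∀ k : ℕ,
      Module.Flat (B ⧸ J) ((B ⧸ J) ⊗[B] LocalizedModule q.asIdeal.primeCompl
        (↥(J ^ k • (⊤ : Submodule B M)) ⧸
          Submodule.comap (J ^ k • (⊤ : Submodule B M)).subtype (J ^ (k + 1) • ⊤)))} := by
  classical
  have hflat := GrJ.flat_quot_pow_of_gr J hgrM
  let P := Algebra.Presentation.ofFinitePresentation A B
  obtain ⟨n, m, f, gg, hf, hfg⟩ := Module.FinitePresentation.exists_fin' B M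
  obtain ⟨t, ht⟩ := hJ
  have hsurj : ∀ (k : Fin m) (l : Fin n), ∃ w : MvPolynomial _ A,
      MvPolynomial.aeval P.val w = gg (Pi.single k 1) l := fun k l => by
    obtain ⟨w, hw⟩ := P.algebraMap_surjective (gg (Pi.single k 1) l)
    exact ⟨w, by rw [← hw, Algebra.Generators.algebraMap_apply]⟩
  choose w hw using hsurj
  have hsurjt : ∀ b : B, ∃ v : MvPolynomial _ A, MvPolynomial.aeval P.val v = b := fun b => by
    obtain ⟨v, hv⟩ := P.algebraMap_surjective b
    exact ⟨v, by rw [← hv, Algebra.Generators.algebraMap_apply]⟩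
  choose v hv using hsurjt
  let s : Set A := (P.coeffs ∪ ⋃ k, ⋃ l, ((w k l).coeffs : Set A)) ∪
    ⋃ b ∈ t, ((v b).coeffs : Set A)
  have hsfin : s.Finite := by
    refine Set.Finite.union (Set.Finite.union P.finite_coeffs ?_) ?_
    · exact Set.finite_iUnion fun k => Set.finite_iUnion fun l => Finset.finite_toSet _
    · exact Set.Finite.biUnion (Finset.finite_toSet t) fun b _ => Finset.finite_toSet _
  let 𝔸 : Subalgebra ℤ A := Algebra.adjoin ℤ s
  haveI : P.HasCoeffs 𝔸 :=
    ⟨fun x hx => ⟨⟨x, Algebra.subset_adjoin (Or.inl (Or.inl hx))⟩, rfl⟩⟩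
  haveI : Algebra.FiniteType ℤ 𝔸 := Algebra.FiniteType.adjoin_of_finite hsfin
  haveI : IsNoetherianRing 𝔸 := Algebra.FiniteType.isNoetherianRing ℤ 𝔸
  let S₁ := P.ModelOfHasCoeffs 𝔸
  letI : Algebra S₁ B := FS.modelAlgebra P 𝔸
  haveI : IsScalarTower 𝔸 S₁ B := FS.model_isScalarTower P 𝔸
  haveI : Algebra.IsPushout 𝔸 A S₁ B := FS.model_isPushout P 𝔸
  have hw' : ∀ k l, ∃ w' : MvPolynomial _ 𝔸, MvPolynomial.map (algebraMap 𝔸 A) w' = w k l := by
    intro k l
    have : w k l ∈ Set.range (MvPolynomial.map (algebraMap 𝔸 A)) := by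
      rw [MvPolynomial.mem_range_map_iff_coeffs_subset]
      intro x hx
      exact ⟨⟨x, Algebra.subset_adjoin (Or.inl (Or.inr (Set.mem_iUnion₂.mpr ⟨k, l, hx⟩)))⟩, rfl⟩
    exact this
  choose w' hw' using hw'
  have hv' : ∀ b ∈ t, ∃ v' : MvPolynomial _ 𝔸, MvPolynomial.map (algebraMap 𝔸 A) v' = v b := by
    intro b hb
    have : v b ∈ Set.range (MvPolynomial.map (algebraMap 𝔸 A)) := by
      rw [MvPolynomial.mem_range_map_iff_coeffs_subset]
      intro x hx
      exact ⟨⟨x, Algebra.subset_adjoin (Or.inr (Set.mem_iUnion₂.mpr ⟨b, hb, hx⟩))⟩, rfl⟩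
    exact this
  choose! v' hv' using hv'
  let c' : Fin m → Fin n → S₁ := fun k l => Ideal.Quotient.mk _ (w' k l)
  let y : B → S₁ := fun b => Ideal.Quotient.mk _ (v' b)
  letI : Module S₁ M := Module.compHom M (algebraMap S₁ B)
  haveI : IsScalarTower S₁ B M := IsScalarTower.of_algebraMap_smul fun _ _ => rfl
  have hc : ∀ k l, algebraMap S₁ B (c' k l) = gg (Pi.single k 1) l := by
    intro k l
    rw [FS.modelAlgebra_mk, ← hw, ← hw', MvPolynomial.aeval_map_algebraMap]
  have hy : ∀ b ∈ t, algebraMap S₁ B (y b) = b := by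
    intro b hb
    rw [FS.modelAlgebra_mk]
    conv_rhs => rw [← hv b, ← hv' b hb]
    rw [MvPolynomial.aeval_map_algebraMap]
  obtain ⟨h, hh⟩ := FS.exists_isBaseChange_cokerModel c' f gg hf hfg hc
  haveI : Module.Finite S₁ (FS.CokerModel c') := Module.Finite.quotient S₁ _
  let J₁ : Ideal S₁ := Ideal.span (y '' (t : Set B))
  have hJ' : J₁.map (algebraMap S₁ B) = J := by
    rw [← ht, Ideal.map_span, Set.image_image]
    congr 1
    ext b
    constructor
    · rintro ⟨b', hb', rfl⟩
      change algebraMap S₁ B (y b') ∈ (t : Set B)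
      rw [hy b' hb']
      exact hb'
    · intro hb
      exact ⟨b, hb, hy b hb⟩
  subst hJ'
  exact isOpen_normallyFlat_of_noeth_model 𝔸 h hh J₁ hflat

end Groth.Agent.Helper21.FN
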