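import Mathlib

/-!
# Quasi-compactness and quasi-separatedness descend along surjective (quasi-compact) morphisms
on the source (helper21)
-/

set_option autoImplicit false
set_option backward.isDefEq.respectTransparency false
set_option backward.isDefEq.respectTransparency.types false
set_option linter.style.haveILetI false
set_option linter.unusedSectionVars false

universe u

open CategoryTheory CategoryTheory.Limits AlgebraicGeometry Opposite TopologicalSpace

namespace Groth.Agent.Helper21.FS

variable {X Y S : Scheme.{u}} (p : X ⟶ Y) (q : Y ⟶ S)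

theorem preimage_comp (U : Set S) : (p ≫ q) ⁻¹' U = p ⁻¹' (q ⁻¹' U) := by
  ext x
  simp

theorem quasiCompact_of_comp_surjective [Surjective p] [QuasiCompact (p ≫ q)] :
    QuasiCompact q :=
  ⟨fun U hU hUc => by
    have h := QuasiCompact.isCompact_preimage (f := p ≫ q) U hU hUc
    have h2 : q ⁻¹' U = p '' ((p ≫ q) ⁻¹' U) := by
      rw [preimage_comp, Set.image_preimage_eq _ p.surjective]
    rw [h2]
    exact h.image p.continuous⟩

theorem quasiSeparated_of_comp_surjective [Surjective p] [QuasiCompact p]
    [QuasiSeparated (p ≫ q)] : QuasiSeparated q := by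
  rw [HasAffineProperty.eq_targetAffineLocally (P := @QuasiSeparated)]
  intro W
  change QuasiSeparatedSpace ↥(q ⁻¹ᵁ W.1)
  refine (isQuasiSeparated_iff_quasiSeparatedSpace _ (q ⁻¹ᵁ W.1).2).mp ?_
  have h := (p ≫ q).isQuasiSeparated_preimage W.2.isQuasiSeparated
  intro U V hU hUo hUc hV hVo hVc
  have h1 := h (p ⁻¹' U) (p ⁻¹' V) (fun x hx => hU hx) (hUo.preimage p.continuous)
    (QuasiCompact.isCompact_preimage U hUo hUc) (fun x hx => hV hx) (hVo.preimage p.continuous)
    (QuasiCompact.isCompact_preimage V hVo hVc)
  have h2 : U ∩ V = p '' (p ⁻¹' U ∩ p ⁻¹' V) := by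
    rw [← Set.preimage_inter, Set.image_preimage_eq _ p.surjective]
  rw [h2]
  exact h1.image p.continuous

end Groth.Agent.Helper21.FS
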