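import Mathlib
import Groth.Agent.S1353

/-!
# Étale neighbourhoods adapted to a locally quasi-finite subscheme (S14078)
-/

set_option autoImplicit false
set_option backward.isDefEq.respectTransparency false
set_option backward.isDefEq.respectTransparency.types false
universe u
open CategoryTheory CategoryTheory.Limits AlgebraicGeometry

namespace Groth.Agent.Helper21.FamCycNbhd

theorem mem_of_ι {X : Scheme.{u}} (U : X.Opens) (y : (U : Scheme.{u})) : U.ι y ∈ U := by
  have h2 : U.ι y ∈ U.ι.opensRange := ⟨y, rfl⟩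
  rwa [Scheme.Opens.opensRange_ι] at h2

theorem exists_of_mem {X : Scheme.{u}} (U : X.Opens) {x : X} (hx : x ∈ U) :
    ∃ y : (U : Scheme.{u}), U.ι y = x := by
  have h2 : x ∈ U.ι.opensRange := by rwa [Scheme.Opens.opensRange_ι]
  exact h2

theorem main {Z X S : Scheme.{u}} (f : X ⟶ S)
    [LocallyOfFiniteType f] (i : Z ⟶ X) [IsImmersion i] [LocallyQuasiFinite (i ≫ f)] (z : Z) :
    ∃ (T : Scheme.{u}) (g : T ⟶ S) (U : (pullback f g).Opens)
      (u : ↥(pullback (U.ι ≫ pullback.fst f g) i)),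
      Etale g ∧
      IsFinite (pullback.fst (U.ι ≫ pullback.fst f g) i ≫ U.ι ≫ pullback.snd f g) ∧
      (pullback.snd (U.ι ≫ pullback.fst f g) i).base u = z ∧
      IsIso ((pullback.snd (U.ι ≫ pullback.fst f g) i).residueFieldMap u) ∧
      ∀ u' : ↥(pullback (U.ι ≫ pullback.fst f g) i),
        (pullback.fst (U.ι ≫ pullback.fst f g) i ≫ U.ι ≫ pullback.snd f g).base u' =
          (pullback.fst (U.ι ≫ pullback.fst f g) i ≫ U.ι ≫ pullback.snd f g).base u → u' = u := by
  obtain ⟨T, g, t, hnb, V, v, hvV, hVfin, hvt, hvuniq, hvz, hvres⟩ :=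
    Groth.Agent.S1353.result (i ≫ f) z ((i ≫ f).quasiFiniteAt z)
  haveI := hnb.etale
  -- the immersion `Z_T ⟶ X_T`
  let iT : pullback (i ≫ f) g ⟶ pullback f g :=
    pullback.lift (pullback.fst (i ≫ f) g ≫ i) (pullback.snd (i ≫ f) g)
      (by rw [Category.assoc, pullback.condition])
  have hiT1 : iT ≫ pullback.fst f g = pullback.fst (i ≫ f) g ≫ i := pullback.lift_fst _ _ _
  have hiT2 : iT ≫ pullback.snd f g = pullback.snd (i ≫ f) g := pullback.lift_snd _ _ _
  have sqC : IsPullback iT (pullback.fst (i ≫ f) g) (pullback.fst f g) i := by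
    refine IsPullback.of_right ?_ hiT1 (IsPullback.of_hasPullback f g).flip
    rw [hiT2]
    exact (IsPullback.of_hasPullback (i ≫ f) g).flip
  haveI : IsImmersion iT := MorphismProperty.of_isPullback (P := @IsImmersion) sqC.flip inferInstance
  -- the open `U` of `X_T` cutting out `V`
  obtain ⟨O, hO, hOV⟩ := iT.isEmbedding.isInducing.isOpen_iff.mp V.isOpen
  let U : (pullback f g).Opens := ⟨O, hO⟩
  have hUV : ∀ w : ↥(pullback (i ≫ f) g), w ∈ V ↔ iT w ∈ U := by
    intro w
    have : w ∈ (iT ⁻¹' O) ↔ w ∈ (V : Set _) := by rw [hOV]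
    exact this.symm
  -- the comparison map `k : P ⟶ Z_T`
  let k : pullback (U.ι ≫ pullback.fst f g) i ⟶ pullback (i ≫ f) g :=
    sqC.lift (pullback.fst (U.ι ≫ pullback.fst f g) i ≫ U.ι) (pullback.snd (U.ι ≫ pullback.fst f g) i)
      (by rw [Category.assoc, pullback.condition])
  have hk1 : k ≫ iT = pullback.fst (U.ι ≫ pullback.fst f g) i ≫ U.ι := sqC.lift_fst _ _ _
  have hk2 : k ≫ pullback.fst (i ≫ f) g = pullback.snd (U.ι ≫ pullback.fst f g) i :=
    sqC.lift_snd _ _ _
  have sqD : IsPullback k (pullback.fst (U.ι ≫ pullback.fst f g) i) iT U.ι := by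
    refine IsPullback.of_right ?_ hk1 sqC.flip
    rw [hk2]
    exact (IsPullback.of_hasPullback (U.ι ≫ pullback.fst f g) i).flip
  haveI : IsOpenImmersion k :=
    MorphismProperty.of_isPullback (P := @IsOpenImmersion) sqD.flip inferInstance
  have hrange : Set.range k = Set.range V.ι := by
    rw [Scheme.Opens.range_ι]
    ext w
    constructor
    · rintro ⟨p, rfl⟩
      rw [SetLike.mem_coe, hUV, ← Scheme.Hom.comp_apply, hk1, Scheme.Hom.comp_apply]
      exact mem_of_ι U _
    · intro hw
      have hw' : iT w ∈ U := (hUV w).mp hw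
      obtain ⟨y, hy⟩ := exists_of_mem U hw'
      obtain ⟨p, hp1, hp2⟩ := Scheme.Pullback.exists_preimage_pullback (f := iT) (g := U.ι) w y
        hy.symm
      refine ⟨sqD.isoPullback.inv p, ?_⟩
      rw [← Scheme.Hom.comp_apply, IsPullback.isoPullback_inv_fst]
      exact hp1
  let e := IsOpenImmersion.isoOfRangeEq k V.ι hrange
  have he : e.hom ≫ V.ι = k := IsOpenImmersion.isoOfRangeEq_hom_fac k V.ι hrange
  have htot : pullback.fst (U.ι ≫ pullback.fst f g) i ≫ U.ι ≫ pullback.snd f g =
      e.hom ≫ V.ι ≫ pullback.snd (i ≫ f) g := by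
    rw [← Category.assoc, ← hk1, Category.assoc, hiT2, ← he, Category.assoc]
  obtain ⟨v', hv'⟩ := exists_of_mem V hvV
  have hku : k (e.inv v') = v := by
    rw [← he, ← Scheme.Hom.comp_apply, Iso.inv_hom_id_assoc, hv']
  refine ⟨T, g, U, e.inv v', inferInstance, ?_, ?_, ?_, ?_⟩
  · rw [htot]
    haveI := hVfin
    infer_instance
  · rw [← hk2, Scheme.Hom.comp_apply, hku, hvz]
  · have hb : Function.Bijective ((pullback.fst (i ≫ f) g).residueFieldMap (k (e.inv v'))) := by
      rw [hku]; exact hvres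
    haveI : IsIso ((pullback.fst (i ≫ f) g).residueFieldMap (k (e.inv v'))) :=
      (ConcreteCategory.isIso_iff_bijective _).mpr hb
    have : pullback.snd (U.ι ≫ pullback.fst f g) i = k ≫ pullback.fst (i ≫ f) g := hk2.symm
    rw [this, Scheme.residueFieldMap_comp]
    infer_instance
  · intro u' hu'
    apply k.isOpenEmbedding.injective
    rw [hku]
    have h1 : k u' ∈ V := by
      have : k u' ∈ Set.range k := ⟨u', rfl⟩
      rw [hrange, Scheme.Opens.range_ι] at this
      exact this
    apply hvuniq _ h1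
    have h2 : pullback.fst (U.ι ≫ pullback.fst f g) i ≫ U.ι ≫ pullback.snd f g =
        k ≫ pullback.snd (i ≫ f) g := by
      rw [← Category.assoc, ← hk1, Category.assoc, hiT2]
    rw [h2, Scheme.Hom.comp_apply, Scheme.Hom.comp_apply, hku, hvt] at hu'
    exact hu'

end Groth.Agent.Helper21.FamCycNbhd
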