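import Mathlib

/-!
# Farkas' lemma over an ordered field (Bartl's algebraic proof) and separation of a point from
the convex hull of a finite family
-/

set_option linter.unusedSectionVars false
set_option linter.unusedSimpArgs false

namespace Groth.Agent.Helper21.Farkas

variable {R : Type*} [Field R] [LinearOrder R] [IsStrictOrderedRing R]

/-- Farkas' lemma for finitely many linear functionals on an arbitrary vector space over an
ordered field. -/
theorem farkas {V : Type*} [AddCommGroup V] [Module R V] {κ : Type*} (s : Finset κ) :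
    ∀ (f : κ → Module.Dual R V) (g : Module.Dual R V),
      (∀ x, (∀ k ∈ s, 0 ≤ f k x) → 0 ≤ g x) →
      ∃ c : κ → R, (∀ k ∈ s, 0 ≤ c k) ∧ g = ∑ k ∈ s, c k • f k := by
  classical
  induction s using Finset.induction_on with
  | empty =>
    intro f g H
    refine ⟨fun _ => 0, by simp, ?_⟩
    ext x
    have h1 := H x (by simp)
    have h2 := H (-x) (by simp)
    rw [map_neg] at h2
    simp only [Finset.sum_empty, LinearMap.zero_apply]
    linarith
  | insert a s' ha ih =>
    intro f g H
    by_cases hcase : ∀ x, (∀ k ∈ s', 0 ≤ f k x) → 0 ≤ g x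
    · obtain ⟨c, hc, hg⟩ := ih f g hcase
      refine ⟨Function.update c a 0, ?_, ?_⟩
      · intro k hk
        by_cases hka : k = a
        · subst hka; simp
        · rw [Function.update_of_ne hka]
          exact hc k ((Finset.mem_insert.1 hk).resolve_left hka)
      · rw [Finset.sum_insert ha, Function.update_self, zero_smul, zero_add, hg]
        apply Finset.sum_congr rfl
        intro k hk
        rw [Function.update_of_ne (fun h : k = a => ha (by rw [← h]; exact hk))]
    · push Not at hcase
      obtain ⟨x₀, hx₀, hgx₀⟩ := hcase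
      have hfa : f a x₀ < 0 := by
        by_contra hn
        have := H x₀ (fun k hk => by
          rcases Finset.mem_insert.1 hk with rfl | hk
          · exact not_lt.mp hn
          · exact hx₀ k hk)
        linarith
      have hpos : 0 < -(f a x₀)⁻¹ := by
        rw [neg_pos, inv_lt_zero]; exact hfa
      have hfa₁ : f a ((-(f a x₀)⁻¹) • x₀) = -1 := by
        rw [map_smul, smul_eq_mul, neg_mul, inv_mul_cancel₀ hfa.ne]
      have hfk₁ : ∀ k ∈ s', 0 ≤ f k ((-(f a x₀)⁻¹) • x₀) := fun k hk => by
        rw [map_smul, smul_eq_mul]; exact mul_nonneg hpos.le (hx₀ k hk)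
      have hg₁ : g ((-(f a x₀)⁻¹) • x₀) < 0 := by
        rw [map_smul, smul_eq_mul]; exact mul_neg_of_pos_of_neg hpos hgx₀
      generalize (-(f a x₀)⁻¹) • x₀ = x₁ at hfa₁ hfk₁ hg₁
      let π : V →ₗ[R] V := LinearMap.id + (f a).smulRight x₁
      have hπ : ∀ x, π x = x + f a x • x₁ := fun x => by simp [π]
      have hfaπ : ∀ x, f a (π x) = 0 := fun x => by
        rw [hπ, map_add, map_smul, smul_eq_mul, hfa₁]; ring
      obtain ⟨c', hc', hg'⟩ := ih (fun k => (f k).comp π) (g.comp π) (by
        intro x hx
        apply H (π x)
        intro k hk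
        rcases Finset.mem_insert.1 hk with rfl | hk
        · rw [hfaπ]
        · exact hx k hk)
      have hca_pos : 0 ≤ ∑ k ∈ s', c' k * f k x₁ - g x₁ := by
        have : 0 ≤ ∑ k ∈ s', c' k * f k x₁ :=
          Finset.sum_nonneg (fun k hk => mul_nonneg (hc' k hk) (hfk₁ k hk))
        linarith
      refine ⟨Function.update c' a (∑ k ∈ s', c' k * f k x₁ - g x₁), ?_, ?_⟩
      · intro k hk
        by_cases hka : k = a
        · subst hka; rw [Function.update_self]; exact hca_pos
        · rw [Function.update_of_ne hka]
          exact hc' k ((Finset.mem_insert.1 hk).resolve_left hka)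
      · ext x
        have hx := LinearMap.congr_fun hg' x
        simp only [LinearMap.comp_apply, LinearMap.sum_apply, LinearMap.smul_apply, smul_eq_mul,
          hπ, map_add, map_smul] at hx
        rw [Finset.sum_insert ha, Function.update_self]
        simp only [LinearMap.add_apply, LinearMap.sum_apply, LinearMap.smul_apply, smul_eq_mul]
        have hsum : ∑ k ∈ s', Function.update c' a (∑ k ∈ s', c' k * f k x₁ - g x₁) k * f k x =
            ∑ k ∈ s', c' k * f k x := by
          apply Finset.sum_congr rfl
          intro k hk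
          rw [Function.update_of_ne (fun h : k = a => ha (by rw [← h]; exact hk))]
        rw [hsum]
        have h3 : ∑ k ∈ s', c' k * (f k x + f a x * f k x₁) =
            ∑ k ∈ s', c' k * f k x + f a x * ∑ k ∈ s', c' k * f k x₁ := by
          rw [Finset.mul_sum, ← Finset.sum_add_distrib]
          apply Finset.sum_congr rfl
          intro k _
          ring
        rw [h3] at hx
        linear_combination hx

/-- Separation of a point from the convex hull of a finite family, for a pairing which is
non-degenerate on the right. -/
theorem exists_separating {M N κ : Type*} [AddCommGroup M] [Module R M] [AddCommGroup N]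
    [Module R N] [Finite κ] (p : M →ₗ[R] N →ₗ[R] R)
    (hp : ∀ x : N, (∀ ξ, p ξ x = 0) → x = 0) (A : κ → N) (x : N)
    (hx : x ∉ convexHull R (Set.range A)) :
    ∃ ξ : M, ∀ k, p ξ x < p ξ (A k) := by
  classical
  by_contra hcon
  push Not at hcon
  cases nonempty_fintype κ
  let f : κ → Module.Dual R (M × R) := fun k => (p.flip (A k)).coprod (-LinearMap.id)
  let g : Module.Dual R (M × R) := (p.flip x).coprod (-LinearMap.id)
  have hf : ∀ k (v : M × R), f k v = p v.1 (A k) - v.2 := fun k v => by
    simp [f, LinearMap.coprod_apply, sub_eq_add_neg]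
  have hg : ∀ v : M × R, g v = p v.1 x - v.2 := fun v => by
    simp [g, LinearMap.coprod_apply, sub_eq_add_neg]
  obtain ⟨c, hc, hgc⟩ := farkas (Finset.univ : Finset κ) f g (by
    intro v hv
    obtain ⟨k, hk⟩ := hcon v.1
    have := hv k (Finset.mem_univ k)
    rw [hf] at this
    rw [hg]
    linarith)
  have hsum : ∑ k, c k = 1 := by
    have h := LinearMap.congr_fun hgc ((0 : M), (1 : R))
    simp only [hg, LinearMap.sum_apply, LinearMap.smul_apply, smul_eq_mul, hf, map_zero,
      LinearMap.zero_apply, zero_sub, mul_neg, mul_one, Finset.sum_neg_distrib, neg_inj] at h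
    exact h.symm
  have hxeq : x = ∑ k, c k • A k := by
    rw [← sub_eq_zero]
    apply hp
    intro ξ
    have h := LinearMap.congr_fun hgc (ξ, (0 : R))
    simp only [hg, LinearMap.sum_apply, LinearMap.smul_apply, smul_eq_mul, hf, sub_zero] at h
    rw [map_sub, map_sum, h, sub_eq_zero]
    apply Finset.sum_congr rfl
    intro k _
    rw [map_smul, smul_eq_mul]
  apply hx
  rw [hxeq]
  exact (convex_convexHull R _).sum_mem (fun k _ => hc k (Finset.mem_univ k)) hsum
    (fun k _ => subset_convexHull R _ ⟨k, rfl⟩)

end Groth.Agent.Helper21.Farkas
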