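import Mathlib

/-! Fibre dimensions of finite modules (copied from helper4's `Lib/Helper4/DRank.lean` and
`Lib/Helper4/FibFree.lean`, to be independent of later changes there), plus applications
(S14336, S14338). -/

set_option autoImplicit false
universe u
open TensorProduct

namespace Groth.Agent.Helper21.FD

section FibDim

variable {A : Type u} [CommRing A]

/-- if the images of `c i` span the fibre at `y` of `C ⧸ span (c i)`... -/
theorem span_tmul_eq_top_of_subsingleton {C : Type u} [AddCommGroup C] [Module A C]
    (K : Type u) [Field K] [Algebra A K] {ι : Type*} (c : ι → C)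
    (h : Subsingleton (K ⊗[A] (C ⧸ Submodule.span A (Set.range c)))) :
    Submodule.span K (Set.range fun i => (1 : K) ⊗ₜ[A] c i) = ⊤ := by
  set S := Submodule.span A (Set.range c)
  have hex := lTensor_exact K (LinearMap.exact_subtype_mkQ S) (Submodule.mkQ_surjective S)
  have h1 : S.baseChange K = ⊤ := by
    rw [eq_top_iff]
    intro v _
    have hv : (S.mkQ.lTensor K) v = 0 := Subsingleton.elim _ _
    obtain ⟨w, hw⟩ := (hex v).mp hv
    exact ⟨w, hw⟩
  rw [← h1, Submodule.baseChange_span, ← Set.range_comp]
  rfl

theorem exists_nhd_fibDim_le (C : Type u) [AddCommGroup C] [Module A C] [Module.Finite A C]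
    (x : PrimeSpectrum A) :
    ∃ U : Set (PrimeSpectrum A), IsOpen U ∧ x ∈ U ∧ ∀ y ∈ U,
      Module.finrank y.asIdeal.ResidueField (y.asIdeal.ResidueField ⊗[A] C) ≤
        Module.finrank x.asIdeal.ResidueField (x.asIdeal.ResidueField ⊗[A] C) := by
  set κ := x.asIdeal.ResidueField
  set s : Set (κ ⊗[A] C) := Set.range (TensorProduct.mk A κ C 1) with hs_def
  have hs : Submodule.span κ s = ⊤ := by
    rw [hs_def, ← Set.image_univ, ← Submodule.baseChange_span, Submodule.span_univ,
      Submodule.baseChange_top]
  obtain ⟨f, hfs, hfspan, -⟩ := Submodule.exists_fun_fin_finrank_span_eq κ s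
  replace hfspan : Submodule.span κ (Set.range f) = ⊤ := hfspan.trans hs
  have hn : Module.finrank κ (Submodule.span κ s) = Module.finrank κ (κ ⊗[A] C) := by
    rw [hs, finrank_top]
  choose c hc using hfs
  have hc' : ∀ i, (1 : κ) ⊗ₜ[A] c i = f i := hc
  set S := Submodule.span A (Set.range c) with hS
  -- the fibre of `C ⧸ S` at `x` vanishes
  have hsub : Subsingleton (κ ⊗[A] (C ⧸ S)) := by
    have hsurj : Function.Surjective (S.mkQ.baseChange κ) :=
      LinearMap.lTensor_surjective κ (Submodule.mkQ_surjective S)
    have hker : LinearMap.ker (S.mkQ.baseChange κ) = ⊤ := by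
      rw [eq_top_iff, ← hfspan, Submodule.span_le]
      rintro _ ⟨i, rfl⟩
      rw [SetLike.mem_coe, LinearMap.mem_ker, ← hc', LinearMap.baseChange_tmul]
      have : S.mkQ (c i) = 0 := (Submodule.Quotient.mk_eq_zero S).mpr (Submodule.subset_span ⟨i, rfl⟩)
      rw [this, tmul_zero]
    refine ⟨fun a b => ?_⟩
    obtain ⟨a', rfl⟩ := hsurj a
    obtain ⟨b', rfl⟩ := hsurj b
    have ha : a' ∈ LinearMap.ker (S.mkQ.baseChange κ) := hker ▸ Submodule.mem_top
    have hb : b' ∈ LinearMap.ker (S.mkQ.baseChange κ) := hker ▸ Submodule.mem_top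
    rw [LinearMap.mem_ker.mp ha, LinearMap.mem_ker.mp hb]
  refine ⟨(Module.support A (C ⧸ S))ᶜ, ?_, ?_, ?_⟩
  · rw [isOpen_compl_iff, Module.support_eq_zeroLocus]
    exact PrimeSpectrum.isClosed_zeroLocus _
  · rw [Set.mem_compl_iff, Module.mem_support_iff_nontrivial_residueField_tensorProduct,
      not_nontrivial_iff_subsingleton]
    exact hsub
  · intro y hy
    rw [Set.mem_compl_iff, Module.mem_support_iff_nontrivial_residueField_tensorProduct,
      not_nontrivial_iff_subsingleton] at hy
    have := span_tmul_eq_top_of_subsingleton y.asIdeal.ResidueField c hy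
    have h2 := finrank_le_of_span_eq_top this
    rw [Fintype.card_fin, hn] at h2
    exact h2


end FibDim

section FibFree

variable {A : Type u} [CommRing A]

/-- Elements of `C` whose images generate the fibre at `x`; their number is the fibre dimension. -/
theorem exists_fin_gen (C : Type u) [AddCommGroup C] [Module A C] [Module.Finite A C]
    (x : PrimeSpectrum A) :
    ∃ c : Fin (Module.finrank x.asIdeal.ResidueField (x.asIdeal.ResidueField ⊗[A] C)) → C,
      Subsingleton (x.asIdeal.ResidueField ⊗[A] (C ⧸ Submodule.span A (Set.range c))) := by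
  set κ := x.asIdeal.ResidueField
  set s : Set (κ ⊗[A] C) := Set.range (TensorProduct.mk A κ C 1) with hs_def
  have hs : Submodule.span κ s = ⊤ := by
    rw [hs_def, ← Set.image_univ, ← Submodule.baseChange_span, Submodule.span_univ,
      Submodule.baseChange_top]
  obtain ⟨f, hfs, hfspan, -⟩ := Submodule.exists_fun_fin_finrank_span_eq κ s
  replace hfspan : Submodule.span κ (Set.range f) = ⊤ := hfspan.trans hs
  have hn : Module.finrank κ (Submodule.span κ s) = Module.finrank κ (κ ⊗[A] C) := by
    rw [hs, finrank_top]
  choose c hc using hfs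
  have hc' : ∀ i, (1 : κ) ⊗ₜ[A] c i = f i := hc
  refine ⟨c ∘ Fin.cast hn.symm, ?_⟩
  have hrange : Set.range (c ∘ Fin.cast hn.symm) = Set.range c :=
    Function.Surjective.range_comp (Fin.castOrderIso hn.symm).surjective c
  rw [hrange]
  set S := Submodule.span A (Set.range c) with hS
  have hsurj : Function.Surjective (S.mkQ.baseChange κ) :=
    LinearMap.lTensor_surjective κ (Submodule.mkQ_surjective S)
  have hker : LinearMap.ker (S.mkQ.baseChange κ) = ⊤ := by
    rw [eq_top_iff, ← hfspan, Submodule.span_le]
    rintro _ ⟨i, rfl⟩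
    rw [SetLike.mem_coe, LinearMap.mem_ker, ← hc', LinearMap.baseChange_tmul]
    have : S.mkQ (c i) = 0 := (Submodule.Quotient.mk_eq_zero S).mpr (Submodule.subset_span ⟨i, rfl⟩)
    rw [this, tmul_zero]
  refine ⟨fun a b => ?_⟩
  obtain ⟨a', rfl⟩ := hsurj a
  obtain ⟨b', rfl⟩ := hsurj b
  have ha : a' ∈ LinearMap.ker (S.mkQ.baseChange κ) := hker ▸ Submodule.mem_top
  have hb : b' ∈ LinearMap.ker (S.mkQ.baseChange κ) := hker ▸ Submodule.mem_top
  rw [LinearMap.mem_ker.mp ha, LinearMap.mem_ker.mp hb]

/-- Over a local ring the fibre dimension is largest at the closed point. -/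
theorem fibDim_le_closedPoint [IsLocalRing A] (C : Type u) [AddCommGroup C] [Module A C]
    [Module.Finite A C] (q : PrimeSpectrum A) :
    Module.finrank q.asIdeal.ResidueField (q.asIdeal.ResidueField ⊗[A] C) ≤
      Module.finrank (IsLocalRing.closedPoint A).asIdeal.ResidueField
        ((IsLocalRing.closedPoint A).asIdeal.ResidueField ⊗[A] C) := by
  obtain ⟨U, hU, hxU, h⟩ := exists_nhd_fibDim_le C (IsLocalRing.closedPoint A)
  have : (⟨U, hU⟩ : TopologicalSpace.Opens (PrimeSpectrum A)) = ⊤ :=
    (IsLocalRing.closed_point_mem_iff (U := ⟨U, hU⟩)).1 hxU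
  have hq : q ∈ (⟨U, hU⟩ : TopologicalSpace.Opens (PrimeSpectrum A)) := this ▸ trivial
  exact h q hq

/-- A finite module over a reduced local ring whose fibre dimension at every minimal prime
equals that at the closed point is free. -/
theorem free_of_fibDim_minimalPrimes [IsLocalRing A] [IsReduced A]
    (W : Type u) [AddCommGroup W] [Module A W] [Module.Finite A W]
    (h : ∀ q : PrimeSpectrum A, q.asIdeal ∈ minimalPrimes A →
      Module.finrank q.asIdeal.ResidueField (q.asIdeal.ResidueField ⊗[A] W) =
        Module.finrank (IsLocalRing.closedPoint A).asIdeal.ResidueField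
          ((IsLocalRing.closedPoint A).asIdeal.ResidueField ⊗[A] W)) :
    Module.Free A W := by
  set x₀ := IsLocalRing.closedPoint A with hx₀
  set n := Module.finrank x₀.asIdeal.ResidueField (x₀.asIdeal.ResidueField ⊗[A] W) with hn
  obtain ⟨c, hc⟩ := exists_fin_gen W x₀
  set S := Submodule.span A (Set.range c) with hS
  -- `S = ⊤`
  have hsupp : Module.support A (W ⧸ S) = ∅ := by
    by_contra hne
    obtain ⟨p, hp⟩ := Set.nonempty_iff_ne_empty.mpr hne
    have hle : p ≤ x₀ := IsLocalRing.le_maximalIdeal p.2.ne_top
    have hx : x₀ ∈ Module.support A (W ⧸ S) := Module.mem_support_mono hle hp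
    rw [Module.mem_support_iff_nontrivial_residueField_tensorProduct] at hx
    exact not_subsingleton _ hc
  have hStop : S = ⊤ := by
    rw [Module.support_eq_empty_iff] at hsupp
    exact Submodule.Quotient.subsingleton_iff.mp hsupp
  set φ : (Fin n → A) →ₗ[A] W := Fintype.linearCombination A c with hφ
  have hφs : Function.Surjective φ := by
    rw [← LinearMap.range_eq_top, hφ, Fintype.range_linearCombination]
    exact hStop
  have hφi : Function.Injective φ := by
    rw [injective_iff_map_eq_zero]
    intro v hv
    funext i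
    have hmem : v i ∈ sInf (minimalPrimes A) := by
      rw [Ideal.mem_sInf]
      intro q hq
      have hqp : q.IsPrime := Ideal.minimalPrimes_isPrime hq
      set qq : PrimeSpectrum A := ⟨q, hqp⟩ with hqq
      set κ := qq.asIdeal.ResidueField
      have hdim : Module.finrank κ (κ ⊗[A] (Fin n → A)) = Module.finrank κ (κ ⊗[A] W) := by
        rw [Module.finrank_baseChange, Module.finrank_fin_fun, h qq hq]
      have hΦs : Function.Surjective (φ.baseChange κ) :=
        LinearMap.lTensor_surjective κ hφs
      have hΦi : Function.Injective (φ.baseChange κ) :=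
        (LinearMap.injective_iff_surjective_of_finrank_eq_finrank hdim).2 hΦs
      have h0 : (1 : κ) ⊗ₜ[A] v = 0 := by
        apply hΦi
        rw [LinearMap.baseChange_tmul, hv, tmul_zero, map_zero]
      have h1 := congrArg ((LinearMap.proj (R := A) (φ := fun _ : Fin n => A) i).baseChange κ) h0
      rw [LinearMap.baseChange_tmul, map_zero] at h1
      have h2 := congrArg (TensorProduct.AlgebraTensorModule.rid A κ κ) h1
      rw [TensorProduct.AlgebraTensorModule.rid_tmul, map_zero, LinearMap.proj_apply,
        Algebra.smul_def, mul_one] at h2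
      exact Ideal.algebraMap_residueField_eq_zero.mp h2
    have hnil : sInf (minimalPrimes A) = ⊥ := by
      rw [minimalPrimes, Ideal.sInf_minimalPrimes, Ideal.radical_eq_iff.mpr]
      exact Ideal.isRadical_bot
    rw [hnil] at hmem
    exact hmem
  exact Module.Free.of_equiv (LinearEquiv.ofBijective φ ⟨hφi, hφs⟩)


end FibFree

section RankImage

variable {B : Type u} [CommRing B] {K K' : Type u} [AddCommGroup K] [Module B K]
  [AddCommGroup K'] [Module B K'] [Module.Finite B K']

/-- rank of the image + fibre dimension of the cokernel = fibre dimension of the target. -/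
theorem rank_add (φ : K →ₗ[B] K') (F : Type u) [Field F] [Algebra B F] :
    Module.finrank F (LinearMap.range (φ.baseChange F)) +
      Module.finrank F (F ⊗[B] (K' ⧸ LinearMap.range φ)) = Module.finrank F (F ⊗[B] K') := by
  have e1 : ∀ x, ((LinearMap.range φ).mkQ.baseChange F) x = ((LinearMap.range φ).mkQ.lTensor F) x :=
    fun x => congrFun (LinearMap.baseChange_eq_ltensor _) x
  have e2 : ∀ x, (φ.baseChange F) x = (φ.lTensor F) x :=
    fun x => congrFun (LinearMap.baseChange_eq_ltensor _) x
  have hsurj : Function.Surjective ((LinearMap.range φ).mkQ.baseChange F) := by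
    rw [LinearMap.baseChange_eq_ltensor]
    exact LinearMap.lTensor_surjective F (Submodule.mkQ_surjective _)
  have hex : Function.Exact (φ.lTensor F) ((LinearMap.range φ).mkQ.lTensor F) :=
    lTensor_exact F (LinearMap.exact_map_mkQ_range φ) (Submodule.mkQ_surjective _)
  have hker : LinearMap.ker ((LinearMap.range φ).mkQ.baseChange F)
      = LinearMap.range (φ.baseChange F) := by
    ext x
    rw [LinearMap.mem_ker, LinearMap.mem_range, e1]
    constructor
    · intro h
      obtain ⟨w, hw⟩ := (hex x).mp h
      exact ⟨w, by rw [e2]; exact hw⟩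
    · rintro ⟨w, hw⟩
      exact (hex x).mpr ⟨w, by rw [← e2]; exact hw⟩
  have h1 := LinearMap.finrank_range_add_finrank_ker ((LinearMap.range φ).mkQ.baseChange F)
  rw [hker, LinearMap.range_eq_top.mpr hsurj, finrank_top] at h1
  omega

theorem lsc_rank_image [IsNoetherianRing B] [Module.Flat B K'] (φ : K →ₗ[B] K') :
    LowerSemicontinuous (fun y : PrimeSpectrum B =>
      Module.finrank y.asIdeal.ResidueField
        ↥(LinearMap.range (φ.baseChange y.asIdeal.ResidueField))) := by
  have hfp : Module.FinitePresentation B K' := Module.finitePresentation_of_finite B K'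
  intro x c hc
  beta_reduce at hc
  obtain ⟨U, hU, hxU, hle⟩ := exists_nhd_fibDim_le (K' ⧸ LinearMap.range φ) x
  have hlc := Module.isLocallyConstant_rankAtStalk (R := B) (M := K')
  have hV : IsOpen {y | Module.rankAtStalk K' y = Module.rankAtStalk K' x} := hlc.isOpen_fiber _
  filter_upwards [hU.mem_nhds hxU, hV.mem_nhds rfl] with y hyU hyV
  have e1 := rank_add φ y.asIdeal.ResidueField
  have e2 := rank_add φ x.asIdeal.ResidueField
  have e3 : Module.rankAtStalk K' y = Module.finrank y.asIdeal.ResidueField
      (y.asIdeal.ResidueField ⊗[B] K') := Module.rankAtStalk_eq y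
  have e4 : Module.rankAtStalk K' x = Module.finrank x.asIdeal.ResidueField
      (x.asIdeal.ResidueField ⊗[B] K') := Module.rankAtStalk_eq x
  have h5 := hle y hyU
  replace hyV : Module.rankAtStalk K' y = Module.rankAtStalk K' x := hyV
  omega

end RankImage

section ConstRank

variable {B : Type u} [CommRing B]

/-- The fibre dimension at a field `F` over `B` only depends on the kernel of `B → F`. -/
theorem finrank_tensor_field (C : Type u) [AddCommGroup C] [Module B C]
    (F : Type u) [Field F] [Algebra B F] (P : PrimeSpectrum B)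
    (hP : P.asIdeal = RingHom.ker (algebraMap B F)) :
    Module.finrank F (F ⊗[B] C) =
      Module.finrank P.asIdeal.ResidueField (P.asIdeal.ResidueField ⊗[B] C) := by
  have hunits : P.asIdeal.primeCompl ≤ (IsUnit.submonoid F).comap (algebraMap B F) := by
    intro x hx
    rw [Submonoid.mem_comap, IsUnit.mem_submonoid_iff]
    refine isUnit_iff_ne_zero.mpr fun h0 => (Ideal.mem_primeCompl_iff.mp hx) ?_
    rw [hP, RingHom.mem_ker]
    exact h0
  let ψ : P.asIdeal.ResidueField →+* F :=
    Ideal.ResidueField.lift P.asIdeal (algebraMap B F) hP.le hunits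
  let _ : Algebra P.asIdeal.ResidueField F := ψ.toAlgebra
  have : IsScalarTower B P.asIdeal.ResidueField F :=
    IsScalarTower.of_algebraMap_eq
      (fun x => (Ideal.ResidueField.lift_algebraMap _ _ hP.le hunits x).symm)
  let e := TensorProduct.AlgebraTensorModule.cancelBaseChange B P.asIdeal.ResidueField F F C
  rw [← e.finrank_eq, Module.finrank_baseChange]

/-- Constant rank of the fibres of `φ` over a reduced Noetherian base implies that the
cokernel is projective. -/
theorem coker_projective_of_const_rank [IsNoetherianRing B] [IsReduced B]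
    {K K' : Type u} [AddCommGroup K] [Module B K]
    [AddCommGroup K'] [Module B K'] [Module.Finite B K'] [Module.Flat B K'] (φ : K →ₗ[B] K')
    (c : ℕ) (hc : ∀ y : PrimeSpectrum B, Module.finrank y.asIdeal.ResidueField
       ↥(LinearMap.range (φ.baseChange y.asIdeal.ResidueField)) = c) :
    Module.Projective B (K' ⧸ LinearMap.range φ) := by
  have hfp : Module.FinitePresentation B (K' ⧸ LinearMap.range φ) :=
    Module.finitePresentation_of_finite B _
  have hd : ∀ P : PrimeSpectrum B, Module.finrank P.asIdeal.ResidueField
      (P.asIdeal.ResidueField ⊗[B] (K' ⧸ LinearMap.range φ)) + c = Module.rankAtStalk K' P := by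
    intro P
    have e1 := rank_add φ P.asIdeal.ResidueField
    have e3 : Module.rankAtStalk K' P = Module.finrank P.asIdeal.ResidueField
      (P.asIdeal.ResidueField ⊗[B] K') := Module.rankAtStalk_eq P
    rw [hc P] at e1
    omega
  rw [← Module.freeLocus_eq_univ_iff, Set.eq_univ_iff_forall]
  intro p
  rw [Module.mem_freeLocus_iff_tensor p (Localization.AtPrime p.asIdeal)]
  have key : ∀ q' : PrimeSpectrum (Localization.AtPrime p.asIdeal),
      Module.finrank q'.asIdeal.ResidueField
        (q'.asIdeal.ResidueField ⊗[Localization.AtPrime p.asIdeal]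
          (Localization.AtPrime p.asIdeal ⊗[B] (K' ⧸ LinearMap.range φ))) + c
        = Module.rankAtStalk K' p := by
    intro q'
    set P : PrimeSpectrum B :=
      PrimeSpectrum.comap (algebraMap B (Localization.AtPrime p.asIdeal)) q' with hPdef
    have hP : P.asIdeal = RingHom.ker (algebraMap B q'.asIdeal.ResidueField) := by
      ext x
      rw [RingHom.mem_ker, IsScalarTower.algebraMap_apply B (Localization.AtPrime p.asIdeal)
        q'.asIdeal.ResidueField, Ideal.algebraMap_residueField_eq_zero]
      rfl
    have hle : P ≤ p := by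
      rw [← PrimeSpectrum.asIdeal_le_asIdeal]
      intro x hx
      by_contra hxp
      have hu : IsUnit (algebraMap B (Localization.AtPrime p.asIdeal) x) :=
        IsLocalization.map_units (Localization.AtPrime p.asIdeal)
          (⟨x, hxp⟩ : p.asIdeal.primeCompl)
      exact q'.2.ne_top (Ideal.eq_top_of_isUnit_mem _ hx hu)
    let e := TensorProduct.AlgebraTensorModule.cancelBaseChange B
      (Localization.AtPrime p.asIdeal) q'.asIdeal.ResidueField q'.asIdeal.ResidueField
      (K' ⧸ LinearMap.range φ)
    rw [e.finrank_eq, finrank_tensor_field _ _ P hP, hd P]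
    exact Module.rankAtStalk_eq_of_le_of_finite_of_flat K' hle
  apply free_of_fibDim_minimalPrimes
  intro q' _
  have h1 := key q'
  have h2 := key (IsLocalRing.closedPoint _)
  omega

/-- If the cokernel of `φ` is projective then so is the image. -/
theorem range_projective_of_coker {K K' : Type u} [AddCommGroup K] [Module B K]
    [AddCommGroup K'] [Module B K'] [Module.Projective B K'] (φ : K →ₗ[B] K')
    (hc : Module.Projective B (K' ⧸ LinearMap.range φ)) :
    Module.Projective B ↥(LinearMap.range φ) := by
  obtain ⟨s, hs⟩ := Module.projective_lifting_property (LinearMap.range φ).mkQ LinearMap.id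
    (Submodule.mkQ_surjective _)
  have hmem : ∀ x : K', x - s ((LinearMap.range φ).mkQ x) ∈ LinearMap.range φ := by
    intro x
    have := LinearMap.congr_fun hs ((LinearMap.range φ).mkQ x)
    simp only [LinearMap.comp_apply, LinearMap.id_apply] at this
    have h0 : (LinearMap.range φ).mkQ (x - s ((LinearMap.range φ).mkQ x)) = 0 := by
      rw [map_sub, this, sub_self]
    exact (Submodule.Quotient.mk_eq_zero _).mp h0
  let r : K' →ₗ[B] LinearMap.range φ :=
    (LinearMap.id - s ∘ₗ (LinearMap.range φ).mkQ).codRestrict (LinearMap.range φ)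
      (fun x => by simpa using hmem x)
  have hr : r ∘ₗ (LinearMap.range φ).subtype = LinearMap.id := by
    apply LinearMap.ext; rintro ⟨x, hx⟩
    apply Subtype.ext
    have h0 : (LinearMap.range φ).mkQ x = 0 := (Submodule.Quotient.mk_eq_zero _).mpr hx
    simp [r, h0]
  exact Module.Projective.of_split _ r hr

end ConstRank

end Groth.Agent.Helper21.FD
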