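import Mathlib
import Groth.Agent.Lib.Helper1.LocalCriterion

/-!
# Tools for descent of flatness along finite injective ring maps
-/

set_option autoImplicit false

namespace Groth.Agent.Helper21.FDS

open TensorProduct Function

universe u

section killed

variable {R : Type u} [CommRing R]

/-- if `M/JM` is flat over `R/J`, then `- ⊗_R M` preserves injections of modules killed by `J`. -/
theorem rTensor_injective_of_killed (J : Ideal R) (M : Type u) [AddCommGroup M] [Module R M]
    [Module.Flat (R ⧸ J) ((R ⧸ J) ⊗[R] M)]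
    {A B : Type*} [AddCommGroup A] [Module R A] [AddCommGroup B] [Module R B]
    (hA : ∀ a ∈ J, ∀ x : A, a • x = 0) (hB : ∀ a ∈ J, ∀ x : B, a • x = 0)
    (v : A →ₗ[R] B) (hv : Injective v) : Injective (v.rTensor M) := by
  have hTA : Module.IsTorsionBySet R A (J : Set R) := fun x a => hA a.1 a.2 x
  have hTB : Module.IsTorsionBySet R B (J : Set R) := fun x a => hB a.1 a.2 x
  let _ : Module (R ⧸ J) A := hTA.module
  let _ : Module (R ⧸ J) B := hTB.module
  have : IsScalarTower R (R ⧸ J) A := hTA.isScalarTower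
  have : IsScalarTower R (R ⧸ J) B := hTB.isScalarTower
  let v' : A →ₗ[R ⧸ J] B :=
    { toFun := v
      map_add' := v.map_add
      map_smul' := by
        intro r x
        obtain ⟨r, rfl⟩ := Ideal.Quotient.mk_surjective r
        show v (Ideal.Quotient.mk J r • x) = Ideal.Quotient.mk J r • v x
        rw [← Ideal.Quotient.algebraMap_eq, algebraMap_smul, algebraMap_smul, map_smul] }
  have h := Groth.Agent.Helper1.rTensor_injective_of_flat_baseChange (R := R) (R ⧸ J) M v' hv
  have hv' : v'.restrictScalars R = v := LinearMap.ext fun x => rfl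
  rw [hv'] at h
  exact h

/-- flatness of `M/JM` over `R/J` passes to larger ideals. -/
theorem flat_quotient_of_le (J I : Ideal R) (hJI : J ≤ I) (M : Type u) [AddCommGroup M] [Module R M]
    [Module.Flat (R ⧸ J) ((R ⧸ J) ⊗[R] M)] : Module.Flat (R ⧸ I) ((R ⧸ I) ⊗[R] M) := by
  rw [Module.Flat.iff_rTensor_injective']
  intro 𝔞
  rw [Groth.Agent.Helper1.rTensor_baseChange_injective_iff]
  refine rTensor_injective_of_killed J M ?_ ?_ _ (Submodule.injective_subtype 𝔞)
  · intro a ha x
    apply Subtype.ext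
    show a • (x : R ⧸ I) = 0
    rw [Algebra.smul_def, Ideal.Quotient.algebraMap_eq, Ideal.Quotient.eq_zero_iff_mem.2 (hJI ha),
      zero_mul]
  · intro a ha x
    rw [Algebra.smul_def, Ideal.Quotient.algebraMap_eq, Ideal.Quotient.eq_zero_iff_mem.2 (hJI ha),
      zero_mul]

/-- If `I₁ ∩ I₂ = 0` and `M/I_jM` is flat over `R/I_j` for `j = 1, 2`, then `M` is flat. -/
theorem flat_of_inf_eq_bot (I₁ I₂ : Ideal R) (h : I₁ ⊓ I₂ = ⊥) (M : Type u) [AddCommGroup M]
    [Module R M] [Module.Flat (R ⧸ I₁) ((R ⧸ I₁) ⊗[R] M)]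
    [Module.Flat (R ⧸ I₂) ((R ⧸ I₂) ⊗[R] M)] : Module.Flat R M := by
  have key : ∀ (J₁ J₂ : Ideal R), J₁ ⊓ J₂ = ⊥ → Module.Flat (R ⧸ J₂) ((R ⧸ J₂) ⊗[R] M) →
      Injective (J₁.subtype.rTensor M) := by
    intro J₁ J₂ hJ _
    have hv : Injective (J₂.mkQ ∘ₗ J₁.subtype) := by
      rw [injective_iff_map_eq_zero]
      intro x hx
      have hx2 : (x : R) ∈ J₂ := (Submodule.Quotient.mk_eq_zero J₂).1 hx
      have hx3 : (x : R) ∈ J₁ ⊓ J₂ := ⟨x.2, hx2⟩
      rw [hJ] at hx3
      exact Subtype.ext hx3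
    have h1 := rTensor_injective_of_killed J₂ M (A := J₁) (B := R ⧸ J₂) ?_ ?_
      (J₂.mkQ ∘ₗ J₁.subtype) hv
    · rw [LinearMap.rTensor_comp, LinearMap.coe_comp] at h1
      exact Injective.of_comp h1
    · intro a ha x
      apply Subtype.ext
      have hmem : a * (x : R) ∈ J₁ ⊓ J₂ := ⟨J₁.mul_mem_left a x.2, J₂.mul_mem_right _ ha⟩
      rw [hJ] at hmem
      exact hmem
    · intro a ha x
      rw [Algebra.smul_def, Ideal.Quotient.algebraMap_eq, Ideal.Quotient.eq_zero_iff_mem.2 ha,
        zero_mul]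
  have H1 := key I₁ I₂ h inferInstance
  have H2 := key I₂ I₁ (by rw [inf_comm]; exact h) inferInstance
  apply Groth.Agent.Helper1.flat_of_torVanish
  intro Q _ _
  refine Groth.Agent.Helper1.TorVanish.of_extension (I₁ • (⊤ : Submodule R Q)) ?_ ?_
  · apply Groth.Agent.Helper1.TorVanish.of_smul_eq_bot I₂ H2
    rw [eq_bot_iff, Submodule.smul_le]
    intro a ha x _
    rw [Submodule.mem_bot]
    apply Subtype.ext
    show a • (x : Q) = 0
    refine Submodule.smul_induction_on x.2 ?_ ?_
    · intro b hb y _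
      rw [← mul_smul]
      have hmem : a * b ∈ I₁ ⊓ I₂ := ⟨I₁.mul_mem_left a hb, I₂.mul_mem_right b ha⟩
      rw [h] at hmem
      rw [(Submodule.mem_bot R).1 hmem, zero_smul]
    · intro y z hy hz
      rw [smul_add, hy, hz, add_zero]
  · apply Groth.Agent.Helper1.TorVanish.of_smul_eq_bot I₁ H1
    rw [eq_bot_iff, Submodule.smul_le]
    intro a ha x _
    rw [Submodule.mem_bot]
    obtain ⟨y, rfl⟩ := Submodule.Quotient.mk_surjective _ x
    rw [← Submodule.Quotient.mk_smul, Submodule.Quotient.mk_eq_zero]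
    exact Submodule.smul_mem_smul ha Submodule.mem_top

end killed

section pair

variable {R S : Type u} [CommRing R] [CommRing S] [Algebra R S]

/-- the square-zero case. -/
theorem flat_of_sq_zero (hinj : Injective (algebraMap R S)) (𝔟 : Ideal S) (h𝔟 : 𝔟 * 𝔟 = ⊥)
    (J : Ideal R) (hJ : ∀ a, a ∈ J ↔ algebraMap R S a ∈ 𝔟)
    (M : Type u) [AddCommGroup M] [Module R M] [Module.Flat S (S ⊗[R] M)]
    [Module.Flat (R ⧸ J) ((R ⧸ J) ⊗[R] M)] : Module.Flat R M := by
  have hJ2 : ∀ a ∈ J, ∀ b ∈ 𝔟, algebraMap R S a * b = 0 := by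
    intro a ha b hb
    have hmem : algebraMap R S a * b ∈ 𝔟 * 𝔟 := Ideal.mul_mem_mul ((hJ a).1 ha) hb
    rw [h𝔟] at hmem
    exact hmem
  have hnil : IsNilpotent J := by
    refine ⟨2, ?_⟩
    rw [pow_two, Ideal.zero_eq_bot, eq_bot_iff, Ideal.mul_le]
    intro a ha b hb
    rw [Ideal.mem_bot]
    apply hinj
    rw [map_mul, map_zero]
    exact hJ2 a ha _ ((hJ b).1 hb)
  let v : J →ₗ[R] 𝔟 :=
    { toFun := fun x => ⟨algebraMap R S x.1, (hJ x.1).1 x.2⟩
      map_add' := fun x y => Subtype.ext (map_add _ _ _)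
      map_smul' := fun r x => Subtype.ext (by
        show algebraMap R S (r * x.1) = r • algebraMap R S x.1
        rw [map_mul, Algebra.smul_def]) }
  have hv : Injective v := by
    intro x y hxy
    exact Subtype.ext (hinj (congrArg Subtype.val hxy))
  have h1 : Injective (v.rTensor M) := by
    refine rTensor_injective_of_killed J M ?_ ?_ v hv
    · intro a ha x
      apply Subtype.ext
      apply hinj
      show algebraMap R S (a * x.1) = algebraMap R S 0
      rw [map_mul, map_zero]
      exact hJ2 a ha _ ((hJ x.1).1 x.2)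
    · intro a ha b
      apply Subtype.ext
      show a • (b : S) = 0
      rw [Algebra.smul_def]
      exact hJ2 a ha b b.2
  have h2 : Injective ((𝔟.subtype.restrictScalars R).rTensor M) :=
    Groth.Agent.Helper1.rTensor_injective_of_flat_baseChange (R := R) S M 𝔟.subtype
      (Submodule.injective_subtype 𝔟)
  have hcomp : (𝔟.subtype.restrictScalars R) ∘ₗ v = (Algebra.linearMap R S) ∘ₗ J.subtype :=
    LinearMap.ext fun x => rfl
  have h3 : Injective (((Algebra.linearMap R S) ∘ₗ J.subtype).rTensor M) := by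
    rw [← hcomp, LinearMap.rTensor_comp, LinearMap.coe_comp]
    exact h2.comp h1
  have H1 : Injective (J.subtype.rTensor M) := by
    rw [LinearMap.rTensor_comp, LinearMap.coe_comp] at h3
    exact Injective.of_comp h3
  exact Groth.Agent.Helper1.flat_of_isNilpotent J hnil H1

/-- a consequence of the Artin–Rees lemma. -/
theorem exists_comap_span_pow_le [IsNoetherianRing R] [Module.Finite R S]
    (hinj : Injective (algebraMap R S)) (c : R) :
    ∃ m : ℕ, (Ideal.span {algebraMap R S c ^ m}).comap (algebraMap R S) ≤ Ideal.span {c} := by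
  obtain ⟨k, hk⟩ := Ideal.exists_pow_inf_eq_pow_smul (Ideal.span {c})
    (LinearMap.range (Algebra.linearMap R S))
  refine ⟨k + 1, ?_⟩
  intro r hr
  rw [Ideal.mem_comap, Ideal.mem_span_singleton'] at hr
  obtain ⟨s, hs⟩ := hr
  have h1 : algebraMap R S r ∈ (Ideal.span {c}) ^ (k + 1) • (⊤ : Submodule R S) ⊓
      LinearMap.range (Algebra.linearMap R S) := by
    refine Submodule.mem_inf.2 ⟨?_, r, rfl⟩
    rw [Ideal.span_singleton_pow, Submodule.ideal_span_singleton_smul, ← hs,
      Submodule.mem_smul_pointwise_iff_exists]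
    exact ⟨s, Submodule.mem_top, by rw [Algebra.smul_def, map_pow, mul_comm]⟩
  rw [hk (k + 1) (Nat.le_succ k), Nat.add_sub_cancel_left, pow_one] at h1
  have h2 : algebraMap R S r ∈ Ideal.span {c} • LinearMap.range (Algebra.linearMap R S) :=
    Submodule.smul_mono le_rfl inf_le_right h1
  rw [Submodule.ideal_span_singleton_smul, Submodule.mem_smul_pointwise_iff_exists] at h2
  obtain ⟨_, ⟨r', rfl⟩, hr'⟩ := h2
  rw [Ideal.mem_span_singleton']
  refine ⟨r', hinj ?_⟩
  rw [map_mul, ← hr', Algebra.smul_def, mul_comm]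
  rfl

/-- a nonzero functional on a finite algebra over a domain. -/
theorem exists_functional [IsDomain R] [Module.Finite R S] (hinj : Injective (algebraMap R S)) :
    ∃ τ : S →ₗ[R] R, τ 1 ≠ 0 := by
  classical
  obtain ⟨n, v, hv⟩ := Module.Finite.exists_fin (R := R) (M := S)
  obtain ⟨I, hI, hmax⟩ := exists_maximal_linearIndepOn R v
  have hli : LinearIndependent R (fun i : I => v i) := hI
  set F : Submodule R S := Submodule.span R (Set.range fun i : I => v i) with hF
  have hex : ∀ i : Fin n, ∃ a : R, a ≠ 0 ∧ a • v i ∈ F := by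
    intro i
    by_cases hi : i ∈ I
    · exact ⟨1, one_ne_zero, by rw [one_smul]; exact Submodule.subset_span ⟨⟨i, hi⟩, rfl⟩⟩
    · obtain ⟨a, ha0, ha⟩ := hmax i hi
      rw [Set.image_eq_range] at ha
      exact ⟨a, ha0, ha⟩
  choose a ha0 haF using hex
  have hA0 : (∏ i, a i) ≠ 0 := Finset.prod_ne_zero_iff.2 (fun i _ => ha0 i)
  have hAv : ∀ i, (∏ i, a i) • v i ∈ F := by
    intro i
    obtain ⟨d, hd⟩ : a i ∣ ∏ i, a i := Finset.dvd_prod_of_mem a (Finset.mem_univ i)
    rw [hd, mul_comm, mul_smul]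
    exact F.smul_mem d (haF i)
  have hAS : ∀ s : S, (∏ i, a i) • s ∈ F := by
    intro s
    have hs : s ∈ Submodule.span R (Set.range v) := by
      rw [hv]
      exact Submodule.mem_top
    induction hs using Submodule.span_induction with
    | mem x hx =>
      obtain ⟨i, rfl⟩ := hx
      exact hAv i
    | zero =>
      rw [smul_zero]
      exact F.zero_mem
    | add x y _ _ hx hy =>
      rw [smul_add]
      exact F.add_mem hx hy
    | smul r x _ hx =>
      rw [smul_comm]
      exact F.smul_mem r hx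
  let b : Module.Basis I R F := Module.Basis.span hli
  let x₀ : F := ⟨(∏ i, a i) • (1 : S), hAS 1⟩
  have hx₀ : x₀ ≠ 0 := by
    intro h0
    have h1 : (∏ i, a i) • (1 : S) = 0 := congrArg Subtype.val h0
    rw [Algebra.smul_def, mul_one] at h1
    exact hA0 (hinj (h1.trans (map_zero _).symm))
  have hrepr : ∃ i, b.repr x₀ i ≠ 0 := by
    by_contra hcon
    push Not at hcon
    apply hx₀
    apply b.repr.injective
    rw [map_zero]
    exact Finsupp.ext hcon
  obtain ⟨i, hi⟩ := hrepr
  refine ⟨(b.coord i) ∘ₗ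
    (LinearMap.codRestrict F ((∏ i, a i) • (LinearMap.id : S →ₗ[R] S)) hAS), ?_⟩
  exact hi

end pair

section split

variable {R S : Type u} [CommRing R] [CommRing S] [Algebra R S]

/-- descent of injectivity along a "split" extension. -/
theorem rTensor_injective_of_retraction
    (X : Type u) [AddCommGroup X] [Module R X] [Module.Flat S (S ⊗[R] X)]
    {N N' : Type u} [AddCommGroup N] [Module R N] [AddCommGroup N'] [Module R N']
    (u : N →ₗ[R] N') (hu : Injective u)
    (ρ : S ⊗[R] N →ₗ[R] N) (ρ' : S ⊗[R] N' →ₗ[R] N')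
    (hρ : ∀ n, ρ (1 ⊗ₜ n) = n) (hnat : ∀ z, u (ρ z) = ρ' (u.lTensor S z)) :
    Injective (u.rTensor X) := by
  rw [injective_iff_map_eq_zero]
  intro z hz
  let Su : S ⊗[R] N →ₗ[S] S ⊗[R] N' := u.baseChange S
  let K : Submodule S (S ⊗[R] N) := LinearMap.ker Su
  let q : S ⊗[R] N →ₗ[S] (S ⊗[R] N) ⧸ K := K.mkQ
  let j : (S ⊗[R] N) ⧸ K →ₗ[S] S ⊗[R] N' := K.liftQ Su le_rfl
  have hj : Injective j := by
    rw [← LinearMap.ker_eq_bot]
    exact Submodule.ker_liftQ_eq_bot _ _ _ le_rfl
  have hjq : (j.restrictScalars R) ∘ₗ (q.restrictScalars R) = u.lTensor S :=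
    LinearMap.ext fun w => rfl
  let ι : N →ₗ[R] S ⊗[R] N := TensorProduct.mk R S N 1
  let ι' : N' →ₗ[R] S ⊗[R] N' := TensorProduct.mk R S N' 1
  have hι : (u.lTensor S) ∘ₗ ι = ι' ∘ₗ u := LinearMap.ext fun n => rfl
  have h1 : (u.lTensor S).rTensor X (ι.rTensor X z) = 0 := by
    rw [← LinearMap.comp_apply, ← LinearMap.rTensor_comp, hι, LinearMap.rTensor_comp,
      LinearMap.comp_apply, hz, map_zero]
  have h2 : (q.restrictScalars R).rTensor X (ι.rTensor X z) = 0 := by
    have hjX := Groth.Agent.Helper1.rTensor_injective_of_flat_baseChange (R := R) S X j hj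
    apply hjX
    rw [map_zero, ← LinearMap.comp_apply, ← LinearMap.rTensor_comp, hjq]
    exact h1
  have hex0 : Function.Exact (K.subtype.restrictScalars R) (q.restrictScalars R) :=
    LinearMap.exact_subtype_mkQ K
  have hq : Surjective (q.restrictScalars R) := Submodule.mkQ_surjective K
  have hex := @rTensor_exact R K (S ⊗[R] N) ((S ⊗[R] N) ⧸ K) _ _ _ _ _ _ _
    (K.subtype.restrictScalars R) (q.restrictScalars R) X _ _ hex0 hq
  obtain ⟨w, hw⟩ := (hex (ι.rTensor X z)).1 h2
  have hρK : ρ ∘ₗ (K.subtype.restrictScalars R) = 0 := by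
    apply LinearMap.ext
    intro k
    apply hu
    show u (ρ k.1) = u 0
    have hk : (u.lTensor S) k.1 = 0 := LinearMap.mem_ker.1 k.2
    rw [hnat, hk, map_zero, map_zero]
  have hρι : ρ ∘ₗ ι = LinearMap.id := LinearMap.ext fun n => hρ n
  calc z = (ρ ∘ₗ ι).rTensor X z := by rw [hρι, LinearMap.rTensor_id, LinearMap.id_apply]
    _ = ρ.rTensor X (ι.rTensor X z) := by rw [LinearMap.rTensor_comp, LinearMap.comp_apply]
    _ = (ρ ∘ₗ (K.subtype.restrictScalars R)).rTensor X w := by
        rw [LinearMap.rTensor_comp, LinearMap.comp_apply, hw]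
    _ = 0 := by rw [hρK, LinearMap.rTensor_zero, LinearMap.zero_apply]

/-- the retraction attached to an `A`-valued functional. -/
noncomputable def rho (A : Type u) [CommRing A] [Algebra R A] (σ : S →ₗ[R] A)
    (N : Type u) [AddCommGroup N] [Module R N] [Module A N] [IsScalarTower R A N] :
    S ⊗[R] N →ₗ[R] N :=
  TensorProduct.lift (Algebra.lsmul R R N).toLinearMap ∘ₗ σ.rTensor N

theorem rho_tmul (A : Type u) [CommRing A] [Algebra R A] (σ : S →ₗ[R] A)
    (N : Type u) [AddCommGroup N] [Module R N] [Module A N] [IsScalarTower R A N]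
    (s : S) (n : N) : rho A σ N (s ⊗ₜ n) = σ s • n := by
  simp [rho]

/-- if `τ : S → R` is `R`-linear, then flatness descends after inverting `τ 1`. -/
theorem flat_away_of_functional (τ : S →ₗ[R] R) (X : Type u) [AddCommGroup X] [Module R X]
    [Module.Flat S (S ⊗[R] X)] :
    Module.Flat (Localization.Away (τ 1)) (Localization.Away (τ 1) ⊗[R] X) := by
  let σ : S →ₗ[R] Localization.Away (τ 1) :=
    (IsLocalization.Away.invSelf (τ 1) : Localization.Away (τ 1)) •
      ((Algebra.linearMap R (Localization.Away (τ 1))) ∘ₗ τ)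
  have hσ : ∀ s, σ s = (IsLocalization.Away.invSelf (τ 1) : Localization.Away (τ 1)) *
      algebraMap R (Localization.Away (τ 1)) (τ s) := fun s => rfl
  have hσ1 : σ 1 = 1 := by
    rw [hσ, mul_comm]
    exact IsLocalization.Away.mul_invSelf (τ 1)
  rw [Module.Flat.iff_rTensor_injective']
  intro I
  rw [Groth.Agent.Helper1.rTensor_baseChange_injective_iff]
  refine rTensor_injective_of_retraction X (I.subtype.restrictScalars R)
    (Submodule.injective_subtype I) (rho _ σ I) (rho _ σ (Localization.Away (τ 1))) ?_ ?_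
  · intro n
    rw [rho_tmul, hσ1, one_smul]
  · intro z
    induction z using TensorProduct.induction_on with
    | zero => simp
    | tmul s n =>
      rw [rho_tmul, LinearMap.lTensor_tmul, rho_tmul]
      rfl
    | add x y hx hy => simp only [map_add, hx, hy]

end split

end Groth.Agent.Helper21.FDS
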