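import Mathlib
import Groth.Agent.Lib.Helper18.Tor.Low
import Groth.Agent.Lib.Helper6.TorFlat
import Groth.Agent.Lib.Helper21.TorKos
import Groth.Agent.Lib.Helper21.TorSymm

/-!
# Tor-dimension over a Noetherian ring is detected by the residue fields of all primes
-/

set_option autoImplicit false
universe u
open CategoryTheory CategoryTheory.Limits MonoidalCategory TensorProduct Pointwise

namespace Groth.Agent.Helper21.TRF

open Groth.Agent.Helper18.TorLib

variable {A : Type u} [CommRing A]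

theorem smul_inj_of_iso {X Y : ModuleCat.{u} A} (ε : X ≅ Y) (s : A)
    (h : ∀ t : X, s • t = 0 → t = 0) : ∀ t : Y, s • t = 0 → t = 0 := by
  intro t ht
  let e := ε.toLinearEquiv
  have h1 : s • e.symm t = 0 := by rw [← map_smul, ht, map_zero]
  have h2 := h _ h1
  rw [← e.apply_symm_apply t, h2, map_zero]

/-- in a short complex of modules on whose homology `s` acts injectively, a cycle `z` with
`s • z` a boundary is a boundary. -/
theorem boundary_of_smul_boundary (S : ShortComplex (ModuleCat.{u} A)) (s : A)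
    (hs : ∀ t : S.homology, s • t = 0 → t = 0) (z : S.X₂) (hz : S.g.hom z = 0)
    (w : S.X₁) (hw : S.f.hom w = s • z) : ∃ v : S.X₁, S.f.hom v = z := by
  have hs' : ∀ t : (LinearMap.ker S.g.hom ⧸ LinearMap.range S.moduleCatToCycles),
      s • t = 0 → t = 0 := smul_inj_of_iso S.moduleCatHomologyIso s hs
  let c : LinearMap.ker S.g.hom := ⟨z, hz⟩
  have hq : s • (Submodule.Quotient.mk c :
      LinearMap.ker S.g.hom ⧸ LinearMap.range S.moduleCatToCycles) = 0 := by
    rw [← Submodule.Quotient.mk_smul, Submodule.Quotient.mk_eq_zero]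
    exact ⟨w, Subtype.ext hw⟩
  have h3 := hs' _ hq
  rw [Submodule.Quotient.mk_eq_zero] at h3
  obtain ⟨v, hv⟩ := h3
  exact ⟨v, congrArg Subtype.val hv⟩

theorem exists_smul_eq_rTensor {N N' : Type u} [AddCommGroup N] [Module A N] [AddCommGroup N']
    [Module A N'] (g : N →ₗ[A] N') (S : Submonoid A)
    (hloc : ∀ y : N', ∃ s ∈ S, ∃ x : N, g x = s • y) (Q : Type u) [AddCommGroup Q] [Module A Q]
    (w : N' ⊗[A] Q) : ∃ s ∈ S, ∃ w' : N ⊗[A] Q, g.rTensor Q w' = s • w := by
  induction w using TensorProduct.induction_on with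
  | zero => exact ⟨1, S.one_mem, 0, by simp⟩
  | tmul y q =>
    obtain ⟨s, hs, x, hx⟩ := hloc y
    exact ⟨s, hs, x ⊗ₜ q, by rw [LinearMap.rTensor_tmul, hx, TensorProduct.smul_tmul']⟩
  | add a b ha hb =>
    obtain ⟨s, hs, a', ha'⟩ := ha
    obtain ⟨t, ht, b', hb'⟩ := hb
    refine ⟨s * t, S.mul_mem hs ht, t • a' + s • b', ?_⟩
    rw [map_add, map_smul, map_smul, ha', hb', smul_add, smul_smul, smul_smul, mul_comm t s]

/-- exactness of `C` at `m+1` from exactness of a "localisation" `C'`. -/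
theorem exactAt_of_localized {C C' : ChainComplex (ModuleCat.{u} A) ℕ} (φ : C ⟶ C')
    (S : Submonoid A) (m : ℕ)
    (hinj : Function.Injective (φ.f (m + 1)).hom)
    (hloc : ∀ w : C'.X (m + 2), ∃ s ∈ S, ∃ w' : C.X (m + 2), (φ.f (m + 2)).hom w' = s • w)
    (hs : ∀ s ∈ S, ∀ t : C.homology (m + 1), s • t = 0 → t = 0)
    (h0 : C'.ExactAt (m + 1)) : C.ExactAt (m + 1) := by
  rw [HomologicalComplex.exactAt_iff' _ (m + 2) (m + 1) m (by simp) (by simp),
    ShortComplex.moduleCat_exact_iff] at h0 ⊢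
  have h0' : ∀ y : C'.X (m + 1), (C'.d (m + 1) m).hom y = 0 →
      ∃ w : C'.X (m + 2), (C'.d (m + 2) (m + 1)).hom w = y := h0
  suffices hgoal : ∀ z : C.X (m + 1), (C.d (m + 1) m).hom z = 0 →
      ∃ v : C.X (m + 2), (C.d (m + 2) (m + 1)).hom v = z from hgoal
  intro z hz
  have hz' : (C'.d (m + 1) m).hom ((φ.f (m + 1)).hom z) = 0 := by
    have := congrArg (fun f => f.hom z) (φ.comm (m + 1) m)
    simp only [ModuleCat.hom_comp, LinearMap.comp_apply] at this
    rw [this, hz, map_zero]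
  obtain ⟨w, hw⟩ := h0' _ hz'
  obtain ⟨s, hsS, w', hw'⟩ := hloc w
  have key : (C.d (m + 2) (m + 1)).hom w' = s • z := by
    apply hinj
    have := congrArg (fun f => f.hom w') (φ.comm (m + 2) (m + 1))
    simp only [ModuleCat.hom_comp, LinearMap.comp_apply] at this
    rw [← this, hw', map_smul, hw, map_smul]
  exact boundary_of_smul_boundary (C.sc' (m + 2) (m + 1) m) s
    (smul_inj_of_iso (C.homologyIsoSc' (m + 2) (m + 1) m (by simp) (by simp)) s (hs s hsS))
    z hz w' key

/-- If `N → N'` is injective, every element of `N'` has a multiple by some `s ∈ S` in the image,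
all `s ∈ S` act injectively on `Tor_{m+1}(N, M)` and `Tor_{m+1}(N', M) = 0`, then
`Tor_{m+1}(N, M) = 0`. -/
theorem isZero_tor_of_localized (M : ModuleCat.{u} A) {N N' : ModuleCat.{u} A} (g : N ⟶ N')
    (S : Submonoid A) (hg : Function.Injective g.hom)
    (hloc : ∀ y : N', ∃ s ∈ S, ∃ x : N, g.hom x = s • y) (m : ℕ)
    (hs : ∀ s ∈ S, ∀ t : ((Tor (ModuleCat.{u} A) (m + 1)).obj N).obj M, s • t = 0 → t = 0)
    (h0 : IsZero (((Tor (ModuleCat.{u} A) (m + 1)).obj N').obj M)) :
    IsZero (((Tor (ModuleCat.{u} A) (m + 1)).obj N).obj M) := by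
  let P := projectiveResolution M
  refine IsZero.of_iso ?_ (torIso P N (m + 1))
  rw [← HomologicalComplex.exactAt_iff_isZero_homology]
  have h0' : (cx P N').ExactAt (m + 1) := by
    rw [HomologicalComplex.exactAt_iff_isZero_homology]
    exact IsZero.of_iso h0 (torIso P N' (m + 1)).symm
  refine exactAt_of_localized (cxMap P g) S m ?_ ?_ ?_ h0'
  · have : Module.Flat A (P.complex.X (m + 1)) := flat_of_projective _
    exact Module.Flat.rTensor_preserves_injective_linearMap (M := P.complex.X (m + 1)) g.hom hg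
  · intro w
    exact exists_smul_eq_rTensor g.hom S hloc (P.complex.X (m + 2)) w
  · intro s hsS
    exact smul_inj_of_iso (torIso P N (m + 1)) s (hs s hsS)

/-- dimension shifting in the second variable -/
theorem shift {S : ShortComplex (ModuleCat.{u} A)} (hS : S.ShortExact) [Module.Flat A S.X₂]
    (N : ModuleCat.{u} A) (j : ℕ) (hj : 1 ≤ j) :
    IsZero (((Tor (ModuleCat.{u} A) (j + 1)).obj N).obj S.X₃) ↔
      IsZero (((Tor (ModuleCat.{u} A) j).obj N).obj S.X₁) := by
  obtain ⟨k, rfl⟩ : ∃ k, j = k + 1 := ⟨j - 1, by omega⟩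
  have hepi : Epi (torδ hS N (k + 1)) :=
    (tor_exact₁ hS N (k + 1)).epi_f ((isZero_tor_succ_of_flat_left S.X₂ N k).eq_of_tgt _ _)
  have hmono : Mono (torδ hS N (k + 1)) :=
    (tor_exact₃ hS N (k + 1)).mono_g ((isZero_tor_succ_of_flat_left S.X₂ N (k + 1)).eq_of_src _ _)
  constructor
  · intro h
    exact Groth.Agent.Helper21.TS.isZero_tor_comm
      (IsZero.of_epi (torδ hS N (k + 1)) (Groth.Agent.Helper21.TS.isZero_tor_comm h))
  · intro h
    exact Groth.Agent.Helper21.TS.isZero_tor_comm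
      (IsZero.of_mono (torδ hS N (k + 1)) (Groth.Agent.Helper21.TS.isZero_tor_comm h))

end Groth.Agent.Helper21.TRF
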