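import Mathlib
import Groth.Agent.Lib.Helper21.TorRes

/-!
# Tor-dimension over a Noetherian ring is detected by the residue fields of all primes (II)
-/

set_option autoImplicit false
universe u
open CategoryTheory CategoryTheory.Limits MonoidalCategory TensorProduct Pointwise

namespace Groth.Agent.Helper21.TRF2

open Groth.Agent.Helper18.TorLib Groth.Agent.Helper21.TRF

variable {A : Type u} [CommRing A]

theorem smul_inj_of_mono {T : ModuleCat.{u} A} (s : A) (h : Mono (s • 𝟙 T)) :
    ∀ t : T, s • t = 0 → t = 0 := by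
  intro t ht
  have hinj := (ModuleCat.mono_iff_injective _).mp h
  apply hinj
  rw [map_zero]
  exact ht

/-- Noetherian induction: vanishing of `Tor_i(k(p), M)` for all primes (and `i > n`) gives
vanishing of `Tor_i(A/I, M)` for all ideals. -/
theorem isZero_tor_cyclic [IsNoetherianRing A] (M : ModuleCat.{u} A) (n : ℕ)
    (hk : ∀ (x : Ideal A) [x.IsPrime] (i : ℕ), n < i →
      IsZero (((Tor (ModuleCat.{u} A) i).obj (ModuleCat.of A x.ResidueField)).obj M)) :
    ∀ (I : Ideal A) (L : Type u) [AddCommGroup L] [Module A L] (π : A →ₗ[A] L),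
      Function.Surjective π → LinearMap.ker π = I → ∀ i, n < i →
      IsZero (((Tor (ModuleCat.{u} A) i).obj (ModuleCat.of A L)).obj M) := by
  intro I
  refine IsNoetherian.induction (R := A) (M := A) (P := fun I : Submodule A A =>
    ∀ (L : Type u) [AddCommGroup L] [Module A L] (π : A →ₗ[A] L),
      Function.Surjective π → LinearMap.ker π = I → ∀ i, n < i →
      IsZero (((Tor (ModuleCat.{u} A) i).obj (ModuleCat.of A L)).obj M)) ?_ I
  intro (I : Ideal A) IH L _ _ π hπ hker i hi
  have hmemI : ∀ x : A, x ∈ I ↔ π x = 0 := by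
    intro x
    rw [← hker, LinearMap.mem_ker]
  obtain ⟨m, rfl⟩ : ∃ m, i = m + 1 := ⟨i - 1, by omega⟩
  by_cases htop : I = ⊤
  · have hsub : Subsingleton L := by
      refine ⟨fun a b => ?_⟩
      obtain ⟨a', rfl⟩ := hπ a
      obtain ⟨b', rfl⟩ := hπ b
      have ha : π a' = 0 := (hmemI a').mp (by rw [htop]; exact Submodule.mem_top)
      have hb : π b' = 0 := (hmemI b').mp (by rw [htop]; exact Submodule.mem_top)
      rw [ha, hb]
    have : Module.Free A L := Module.Free.of_subsingleton A L
    exact isZero_tor_succ_of_flat_left (ModuleCat.of A L) M m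
  by_cases hprime : ∀ a b : A, a * b ∈ I → a ∈ I ∨ b ∈ I
  · -- `I` is prime
    have hI : I.IsPrime := ⟨htop, fun {a b} h => hprime a b h⟩
    let e : (A ⧸ I) ≃ₗ[A] L :=
      (Submodule.quotEquivOfEq _ _ hker.symm).trans (π.quotKerEquivOfSurjective hπ)
    refine IsZero.of_iso ?_ (((Tor (ModuleCat.{u} A) (m + 1)).mapIso e.toModuleIso).app M).symm
    let L₀ : ModuleCat.{u} A := ModuleCat.of A (A ⧸ I)
    let g : L₀ ⟶ ModuleCat.of A I.ResidueField :=
      ModuleCat.ofHom (IsScalarTower.toAlgHom A (A ⧸ I) I.ResidueField).toLinearMap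
    refine isZero_tor_of_localized M g I.primeCompl ?_ ?_ m ?_ (hk I (m + 1) hi)
    · intro x y hxy
      exact I.injective_algebraMap_quotient_residueField hxy
    · intro y
      obtain ⟨⟨x, t⟩, hxt⟩ := IsLocalization.surj (nonZeroDivisors (A ⧸ I)) (y : I.ResidueField)
      obtain ⟨s, hs⟩ := Ideal.Quotient.mk_surjective (t : A ⧸ I)
      refine ⟨s, ?_, x, ?_⟩
      · rw [Ideal.mem_primeCompl_iff]
        intro hsI
        have h0 : (t : A ⧸ I) = 0 := by
          rw [← hs]
          exact Ideal.Quotient.eq_zero_iff_mem.mpr hsI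
        exact nonZeroDivisors.coe_ne_zero t h0
      · show algebraMap (A ⧸ I) I.ResidueField x = s • y
        rw [← hxt, ← hs, Algebra.smul_def, Ideal.algebraMap_quotient_residueField_mk, mul_comm]
    · intro s hsS
      rw [Ideal.mem_primeCompl_iff] at hsS
      have hne : (Ideal.Quotient.mk I s) ≠ 0 := fun h => hsS (Ideal.Quotient.eq_zero_iff_mem.mp h)
      have hreg : IsSMulRegular (A ⧸ I) s := by
        intro x y hxy
        have h1 : (Ideal.Quotient.mk I s) * x = (Ideal.Quotient.mk I s) * y := by
          have h2 : s • x = s • y := hxy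
          simp only [Algebra.smul_def, Ideal.Quotient.algebraMap_eq] at h2
          exact h2
        exact mul_left_cancel₀ hne h1
      have hS : (ModuleCat.smulShortComplex L₀ s).ShortExact := hreg.smulShortComplex_shortExact
      have hQ : IsZero (((Tor (ModuleCat.{u} A) (m + 1 + 1)).obj
          (ModuleCat.of A (QuotSMulTop s (A ⧸ I)))).obj M) := by
        let π' : A →ₗ[A] QuotSMulTop s (A ⧸ I) :=
          (Submodule.mkQ (s • (⊤ : Submodule A (A ⧸ I)))) ∘ₗ (Submodule.mkQ I)
        refine IH (LinearMap.ker π') ?_ (QuotSMulTop s (A ⧸ I)) π' ?_ rfl (m + 1 + 1) (by omega)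
        · rw [gt_iff_lt, SetLike.lt_iff_le_and_exists]
          refine ⟨fun x hx => ?_, s, ?_, hsS⟩
          · rw [LinearMap.mem_ker]
            show Submodule.mkQ _ (Submodule.mkQ I x) = 0
            rw [show Submodule.mkQ I x = 0 from (Submodule.Quotient.mk_eq_zero I).mpr hx, map_zero]
          · rw [LinearMap.mem_ker]
            show Submodule.mkQ _ (Submodule.mkQ I s) = 0
            rw [Submodule.mkQ_apply, Submodule.Quotient.mk_eq_zero]
            have h1 : Submodule.mkQ I s = s • (Submodule.mkQ I (1 : A)) := by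
              rw [← map_smul, smul_eq_mul, mul_one]
            rw [h1]
            exact Submodule.smul_mem_pointwise_smul _ s _ Submodule.mem_top
        · exact (Submodule.mkQ_surjective _).comp (Submodule.mkQ_surjective _)
      have hex := tor_exact₁ hS M (m + 1)
      have hf : ((Tor (ModuleCat.{u} A) (m + 1)).map (ModuleCat.smulShortComplex L₀ s).f).app M =
          s • 𝟙 _ := Groth.Agent.Helper21.TK.tor_map_smul M L₀ s (m + 1)
      have hmono : Mono (((Tor (ModuleCat.{u} A) (m + 1)).map
          (ModuleCat.smulShortComplex L₀ s).f).app M) := hex.mono_g (hQ.eq_of_src _ _)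
      rw [hf] at hmono
      exact smul_inj_of_mono s hmono
  · -- `I` is not prime: dévissage
    push Not at hprime
    obtain ⟨a, b, hab, ha, hb⟩ := hprime
    let K : Submodule A L := Submodule.span A {π a}
    let S : ShortComplex (ModuleCat.{u} A) :=
      ModuleCat.shortComplexOfCompEqZero K.subtype K.mkQ
        (LinearMap.ext fun x => (Submodule.Quotient.mk_eq_zero K).mpr x.2)
    have hS : S.ShortExact :=
      ModuleCat.shortComplex_shortExact S (LinearMap.exact_subtype_mkQ K)
        (Submodule.injective_subtype K) (Submodule.mkQ_surjective K)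
    -- the sub
    let πK : A →ₗ[A] K := LinearMap.toSpanSingleton A K ⟨π a, Submodule.mem_span_singleton_self _⟩
    have hsurjK : Function.Surjective πK := by
      intro y
      obtain ⟨r, hr⟩ := Submodule.mem_span_singleton.mp y.2
      refine ⟨r, Subtype.ext ?_⟩
      rw [LinearMap.toSpanSingleton_apply]
      exact hr
    have hltK : LinearMap.ker πK > I := by
      rw [gt_iff_lt, SetLike.lt_iff_le_and_exists]
      refine ⟨fun x hx => ?_, b, ?_, hb⟩
      · rw [LinearMap.mem_ker, LinearMap.toSpanSingleton_apply]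
        apply Subtype.ext
        show x • π a = 0
        rw [← map_smul, smul_eq_mul, mul_comm, ← smul_eq_mul, map_smul, (hmemI x).mp hx,
          smul_zero]
      · rw [LinearMap.mem_ker, LinearMap.toSpanSingleton_apply]
        apply Subtype.ext
        show b • π a = 0
        rw [← map_smul, smul_eq_mul, mul_comm]
        exact (hmemI _).mp hab
    -- the quotient
    let πQ : A →ₗ[A] (L ⧸ K) := K.mkQ ∘ₗ π
    have hsurjQ : Function.Surjective πQ := (Submodule.mkQ_surjective K).comp hπ
    have hltQ : LinearMap.ker πQ > I := by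
      rw [gt_iff_lt, SetLike.lt_iff_le_and_exists]
      refine ⟨fun x hx => ?_, a, ?_, ha⟩
      · rw [LinearMap.mem_ker]
        show K.mkQ (π x) = 0
        rw [(hmemI x).mp hx, map_zero]
      · rw [LinearMap.mem_ker]
        show K.mkQ (π a) = 0
        rw [Submodule.mkQ_apply, Submodule.Quotient.mk_eq_zero]
        exact Submodule.mem_span_singleton_self _
    have h1 := IH (LinearMap.ker πK) hltK K πK hsurjK rfl (m + 1) hi
    have h3 := IH (LinearMap.ker πQ) hltQ (L ⧸ K) πQ hsurjQ rfl (m + 1) hi
    exact (tor_exact₂ hS M (m + 1)).isZero_of_both_zeros (h1.eq_of_src _ _) (h3.eq_of_tgt _ _)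

theorem isZero_tor_all [IsNoetherianRing A] : ∀ (n : ℕ) (M : ModuleCat.{u} A),
    (∀ p : Ideal A, p.IsPrime → ∀ i, n < i →
      IsZero (((Tor (ModuleCat.{u} A) i).obj (ModuleCat.of A (A ⧸ p))).obj M)) →
    ∀ (N : ModuleCat.{u} A) (i : ℕ), n < i →
      IsZero (((Tor (ModuleCat.{u} A) i).obj N).obj M) := by
  intro n
  induction n with
  | zero =>
    intro M h N i hi
    have hflat : Module.Flat A M :=
      Groth.Agent.Helper21.TS.flat_of_tor_one_prime M (fun p hp => h p hp 1 (by omega))
    obtain ⟨k, rfl⟩ : ∃ k, i = k + 1 := ⟨i - 1, by omega⟩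
    exact Groth.Agent.Helper6.TorFlat.isZero_tor_succ_of_flat_right M k N
  | succ n ih =>
    intro M h N i hi
    obtain ⟨S, hS, hfree, rfl⟩ := Groth.Agent.Helper6.TorFlat.exists_presentation M
    have : Module.Flat A S.X₂ := inferInstance
    have hK : ∀ p : Ideal A, p.IsPrime → ∀ j, n < j →
        IsZero (((Tor (ModuleCat.{u} A) j).obj (ModuleCat.of A (A ⧸ p))).obj S.X₁) := by
      intro p hp j hj
      by_cases hj0 : j = 0
      · omega
      · exact (shift hS _ j (by omega)).mp (h p hp (j + 1) (by omega))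
    obtain ⟨j, rfl⟩ : ∃ j, i = j + 1 := ⟨i - 1, by omega⟩
    exact (shift hS N j (by omega)).mpr (ih S.X₁ hK N j (by omega))

end Groth.Agent.Helper21.TRF2
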