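import Mathlib
import Groth.Agent.Lib.Lead.Hom3
import Groth.Agent.Lib.Helper6.TorBC
import Groth.Agent.Lib.Helper21.TorRes2

/-!
# Finitely generated modules over a regular ring have bounded projective dimension
-/

set_option autoImplicit false
universe u
open CategoryTheory CategoryTheory.Limits MonoidalCategory TensorProduct

namespace Groth.Agent.Helper21.RPD

open Groth.Agent.Helper18.TorLib

variable {A : Type u} [CommRing A]

/-- dimension shifting in the first variable -/
theorem shift1 {S : ShortComplex (ModuleCat.{u} A)} (hS : S.ShortExact) [Module.Flat A S.X₂]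
    (N : ModuleCat.{u} A) (j : ℕ) (hj : 1 ≤ j) :
    IsZero (((Tor (ModuleCat.{u} A) (j + 1)).obj S.X₃).obj N) ↔
      IsZero (((Tor (ModuleCat.{u} A) j).obj S.X₁).obj N) := by
  obtain ⟨k, rfl⟩ : ∃ k, j = k + 1 := ⟨j - 1, by omega⟩
  have hepi : Epi (torδ hS N (k + 1)) :=
    (tor_exact₁ hS N (k + 1)).epi_f ((isZero_tor_succ_of_flat_left S.X₂ N k).eq_of_tgt _ _)
  have hmono : Mono (torδ hS N (k + 1)) :=
    (tor_exact₃ hS N (k + 1)).mono_g ((isZero_tor_succ_of_flat_left S.X₂ N (k + 1)).eq_of_src _ _)
  exact ⟨fun h => IsZero.of_epi (torδ hS N (k + 1)) h, fun h => IsZero.of_mono (torδ hS N (k + 1)) h⟩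

theorem exists_syzygy [IsNoetherianRing A] : ∀ (n : ℕ) (M : Type u) [AddCommGroup M] [Module A M]
    [Module.Finite A M],
    ∃ (K : Type u) (_ : AddCommGroup K) (_ : Module A K) (_ : Module.Finite A K),
      (∀ (N : ModuleCat.{u} A) (i : ℕ), 1 ≤ i →
        (IsZero (((Tor (ModuleCat.{u} A) (i + n)).obj (ModuleCat.of A M)).obj N) ↔
          IsZero (((Tor (ModuleCat.{u} A) i).obj (ModuleCat.of A K)).obj N))) ∧
      (Projective (ModuleCat.of A K) → HasProjectiveDimensionLT (ModuleCat.of A M) (n + 1)) := by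
  intro n
  induction n with
  | zero =>
    intro M _ _ _
    exact ⟨M, inferInstance, inferInstance, inferInstance, fun N i _ => Iff.rfl,
      fun h => projective_iff_hasProjectiveDimensionLT_one.mp h⟩
  | succ n ih =>
    intro M _ _ _
    obtain ⟨r, f, hf⟩ := Module.Finite.exists_fin' A M
    let K₁ : Submodule A (Fin r → A) := LinearMap.ker f
    let S : ShortComplex (ModuleCat.{u} A) :=
      ModuleCat.shortComplexOfCompEqZero K₁.subtype f (LinearMap.ext fun x => x.2)
    have hS : S.ShortExact :=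
      ModuleCat.shortComplex_shortExact S (LinearMap.exact_subtype_ker_map f)
        (Submodule.injective_subtype K₁) hf
    have : Module.Flat A S.X₂ := inferInstanceAs (Module.Flat A (Fin r → A))
    obtain ⟨K, i1, i2, i3, hK1, hK2⟩ := ih K₁
    refine ⟨K, i1, i2, i3, ?_, ?_⟩
    · intro N i hi
      exact (shift1 hS N (i + n) (by omega)).trans (hK1 N i hi)
    · intro hproj
      have h1 : HasProjectiveDimensionLT (ModuleCat.of A K₁) (n + 1) := hK2 hproj
      have hproj2 : Projective S.X₂ :=
        (IsProjective.iff_projective (R := A) (P := (Fin r → A))).mp inferInstance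
      have h2 : HasProjectiveDimensionLT S.X₂ (n + 1 + 1) :=
        hasProjectiveDimensionLT_of_ge S.X₂ 1 (n + 1 + 1) (by omega)
      exact hS.hasProjectiveDimensionLT_X₃ (n + 1) h1 h2

/-- flat base change for vanishing of Tor -/
theorem isZero_tor_baseChange_iff (A' : Type u) [CommRing A'] [Algebra A A'] [Module.Flat A A']
    (P : Type u) [AddCommGroup P] [Module A P] (Q' : Type u) [AddCommGroup Q'] [Module A' Q']
    [Module A Q'] [IsScalarTower A A' Q'] (n : ℕ) :
    IsZero (((Tor (ModuleCat.{u} A) n).obj (ModuleCat.of A P)).obj (ModuleCat.of A Q')) ↔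
      IsZero (((Tor (ModuleCat.{u} A') n).obj (ModuleCat.of A' (A' ⊗[A] P))).obj
        (ModuleCat.of A' Q')) := by
  have hP : ∀ q : ℕ, 0 < q → Subsingleton
      (((Tor (ModuleCat.{u} A) q).obj (ModuleCat.of A P)).obj (ModuleCat.of A A')) := by
    intro q hq
    obtain ⟨k, rfl⟩ : ∃ k, q = k + 1 := ⟨q - 1, by omega⟩
    exact ModuleCat.subsingleton_of_isZero
      (Groth.Agent.Helper6.TorFlat.isZero_tor_succ_of_flat_right (ModuleCat.of A A') k _)
  obtain ⟨φ, hφ⟩ := Groth.Agent.Helper6.TorBC.tor_baseChange (A := A) (A' := A') P Q' hP n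
  constructor
  · intro h
    have h1 := ModuleCat.subsingleton_of_isZero h
    have h2 := hφ.2.subsingleton
    exact ModuleCat.isZero_of_subsingleton _
  · intro h
    have h1 := ModuleCat.subsingleton_of_isZero h
    have h2 := hφ.1.subsingleton
    exact ModuleCat.isZero_of_subsingleton _

theorem free_of_tor_one (B : Type u) [CommRing B] [IsLocalRing B] [IsNoetherianRing B]
    (L : Type u) [AddCommGroup L] [Module B L] [Module.Finite B L]
    (h : IsZero (((Tor (ModuleCat.{u} B) 1).obj (ModuleCat.of B L)).obj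
      (ModuleCat.of B (IsLocalRing.ResidueField B)))) : Module.Free B L := by
  have h' := Groth.Agent.Helper21.TS.isZero_tor_comm h
  have hfp : Module.FinitePresentation B L := Module.finitePresentation_of_finite B L
  have hinj : Function.Injective ((IsLocalRing.maximalIdeal B).subtype.rTensor L) :=
    (isZero_tor_one_iff_injective (M := L) (IsLocalRing.maximalIdeal B).subtype
      (IsLocalRing.maximalIdeal B).mkQ (Submodule.injective_subtype _)
      (LinearMap.exact_subtype_mkQ _) (Submodule.mkQ_surjective _)).mp h'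
  exact Module.free_of_maximalIdeal_rTensor_injective hinj

section locus

variable [IsNoetherianRing A] (K : Type u) [AddCommGroup K] [Module A K] [Module.Finite A K]
  (p : PrimeSpectrum A)

theorem mem_freeLocus_of_tor_one
    (h : IsZero (((Tor (ModuleCat.{u} A) 1).obj (ModuleCat.of A K)).obj
      (ModuleCat.of A p.asIdeal.ResidueField))) : p ∈ Module.freeLocus A K := by
  rw [Module.mem_freeLocus_iff_tensor p (Localization.AtPrime p.asIdeal)]
  exact free_of_tor_one (Localization.AtPrime p.asIdeal) _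
    ((isZero_tor_baseChange_iff (Localization.AtPrime p.asIdeal) K p.asIdeal.ResidueField 1).mp h)

theorem isZero_tor_of_mem_freeLocus (h : p ∈ Module.freeLocus A K) (i : ℕ) (hi : 1 ≤ i) :
    IsZero (((Tor (ModuleCat.{u} A) i).obj (ModuleCat.of A K)).obj
      (ModuleCat.of A p.asIdeal.ResidueField)) := by
  rw [Module.mem_freeLocus_iff_tensor p (Localization.AtPrime p.asIdeal)] at h
  rw [isZero_tor_baseChange_iff (Localization.AtPrime p.asIdeal) K p.asIdeal.ResidueField i]
  obtain ⟨k, rfl⟩ : ∃ k, i = k + 1 := ⟨i - 1, by omega⟩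
  have : Module.Flat (Localization.AtPrime p.asIdeal)
      (ModuleCat.of (Localization.AtPrime p.asIdeal) (Localization.AtPrime p.asIdeal ⊗[A] K)) :=
    inferInstanceAs (Module.Flat (Localization.AtPrime p.asIdeal)
      (Localization.AtPrime p.asIdeal ⊗[A] K))
  exact isZero_tor_succ_of_flat_left _ _ k

end locus

theorem exists_bound_at [IsRegularRing A] (M : Type u) [AddCommGroup M] [Module A M]
    (p : PrimeSpectrum A) :
    ∃ e : ℕ, ∀ i, e < i → IsZero (((Tor (ModuleCat.{u} A) i).obj (ModuleCat.of A M)).obj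
      (ModuleCat.of A p.asIdeal.ResidueField)) := by
  have hdim : ringKrullDim (Localization.AtPrime p.asIdeal) = p.asIdeal.height :=
    IsLocalization.AtPrime.ringKrullDim_eq_height p.asIdeal (Localization.AtPrime p.asIdeal)
  have hfin : p.asIdeal.height ≠ ⊤ := Ideal.height_ne_top (Ideal.IsPrime.ne_top p.2)
  obtain ⟨e, he⟩ := ENat.ne_top_iff_exists.mp hfin
  rw [← he] at hdim
  refine ⟨e, fun i hi => ?_⟩
  rw [isZero_tor_baseChange_iff (Localization.AtPrime p.asIdeal) M p.asIdeal.ResidueField i]
  have hpd := Groth.Agent.Lead.Hom.hasProjectiveDimensionLT_of_isRegularLocalRing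
    (R := Localization.AtPrime p.asIdeal) (d := e) (by exact_mod_cast hdim)
    (ModuleCat.of (Localization.AtPrime p.asIdeal) (Localization.AtPrime p.asIdeal ⊗[A] M))
  exact Groth.Agent.Helper21.TS.isZero_tor_left_of_pd e _ hpd _ i hi

theorem local_bound [IsRegularRing A] (M : Type u) [AddCommGroup M] [Module A M]
    [Module.Finite A M] (p : PrimeSpectrum A) :
    ∃ (W : Set (PrimeSpectrum A)) (n : ℕ), IsOpen W ∧ p ∈ W ∧
      ∀ q ∈ W, ∀ i, n < i → IsZero (((Tor (ModuleCat.{u} A) i).obj (ModuleCat.of A M)).obj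
        (ModuleCat.of A q.asIdeal.ResidueField)) := by
  obtain ⟨e, he⟩ := exists_bound_at (A := A) M p
  obtain ⟨K, _, _, _, hK1, -⟩ := exists_syzygy (A := A) e M
  have hfp : Module.FinitePresentation A K := Module.finitePresentation_of_finite A K
  refine ⟨Module.freeLocus A K, e, Module.isOpen_freeLocus, ?_, ?_⟩
  · exact mem_freeLocus_of_tor_one K p ((hK1 _ 1 le_rfl).mp (he (1 + e) (by omega)))
  · intro q hq i hi
    obtain ⟨j, rfl⟩ : ∃ j, i = j + e := ⟨i - e, by omega⟩
    exact (hK1 _ j (by omega)).mpr (isZero_tor_of_mem_freeLocus K q hq j (by omega))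

theorem exists_pd_bound [IsRegularRing A] (M : Type u) [AddCommGroup M] [Module A M]
    [Module.Finite A M] : ∃ d : ℕ, HasProjectiveDimensionLT (ModuleCat.of A M) (d + 1) := by
  choose W n hWo hpW hWn using local_bound (A := A) M
  obtain ⟨t, -, ht⟩ := isCompact_univ.elim_nhds_subcover W
    (fun p _ => (hWo p).mem_nhds (hpW p))
  refine ⟨t.sup n, ?_⟩
  have hres : ∀ (x : Ideal A) [x.IsPrime] (i : ℕ), t.sup n < i →
      IsZero (((Tor (ModuleCat.{u} A) i).obj (ModuleCat.of A x.ResidueField)).obj
        (ModuleCat.of A M)) := by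
    intro x hx i hi
    have hq : (⟨x, hx⟩ : PrimeSpectrum A) ∈ ⋃ p ∈ t, W p := ht (Set.mem_univ _)
    simp only [Set.mem_iUnion] at hq
    obtain ⟨p, hpt, hqW⟩ := hq
    have hle : n p ≤ t.sup n := Finset.le_sup hpt
    exact Groth.Agent.Helper21.TS.isZero_tor_comm (hWn p ⟨x, hx⟩ hqW i (by omega))
  have hall := Groth.Agent.Helper21.TRF2.isZero_tor_all (t.sup n) (ModuleCat.of A M)
    (fun p hp i hi => Groth.Agent.Helper21.TRF2.isZero_tor_cyclic (ModuleCat.of A M) (t.sup n)
      hres p (A ⧸ p) (Submodule.mkQ p) (Submodule.mkQ_surjective p) (Submodule.ker_mkQ p) i hi)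
  obtain ⟨K, _, _, _, hK1, hK2⟩ := exists_syzygy (A := A) (t.sup n) M
  apply hK2
  have hflat : Module.Flat A K := Groth.Agent.Helper21.TS.flat_of_tor_one_prime K
    (fun p hp => Groth.Agent.Helper21.TS.isZero_tor_comm
      ((hK1 _ 1 le_rfl).mp
        (Groth.Agent.Helper21.TS.isZero_tor_comm (hall _ (1 + t.sup n) (by omega)))))
  have hfp : Module.FinitePresentation A K := Module.finitePresentation_of_finite A K
  have hproj : Module.Projective A K := Module.Flat.projective_of_finitePresentation
  exact (IsProjective.iff_projective (R := A) (P := K)).mp hproj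

end Groth.Agent.Helper21.RPD
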