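import Mathlib
import Groth.Agent.Lib.Helper21.TorNatSym
import Groth.Agent.Lib.Helper21.TorSymm
import Groth.Agent.Lib.Helper21.RegPD
import Groth.Agent.Lib.Helper1.LocalCriterion
import Groth.Agent.Lib.Helper6.TorBalance
import Groth.Agent.S14422
import Groth.Agent.Lib.Helper21.TorAdd

/-!
# Flatness from flatness away from `V(I)`, flatness modulo `I` and Tor vanishing
-/

set_option autoImplicit false

open CategoryTheory Limits MonoidalCategory

namespace Groth.Agent.Helper21.FAT

open Groth.Agent.Helper18.TorLib TensorProduct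

universe u

variable (A : Type u) [CommRing A]

/-- `Tor_q^A(M, N) = 0`. -/
def TZ (q : ℕ) (M N : Type u) [AddCommGroup M] [Module A M] [AddCommGroup N] [Module A N] : Prop :=
  IsZero (((Tor (ModuleCat.{u} A) q).obj (ModuleCat.of A M)).obj (ModuleCat.of A N))

variable {A}

section basic

variable (M : Type u) [AddCommGroup M] [Module A M]

theorem tz_congr {N N' : Type u} [AddCommGroup N] [Module A N] [AddCommGroup N'] [Module A N']
    (e : N ≃ₗ[A] N') (q : ℕ) (h : TZ A q M N) : TZ A q M N' :=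
  h.of_iso (((Tor (ModuleCat.{u} A) q).obj (ModuleCat.of A M)).mapIso e.toModuleIso).symm

theorem tz_of_subsingleton (N : Type u) [AddCommGroup N] [Module A N] [Subsingleton N] (q : ℕ) :
    TZ A q M N := by
  have hz : IsZero (ModuleCat.of A N) := ModuleCat.isZero_of_subsingleton _
  exact Functor.map_isZero _ hz

/-- vanishing consequences of the long exact sequence in the second variable. -/
theorem tz_of_exact {N₁ N₂ N₃ : Type u} [AddCommGroup N₁] [Module A N₁] [AddCommGroup N₂]
    [Module A N₂] [AddCommGroup N₃] [Module A N₃] (f : N₁ →ₗ[A] N₂) (g : N₂ →ₗ[A] N₃)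
    (hf : Function.Injective f) (hfg : Function.Exact f g) (hg : Function.Surjective g) (i : ℕ) :
    (TZ A i M N₁ → TZ A i M N₃ → TZ A i M N₂) ∧
    (TZ A (i + 1) M N₃ → TZ A i M N₂ → TZ A i M N₁) ∧
    (TZ A (i + 1) M N₂ → TZ A i M N₁ → TZ A (i + 1) M N₃) := by
  let S : ShortComplex (ModuleCat.{u} A) :=
    ShortComplex.mk (ModuleCat.ofHom f) (ModuleCat.ofHom g)
      (ModuleCat.hom_ext (LinearMap.ext fun x => hfg.apply_apply_eq_zero x))
  have hS : S.ShortExact := by
    refine ShortComplex.ShortExact.mk' ?_ ?_ ?_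
    · rw [ShortComplex.ShortExact.moduleCat_exact_iff_function_exact]
      exact hfg
    · exact (ModuleCat.mono_iff_injective _).2 hf
    · exact (ModuleCat.epi_iff_surjective _).2 hg
  obtain ⟨⟨w₀, ex₀⟩, -, δ, w₁, w₂, ex₁, ex₂⟩ :=
    Groth.Agent.S14422.result A (ModuleCat.of A M) S hS i
  refine ⟨fun h1 h3 => ?_, fun h3 h2 => ?_, fun h2 h1 => ?_⟩
  · exact ex₀.isZero_of_both_zeros (IsZero.eq_of_src h1 _ _) (IsZero.eq_of_tgt h3 _ _)
  · exact ex₂.isZero_of_both_zeros (IsZero.eq_of_src h3 _ _) (IsZero.eq_of_tgt h2 _ _)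
  · exact ex₁.isZero_of_both_zeros (IsZero.eq_of_src h2 _ _) (IsZero.eq_of_tgt h1 _ _)

theorem isZero_pt_of_isColimit {J C : Type*} [Category J] [Category C] [HasZeroMorphisms C]
    {K : J ⥤ C} {c : Cocone K} (hc : IsColimit c) (h : ∀ j, IsZero (K.obj j)) : IsZero c.pt := by
  rw [IsZero.iff_id_eq_zero]
  apply hc.hom_ext
  intro j
  exact (h j).eq_of_src _ _

/-- `Tor_q(M, -)` vanishes on `N` as soon as it vanishes on all finitely generated submodules. -/
theorem tz_of_fg (N : Type u) [AddCommGroup N] [Module A N] (q : ℕ)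
    (h : ∀ N₁ : Submodule A N, N₁.FG → TZ A q M N₁) : TZ A q M N := by
  classical
  let ι := {N₁ : Submodule A N // N₁.FG}
  have : Nonempty ι := ⟨⟨⊥, Submodule.fg_bot⟩⟩
  let G : ι → Type u := fun N₁ => N₁.1
  let F := (Tor (ModuleCat.{u} A) q).obj (ModuleCat.of A M)
  have hpres : PreservesColimitsOfShape ι F := Groth.Agent.Helper6.TorNat.preserves_obj ι q _
  have hc := ModuleCat.directLimitIsColimit G (Module.fgSystem A N)
  have hc' := isColimitOfPreserves F hc
  have hz : IsZero (F.obj (ModuleCat.of A (Module.DirectLimit G (Module.fgSystem A N)))) :=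
    isZero_pt_of_isColimit hc' (fun j => h j.1 j.2)
  exact hz.of_iso (F.mapIso (Module.fgSystem.equiv A N).toModuleIso.symm)

/-- flatness from vanishing of `Tor₁(M, -)`. -/
theorem flat_of_tz_one (h : ∀ (N : Type u) [AddCommGroup N] [Module A N], TZ A 1 M N) :
    Module.Flat A M := by
  rw [Module.Flat.iff_rTensor_injective']
  intro J
  have hz := Groth.Agent.Helper21.TS.isZero_tor_comm (h (A ⧸ J))
  exact (isZero_tor_one_iff_injective J.subtype J.mkQ J.injective_subtype
    (LinearMap.exact_subtype_mkQ J) (Submodule.mkQ_surjective J)).1 hz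

theorem tz_prod (X Y : Type u) [AddCommGroup X] [Module A X] [AddCommGroup Y] [Module A Y] (q : ℕ)
    (hX : TZ A q M X) (hY : TZ A q M Y) : TZ A q M (X × Y) :=
  (tz_of_exact M (LinearMap.inl A X Y) (LinearMap.snd A X Y) LinearMap.inl_injective
    Function.Exact.inl_snd LinearMap.snd_surjective q).1 hX hY

theorem tz_pi_fin (X : Type u) [AddCommGroup X] [Module A X] (q : ℕ) (hX : TZ A q M X) :
    ∀ n : ℕ, TZ A q M (Fin n → X)
  | 0 => tz_of_subsingleton M _ q
  | n + 1 =>
    tz_congr M (Fin.consLinearEquiv A (fun _ : Fin (n + 1) => X)) q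
      (tz_prod M X (Fin n → X) q hX (tz_pi_fin X q hX n))

/-- comparison with the `Tor`-free formulation of helper1. -/
theorem tz_one_iff (N : Type u) [AddCommGroup N] [Module A N] :
    TZ A 1 M N ↔ Groth.Agent.Helper1.TorVanish A M N := by
  unfold Groth.Agent.Helper1.TorVanish
  rw [LinearMap.lTensor_inj_iff_rTensor_inj]
  exact isZero_tor_one_iff_injective (Groth.Agent.Helper1.presι A M) (Groth.Agent.Helper1.presπ A M)
    (Groth.Agent.Helper1.presι_injective A M) (Groth.Agent.Helper1.pres_exact A M)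
    (Groth.Agent.Helper1.presπ_surjective A M)

/-- modules killed by `I`. -/
theorem killed (I : Ideal A) (m : ℕ) (h3 : ∀ q, 1 ≤ q → q ≤ m → TZ A q M (A ⧸ I))
    (h2 : Module.Flat (A ⧸ I) ((A ⧸ I) ⊗[A] M)) :
    ∀ q, 1 ≤ q → q ≤ m → ∀ (N : Type u) [AddCommGroup N] [Module A N],
      (∀ a ∈ I, ∀ x : N, a • x = 0) → TZ A q M N := by
  intro q hq1
  obtain ⟨q, rfl⟩ : ∃ q', q = q' + 1 := ⟨q - 1, by omega⟩
  clear hq1
  induction q with
  | zero =>
    intro hqm N _ _ hN
    have hz := Groth.Agent.Helper21.TS.isZero_tor_comm (h3 1 le_rfl hqm)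
    have H1 : Function.Injective (I.subtype.rTensor M) :=
      (isZero_tor_one_iff_injective I.subtype I.mkQ I.injective_subtype
        (LinearMap.exact_subtype_mkQ I) (Submodule.mkQ_surjective I)).1 hz
    rw [zero_add, tz_one_iff]
    have hN' : I • (⊤ : Submodule A N) = ⊥ := by
      rw [eq_bot_iff, Submodule.smul_le]
      intro a ha x _
      rw [Submodule.mem_bot]
      exact hN a ha x
    exact Groth.Agent.Helper1.TorVanish.of_smul_eq_bot (H2 := h2) I H1 N hN'
  | succ q ih =>
    intro hqm N _ _ hN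
    apply tz_of_fg
    intro N₁ hfg
    have hT : Module.IsTorsionBySet A N₁ (I : Set A) := by
      intro x a
      exact Subtype.ext (hN a.1 a.2 x.1)
    let _ : Module (A ⧸ I) N₁ := hT.module
    have : IsScalarTower A (A ⧸ I) N₁ := hT.isScalarTower
    have : Module.Finite A N₁ := Module.Finite.iff_fg.2 hfg
    have : Module.Finite (A ⧸ I) N₁ := Module.Finite.of_restrictScalars_finite A (A ⧸ I) N₁
    obtain ⟨n, φ, hφ⟩ := Module.Finite.exists_fin' (A ⧸ I) N₁
    let ψ : (Fin n → A ⧸ I) →ₗ[A] N₁ := φ.restrictScalars A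
    have hψ : Function.Surjective ψ := hφ
    have hK : ∀ a ∈ I, ∀ x : LinearMap.ker ψ, a • x = 0 := by
      intro a ha x
      apply Subtype.ext
      funext i
      show a • (x.1 i) = 0
      rw [Algebra.smul_def, Ideal.Quotient.algebraMap_eq, Ideal.Quotient.eq_zero_iff_mem.2 ha,
        zero_mul]
    have hF : TZ A (q + 1 + 1) M (Fin n → A ⧸ I) :=
      tz_pi_fin M (A ⧸ I) (q + 1 + 1) (h3 (q + 1 + 1) (by omega) hqm) n
    have hKz : TZ A (q + 1) M (LinearMap.ker ψ) := ih (by omega) _ hK
    exact (tz_of_exact M (LinearMap.ker ψ).subtype ψ (Submodule.injective_subtype _)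
      (LinearMap.exact_subtype_ker_map ψ) hψ (q + 1)).2.2 hF hKz

/-- modules killed by a power of `I`. -/
theorem killed_pow (I : Ideal A) (m : ℕ) (h3 : ∀ q, 1 ≤ q → q ≤ m → TZ A q M (A ⧸ I))
    (h2 : Module.Flat (A ⧸ I) ((A ⧸ I) ⊗[A] M)) (q : ℕ) (hq1 : 1 ≤ q) (hqm : q ≤ m) (k : ℕ)
    (N : Type u) [AddCommGroup N] [Module A N] (hN : I ^ k • (⊤ : Submodule A N) = ⊥) :
    TZ A q M N := by
  refine Groth.Agent.Helper1.devissage_pow I (fun Q _ _ => TZ A q M Q) ?_ ?_ k N hN
  · intro Q _ _ hQ
    apply killed M I m h3 h2 q hq1 hqm Q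
    intro a ha x
    have hmem : a • x ∈ I • (⊤ : Submodule A Q) := Submodule.smul_mem_smul ha Submodule.mem_top
    rw [hQ] at hmem
    exact (Submodule.mem_bot A).1 hmem
  · intro Q _ _ Q' h1 h2
    exact (tz_of_exact M Q'.subtype Q'.mkQ (Submodule.injective_subtype Q')
      (LinearMap.exact_subtype_mkQ Q') (Submodule.mkQ_surjective Q') q).1 h1 h2

end basic

section torsion

/-- every element is killed by a power of `g`. -/
def PT (g : A) (N : Type u) [AddCommGroup N] [Module A N] : Prop :=
  ∀ x : N, ∃ k : ℕ, g ^ k • x = 0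

variable (g : A) (N : Type u) [AddCommGroup N] [Module A N]

theorem pt_sub (N₁ : Submodule A N) (h : PT g N) : PT g N₁ := by
  intro x
  obtain ⟨k, hk⟩ := h x.1
  exact ⟨k, Subtype.ext hk⟩

theorem pt_quot (N₁ : Submodule A N) (h : PT g N) : PT g (N ⧸ N₁) := by
  intro x
  obtain ⟨y, rfl⟩ := Submodule.Quotient.mk_surjective _ x
  obtain ⟨k, hk⟩ := h y
  refine ⟨k, ?_⟩
  rw [← Submodule.Quotient.mk_smul, hk, Submodule.Quotient.mk_zero]

theorem pt_loc (S : Submonoid A) (h : PT g N) : PT g (LocalizedModule S N) := by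
  intro x
  induction x using LocalizedModule.induction_on with
  | h n s =>
    obtain ⟨k, hk⟩ := h n
    refine ⟨k, ?_⟩
    rw [LocalizedModule.smul'_mk, hk, LocalizedModule.zero_mk]

theorem pt_ker_loc :
    PT g (LinearMap.ker (LocalizedModule.mkLinearMap (Submonoid.powers g) N).rangeRestrict) := by
  intro x
  have hx : (LocalizedModule.mkLinearMap (Submonoid.powers g) N).rangeRestrict x.1 = 0 := x.2
  have hx' : LocalizedModule.mkLinearMap (Submonoid.powers g) N x.1 = 0 :=
    congrArg Subtype.val hx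
  rw [IsLocalizedModule.eq_zero_iff (Submonoid.powers g)] at hx'
  obtain ⟨⟨c, k, rfl⟩, hc⟩ := hx'
  exact ⟨k, Subtype.ext hc⟩

theorem pt_coker_loc :
    PT g (LocalizedModule (Submonoid.powers g) N ⧸
      LinearMap.range (LocalizedModule.mkLinearMap (Submonoid.powers g) N)) := by
  intro x
  obtain ⟨y, rfl⟩ := Submodule.Quotient.mk_surjective _ x
  obtain ⟨⟨n, ⟨c, k, rfl⟩⟩, hs⟩ :=
    IsLocalizedModule.surj (Submonoid.powers g) (LocalizedModule.mkLinearMap (Submonoid.powers g) N) y
  refine ⟨k, ?_⟩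
  rw [← Submodule.Quotient.mk_smul, Submodule.Quotient.mk_eq_zero]
  exact ⟨n, hs.symm⟩

/-- a finite module all of whose elements are killed by powers of all the `f j` is killed by a
power of the ideal they generate. -/
theorem exists_pow_smul_top_eq_bot {r : ℕ} (f : Fin r → A) [Module.Finite A N]
    (hN : ∀ j, PT (f j) N) :
    ∃ k, (Ideal.span (Set.range f)) ^ k • (⊤ : Submodule A N) = ⊥ := by
  classical
  have hrad : Ideal.span (Set.range f) ≤ (Module.annihilator A N).radical := by
    rw [Ideal.span_le]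
    rintro _ ⟨j, rfl⟩
    obtain ⟨S, hS⟩ := (Module.Finite.fg_top : (⊤ : Submodule A N).FG)
    choose k hk using hN j
    refine Ideal.mem_radical_iff.2 ⟨S.sup k, ?_⟩
    rw [Module.mem_annihilator]
    intro x
    have hx : x ∈ Submodule.span A (S : Set N) := by
      rw [hS]
      exact Submodule.mem_top
    induction hx using Submodule.span_induction with
    | mem x hxS =>
      have hle : k x ≤ S.sup k := Finset.le_sup (Finset.mem_coe.1 hxS)
      obtain ⟨d, hd⟩ := Nat.exists_eq_add_of_le hle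
      rw [hd, pow_add, mul_comm, mul_smul, hk x, smul_zero]
    | zero => exact smul_zero _
    | add x y _ _ hx hy => rw [smul_add, hx, hy, add_zero]
    | smul a x _ hx => rw [smul_comm, hx, smul_zero]
  obtain ⟨k, hk⟩ := Ideal.exists_pow_le_of_le_radical_of_fg hrad
    (Submodule.fg_span (Set.finite_range f))
  refine ⟨k, ?_⟩
  rw [eq_bot_iff, Submodule.smul_le]
  intro a ha x _
  rw [Submodule.mem_bot]
  exact Module.mem_annihilator.1 (hk ha) x

end torsion

section main

variable (M : Type u) [AddCommGroup M] [Module A M]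

/-- `Tor_q(M, N_g) = 0` for `q ≥ 1` when `M_g` is flat over `A_g`. -/
theorem tz_localized (g : A)
    (hflat : Module.Flat (Localization.Away g) (LocalizedModule (Submonoid.powers g) M))
    (N : Type u) [AddCommGroup N] [Module A N] (q : ℕ) :
    TZ A (q + 1) M (LocalizedModule (Submonoid.powers g) N) := by
  have e : Localization.Away g ⊗[A] M ≃ₗ[Localization.Away g]
      LocalizedModule (Submonoid.powers g) M :=
    (IsLocalizedModule.isBaseChange (Submonoid.powers g) (Localization.Away g)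
      (LocalizedModule.mkLinearMap (Submonoid.powers g) M)).equiv
  have hfl : Module.Flat (Localization.Away g)
      (ModuleCat.of (Localization.Away g) (Localization.Away g ⊗[A] M)) :=
    Module.Flat.of_linearEquiv e
  unfold TZ
  rw [Groth.Agent.Helper21.RPD.isZero_tor_baseChange_iff (Localization.Away g) M
    (LocalizedModule (Submonoid.powers g) N) (q + 1)]
  exact isZero_tor_succ_of_flat_left
    (ModuleCat.of (Localization.Away g) (Localization.Away g ⊗[A] M)) (ModuleCat.of _ _) q

/-- one step of the descending induction. -/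
theorem step (g : A)
    (hflat : Module.Flat (Localization.Away g) (LocalizedModule (Submonoid.powers g) M))
    (s : ℕ) (N : Type u) [AddCommGroup N] [Module A N]
    (hΓ : ∀ q, 1 ≤ q → q ≤ s + 2 → TZ A q M
      (LinearMap.ker (LocalizedModule.mkLinearMap (Submonoid.powers g) N).rangeRestrict))
    (hQ : ∀ q, 1 ≤ q → q ≤ s + 2 → TZ A q M
      (LocalizedModule (Submonoid.powers g) N ⧸
        LinearMap.range (LocalizedModule.mkLinearMap (Submonoid.powers g) N))) :
    ∀ q, 1 ≤ q → q ≤ s + 1 → TZ A q M N := by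
  intro q hq1 hqs
  have hNg : TZ A q M (LocalizedModule (Submonoid.powers g) N) := by
    obtain ⟨q', rfl⟩ : ∃ q', q = q' + 1 := ⟨q - 1, by omega⟩
    exact tz_localized M g hflat N q'
  have hN' : TZ A q M (LinearMap.range (LocalizedModule.mkLinearMap (Submonoid.powers g) N)) :=
    (tz_of_exact M (LinearMap.range (LocalizedModule.mkLinearMap (Submonoid.powers g) N)).subtype
      (LinearMap.range (LocalizedModule.mkLinearMap (Submonoid.powers g) N)).mkQ
      (Submodule.injective_subtype _) (LinearMap.exact_subtype_mkQ _)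
      (Submodule.mkQ_surjective _) q).2.1 (hQ (q + 1) (by omega) (by omega)) hNg
  exact (tz_of_exact M
    (LinearMap.ker (LocalizedModule.mkLinearMap (Submonoid.powers g) N).rangeRestrict).subtype
    (LocalizedModule.mkLinearMap (Submonoid.powers g) N).rangeRestrict
    (Submodule.injective_subtype _) (LinearMap.exact_subtype_ker_map _)
    (LinearMap.surjective_rangeRestrict _) q).1 (hΓ q hq1 (by omega)) hN'

theorem downward {r : ℕ} (f : Fin r → A)
    (h1 : ∀ i, Module.Flat (Localization.Away (f i)) (LocalizedModule (Submonoid.powers (f i)) M))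
    (hI : ∀ (N : Type u) [AddCommGroup N] [Module A N],
      (∃ k, (Ideal.span (Set.range f)) ^ k • (⊤ : Submodule A N) = ⊥) →
        ∀ q, 1 ≤ q → q ≤ r + 1 → TZ A q M N) :
    ∀ d s, s + d = r → ∀ (N : Type u) [AddCommGroup N] [Module A N],
      (∀ j : Fin r, j.val < s → PT (f j) N) → ∀ q, 1 ≤ q → q ≤ s + 1 → TZ A q M N := by
  intro d
  induction d with
  | zero =>
    intro s hs N _ _ hN q hq1 hqs
    have hsr : s = r := by omega
    rw [hsr] at hN hqs
    apply tz_of_fg
    intro N₁ hfg
    have : Module.Finite A N₁ := Module.Finite.iff_fg.2 hfg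
    exact hI N₁ (exists_pow_smul_top_eq_bot N₁ f (fun j => pt_sub (f j) N N₁ (hN j j.2)))
      q hq1 hqs
  | succ d ih =>
    intro s hs N _ _ hN q hq1 hqs
    have hsr : s < r := by omega
    have key : ∀ (N' : Type u) [AddCommGroup N'] [Module A N'],
        (∀ j : Fin r, j.val < s → PT (f j) N') → PT (f ⟨s, hsr⟩) N' →
          ∀ q, 1 ≤ q → q ≤ s + 2 → TZ A q M N' := by
      intro N' _ _ h h' q hq1 hq2
      refine ih (s + 1) (by omega) N' ?_ q hq1 (by omega)
      intro j hj
      rcases Nat.lt_succ_iff_lt_or_eq.1 hj with hlt | heq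
      · exact h j hlt
      · have hj' : j = ⟨s, hsr⟩ := Fin.ext heq
        rw [hj']
        exact h'
    exact step M (f ⟨s, hsr⟩) (h1 ⟨s, hsr⟩) s N
      (key _ (fun j hj => pt_sub (f j) N _ (hN j hj)) (pt_ker_loc (f ⟨s, hsr⟩) N))
      (key _ (fun j hj => pt_quot (f j) _ _ (pt_loc (f j) N _ (hN j hj)))
        (pt_coker_loc (f ⟨s, hsr⟩) N)) q hq1 hqs

theorem main {r : ℕ} (f : Fin r → A)
    (h1 : ∀ i, Module.Flat (Localization.Away (f i)) (LocalizedModule (Submonoid.powers (f i)) M))
    (h2 : Module.Flat (A ⧸ Ideal.span (Set.range f)) ((A ⧸ Ideal.span (Set.range f)) ⊗[A] M))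
    (h3 : ∀ i : ℕ, 1 ≤ i → i ≤ r + 1 → TZ A i M (A ⧸ Ideal.span (Set.range f))) :
    Module.Flat A M := by
  apply flat_of_tz_one
  intro N _ _
  refine downward M f h1 ?_ r 0 (by omega) N (fun j hj => absurd hj (Nat.not_lt_zero _)) 1
    le_rfl (by omega)
  intro N' _ _ hk q hq1 hqr
  obtain ⟨k, hk⟩ := hk
  exact killed_pow M (Ideal.span (Set.range f)) (r + 1) h3 h2 q hq1 hqr k N' hk

end main

end Groth.Agent.Helper21.FAT
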