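import Mathlib
import Groth.Agent.Lib.Helper21.FinDesc1
import Groth.Agent.Lib.Helper21.FlatAway

/-!
# Descent of flatness along finite injective maps of Noetherian rings
-/

set_option autoImplicit false

namespace Groth.Agent.Helper21.FDS

open TensorProduct Function CategoryTheory Limits
open Groth.Agent.Helper18.TorLib

universe u

section torsion

variable {R : Type u} [CommRing R]

/-- the `c`-power torsion submodule. -/
def ptors (c : R) (M : Type u) [AddCommGroup M] [Module R M] : Submodule R M where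
  carrier := {x | ∃ n : ℕ, c ^ n • x = 0}
  zero_mem' := ⟨0, smul_zero _⟩
  add_mem' := by
    rintro x y ⟨n, hn⟩ ⟨m, hm⟩
    refine ⟨n + m, ?_⟩
    have h1 : c ^ (n + m) • x = 0 := by rw [pow_add, mul_comm, mul_smul, hn, smul_zero]
    have h2 : c ^ (n + m) • y = 0 := by rw [pow_add, mul_smul, hm, smul_zero]
    rw [smul_add, h1, h2, add_zero]
  smul_mem' := by
    rintro r x ⟨n, hn⟩
    exact ⟨n, by rw [smul_comm, hn, smul_zero]⟩

theorem rTensor_span_singleton_injective (c : R) (M : Type u) [AddCommGroup M] [Module R M]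
    (hreg : ∀ y : M, c • y = 0 → y = 0) :
    Injective ((Ideal.span {c}).subtype.rTensor M) := by
  have hc : c ∈ Ideal.span {c} := Ideal.mem_span_singleton_self c
  have hform : ∀ z : ↥(Ideal.span {c}) ⊗[R] M,
      ∃ x : M, z = (⟨c, hc⟩ : ↥(Ideal.span {c})) ⊗ₜ[R] x := by
    intro z
    induction z using TensorProduct.induction_on with
    | zero => exact ⟨0, (TensorProduct.tmul_zero _ _).symm⟩
    | tmul a y =>
      obtain ⟨r, hr⟩ := Ideal.mem_span_singleton'.1 a.2
      refine ⟨r • y, ?_⟩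
      have ha : a = r • (⟨c, hc⟩ : ↥(Ideal.span {c})) :=
        Subtype.ext (by rw [Submodule.coe_smul, smul_eq_mul]; exact hr.symm)
      rw [ha, TensorProduct.smul_tmul]
    | add z w hz hw =>
      obtain ⟨x, rfl⟩ := hz
      obtain ⟨y, rfl⟩ := hw
      exact ⟨x + y, (TensorProduct.tmul_add _ _ _).symm⟩
  rw [injective_iff_map_eq_zero]
  intro z hz
  obtain ⟨x, rfl⟩ := hform z
  rw [LinearMap.rTensor_tmul, Submodule.subtype_apply] at hz
  have h2 : c • x = 0 := by
    have h3 := congrArg (TensorProduct.lid R M) hz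
    rwa [TensorProduct.lid_tmul, map_zero] at h3
  rw [hreg x h2, TensorProduct.tmul_zero]

theorem tz_quot_of_regular [IsDomain R] (c : R) (hc : c ≠ 0) (I : Ideal R)
    (hI : I = Ideal.span {c}) (M : Type u) [AddCommGroup M] [Module R M]
    (hreg : ∀ y : M, c • y = 0 → y = 0) (i : ℕ) (hi : 1 ≤ i) :
    Groth.Agent.Helper21.FAT.TZ R i M (R ⧸ I) := by
  subst hI
  obtain ⟨q, rfl⟩ : ∃ q, i = q + 1 := ⟨i - 1, by omega⟩
  cases q with
  | zero =>
    have hz := (isZero_tor_one_iff_injective (Ideal.span {c}).subtype (Ideal.span {c}).mkQ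
      (Submodule.injective_subtype _) (LinearMap.exact_subtype_mkQ _)
      (Submodule.mkQ_surjective _)).2 (rTensor_span_singleton_injective c M hreg)
    exact Groth.Agent.Helper21.TS.isZero_tor_comm hz
  | succ q =>
    have hfl : Module.Flat R ↥(Ideal.span {c}) :=
      Module.Flat.of_linearEquiv (LinearEquiv.toSpanNonzeroSingleton R R c hc).symm
    have h2 : Groth.Agent.Helper21.FAT.TZ R (q + 1 + 1) M R :=
      Groth.Agent.Helper6.TorFlat.isZero_tor_succ_of_flat_right (ModuleCat.of R R) (q + 1)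
        (ModuleCat.of R M)
    have h1 : Groth.Agent.Helper21.FAT.TZ R (q + 1) M ↥(Ideal.span {c}) :=
      Groth.Agent.Helper6.TorFlat.isZero_tor_succ_of_flat_right
        (ModuleCat.of R ↥(Ideal.span {c})) q (ModuleCat.of R M)
    exact (Groth.Agent.Helper21.FAT.tz_of_exact M (Ideal.span {c}).subtype (Ideal.span {c}).mkQ
      (Submodule.injective_subtype _) (LinearMap.exact_subtype_mkQ _)
      (Submodule.mkQ_surjective _) (q + 1)).2.2 h2 h1

theorem flat_of_regular_of_flat_away [IsDomain R] (c : R) (hc : c ≠ 0) (M : Type u)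
    [AddCommGroup M] [Module R M] (hreg : ∀ y : M, c • y = 0 → y = 0)
    (hloc : Module.Flat (Localization.Away c) (Localization.Away c ⊗[R] M))
    (hquot : Module.Flat (R ⧸ Ideal.span {c}) ((R ⧸ Ideal.span {c}) ⊗[R] M)) :
    Module.Flat R M := by
  have hI : Ideal.span (Set.range fun _ : Fin 1 => c) = Ideal.span {c} := by
    rw [Set.range_const]
  refine Groth.Agent.Helper21.FAT.main M (fun _ : Fin 1 => c) ?_ ?_ ?_
  · intro i
    exact Module.Flat.of_linearEquiv
      (IsLocalizedModule.isBaseChange (Submonoid.powers c) (Localization.Away c)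
        (LocalizedModule.mkLinearMap (Submonoid.powers c) M)).equiv.symm
  · exact flat_quotient_of_le (Ideal.span {c}) _ (le_of_eq hI.symm) M
  · intro i hi1 _
    exact tz_quot_of_regular c hc _ hI M hreg i hi1

end torsion

section pair

variable {R S : Type u} [CommRing R] [CommRing S] [Algebra R S]

/-- the case where `S` is a domain. -/
theorem flat_of_domain [IsDomain S] [IsNoetherianRing R] [Module.Finite R S]
    (hinj : Injective (algebraMap R S))
    (ih : ∀ 𝔟 : Ideal S, 𝔟 ≠ ⊥ → ∀ (X : Type u) [AddCommGroup X] [Module R X],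
      Module.Flat S (S ⊗[R] X) →
      Module.Flat (R ⧸ 𝔟.comap (algebraMap R S)) ((R ⧸ 𝔟.comap (algebraMap R S)) ⊗[R] X))
    (M : Type u) [AddCommGroup M] [Module R M] [hM : Module.Flat S (S ⊗[R] M)] :
    Module.Flat R M := by
  have : IsDomain R := Function.Injective.isDomain (algebraMap R S) hinj
  obtain ⟨τ, hτ⟩ := exists_functional hinj
  obtain ⟨m, hm⟩ := exists_comap_span_pow_le hinj (τ 1)
  have hcS : algebraMap R S (τ 1) ≠ 0 := fun h0 => hτ (hinj (h0.trans (map_zero _).symm))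
  have h𝔟 : Ideal.span {algebraMap R S (τ 1) ^ m} ≠ (⊥ : Ideal S) := by
    rw [Ne, Ideal.span_singleton_eq_bot]
    exact pow_ne_zero m hcS
  have ihc : ∀ (X : Type u) [AddCommGroup X] [Module R X], Module.Flat S (S ⊗[R] X) →
      Module.Flat (R ⧸ Ideal.span {τ 1}) ((R ⧸ Ideal.span {τ 1}) ⊗[R] X) := by
    intro X _ _ hX
    have := ih _ h𝔟 X hX
    exact flat_quotient_of_le _ _ hm X
  -- the torsion submodule
  have hT0 : ∀ x ∈ ptors (τ 1) M, (1 : S) ⊗ₜ[R] x = (0 : S ⊗[R] M) := by
    intro x hx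
    obtain ⟨n, hn⟩ := hx
    have hreg : IsSMulRegular (S ⊗[R] M) (algebraMap R S (τ 1) ^ n) :=
      Module.Flat.isSMulRegular_of_isRegular (IsRegular.of_ne_zero (pow_ne_zero n hcS))
    refine hreg ?_
    show (algebraMap R S (τ 1) ^ n) • ((1 : S) ⊗ₜ[R] x) =
      (algebraMap R S (τ 1) ^ n) • (0 : S ⊗[R] M)
    rw [smul_zero, TensorProduct.smul_tmul', smul_eq_mul, mul_one, ← map_pow,
      Algebra.algebraMap_eq_smul_one, TensorProduct.smul_tmul, hn, TensorProduct.tmul_zero]
  have hzero : ∀ w : S ⊗[R] ↥(ptors (τ 1) M), (ptors (τ 1) M).subtype.lTensor S w = 0 := by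
    intro w
    induction w using TensorProduct.induction_on with
    | zero => rw [map_zero]
    | tmul s t =>
      rw [LinearMap.lTensor_tmul, Submodule.subtype_apply]
      have h1 : s ⊗ₜ[R] (t : M) = s • ((1 : S) ⊗ₜ[R] (t : M)) := by
        rw [TensorProduct.smul_tmul', smul_eq_mul, mul_one]
      rw [h1, hT0 _ t.2, smul_zero]
    | add x y hx hy => rw [map_add, hx, hy, add_zero]
  have hsurj : Surjective ((ptors (τ 1) M).mkQ.baseChange S) :=
    LinearMap.lTensor_surjective S (Submodule.mkQ_surjective _)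
  have hinjB : Injective ((ptors (τ 1) M).mkQ.baseChange S) := by
    rw [injective_iff_map_eq_zero]
    intro z hz
    have hex : Function.Exact ((ptors (τ 1) M).subtype.lTensor S)
        ((ptors (τ 1) M).mkQ.lTensor S) :=
      lTensor_exact S (LinearMap.exact_subtype_mkQ _) (Submodule.mkQ_surjective _)
    obtain ⟨w, rfl⟩ := (hex z).1 hz
    exact hzero w
  have hM' : Module.Flat S (S ⊗[R] (M ⧸ ptors (τ 1) M)) :=
    Module.Flat.of_linearEquiv
      (LinearEquiv.ofBijective ((ptors (τ 1) M).mkQ.baseChange S) ⟨hinjB, hsurj⟩).symm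
  have hregM' : ∀ y : M ⧸ ptors (τ 1) M, τ 1 • y = 0 → y = 0 := by
    intro y hy
    obtain ⟨x, rfl⟩ := Submodule.Quotient.mk_surjective _ y
    rw [← Submodule.Quotient.mk_smul, Submodule.Quotient.mk_eq_zero] at hy
    obtain ⟨n, hn⟩ := hy
    rw [Submodule.Quotient.mk_eq_zero]
    exact ⟨n + 1, by rw [pow_succ, mul_smul, hn]⟩
  have hflatM' : Module.Flat R (M ⧸ ptors (τ 1) M) :=
    flat_of_regular_of_flat_away (τ 1) hτ _ hregM' (flat_away_of_functional τ _) (ihc _ hM')
  -- the torsion vanishes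
  have hinjT : Injective ((ptors (τ 1) M).subtype.lTensor S) :=
    Groth.Agent.Helper1.lTensor_injective_of_exact_of_flat (ptors (τ 1) M).subtype
      (ptors (τ 1) M).mkQ (Submodule.injective_subtype _) (LinearMap.exact_subtype_mkQ _)
      (Submodule.mkQ_surjective _) S
  have hsubs : Subsingleton (S ⊗[R] ↥(ptors (τ 1) M)) :=
    ⟨fun a b => hinjT (by rw [hzero a, hzero b])⟩
  have hcT : ∀ t : ↥(ptors (τ 1) M), τ 1 • t = 0 := by
    intro t
    have h0 : (1 : S) ⊗ₜ[R] t = (0 : S ⊗[R] ↥(ptors (τ 1) M)) := Subsingleton.elim _ _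
    have h1 := congrArg (fun z => TensorProduct.lid R _ (τ.rTensor _ z)) h0
    simpa using h1
  have hTflat : Module.Flat S (S ⊗[R] ↥(ptors (τ 1) M)) := inferInstance
  have hTq := ih _ h𝔟 (↥(ptors (τ 1) M)) hTflat
  -- `(R/J) ⊗ T` embeds into `(S/𝔟) ⊗ T = 0`
  have hle : (Ideal.span {algebraMap R S (τ 1) ^ m}).comap (algebraMap R S) ≤
      ((Ideal.span {algebraMap R S (τ 1) ^ m}).restrictScalars R).comap
        (Algebra.linearMap R S) := fun r hr => hr
  have hvinj : Injective (Submodule.mapQ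
      ((Ideal.span {algebraMap R S (τ 1) ^ m}).comap (algebraMap R S))
      ((Ideal.span {algebraMap R S (τ 1) ^ m}).restrictScalars R)
      (Algebra.linearMap R S) hle) := by
    rw [injective_iff_map_eq_zero]
    intro x hx
    obtain ⟨r, rfl⟩ := Submodule.Quotient.mk_surjective _ x
    rw [Submodule.mapQ_apply, Submodule.Quotient.mk_eq_zero] at hx
    rw [Submodule.Quotient.mk_eq_zero]
    exact hx
  have hKJ := rTensor_injective_of_killed
    ((Ideal.span {algebraMap R S (τ 1) ^ m}).comap (algebraMap R S)) (↥(ptors (τ 1) M))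
    (A := R ⧸ (Ideal.span {algebraMap R S (τ 1) ^ m}).comap (algebraMap R S))
    (B := S ⧸ (Ideal.span {algebraMap R S (τ 1) ^ m}).restrictScalars R) ?_ ?_ _ hvinj
  · have hsub2 : Subsingleton ((S ⧸ (Ideal.span {algebraMap R S (τ 1) ^ m}).restrictScalars R)
        ⊗[R] ↥(ptors (τ 1) M)) :=
      (LinearMap.rTensor_surjective _ (Submodule.mkQ_surjective
        ((Ideal.span {algebraMap R S (τ 1) ^ m}).restrictScalars R))).subsingleton
    have hsub3 : Subsingleton ((R ⧸ (Ideal.span {algebraMap R S (τ 1) ^ m}).comap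
        (algebraMap R S)) ⊗[R] ↥(ptors (τ 1) M)) := hKJ.subsingleton
    have hsub4 : Subsingleton (↥(ptors (τ 1) M) ⧸
        ((Ideal.span {algebraMap R S (τ 1) ^ m}).comap (algebraMap R S)) •
          (⊤ : Submodule R ↥(ptors (τ 1) M))) :=
      (TensorProduct.quotTensorEquivQuotSMul _ _).symm.subsingleton
    have htop := Submodule.Quotient.subsingleton_iff.1 hsub4
    have hTzero : ∀ t : ↥(ptors (τ 1) M), t = 0 := by
      intro t
      have ht : t ∈ ((Ideal.span {algebraMap R S (τ 1) ^ m}).comap (algebraMap R S)) •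
          (⊤ : Submodule R ↥(ptors (τ 1) M)) := by
        rw [htop]
        exact Submodule.mem_top
      refine Submodule.smul_induction_on ht ?_ ?_
      · intro a ha y _
        obtain ⟨r, hr⟩ := Ideal.mem_span_singleton'.1 (hm ha)
        rw [← hr, mul_smul, hcT y, smul_zero]
      · intro y z hy hz
        rw [hy, hz, add_zero]
    have hbot : ptors (τ 1) M = ⊥ := by
      rw [eq_bot_iff]
      intro x hx
      exact congrArg Subtype.val (hTzero ⟨x, hx⟩)
    exact Module.Flat.of_linearEquiv (Submodule.quotEquivOfEqBot _ hbot).symm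
  · intro a ha x
    rw [Algebra.smul_def, Ideal.Quotient.algebraMap_eq, Ideal.Quotient.eq_zero_iff_mem.2 ha,
      zero_mul]
  · intro a ha x
    obtain ⟨s, rfl⟩ := Submodule.Quotient.mk_surjective _ x
    rw [← Submodule.Quotient.mk_smul, Submodule.Quotient.mk_eq_zero]
    show a • s ∈ Ideal.span {algebraMap R S (τ 1) ^ m}
    rw [Algebra.smul_def]
    exact Ideal.mul_mem_right _ _ (Ideal.mem_comap.1 ha)

/-- the inductive step. -/
theorem main_step [IsNoetherianRing R] [Module.Finite R S] (hinj : Injective (algebraMap R S))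
    (ih : ∀ 𝔟 : Ideal S, 𝔟 ≠ ⊥ → ∀ (X : Type u) [AddCommGroup X] [Module R X],
      Module.Flat S (S ⊗[R] X) →
      Module.Flat (R ⧸ 𝔟.comap (algebraMap R S)) ((R ⧸ 𝔟.comap (algebraMap R S)) ⊗[R] X))
    (M : Type u) [AddCommGroup M] [Module R M] [hM : Module.Flat S (S ⊗[R] M)] :
    Module.Flat R M := by
  by_cases h1 : ∃ 𝔟₁ 𝔟₂ : Ideal S, 𝔟₁ ≠ ⊥ ∧ 𝔟₂ ≠ ⊥ ∧ 𝔟₁ ⊓ 𝔟₂ = ⊥
  · obtain ⟨𝔟₁, 𝔟₂, hb1, hb2, h12⟩ := h1
    have := ih 𝔟₁ hb1 M hM
    have := ih 𝔟₂ hb2 M hM
    refine flat_of_inf_eq_bot (𝔟₁.comap (algebraMap R S)) (𝔟₂.comap (algebraMap R S)) ?_ M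
    rw [← Ideal.comap_inf, h12]
    exact (RingHom.injective_iff_ker_eq_bot _).1 hinj
  by_cases h2 : ∃ 𝔟 : Ideal S, 𝔟 ≠ ⊥ ∧ 𝔟 * 𝔟 = ⊥
  · obtain ⟨𝔟, hb, hbb⟩ := h2
    have := ih 𝔟 hb M hM
    exact flat_of_sq_zero hinj 𝔟 hbb (𝔟.comap (algebraMap R S)) (fun a => Ideal.mem_comap) M
  by_cases hS : Subsingleton S
  · have : Subsingleton R := hinj.subsingleton
    have : Subsingleton M := Module.subsingleton R M
    infer_instance
  have : Nontrivial S := not_subsingleton_iff_nontrivial.1 hS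
  have hnzd : NoZeroDivisors S := by
    refine ⟨fun {a b} hab => ?_⟩
    by_contra hcon
    push Not at hcon
    obtain ⟨ha, hb⟩ := hcon
    by_cases h3 : Ideal.span {a} ⊓ Ideal.span {b} = (⊥ : Ideal S)
    · exact h1 ⟨_, _, by rwa [Ne, Ideal.span_singleton_eq_bot],
        by rwa [Ne, Ideal.span_singleton_eq_bot], h3⟩
    · apply h2
      refine ⟨Ideal.span {a} ⊓ Ideal.span {b}, h3, ?_⟩
      rw [eq_bot_iff]
      calc (Ideal.span {a} ⊓ Ideal.span {b}) * (Ideal.span {a} ⊓ Ideal.span {b})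
          ≤ Ideal.span {a} * Ideal.span {b} := Ideal.mul_mono inf_le_left inf_le_right
        _ = Ideal.span {a * b} := Ideal.span_singleton_mul_span_singleton a b
        _ = ⊥ := by rw [hab, Ideal.span_singleton_eq_bot]
  have : IsDomain S := NoZeroDivisors.to_isDomain S
  exact flat_of_domain hinj ih M

end pair

/-- base change of the flatness hypothesis to the quotient pair. -/
theorem flat_quotient_step (R' S' : Type u) [CommRing R'] [CommRing S'] [Algebra R' S']
    (𝔟' : Ideal S') (X' : Type u) [AddCommGroup X'] [Module R' X']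
    (hX' : Module.Flat S' (S' ⊗[R'] X')) :
    Module.Flat (S' ⧸ 𝔟') ((S' ⧸ 𝔟') ⊗[R' ⧸ 𝔟'.comap (algebraMap R' S')]
      ((R' ⧸ 𝔟'.comap (algebraMap R' S')) ⊗[R'] X')) := by
  have hbc : Module.Flat (S' ⧸ 𝔟') ((S' ⧸ 𝔟') ⊗[S'] (S' ⊗[R'] X')) :=
    Module.Flat.baseChange S' (S' ⧸ 𝔟') (S' ⊗[R'] X')
  have e1 := AlgebraTensorModule.cancelBaseChange R' (R' ⧸ 𝔟'.comap (algebraMap R' S'))
    (S' ⧸ 𝔟') (S' ⧸ 𝔟') X'
  have e2 := AlgebraTensorModule.cancelBaseChange R' S' (S' ⧸ 𝔟') (S' ⧸ 𝔟') X'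
  exact Module.Flat.of_linearEquiv (e1 ≪≫ₗ e2.symm)

theorem finite_of_surjective_pair (R S R' S' : Type u) [CommRing R] [CommRing S] [Algebra R S]
    [Module.Finite R S] [CommRing R'] [CommRing S'] [Algebra R' S']
    (πR : R →+* R') (πS : S →+* S') (hπS : Surjective πS)
    (hcomp : ∀ r, πS (algebraMap R S r) = algebraMap R' S' (πR r)) : Module.Finite R' S' := by
  have h1 : (algebraMap R S).Finite := RingHom.finite_algebraMap.2 inferInstance
  have h2 : (πS.comp (algebraMap R S)).Finite :=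
    RingHom.Finite.comp (RingHom.Finite.of_surjective πS hπS) h1
  have h3 : (algebraMap R' S').comp πR = πS.comp (algebraMap R S) :=
    RingHom.ext fun r => (hcomp r).symm
  have h4 : (algebraMap R' S').Finite :=
    RingHom.Finite.of_comp_finite (f := πR) (by rw [h3]; exact h2)
  exact RingHom.finite_algebraMap.1 h4

theorem quotient_compat (R S R' S' : Type u) [CommRing R] [CommRing S] [Algebra R S]
    [CommRing R'] [CommRing S'] [Algebra R' S']
    (πR : R →+* R') (πS : S →+* S')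
    (hcomp : ∀ r, πS (algebraMap R S r) = algebraMap R' S' (πR r)) (𝔟' : Ideal S') (r : R) :
    ((Ideal.Quotient.mk 𝔟').comp πS) (algebraMap R S r) =
      algebraMap (R' ⧸ 𝔟'.comap (algebraMap R' S')) (S' ⧸ 𝔟')
        (((Ideal.Quotient.mk (𝔟'.comap (algebraMap R' S'))).comp πR) r) := by
  rw [RingHom.comp_apply, hcomp]
  rfl

/-- Noetherian induction over the ideals of `S`. -/
theorem descent_aux (R S : Type u) [CommRing R] [CommRing S] [Algebra R S] [IsNoetherianRing R]
    [IsNoetherianRing S] [Module.Finite R S] :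
    ∀ 𝔟 : Ideal S, ∀ (R' S' : Type u) [CommRing R'] [CommRing S'] [Algebra R' S']
      (πR : R →+* R') (πS : S →+* S'), Surjective πR → Surjective πS →
      (∀ r, πS (algebraMap R S r) = algebraMap R' S' (πR r)) → RingHom.ker πS = 𝔟 →
      Injective (algebraMap R' S') →
      ∀ (X : Type u) [AddCommGroup X] [Module R' X],
        Module.Flat S' (S' ⊗[R'] X) → Module.Flat R' X := by
  intro 𝔟
  refine IsNoetherian.induction (P := fun 𝔟 : Ideal S =>
    ∀ (R' S' : Type u) [CommRing R'] [CommRing S'] [Algebra R' S']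
      (πR : R →+* R') (πS : S →+* S'), Surjective πR → Surjective πS →
      (∀ r, πS (algebraMap R S r) = algebraMap R' S' (πR r)) → RingHom.ker πS = 𝔟 →
      Injective (algebraMap R' S') →
      ∀ (X : Type u) [AddCommGroup X] [Module R' X],
        Module.Flat S' (S' ⊗[R'] X) → Module.Flat R' X) ?_ 𝔟
  intro 𝔟 ih R' S' _ _ _ πR πS hπR hπS hcomp hker hinj' X _ _ hX
  have : IsNoetherianRing R' := isNoetherianRing_of_surjective R R' πR hπR
  have : Module.Finite R' S' := finite_of_surjective_pair R S R' S' πR πS hπS hcomp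
  refine main_step hinj' ?_ X (hM := hX)
  intro 𝔟' h𝔟' X' _ _ hX'
  have hgt : 𝔟 < 𝔟'.comap πS := by
    rw [← hker]
    refine lt_of_le_of_ne (Ideal.comap_mono bot_le) ?_
    intro heq
    apply h𝔟'
    have h5 : Ideal.map πS (Ideal.comap πS 𝔟') = 𝔟' := Ideal.map_comap_of_surjective πS hπS 𝔟'
    rw [← h5, ← heq]
    exact Ideal.map_comap_of_surjective πS hπS ⊥
  have hfl := flat_quotient_step R' S' 𝔟' X' hX'
  exact ih (𝔟'.comap πS) hgt (R' ⧸ 𝔟'.comap (algebraMap R' S')) (S' ⧸ 𝔟')
    ((Ideal.Quotient.mk _).comp πR) ((Ideal.Quotient.mk 𝔟').comp πS)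
    (Ideal.Quotient.mk_surjective.comp hπR) (Ideal.Quotient.mk_surjective.comp hπS)
    (quotient_compat R S R' S' πR πS hcomp 𝔟')
    (by rw [← RingHom.comap_ker, Ideal.mk_ker])
    Ideal.algebraMap_quotient_injective _ hfl

/-- **Descent of flatness along finite injective maps of Noetherian rings.** -/
theorem flat_of_flat_baseChange (R S : Type u) [CommRing R] [IsNoetherianRing R] [CommRing S]
    [IsNoetherianRing S] [Algebra R S] [Module.Finite R S]
    (hinj : Injective (algebraMap R S)) (M : Type u) [AddCommGroup M] [Module R M]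
    [hM : Module.Flat S (S ⊗[R] M)] : Module.Flat R M :=
  descent_aux R S ⊥ R S (RingHom.id R) (RingHom.id S) surjective_id surjective_id
    (fun _ => rfl) ((RingHom.injective_iff_ker_eq_bot _).1 injective_id) hinj M hM

end Groth.Agent.Helper21.FDS
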