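import Mathlib
import Groth.Agent.Lib.Helper21.FinDesc2

/-!
# Descent of flatness along injective maps from rings with a nilpotent "maximal" ideal
-/

set_option autoImplicit false

namespace Groth.Agent.Helper21.FDS3

open TensorProduct Function
open Groth.Agent.Helper21.FDS

universe u

theorem flat_of_subsingleton_ring (R : Type u) [CommRing R] (h : (⊤ : Ideal R) = ⊥)
    (M : Type u) [AddCommGroup M] [Module R M] : Module.Flat R M := by
  have h1 : (1 : R) ∈ (⊥ : Ideal R) := by
    rw [← h]
    exact Submodule.mem_top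
  have h2 : (0 : R) = 1 := ((Submodule.mem_bot R).1 h1).symm
  have : Subsingleton R := subsingleton_of_zero_eq_one h2
  have : Subsingleton M := Module.subsingleton R M
  infer_instance

theorem flat_quotient_maximal (R' : Type u) [CommRing R'] (I : Ideal R') (hmax : I.IsMaximal)
    (M : Type u) [AddCommGroup M] [Module R' M] :
    Module.Flat (R' ⧸ I) ((R' ⧸ I) ⊗[R'] M) := by
  let _ := Ideal.Quotient.field I
  infer_instance

/-- descent along injective maps when the source has a nilpotent ideal with field quotient. -/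
theorem flat_of_nilpotent (R : Type u) [CommRing R] (𝔪 : Ideal R) [h𝔪 : 𝔪.IsMaximal] :
    ∀ (N : ℕ) (R' S' : Type u) [CommRing R'] [CommRing S'] [Algebra R' S'] (π : R →+* R'),
      Surjective π → (𝔪.map π) ^ N = ⊥ → Injective (algebraMap R' S') →
      ∀ (M : Type u) [AddCommGroup M] [Module R' M],
        Module.Flat S' (S' ⊗[R'] M) → Module.Flat R' M := by
  intro N
  induction N with
  | zero =>
    intro R' S' _ _ _ π hπ hN hinj M _ _ hM
    rw [pow_zero, Ideal.one_eq_top] at hN
    exact flat_of_subsingleton_ring R' hN M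
  | succ N ih =>
    intro R' S' _ _ _ π hπ hN hinj M _ _ hM
    by_cases hN0 : N = 0
    · subst hN0
      rw [zero_add, pow_one] at hN
      rcases Ideal.map_eq_top_or_isMaximal_of_surjective π hπ h𝔪 with htop | hmax
      · exact flat_of_subsingleton_ring R' (htop.symm.trans hN) M
      · have h1 : Module.Flat (R' ⧸ 𝔪.map π) ((R' ⧸ 𝔪.map π) ⊗[R'] M) :=
          flat_quotient_maximal R' _ hmax M
        have h2 : Module.Flat (R' ⧸ (⊥ : Ideal R')) ((R' ⧸ (⊥ : Ideal R')) ⊗[R'] M) :=
          flat_quotient_of_le _ _ (le_of_eq hN) M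
        exact flat_of_inf_eq_bot ⊥ ⊥ (inf_idem _) M
    · have hN1 : 1 ≤ N := Nat.one_le_iff_ne_zero.2 hN0
      have hbb : Ideal.map (algebraMap R' S') ((𝔪.map π) ^ N) *
          Ideal.map (algebraMap R' S') ((𝔪.map π) ^ N) = ⊥ := by
        rw [← Ideal.map_mul, ← pow_add, eq_bot_iff]
        calc Ideal.map (algebraMap R' S') ((𝔪.map π) ^ (N + N))
            ≤ Ideal.map (algebraMap R' S') ((𝔪.map π) ^ (N + 1)) :=
              Ideal.map_mono (Ideal.pow_le_pow_right (by omega))
          _ = ⊥ := by rw [hN, Ideal.map_bot]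
      have hJ : (𝔪.map π) ^ N ≤
          (Ideal.map (algebraMap R' S') ((𝔪.map π) ^ N)).comap (algebraMap R' S') :=
        Ideal.le_comap_map
      have hfl := flat_quotient_step R' S' (Ideal.map (algebraMap R' S') ((𝔪.map π) ^ N)) M hM
      have hq := ih
        (R' ⧸ (Ideal.map (algebraMap R' S') ((𝔪.map π) ^ N)).comap (algebraMap R' S'))
        (S' ⧸ Ideal.map (algebraMap R' S') ((𝔪.map π) ^ N))
        ((Ideal.Quotient.mk _).comp π) (Ideal.Quotient.mk_surjective.comp hπ) ?_
        Ideal.algebraMap_quotient_injective _ hfl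
      · exact flat_of_sq_zero hinj _ hbb _ (fun a => Ideal.mem_comap) M
      · generalize (Ideal.map (algebraMap R' S') ((𝔪.map π) ^ N)).comap (algebraMap R' S') = J
          at hJ ⊢
        rw [← Ideal.map_map, ← Ideal.map_pow, eq_bot_iff]
        calc Ideal.map (Ideal.Quotient.mk J) ((𝔪.map π) ^ N)
            ≤ Ideal.map (Ideal.Quotient.mk J) J := Ideal.map_mono hJ
          _ = ⊥ := Ideal.map_quotient_self J

end Groth.Agent.Helper21.FDS3
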