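import Mathlib
import Groth.Agent.Lib.Helper21.EtaEt2

/-!
# Étaleness of `k[T_1..T_n] → C` in terms of `dx_i` (for S0280)
-/

set_option autoImplicit false
set_option linter.style.haveILetI false
universe u

namespace Groth.Agent.Helper21.FinEt

open MvPolynomial

variable {k : Type u} [CommRing k] {C : Type u} [CommRing C] [Algebra k C] {n : ℕ}

/-- If `C` is (locally) standard smooth of relative dimension `n` over `k` and the `dx_i` span
`Ω_{C/k}`, then `k[T] → C`, `T_i ↦ x_i` is étale. -/
theorem etale_aeval_of_span
    (hC : RingHom.Locally (RingHom.IsStandardSmoothOfRelativeDimension n) (algebraMap k C))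
    (x : Fin n → C)
    (hspan : Submodule.span C (Set.range fun i => KaehlerDifferential.D k C (x i)) = ⊤) :
    (aeval x : MvPolynomial (Fin n) k →ₐ[k] C).toRingHom.Etale := by
  have hf : RingHom.Locally (RingHom.IsStandardSmoothOfRelativeDimension n)
      (algebraMap k (MvPolynomial (Fin n) k)) :=
    RingHom.locally_of (RingHom.isStandardSmoothOfRelativeDimension_respectsIso (n := n)) _
      ((RingHom.isStandardSmoothOfRelativeDimension_algebraMap n).2 inferInstance)
  refine EtaEt.etale_of_locally_standardSmooth n (algebraMap k (MvPolynomial (Fin n) k))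
    (aeval x : MvPolynomial (Fin n) k →ₐ[k] C).toRingHom hf ?_ ?_
  · have : (aeval x : MvPolynomial (Fin n) k →ₐ[k] C).toRingHom.comp
        (algebraMap k (MvPolynomial (Fin n) k)) = algebraMap k C :=
      (aeval x : MvPolynomial (Fin n) k →ₐ[k] C).comp_algebraMap
    rw [this]
    exact hC
  · letI : Algebra (MvPolynomial (Fin n) k) C := (aeval x).toAlgebra
    haveI : IsScalarTower k (MvPolynomial (Fin n) k) C :=
      IsScalarTower.of_algebraMap_eq' (aeval x).comp_algebraMap.symm
    show Algebra.FormallyUnramified (MvPolynomial (Fin n) k) C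
    have hker := EtaEt.ker_map_mvPolynomial (V := k) x
    rw [hspan] at hker
    have hsurj := KaehlerDifferential.map_surjective k (MvPolynomial (Fin n) k) C
    refine ⟨⟨fun a b => ?_⟩⟩
    obtain ⟨a', rfl⟩ := hsurj a
    obtain ⟨b', rfl⟩ := hsurj b
    have ha : a' ∈ LinearMap.ker (KaehlerDifferential.map k (MvPolynomial (Fin n) k) C C) := by
      rw [hker]; trivial
    have hb : b' ∈ LinearMap.ker (KaehlerDifferential.map k (MvPolynomial (Fin n) k) C C) := by
      rw [hker]; trivial
    rw [LinearMap.mem_ker.1 ha, LinearMap.mem_ker.1 hb]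

/-- Conversely, an étale `k[T] → C` makes the `dx_i` span `Ω_{C/k}`. -/
theorem span_eq_top_of_etale (x : Fin n → C)
    (hx : (aeval x : MvPolynomial (Fin n) k →ₐ[k] C).toRingHom.Etale) :
    Submodule.span C (Set.range fun i => KaehlerDifferential.D k C (x i)) = ⊤ := by
  letI : Algebra (MvPolynomial (Fin n) k) C := (aeval x).toAlgebra
  haveI : IsScalarTower k (MvPolynomial (Fin n) k) C :=
    IsScalarTower.of_algebraMap_eq' (aeval x).comp_algebraMap.symm
  haveI : Algebra.Etale (MvPolynomial (Fin n) k) C := hx
  rw [← EtaEt.ker_map_mvPolynomial (V := k) x, eq_top_iff]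
  intro a _
  rw [LinearMap.mem_ker]
  exact Subsingleton.elim _ _

/-- ... and `C` is standard smooth of relative dimension `n` over `k`. -/
theorem locally_standardSmooth_of_etale (x : Fin n → C)
    (hx : (aeval x : MvPolynomial (Fin n) k →ₐ[k] C).toRingHom.Etale) :
    RingHom.Locally (RingHom.IsStandardSmoothOfRelativeDimension n) (algebraMap k C) := by
  have h0 := (RingHom.etale_iff_isStandardSmoothOfRelativeDimension_zero).1 hx
  have hn : (algebraMap k (MvPolynomial (Fin n) k)).IsStandardSmoothOfRelativeDimension n :=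
    (RingHom.isStandardSmoothOfRelativeDimension_algebraMap n).2 inferInstance
  have := h0.comp hn
  rw [zero_add] at this
  have e : (aeval x : MvPolynomial (Fin n) k →ₐ[k] C).toRingHom.comp
      (algebraMap k (MvPolynomial (Fin n) k)) = algebraMap k C :=
    (aeval x : MvPolynomial (Fin n) k →ₐ[k] C).comp_algebraMap
  rw [e] at this
  exact RingHom.locally_of (RingHom.isStandardSmoothOfRelativeDimension_respectsIso (n := n)) _ this

/-- Étaleness of `T_i ↦ x_i` only depends on the differentials `dx_i`. -/
theorem etale_aeval_congr (x x' : Fin n → C)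
    (hx : (aeval x : MvPolynomial (Fin n) k →ₐ[k] C).toRingHom.Etale)
    (h : ∀ i, KaehlerDifferential.D k C (x' i) = KaehlerDifferential.D k C (x i)) :
    (aeval x' : MvPolynomial (Fin n) k →ₐ[k] C).toRingHom.Etale := by
  refine etale_aeval_of_span (locally_standardSmooth_of_etale x hx) x' ?_
  rw [← span_eq_top_of_etale x hx]
  congr 2
  funext i
  exact h i

end Groth.Agent.Helper21.FinEt
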