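import Mathlib
import Groth.Agent.Lib.Helper21.FinEt1

/-!
# The induction for S0280 (étale over `𝔸ⁿ` in characteristic `p` ⇒ finite étale over `𝔸ⁿ`)

The two inputs `hA` (Nagata's trick) and `hB` (algebraicity) are hypotheses here.
-/

set_option autoImplicit false
set_option linter.style.haveILetI false
universe u

namespace Groth.Agent.Helper21.FinEt

open MvPolynomial

variable {k : Type u} [Field k] {C : Type u} [CommRing C] [Algebra k C] {n : ℕ}

/-- integrality over `T ↦ x` passes to `T ↦ x'` when the `x_i` are integral over `T ↦ x'`. -/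
theorem isIntegralElem_trans (x x' : Fin n → C)
    (h : ∀ i, (aeval x' : MvPolynomial (Fin n) k →ₐ[k] C).toRingHom.IsIntegralElem (x i)) (c : C)
    (hc : (aeval x : MvPolynomial (Fin n) k →ₐ[k] C).toRingHom.IsIntegralElem c) :
    (aeval x' : MvPolynomial (Fin n) k →ₐ[k] C).toRingHom.IsIntegralElem c := by
  letI : Algebra (MvPolynomial (Fin n) k) C := (aeval x').toAlgebra
  haveI : IsScalarTower k (MvPolynomial (Fin n) k) C :=
    IsScalarTower.of_algebraMap_eq' (aeval x').comp_algebraMap.symm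
  have hmem : ∀ g : MvPolynomial (Fin n) k, aeval x g ∈ integralClosure (MvPolynomial (Fin n) k) C := by
    intro g
    induction g using MvPolynomial.induction_on with
    | C a =>
      rw [aeval_C, IsScalarTower.algebraMap_apply k (MvPolynomial (Fin n) k) C]
      exact Subalgebra.algebraMap_mem _ _
    | add f g hf hg => rw [map_add]; exact Subalgebra.add_mem _ hf hg
    | mul_X f i hf =>
      rw [map_mul, aeval_X]
      exact Subalgebra.mul_mem _ hf (h i)
  let φ : MvPolynomial (Fin n) k →+* integralClosure (MvPolynomial (Fin n) k) C :=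
    (aeval x : MvPolynomial (Fin n) k →ₐ[k] C).toRingHom.codRestrict
      (integralClosure (MvPolynomial (Fin n) k) C).toSubring hmem
  obtain ⟨q, hq, hq0⟩ := hc
  have hint : IsIntegral (integralClosure (MvPolynomial (Fin n) k) C) c := by
    refine ⟨q.map φ, hq.map φ, ?_⟩
    rw [Polynomial.eval₂_map]
    exact hq0
  exact isIntegral_trans (A := integralClosure (MvPolynomial (Fin n) k) C) c hint

section CharP

variable (p : ℕ) [Fact p.Prime] [CharP k p]

include p in
theorem D_sub_pow (a u : C) (m : ℕ) :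
    KaehlerDifferential.D k C (a - (u ^ p) ^ m) = KaehlerDifferential.D k C a := by
  have hp : (p : C) = 0 := by
    rw [← map_natCast (algebraMap k C), CharP.cast_eq_zero, map_zero]
  rw [map_sub, ← pow_mul, mul_comm, pow_mul, Derivation.leibniz_pow, ← Nat.cast_smul_eq_nsmul C,
    hp, zero_smul, sub_zero]

variable
    (hA : ∀ f : MvPolynomial (Fin (n + 1)) k, f ≠ 0 → ∃ r : Fin n → ℕ, ∀ (c₀ : C) (x : Fin n → C),
      aeval (Fin.cons c₀ x : Fin (n + 1) → C) f = 0 →
      (aeval (fun i => x i - c₀ ^ r i) : MvPolynomial (Fin n) k →ₐ[k] C).toRingHom.IsIntegralElem c₀)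
    (hB : ∀ x : Fin n → C, (aeval x : MvPolynomial (Fin n) k →ₐ[k] C).toRingHom.Etale → ∀ c : C,
      ∃ f : MvPolynomial (Fin (n + 1)) k, f ≠ 0 ∧ aeval (Fin.cons c x : Fin (n + 1) → C) f = 0)

include p hA hB in
theorem step (x : Fin n → C) (hx : (aeval x : MvPolynomial (Fin n) k →ₐ[k] C).toRingHom.Etale)
    (c : C) :
    ∃ x' : Fin n → C,
      (∀ i, KaehlerDifferential.D k C (x' i) = KaehlerDifferential.D k C (x i)) ∧
      (aeval x' : MvPolynomial (Fin n) k →ₐ[k] C).toRingHom.IsIntegralElem c ∧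
      ∀ i, (aeval x' : MvPolynomial (Fin n) k →ₐ[k] C).toRingHom.IsIntegralElem (x i) := by
  obtain ⟨f, hf0, hf⟩ := hB x hx (c ^ p)
  obtain ⟨r, hr⟩ := hA f hf0
  have hw := hr (c ^ p) x hf
  refine ⟨fun i => x i - (c ^ p) ^ r i, fun i => D_sub_pow p _ _ _, ?_, fun i => ?_⟩
  · letI : Algebra (MvPolynomial (Fin n) k) C :=
      (aeval (fun i => x i - (c ^ p) ^ r i) : MvPolynomial (Fin n) k →ₐ[k] C).toAlgebra
    exact IsIntegral.of_pow (Fact.out : p.Prime).pos hw
  · have e : x i = (aeval (fun i => x i - (c ^ p) ^ r i) : MvPolynomial (Fin n) k →ₐ[k] C) (X i)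
        + (c ^ p) ^ r i := by
      rw [aeval_X]; ring
    rw [e]
    refine RingHom.IsIntegralElem.add _ (RingHom.isIntegralElem_map _) ?_
    letI : Algebra (MvPolynomial (Fin n) k) C :=
      (aeval (fun i => x i - (c ^ p) ^ r i) : MvPolynomial (Fin n) k →ₐ[k] C).toAlgebra
    exact IsIntegral.pow hw _

include p hA hB in
theorem exists_good (x₀ : Fin n → C)
    (hx₀ : (aeval x₀ : MvPolynomial (Fin n) k →ₐ[k] C).toRingHom.Etale) (t : Finset C) :
    ∃ x : Fin n → C,
      (∀ i, KaehlerDifferential.D k C (x i) = KaehlerDifferential.D k C (x₀ i)) ∧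
      ∀ c ∈ t, (aeval x : MvPolynomial (Fin n) k →ₐ[k] C).toRingHom.IsIntegralElem c := by
  classical
  induction t using Finset.induction_on with
  | empty => exact ⟨x₀, fun _ => rfl, by simp⟩
  | insert c t _ ih =>
    obtain ⟨x, hxD, hxt⟩ := ih
    have hx := etale_aeval_congr x₀ x hx₀ hxD
    obtain ⟨x', hD, hc, hxi⟩ := step p hA hB x hx c
    refine ⟨x', fun i => (hD i).trans (hxD i), fun c' hc' => ?_⟩
    rcases Finset.mem_insert.1 hc' with rfl | h
    · exact hc
    · exact isIntegralElem_trans x x' hxi c' (hxt c' h)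

include p hA hB in
theorem main [Algebra (MvPolynomial (Fin n) k) C] [IsScalarTower k (MvPolynomial (Fin n) k) C]
    [Algebra.Etale (MvPolynomial (Fin n) k) C] :
    ∃ φ : MvPolynomial (Fin n) k →ₐ[k] C, φ.toRingHom.Finite ∧ φ.toRingHom.Etale := by
  let x₀ : Fin n → C := fun i => algebraMap (MvPolynomial (Fin n) k) C (X i)
  have e₀ : (aeval x₀ : MvPolynomial (Fin n) k →ₐ[k] C) =
      IsScalarTower.toAlgHom k (MvPolynomial (Fin n) k) C := by
    apply MvPolynomial.algHom_ext
    intro i
    simp [x₀]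
  have hx₀ : (aeval x₀ : MvPolynomial (Fin n) k →ₐ[k] C).toRingHom.Etale := by
    rw [e₀]
    exact RingHom.etale_algebraMap.2 inferInstance
  haveI : Algebra.FiniteType k C := Algebra.FiniteType.trans (S := MvPolynomial (Fin n) k)
    inferInstance inferInstance
  obtain ⟨s, hs⟩ := (Algebra.FiniteType.out : (⊤ : Subalgebra k C).FG)
  obtain ⟨x, hxD, hxs⟩ := exists_good p hA hB x₀ hx₀ s
  refine ⟨aeval x, ?_, etale_aeval_congr x₀ x hx₀ hxD⟩
  refine RingHom.IsIntegral.to_finite ?_ ?_
  · letI : Algebra (MvPolynomial (Fin n) k) C := (aeval x).toAlgebra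
    haveI : IsScalarTower k (MvPolynomial (Fin n) k) C :=
      IsScalarTower.of_algebraMap_eq' (aeval x).comp_algebraMap.symm
    intro c
    have hle : Algebra.adjoin k (s : Set C) ≤
        (integralClosure (MvPolynomial (Fin n) k) C).restrictScalars k :=
      Algebra.adjoin_le fun c hc => hxs c hc
    rw [hs] at hle
    exact hle (Algebra.mem_top : c ∈ (⊤ : Subalgebra k C))
  · refine RingHom.FiniteType.of_comp_finiteType (f := algebraMap k (MvPolynomial (Fin n) k)) ?_
    rw [AlgHom.toRingHom_eq_coe, AlgHom.comp_algebraMap]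
    exact (RingHom.finiteType_algebraMap).2 inferInstance

end CharP

end Groth.Agent.Helper21.FinEt
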