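import Mathlib

/-!
# Elements of an algebra étale over a polynomial ring are algebraic over it (for S0280)
-/

set_option autoImplicit false
set_option linter.style.haveILetI false
universe u

namespace Groth.Agent.Helper21.FinEt

open MvPolynomial TensorProduct

theorem exists_ne_zero_aeval_cons_eq_zero_of_etale {k : Type u} [Field k] {n : ℕ} {C : Type u}
    [CommRing C] [Algebra k C] (x : Fin n → C)
    (hx : (aeval x : MvPolynomial (Fin n) k →ₐ[k] C).toRingHom.Etale) (c : C) :
    ∃ f : MvPolynomial (Fin (n + 1)) k, f ≠ 0 ∧ aeval (Fin.cons c x : Fin (n + 1) → C) f = 0 := by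
  letI : Algebra (MvPolynomial (Fin n) k) C := (aeval x).toAlgebra
  haveI : IsScalarTower k (MvPolynomial (Fin n) k) C :=
    IsScalarTower.of_algebraMap_eq' (aeval x).comp_algebraMap.symm
  haveI : Algebra.Etale (MvPolynomial (Fin n) k) C := hx
  haveI : Module.Flat (MvPolynomial (Fin n) k) C := inferInstance
  haveI : Module.Finite (FractionRing (MvPolynomial (Fin n) k))
      (FractionRing (MvPolynomial (Fin n) k) ⊗[MvPolynomial (Fin n) k] C) :=
    Algebra.FormallyUnramified.finite_of_free _ _
  have hint : IsIntegral (FractionRing (MvPolynomial (Fin n) k))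
      ((1 : FractionRing (MvPolynomial (Fin n) k)) ⊗ₜ[MvPolynomial (Fin n) k] c) :=
    Algebra.IsIntegral.isIntegral _
  obtain ⟨q, hq, hq0⟩ := hint
  have hq'0 : IsLocalization.integerNormalization (nonZeroDivisors (MvPolynomial (Fin n) k)) q ≠ 0 :=
    fun h => hq.ne_zero (IsFractionRing.integerNormalization_eq_zero_iff.1 h)
  have h1 : Polynomial.aeval
      ((1 : FractionRing (MvPolynomial (Fin n) k)) ⊗ₜ[MvPolynomial (Fin n) k] c)
      (IsLocalization.integerNormalization (nonZeroDivisors (MvPolynomial (Fin n) k)) q) = 0 :=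
    IsLocalization.integerNormalization_aeval_eq_zero _ q hq0
  have hinj : Function.Injective (Algebra.TensorProduct.includeRight :
      C →ₐ[MvPolynomial (Fin n) k]
        FractionRing (MvPolynomial (Fin n) k) ⊗[MvPolynomial (Fin n) k] C) :=
    Algebra.TensorProduct.includeRight_injective
      (IsFractionRing.injective (MvPolynomial (Fin n) k)
        (FractionRing (MvPolynomial (Fin n) k)))
  have h3 : Polynomial.aeval c
      (IsLocalization.integerNormalization (nonZeroDivisors (MvPolynomial (Fin n) k)) q) = 0 := by
    apply hinj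
    rw [map_zero, ← Polynomial.aeval_algHom_apply]
    exact h1
  refine ⟨(finSuccEquiv k n).symm
    (IsLocalization.integerNormalization (nonZeroDivisors (MvPolynomial (Fin n) k)) q), ?_, ?_⟩
  · simpa using hq'0
  · have key : (aeval (Fin.cons c x : Fin (n + 1) → C) : MvPolynomial (Fin (n + 1)) k →ₐ[k] C) =
        ((Polynomial.aeval c : Polynomial (MvPolynomial (Fin n) k) →ₐ[MvPolynomial (Fin n) k]
          C).restrictScalars k).comp ((finSuccEquiv k n : MvPolynomial (Fin (n + 1)) k ≃ₐ[k]
            Polynomial (MvPolynomial (Fin n) k)) : MvPolynomial (Fin (n + 1)) k →ₐ[k]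
            Polynomial (MvPolynomial (Fin n) k)) := by
      apply MvPolynomial.algHom_ext
      intro i
      refine Fin.cases ?_ (fun j => ?_) i
      · rw [aeval_X, Fin.cons_zero]
        show c = Polynomial.aeval c (finSuccEquiv k n (X 0))
        rw [finSuccEquiv_X_zero, Polynomial.aeval_X]
      · rw [aeval_X, Fin.cons_succ]
        show x j = Polynomial.aeval c (finSuccEquiv k n (X j.succ))
        rw [finSuccEquiv_X_succ, Polynomial.aeval_C]
        show x j = (aeval x : MvPolynomial (Fin n) k →ₐ[k] C) (X j)
        rw [aeval_X]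
    rw [key]
    show Polynomial.aeval c (finSuccEquiv k n ((finSuccEquiv k n).symm _)) = 0
    rw [AlgEquiv.apply_symm_apply]
    exact h3

end Groth.Agent.Helper21.FinEt
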