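import Mathlib
import Groth.Agent.Lib.Helper21.FinEt2
import Groth.Agent.Lib.Helper21.FinEt3
import Groth.Agent.Lib.Helper21.FinEt4

/-!
# S0280: an algebra étale over `k[T_1..T_n]`, `char k = p > 0`, is finite étale over `k[T_1..T_n]`
via another map.
-/

set_option autoImplicit false
universe u

namespace Groth.Agent.Helper21.FinEt

open MvPolynomial

theorem main0280 (k : Type u) [Field k] (p : ℕ) [Fact p.Prime] [CharP k p] (n : ℕ) (C : Type u)
    [CommRing C] [Algebra (MvPolynomial (Fin n) k) C] [Algebra k C]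
    [IsScalarTower k (MvPolynomial (Fin n) k) C] [Algebra.Etale (MvPolynomial (Fin n) k) C] :
    ∃ φ : MvPolynomial (Fin n) k →ₐ[k] C, φ.toRingHom.Finite ∧ φ.toRingHom.Etale :=
  main p
    (fun f hf => by
      obtain ⟨r, hr⟩ := exists_exponents_isIntegralElem f hf
      exact ⟨r, fun c₀ x h => hr C c₀ x h⟩)
    (fun x hx c => exists_ne_zero_aeval_cons_eq_zero_of_etale x hx c)

end Groth.Agent.Helper21.FinEt
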