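import Mathlib
import Groth.Agent.Lib.Helper18.Tor.Low
import Groth.Agent.Lib.Helper21.TorKos

/-!
# Regular sequences and vanishing of `Tor_i(A/(xs), N)` over a Noetherian local ring
-/

set_option autoImplicit false
universe u
open CategoryTheory CategoryTheory.Limits MonoidalCategory TensorProduct Pointwise
open RingTheory.Sequence

namespace Groth.Agent.Helper21.TRS

open Groth.Agent.Helper18.TorLib

variable {A : Type u} [CommRing A]

/-- finite generation of `Tor` over a Noetherian ring -/
theorem finite_tor [IsNoetherianRing A] (N : Type u) [AddCommGroup N] [Module A N]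
    [Module.Finite A N] :
    ∀ (i : ℕ) (L : Type u) [AddCommGroup L] [Module A L] [Module.Finite A L],
      Module.Finite A
        (((Tor (ModuleCat.{u} A) i).obj (ModuleCat.of A L)).obj (ModuleCat.of A N)) := by
  intro i
  induction i with
  | zero =>
    intro L _ _ _
    have e := (tor0Iso (ModuleCat.of A L) (ModuleCat.of A N)).toLinearEquiv
    have hfin : Module.Finite A (↑(ModuleCat.of A L ⊗ ModuleCat.of A N)) :=
      inferInstanceAs (Module.Finite A (L ⊗[A] N))
    exact Module.Finite.equiv e.symm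
  | succ i ih =>
    intro L _ _ _
    obtain ⟨r, f, hf⟩ := Module.Finite.exists_fin' A L
    let K : Submodule A (Fin r → A) := LinearMap.ker f
    let S : ShortComplex (ModuleCat.{u} A) :=
      ModuleCat.shortComplexOfCompEqZero K.subtype f (LinearMap.ext fun x => x.2)
    have hS : S.ShortExact :=
      ModuleCat.shortComplex_shortExact S (LinearMap.exact_subtype_ker_map f)
        (Submodule.injective_subtype K) hf
    have : Module.Flat A S.X₂ := inferInstanceAs (Module.Flat A (Fin r → A))
    have hmono : Mono (torδ hS (ModuleCat.of A N) i) :=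
      (tor_exact₃ hS (ModuleCat.of A N) i).mono_g
        ((isZero_tor_succ_of_flat_left S.X₂ _ i).eq_of_src _ _)
    have hinj := (ModuleCat.mono_iff_injective _).mp hmono
    have hfin : Module.Finite A
        (((Tor (ModuleCat.{u} A) i).obj (ModuleCat.of A K)).obj (ModuleCat.of A N)) := ih K
    exact Module.Finite.of_injective (torδ hS (ModuleCat.of A N) i).hom hinj

theorem mono_smul_iff (T : ModuleCat.{u} A) (r : A) : Mono (r • 𝟙 T) ↔ IsSMulRegular T r := by
  rw [ModuleCat.mono_iff_injective]
  rfl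

/-- Nakayama -/
theorem isZero_of_smul_epi [IsLocalRing A] (T : ModuleCat.{u} A) [Module.Finite A T] (r : A)
    (hr : r ∈ IsLocalRing.maximalIdeal A) (h : Epi (r • 𝟙 T)) : IsZero T := by
  have hsurj := (ModuleCat.epi_iff_surjective _).mp h
  have htop : (⊤ : Submodule A T) ≤ Ideal.span {r} • (⊤ : Submodule A T) := by
    intro t _
    obtain ⟨t', ht'⟩ := hsurj t
    have h1 : t = r • t' := ht'.symm
    rw [h1]
    exact Submodule.smul_mem_smul (Ideal.subset_span rfl) Submodule.mem_top
  have hjac : Ideal.span {r} ≤ (⊥ : Ideal A).jacobson := by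
    rw [Ideal.span_singleton_le_iff_mem, IsLocalRing.jacobson_eq_maximalIdeal ⊥ bot_ne_top]
    exact hr
  have hbot := Submodule.eq_bot_of_le_smul_of_le_jacobson_bot (Ideal.span {r}) ⊤
    Module.Finite.fg_top htop hjac
  have hsub : Subsingleton T := by
    refine ⟨fun a b => ?_⟩
    have ha : a ∈ (⊥ : Submodule A T) := hbot ▸ Submodule.mem_top
    have hb : b ∈ (⊥ : Submodule A T) := hbot ▸ Submodule.mem_top
    rw [(Submodule.mem_bot A).mp ha, (Submodule.mem_bot A).mp hb]
  exact ModuleCat.isZero_of_subsingleton T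

variable (N : Type u) [AddCommGroup N] [Module A N]

/-- `Tor_0(A/(xs), N) ≃ N/(xs)N` -/
noncomputable def tor0Equiv (xs : List A) :
    (((Tor (ModuleCat.{u} A) 0).obj
      (ModuleCat.of A (A ⧸ (Ideal.ofList xs • ⊤ : Submodule A A)))).obj (ModuleCat.of A N))
      ≃ₗ[A] N ⧸ (Ideal.ofList xs • ⊤ : Submodule A N) :=
  (tor0Iso (ModuleCat.of A (A ⧸ (Ideal.ofList xs • ⊤ : Submodule A A)))
      (ModuleCat.of A N)).toLinearEquiv ≪≫ₗ
    ((TensorProduct.congr (Submodule.quotEquivOfEq (Ideal.ofList xs • ⊤ : Submodule A A)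
        (Ideal.ofList xs) (by rw [smul_eq_mul, Ideal.mul_top])) (LinearEquiv.refl A N)) ≪≫ₗ
      TensorProduct.quotTensorEquivQuotSMul N (Ideal.ofList xs))

/-- `(A/(xs))/r ≃ A/(xs ++ [r])` -/
noncomputable def stepEquiv (xs : List A) (r : A) :
    QuotSMulTop r (A ⧸ (Ideal.ofList xs • ⊤ : Submodule A A)) ≃ₗ[A]
      A ⧸ (Ideal.ofList (xs ++ [r]) • ⊤ : Submodule A A) :=
  (Submodule.quotOfListConsSMulTopEquivQuotSMulTopOuter A r xs).symm ≪≫ₗ
    Submodule.quotEquivOfEq _ _ (by
      rw [Ideal.ofList_cons, Ideal.ofList_append, Ideal.ofList_singleton, sup_comm])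

theorem main [IsNoetherianRing A] [IsLocalRing A] [Module.Finite A N] :
    ∀ xs : List A, IsWeaklyRegular A xs → (∀ x ∈ xs, x ∈ IsLocalRing.maximalIdeal A) →
      (IsWeaklyRegular N xs ↔ ∀ i, 1 ≤ i → IsZero (((Tor (ModuleCat.{u} A) i).obj
        (ModuleCat.of A (A ⧸ (Ideal.ofList xs • ⊤ : Submodule A A)))).obj (ModuleCat.of A N))) := by
  intro xs
  induction xs using List.reverseRecOn with
  | nil =>
    intro _ _
    refine iff_of_true (IsWeaklyRegular.nil A N) ?_
    intro i hi
    let e : (A ⧸ (Ideal.ofList ([] : List A) • ⊤ : Submodule A A)) ≃ₗ[A] A :=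
      Submodule.quotEquivOfEqBot _ (by rw [Ideal.ofList_nil, Submodule.bot_smul])
    have : Module.Flat A (A ⧸ (Ideal.ofList ([] : List A) • ⊤ : Submodule A A)) :=
      Module.Flat.of_linearEquiv e
    obtain ⟨k, rfl⟩ : ∃ k, i = k + 1 := ⟨i - 1, by omega⟩
    exact isZero_tor_succ_of_flat_left _ _ k
  | append_singleton xs r ih =>
    intro hreg hmem
    have hreg' := (isWeaklyRegular_append_iff A xs [r]).mp hreg
    have hr : r ∈ IsLocalRing.maximalIdeal A := hmem r (by simp)
    have ih' := ih hreg'.1 (fun x hx => hmem x (List.mem_append_left _ hx))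
    have hrQ : IsSMulRegular (A ⧸ (Ideal.ofList xs • ⊤ : Submodule A A)) r :=
      (isWeaklyRegular_singleton_iff _ r).mp hreg'.2
    let L₀ : ModuleCat.{u} A := ModuleCat.of A (A ⧸ (Ideal.ofList xs • ⊤ : Submodule A A))
    let NN : ModuleCat.{u} A := ModuleCat.of A N
    have hS : (ModuleCat.smulShortComplex L₀ r).ShortExact := hrQ.smulShortComplex_shortExact
    have E := fun i => ((Tor (ModuleCat.{u} A) i).mapIso (stepEquiv xs r).toModuleIso).app NN
    have hf : ∀ i, ((Tor (ModuleCat.{u} A) i).map (ModuleCat.smulShortComplex L₀ r).f).app NN =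
        r • 𝟙 _ := fun i => Groth.Agent.Helper21.TK.tor_map_smul NN L₀ r i
    have hreg0 : IsSMulRegular (N ⧸ (Ideal.ofList xs • ⊤ : Submodule A N)) r ↔
        Mono (r • 𝟙 (((Tor (ModuleCat.{u} A) 0).obj L₀).obj NN)) := by
      rw [mono_smul_iff]
      exact ((tor0Equiv N xs).isSMulRegular_congr r).symm
    rw [isWeaklyRegular_append_iff N xs [r], isWeaklyRegular_singleton_iff]
    constructor
    · rintro ⟨h1, h2⟩
      have hT := ih'.mp h1
      intro i hi
      refine IsZero.of_iso ?_ (E i).symm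
      obtain ⟨k, rfl⟩ : ∃ k, i = k + 1 := ⟨i - 1, by omega⟩
      refine (tor_exact₃ hS NN k).isZero_of_both_zeros ((hT (k + 1) (by omega)).eq_of_src _ _) ?_
      by_cases hk : k = 0
      · subst hk
        have hmono : Mono (((Tor (ModuleCat.{u} A) 0).map
            (ModuleCat.smulShortComplex L₀ r).f).app NN) := by
          rw [hf 0]
          exact hreg0.mp h2
        have h0 := torδ_comp hS NN 0
        exact (cancel_mono (((Tor (ModuleCat.{u} A) 0).map
          (ModuleCat.smulShortComplex L₀ r).f).app NN)).mp (by rw [h0, zero_comp])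
      · exact (hT k (by omega)).eq_of_tgt _ _
    · intro hv
      have hv' : ∀ i, 1 ≤ i → IsZero (((Tor (ModuleCat.{u} A) i).obj
          (ModuleCat.smulShortComplex L₀ r).X₃).obj NN) :=
        fun i hi => IsZero.of_iso (hv i hi) (E i)
      have hT : ∀ i, 1 ≤ i → IsZero (((Tor (ModuleCat.{u} A) i).obj L₀).obj NN) := by
        intro i hi
        have hepi : Epi (((Tor (ModuleCat.{u} A) i).map
            (ModuleCat.smulShortComplex L₀ r).f).app NN) :=
          (tor_exact₂ hS NN i).epi_f ((hv' i hi).eq_of_tgt _ _)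
        rw [hf i] at hepi
        have hfin : Module.Finite A (((Tor (ModuleCat.{u} A) i).obj L₀).obj NN) :=
          finite_tor N i (A ⧸ (Ideal.ofList xs • ⊤ : Submodule A A))
        exact isZero_of_smul_epi _ r hr hepi
      refine ⟨ih'.mpr hT, hreg0.mpr ?_⟩
      have hmono : Mono (((Tor (ModuleCat.{u} A) 0).map
          (ModuleCat.smulShortComplex L₀ r).f).app NN) :=
        (tor_exact₁ hS NN 0).mono_g ((hv' 1 le_rfl).eq_of_src _ _)
      rw [hf 0] at hmono
      exact hmono

end Groth.Agent.Helper21.TRS
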