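import Mathlib
import Groth.Agent.Lib.Helper21.TorRegSeq
import Groth.Agent.Lib.Helper1.LocalCriterion

/-!
# Flatness and regular sequences (EGA 0_IV 15.1.21)
-/

set_option autoImplicit false

namespace Groth.Agent.Helper21.FRS

open TensorProduct Function CategoryTheory CategoryTheory.Limits RingTheory.Sequence
open Groth.Agent.Helper18.TorLib

universe u

section

variable {A : Type u} [CommRing A]

theorem rTensor_lsmul (M L : Type u) [AddCommGroup M] [Module A M] [AddCommGroup L] [Module A L]
    (x : A) (a : L ⊗[A] M) : LinearMap.rTensor M (LinearMap.lsmul A L x) a = x • a := by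
  induction a using TensorProduct.induction_on with
  | zero => simp
  | tmul l m => rw [LinearMap.rTensor_tmul, LinearMap.lsmul_apply, TensorProduct.smul_tmul']
  | add a b ha hb => rw [map_add, ha, hb, smul_add]

/-- flat modules preserve weakly regular sequences -/
theorem isWeaklyRegular_tensor_of_flat (M : Type u) [AddCommGroup M] [Module A M]
    [Module.Flat A M] :
    ∀ (rs : List A) (L : Type u) [AddCommGroup L] [Module A L], IsWeaklyRegular L rs →
      IsWeaklyRegular (L ⊗[A] M) rs := by
  intro rs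
  induction rs with
  | nil =>
    intro L _ _ _
    exact IsWeaklyRegular.nil A _
  | cons x rs ih =>
    intro L _ _ h
    rw [isWeaklyRegular_cons_iff] at h ⊢
    refine ⟨?_, ?_⟩
    · have h0 : Injective (LinearMap.lsmul A L x) := h.1
      have h1 : Injective (LinearMap.rTensor M (LinearMap.lsmul A L x)) :=
        Module.Flat.rTensor_preserves_injective_linearMap _ h0
      intro a b hab
      apply h1
      rw [rTensor_lsmul, rTensor_lsmul]
      exact hab
    · exact (LinearEquiv.isWeaklyRegular_congr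
        (QuotSMulTop.quotSMulTopTensorEquivQuotSMulTop x M L) rs).1 (ih _ h.2)

theorem isWeaklyRegular_of_flat (M : Type u) [AddCommGroup M] [Module A M] [Module.Flat A M]
    (rs : List A) (h : IsWeaklyRegular A rs) : IsWeaklyRegular M rs :=
  (LinearEquiv.isWeaklyRegular_congr (TensorProduct.lid A M) rs).1
    (isWeaklyRegular_tensor_of_flat M rs A h)

/-- a sequence regular on `A` and on `N` kills the higher `Tor_i(A/(xs), N)`. -/
theorem isZero_tor_of_isWeaklyRegular (N : Type u) [AddCommGroup N] [Module A N] :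
    ∀ xs : List A, IsWeaklyRegular A xs → IsWeaklyRegular N xs →
      ∀ i, 1 ≤ i → IsZero (((Tor (ModuleCat.{u} A) i).obj
        (ModuleCat.of A (A ⧸ (Ideal.ofList xs • ⊤ : Submodule A A)))).obj (ModuleCat.of A N)) := by
  intro xs
  induction xs using List.reverseRecOn with
  | nil =>
    intro _ _ i hi
    let e : (A ⧸ (Ideal.ofList ([] : List A) • ⊤ : Submodule A A)) ≃ₗ[A] A :=
      Submodule.quotEquivOfEqBot _ (by rw [Ideal.ofList_nil, Submodule.bot_smul])
    have : Module.Flat A (A ⧸ (Ideal.ofList ([] : List A) • ⊤ : Submodule A A)) :=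
      Module.Flat.of_linearEquiv e
    obtain ⟨k, rfl⟩ : ∃ k, i = k + 1 := ⟨i - 1, by omega⟩
    exact isZero_tor_succ_of_flat_left _ _ k
  | append_singleton xs r ih =>
    intro hreg hregN
    have hreg' := (isWeaklyRegular_append_iff A xs [r]).mp hreg
    have hregN' := (isWeaklyRegular_append_iff N xs [r]).mp hregN
    have hT := ih hreg'.1 hregN'.1
    have hrQ : IsSMulRegular (A ⧸ (Ideal.ofList xs • ⊤ : Submodule A A)) r :=
      (isWeaklyRegular_singleton_iff _ r).mp hreg'.2
    have h2 : IsSMulRegular (N ⧸ (Ideal.ofList xs • ⊤ : Submodule A N)) r :=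
      (isWeaklyRegular_singleton_iff _ r).mp hregN'.2
    let L₀ : ModuleCat.{u} A := ModuleCat.of A (A ⧸ (Ideal.ofList xs • ⊤ : Submodule A A))
    let NN : ModuleCat.{u} A := ModuleCat.of A N
    have hS : (ModuleCat.smulShortComplex L₀ r).ShortExact := hrQ.smulShortComplex_shortExact
    have E := fun i => ((Tor (ModuleCat.{u} A) i).mapIso
      (Groth.Agent.Helper21.TRS.stepEquiv xs r).toModuleIso).app NN
    have hf : ∀ i, ((Tor (ModuleCat.{u} A) i).map (ModuleCat.smulShortComplex L₀ r).f).app NN =
        r • 𝟙 _ := fun i => Groth.Agent.Helper21.TK.tor_map_smul NN L₀ r i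
    have hreg0 : IsSMulRegular (N ⧸ (Ideal.ofList xs • ⊤ : Submodule A N)) r ↔
        Mono (r • 𝟙 (((Tor (ModuleCat.{u} A) 0).obj L₀).obj NN)) := by
      rw [Groth.Agent.Helper21.TRS.mono_smul_iff]
      exact ((Groth.Agent.Helper21.TRS.tor0Equiv N xs).isSMulRegular_congr r).symm
    intro i hi
    refine IsZero.of_iso ?_ (E i).symm
    obtain ⟨k, rfl⟩ : ∃ k, i = k + 1 := ⟨i - 1, by omega⟩
    refine (tor_exact₃ hS NN k).isZero_of_both_zeros ((hT (k + 1) (by omega)).eq_of_src _ _) ?_
    by_cases hk : k = 0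
    · subst hk
      have hmono : Mono (((Tor (ModuleCat.{u} A) 0).map
          (ModuleCat.smulShortComplex L₀ r).f).app NN) := by
        rw [hf 0]
        exact hreg0.mp h2
      have h0 := torδ_comp hS NN 0
      exact (cancel_mono (((Tor (ModuleCat.{u} A) 0).map
        (ModuleCat.smulShortComplex L₀ r).f).app NN)).mp (by rw [h0, zero_comp])
    · exact (hT k (by omega)).eq_of_tgt _ _

/-- `J ⊗ N → N` is injective for `J` generated by a sequence regular on `A` and `N`. -/
theorem rTensor_subtype_injective (N : Type u) [AddCommGroup N] [Module A N] (xs : List A)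
    (hA : IsWeaklyRegular A xs) (hN : IsWeaklyRegular N xs) :
    Injective ((Ideal.ofList xs).subtype.rTensor N) := by
  have hz := isZero_tor_of_isWeaklyRegular N xs hA hN 1 le_rfl
  have hJ : (Ideal.ofList xs • ⊤ : Submodule A A) = Ideal.ofList xs := by
    rw [smul_eq_mul, Ideal.mul_top]
  have hex : Function.Exact (Ideal.ofList xs).subtype
      (Ideal.ofList xs • ⊤ : Submodule A A).mkQ := by
    rw [LinearMap.exact_iff, Submodule.ker_mkQ, Submodule.range_subtype, hJ]
  exact (isZero_tor_one_iff_injective (Ideal.ofList xs).subtype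
    (Ideal.ofList xs • ⊤ : Submodule A A).mkQ (Ideal.ofList xs).injective_subtype hex
    (Submodule.mkQ_surjective _)).1 hz

/-- `(A/J) ⊗ M ≃ M/JM`, linearly over `A/J`. -/
noncomputable def quotEquiv (J : Ideal A) (M : Type u) [AddCommGroup M] [Module A M] :
    ((A ⧸ J) ⊗[A] M) ≃ₗ[A ⧸ J] (M ⧸ (J • ⊤ : Submodule A M)) :=
  (TensorProduct.quotTensorEquivQuotSMul M J).extendScalarsOfSurjective
    Ideal.Quotient.mk_surjective

end

theorem flat_iff (A B : Type u) [CommRing A] [CommRing B]
    [IsLocalRing A] [IsLocalRing B] [IsNoetherianRing A] [IsNoetherianRing B] [Algebra A B]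
    [IsLocalHom (algebraMap A B)] (M : Type u) [AddCommGroup M] [Module B M] [Module A M]
    [IsScalarTower A B M] [Module.Finite B M] (fs : List A)
    (hfs : ∀ f ∈ fs, f ∈ IsLocalRing.maximalIdeal A)
    (hA : IsWeaklyRegular A fs) :
    Module.Flat A M ↔
      Module.Flat (A ⧸ Ideal.ofList fs) (M ⧸ (Ideal.ofList fs • (⊤ : Submodule A M))) ∧
        IsWeaklyRegular M fs := by
  constructor
  · intro h
    exact ⟨Module.Flat.of_linearEquiv (quotEquiv (Ideal.ofList fs) M).symm,
      isWeaklyRegular_of_flat M fs hA⟩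
  · rintro ⟨h1, h2⟩
    have H2 : Module.Flat (A ⧸ Ideal.ofList fs) ((A ⧸ Ideal.ofList fs) ⊗[A] M) :=
      Module.Flat.of_linearEquiv (quotEquiv (Ideal.ofList fs) M)
    have H1 := rTensor_subtype_injective M fs hA h2
    have hJm : Ideal.ofList fs ≤ IsLocalRing.maximalIdeal A :=
      Ideal.span_le.2 (fun x hx => hfs x hx)
    have hJB : (Ideal.ofList fs).map (algebraMap A B) ≤ Ideal.jacobson ⊥ := by
      rw [IsLocalRing.jacobson_eq_maximalIdeal ⊥ bot_ne_top]
      exact (Ideal.map_mono hJm).trans
        (((IsLocalRing.local_hom_TFAE (algebraMap A B)).out 0 2).1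
          (inferInstance : IsLocalHom (algebraMap A B)))
    exact Groth.Agent.Helper1.flat_of_flat_quotient_pow (R := A) (S := B) (M := M)
      (Ideal.ofList fs) hJB (fun n _ => Groth.Agent.Helper1.flat_quotient_pow (Ideal.ofList fs) H1 n)

end Groth.Agent.Helper21.FRS
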