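import Mathlib
import Groth.Agent.Lib.Helper21.FlatRegSeq2
import Groth.Agent.Lib.Helper1.LocalCriterion

/-!
# EGA 0_IV 15.1.18-type statement: the submodule generated by a fibrewise regular sequence
-/

set_option autoImplicit false

namespace Groth.Agent.Helper21.FRS3

open TensorProduct Function RingTheory.Sequence Pointwise

universe u

/-- if `M/R` is flat over `A` then `IM ∩ R = IR`. -/
theorem inf_le_smul (A B : Type u) [CommRing A] [CommRing B] [Algebra A B]
    (M : Type u) [AddCommGroup M] [Module B M] [Module A M] [IsScalarTower A B M]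
    (R : Submodule B M) (hR : Module.Flat A (M ⧸ R)) (I : Ideal A) :
    (I.map (algebraMap A B) • (⊤ : Submodule B M)) ⊓ R ≤ I.map (algebraMap A B) • R := by
  have hK : (I.map (algebraMap A B) • (⊤ : Submodule B M)).restrictScalars A =
      I • (⊤ : Submodule A M) := by
    rw [Ideal.smul_restrictScalars, Submodule.restrictScalars_top]
  let u : R →ₗ[A] M := R.subtype.restrictScalars A
  let g : M →ₗ[A] (M ⧸ R) := R.mkQ.restrictScalars A
  have hex : Function.Exact u g := by
    intro y
    constructor
    · intro hy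
      have hy' : y ∈ R := (Submodule.Quotient.mk_eq_zero R).1 hy
      exact ⟨⟨y, hy'⟩, rfl⟩
    · rintro ⟨w, rfl⟩
      exact (Submodule.Quotient.mk_eq_zero R).2 w.2
  have hinj : Injective (u.lTensor (A ⧸ I)) :=
    Groth.Agent.Helper1.lTensor_injective_of_exact_of_flat u g (Submodule.injective_subtype R)
      hex (Submodule.mkQ_surjective R) (A ⧸ I)
  have hmem := (Groth.Agent.Helper1.lTensor_quotient_injective_iff u I).1 hinj
  have hmap : ∀ w : R, w ∈ (I • (⊤ : Submodule A R)) → (w : M) ∈ I.map (algebraMap A B) • R := by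
    intro w hw
    refine Submodule.smul_induction_on hw ?_ ?_
    · intro a ha v _
      have h1 : ((a • v : R) : M) = algebraMap A B a • (v : M) := by
        rw [Submodule.coe_smul_of_tower, algebraMap_smul]
      rw [h1]
      exact Submodule.smul_mem_smul (Ideal.mem_map_of_mem _ ha) v.2
    · intro v w hv hw
      rw [Submodule.coe_add]
      exact Submodule.add_mem _ hv hw
  rintro z ⟨hz1, hz2⟩
  have hz1' : z ∈ (I.map (algebraMap A B) • (⊤ : Submodule B M)).restrictScalars A := hz1
  rw [hK] at hz1'
  exact hmap ⟨z, hz2⟩ (hmem ⟨z, hz2⟩ hz1')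

theorem main (A B : Type u) [CommRing A] [CommRing B] [IsLocalRing A]
    [IsLocalRing B] [IsNoetherianRing B] [Algebra A B] [IsLocalHom (algebraMap A B)]
    (M : Type u) [AddCommGroup M] [Module B M] [Module A M] [IsScalarTower A B M] [Module.Finite B M]
    [Module.Flat A M] (R : Submodule B M) (hR : Module.Flat A (M ⧸ R)) (fs : List B)
    (h1 : Ideal.ofList fs • (⊤ : Submodule B M) ≤ R)
    (h2 : IsWeaklyRegular
      (M ⧸ ((IsLocalRing.maximalIdeal A).map (algebraMap A B) • (⊤ : Submodule B M))) fs)
    (h3 : Ideal.ofList fs • (⊤ : Submodule B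
        (M ⧸ ((IsLocalRing.maximalIdeal A).map (algebraMap A B) • (⊤ : Submodule B M)))) =
      R.map ((IsLocalRing.maximalIdeal A).map (algebraMap A B) • (⊤ : Submodule B M)).mkQ) :
    IsWeaklyRegular M fs ∧ R = Ideal.ofList fs • (⊤ : Submodule B M) := by
  refine ⟨(Groth.Agent.Helper21.FRS2.aux A B fs M h2).1, le_antisymm ?_ h1⟩
  have hmB : (IsLocalRing.maximalIdeal A).map (algebraMap A B) ≤ Ideal.jacobson ⊥ := by
    rw [IsLocalRing.jacobson_eq_maximalIdeal ⊥ bot_ne_top]
    exact ((IsLocalRing.local_hom_TFAE (algebraMap A B)).out 0 2).1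
      (inferInstance : IsLocalHom (algebraMap A B))
  have hfg : R.FG := IsNoetherian.noetherian R
  refine Submodule.le_of_le_smul_of_le_jacobson_bot hfg hmB ?_
  intro x hx
  have hxm : ((IsLocalRing.maximalIdeal A).map (algebraMap A B) • (⊤ : Submodule B M)).mkQ x ∈
      R.map ((IsLocalRing.maximalIdeal A).map (algebraMap A B) • (⊤ : Submodule B M)).mkQ :=
    Submodule.mem_map_of_mem hx
  rw [← h3] at hxm
  have himg : Ideal.ofList fs • (⊤ : Submodule B
        (M ⧸ ((IsLocalRing.maximalIdeal A).map (algebraMap A B) • (⊤ : Submodule B M)))) =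
      (Ideal.ofList fs • (⊤ : Submodule B M)).map
        ((IsLocalRing.maximalIdeal A).map (algebraMap A B) • (⊤ : Submodule B M)).mkQ := by
    rw [Submodule.map_smul'', Submodule.map_top, Submodule.range_mkQ]
  rw [himg] at hxm
  obtain ⟨y, hy, hyx⟩ := hxm
  have hz : x - y ∈ ((IsLocalRing.maximalIdeal A).map (algebraMap A B) • (⊤ : Submodule B M)) := by
    rw [← Submodule.ker_mkQ ((IsLocalRing.maximalIdeal A).map (algebraMap A B) •
      (⊤ : Submodule B M)), LinearMap.mem_ker, map_sub, hyx, sub_self]
  have hzR : x - y ∈ R := R.sub_mem hx (h1 hy)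
  have hz' := inf_le_smul A B M R hR (IsLocalRing.maximalIdeal A) ⟨hz, hzR⟩
  have hxe : x = y + (x - y) := by abel
  rw [hxe]
  exact Submodule.add_mem_sup hy hz'

end Groth.Agent.Helper21.FRS3
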