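import Mathlib
import Groth.Agent.Lib.Helper1.LocalCriterion

/-!
# Flatness over a `ℤ/p²`-flat ring: `B` is flat iff `ker(p) = pB` (given flatness mod `p`)
-/

set_option autoImplicit false

namespace Groth.Agent.Helper21.FSP

open TensorProduct Function

universe u v

/-- a single relation `r • x = 0` in a flat module is trivial. -/
theorem exists_of_smul_eq_zero {R : Type u} {M : Type v} [CommRing R] [AddCommGroup M] [Module R M]
    [Module.Flat R M] (r : R) (x : M) (h : r • x = 0) :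
    ∃ (k : ℕ) (a : Fin k → R) (y : Fin k → M), x = ∑ j, a j • y j ∧ ∀ j, r * a j = 0 := by
  have h1 : ∑ i : Fin 1, (fun _ => r) i • (fun _ => x) i = 0 := by
    rw [Fin.sum_univ_one]
    exact h
  obtain ⟨k, a, y, h2, h3⟩ := Module.Flat.isTrivialRelation_of_sum_smul_eq_zero h1
  refine ⟨k, a 0, y, h2 0, fun j => ?_⟩
  have := h3 j
  rw [Fin.sum_univ_one] at this
  exact this

theorem zmod_sq (p : ℕ) [Fact p.Prime] (c : ZMod (p ^ 2)) (h : (p : ZMod (p ^ 2)) * c = 0) :
    ∃ d : ZMod (p ^ 2), c = (p : ZMod (p ^ 2)) * d := by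
  have hp : p.Prime := Fact.out
  have : NeZero (p ^ 2) := ⟨pow_ne_zero 2 hp.ne_zero⟩
  have hc : ((c.val : ℕ) : ZMod (p ^ 2)) = c := ZMod.natCast_zmod_val c
  rw [← hc, ← Nat.cast_mul, ZMod.natCast_eq_zero_iff] at h
  have h' : p * p ∣ p * c.val := dvd_trans (dvd_of_eq (pow_two p).symm) h
  obtain ⟨d, hd⟩ := Nat.dvd_of_mul_dvd_mul_left hp.pos h'
  refine ⟨(d : ZMod (p ^ 2)), ?_⟩
  rw [← hc, hd, Nat.cast_mul]

/-- in a ring flat over `ℤ/p²`, the annihilator of `p` is `(p)`. -/
theorem mem_span_of_mul_eq_zero (p : ℕ) [Fact p.Prime] (A : Type u) [CommRing A]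
    [Algebra (ZMod (p ^ 2)) A] [Module.Flat (ZMod (p ^ 2)) A] (a : A) (h : (p : A) * a = 0) :
    ∃ a' : A, a = (p : A) * a' := by
  have h1 : (p : ZMod (p ^ 2)) • a = 0 := by
    rw [Algebra.smul_def, map_natCast]
    exact h
  obtain ⟨k, c, z, h2, h3⟩ := exists_of_smul_eq_zero (p : ZMod (p ^ 2)) a h1
  choose d hd using fun j => zmod_sq p (c j) (h3 j)
  refine ⟨∑ j, d j • z j, ?_⟩
  rw [h2, Finset.mul_sum]
  refine Finset.sum_congr rfl (fun j _ => ?_)
  rw [hd j, mul_smul, Algebra.smul_def (p : ZMod (p ^ 2)), map_natCast]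

theorem sq_eq_zero (p : ℕ) (A : Type u) [CommRing A] [Algebra (ZMod (p ^ 2)) A] :
    (p : A) * (p : A) = 0 := by
  have h1 : ((p ^ 2 : ℕ) : ZMod (p ^ 2)) = 0 := ZMod.natCast_self _
  have h2 := congrArg (algebraMap (ZMod (p ^ 2)) A) h1
  rw [map_natCast, map_zero, Nat.cast_pow, pow_two] at h2
  exact h2

theorem forward (p : ℕ) [Fact p.Prime] (A : Type u) [CommRing A]
    [Algebra (ZMod (p ^ 2)) A] [Module.Flat (ZMod (p ^ 2)) A] (B : Type u) [CommRing B] [Algebra A B]
    [Module.Flat A B] (b : B) (h : (p : B) * b = 0) : b ∈ Ideal.span {(p : B)} := by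
  have h1 : (p : A) • b = 0 := by
    rw [Algebra.smul_def, map_natCast]
    exact h
  obtain ⟨k, a, y, h2, h3⟩ := exists_of_smul_eq_zero (p : A) b h1
  choose a' ha' using fun j => mem_span_of_mul_eq_zero p A (a j) (h3 j)
  rw [Ideal.mem_span_singleton']
  refine ⟨∑ j, a' j • y j, ?_⟩
  rw [h2, Finset.sum_mul]
  refine Finset.sum_congr rfl (fun j _ => ?_)
  rw [ha' j, mul_smul, Algebra.smul_def (p : A), map_natCast, mul_comm]

theorem backward (p : ℕ) (A : Type u) [CommRing A]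
    [Algebra (ZMod (p ^ 2)) A] (B : Type u) [CommRing B] [Algebra A B]
    (hB : Module.Flat (A ⧸ Ideal.span {(p : A)})
      (B ⧸ (Ideal.span {(p : A)}).map (algebraMap A B)))
    (h : ∀ b : B, (p : B) * b = 0 → b ∈ Ideal.span {(p : B)}) : Module.Flat A B := by
  have hsq := sq_eq_zero p A
  have hI : IsNilpotent (Ideal.span {(p : A)}) := by
    refine ⟨2, ?_⟩
    rw [Ideal.span_singleton_pow, pow_two, hsq]
    exact Ideal.span_singleton_eq_bot.2 rfl
  have hpm : (p : A) ∈ Ideal.span {(p : A)} := Ideal.subset_span rfl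
  have hrep : ∀ z : (Ideal.span {(p : A)} : Ideal A) ⊗[A] B,
      ∃ b : B, z = (⟨(p : A), hpm⟩ : (Ideal.span {(p : A)} : Ideal A)) ⊗ₜ[A] b := by
    intro z
    induction z using TensorProduct.induction_on with
    | zero => exact ⟨0, (TensorProduct.tmul_zero _ _).symm⟩
    | tmul x b =>
      obtain ⟨a, ha⟩ := Ideal.mem_span_singleton'.1 x.2
      refine ⟨a • b, ?_⟩
      have hx : x = a • (⟨(p : A), hpm⟩ : (Ideal.span {(p : A)} : Ideal A)) := by
        apply Subtype.ext
        rw [Submodule.coe_smul, smul_eq_mul]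
        exact ha.symm
      rw [hx, TensorProduct.smul_tmul]
    | add x y hx hy =>
      obtain ⟨b1, rfl⟩ := hx
      obtain ⟨b2, rfl⟩ := hy
      exact ⟨b1 + b2, (TensorProduct.tmul_add _ _ _).symm⟩
  have H1 : Injective ((Ideal.span {(p : A)}).subtype.rTensor B) := by
    rw [injective_iff_map_eq_zero]
    intro z hz
    obtain ⟨b, rfl⟩ := hrep z
    rw [LinearMap.rTensor_tmul, Submodule.subtype_apply] at hz
    have h2 := congrArg (TensorProduct.lid A B) hz
    rw [TensorProduct.lid_tmul, map_zero, Algebra.smul_def, map_natCast] at h2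
    obtain ⟨c, hc⟩ := Ideal.mem_span_singleton'.1 (h b h2)
    have h3 : b = (p : A) • c := by
      rw [Algebra.smul_def, map_natCast, mul_comm]
      exact hc.symm
    rw [h3, ← TensorProduct.smul_tmul]
    have h4 : (p : A) • (⟨(p : A), hpm⟩ : (Ideal.span {(p : A)} : Ideal A)) = 0 := by
      apply Subtype.ext
      rw [Submodule.coe_smul, smul_eq_mul]
      exact hsq
    rw [h4, TensorProduct.zero_tmul]
  have H2 : Module.Flat (A ⧸ Ideal.span {(p : A)}) ((A ⧸ Ideal.span {(p : A)}) ⊗[A] B) :=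
    Module.Flat.of_linearEquiv
      (Algebra.TensorProduct.quotIdealMapEquivQuotTensor B (Ideal.span {(p : A)})).symm.toLinearEquiv
  exact Groth.Agent.Helper1.flat_of_isNilpotent (Ideal.span {(p : A)}) hI H1

end Groth.Agent.Helper21.FSP
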