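import Mathlib
import Groth.Agent.S2735
import Groth.Agent.S1482

/-!
# fppf covers are dominated, étale-locally on the base, by finite locally free covers

`main1379`: for `g : S₁ ⟶ S` fppf surjective and `s : S` there are an étale `e : S' ⟶ S` hitting `s`,
a finite flat finitely presented surjective `π : V ⟶ S'` and `r : V ⟶ S₁` with `r ≫ g = π ≫ e`.
(Quasi-finite flat refinement S2735 + étale-local splitting of quasi-finite points S1482.)
-/

set_option autoImplicit false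
set_option backward.isDefEq.respectTransparency false
set_option backward.isDefEq.respectTransparency.types false
universe u
open CategoryTheory CategoryTheory.Limits AlgebraicGeometry

namespace Groth.Agent.Helper21.FppfDom

theorem main1379 {S₁ S : Scheme.{u}} (g : S₁ ⟶ S) [Flat g] [LocallyOfFinitePresentation g]
    [Surjective g] (s : S) :
    ∃ (S' V : Scheme.{u}) (e : S' ⟶ S) (π : V ⟶ S'), Etale e ∧ s ∈ Set.range ⇑e ∧ Surjective π ∧
      IsFinite π ∧ Flat π ∧ LocallyOfFinitePresentation π ∧ ∃ r : V ⟶ S₁, r ≫ g = π ≫ e := by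
  obtain ⟨S₂, g₂, h, hh, hfl, hfp, hqf, hsurj, -⟩ := Groth.Agent.S2735.result g
  haveI := hfl; haveI := hfp; haveI := hqf; haveI := hsurj
  obtain ⟨x, hx⟩ := g₂.surjective s
  obtain ⟨U, e, u, hE, heu, J, hJ, V, v, hV, hinj, hall⟩ := Groth.Agent.S1482.result g₂ s
    (ι := Unit) (fun _ => x) (fun _ _ _ => Subsingleton.elim _ _) (fun _ => hx)
    (fun _ => g₂.quasiFiniteAt x)
  haveI := hE
  obtain ⟨w, hw1, hw2⟩ := Scheme.Pullback.exists_preimage_pullback (f := g₂) (g := e) x u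
    (hx.trans heu.symm)
  obtain ⟨j, hj⟩ := hall w () hw2 hw1
  obtain ⟨hvV, hfin, hvu, -, -, hvx⟩ := hV () j
  obtain ⟨φ, hφ⟩ : ∃ φ : (V () j : Scheme.{u}) ⟶ U, φ = (V () j).ι ≫ pullback.snd g₂ e := ⟨_, rfl⟩
  haveI : IsFinite φ := hφ ▸ hfin
  haveI : Flat φ := by rw [hφ]; infer_instance
  haveI : LocallyOfFinitePresentation φ := by rw [hφ]; infer_instance
  obtain ⟨U', hU'⟩ : ∃ U' : U.Opens, (U' : Set U) = Set.range φ.base :=
    ⟨⟨Set.range φ.base, φ.isOpenMap.isOpen_range⟩, rfl⟩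
  have huU' : u ∈ U' := by
    change u ∈ (U' : Set U)
    rw [hU']
    refine ⟨⟨v () j, hvV⟩, ?_⟩
    rw [hφ, Scheme.Hom.comp_apply]
    exact hvu
  refine ⟨U', (φ ⁻¹ᵁ U' : Scheme.{u}), U'.ι ≫ e, φ ∣_ U', inferInstance, ⟨⟨u, huU'⟩, ?_⟩, ?_, inferInstance,
    inferInstance, inferInstance, (φ ⁻¹ᵁ U').ι ≫ (V () j).ι ≫ pullback.fst g₂ e ≫ h, ?_⟩
  · rw [Scheme.Hom.comp_apply]
    exact heu
  · refine ⟨fun y => ?_⟩
    have hy2 : U'.ι y ∈ U' := by
      have := U'.ι.opensRange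
      have h2 : U'.ι y ∈ U'.ι.opensRange := ⟨y, rfl⟩
      rwa [Scheme.Opens.opensRange_ι] at h2
    have hy : U'.ι y ∈ Set.range φ.base := by
      rw [← hU']; exact hy2
    obtain ⟨z, hz⟩ := hy
    have hzU : z ∈ φ ⁻¹ᵁ U' := by
      change φ z ∈ U'
      rw [hz]; exact hy2
    refine ⟨⟨z, hzU⟩, ?_⟩
    apply U'.ι.isOpenEmbedding.injective
    have := congrArg (fun f => f ⟨z, hzU⟩) (morphismRestrict_ι φ U')
    simp only [Scheme.Hom.comp_apply] at this
    exact this.trans hz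
  · rw [Category.assoc, Category.assoc, Category.assoc, hh, pullback.condition,
      ← Category.assoc (V () j).ι, ← hφ, ← morphismRestrict_ι_assoc]

end Groth.Agent.Helper21.FppfDom
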