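import Mathlib
import Groth.Agent.Lib.Helper21.EtDom
import Groth.Agent.Lib.Helper21.FppfDom

/-!
# fppf coverings are refined by Zariski / finite locally free towers

* `surjective_morphismRestrict`: restriction of a surjective morphism over an open is surjective.
* `main1390'`: the finite free cover of S1390 after shrinking the base so that *every* point of the
  cover has a neighbourhood mapping to the étale neighbourhood.
* `main7198`: the four-step refinement of an fppf covering.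
-/

set_option autoImplicit false
set_option backward.isDefEq.respectTransparency false
set_option backward.isDefEq.respectTransparency.types false
universe w u
open CategoryTheory CategoryTheory.Limits AlgebraicGeometry

namespace Groth.Agent.Helper21.FppfTower

theorem mem_of_ι {X : Scheme.{u}} (U : X.Opens) (y : (U : Scheme.{u})) : U.ι y ∈ U := by
  have h2 : U.ι y ∈ U.ι.opensRange := ⟨y, rfl⟩
  rwa [Scheme.Opens.opensRange_ι] at h2

theorem exists_of_mem {X : Scheme.{u}} (U : X.Opens) {x : X} (hx : x ∈ U) :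
    ∃ y : (U : Scheme.{u}), U.ι y = x := by
  have h2 : x ∈ U.ι.opensRange := by rwa [Scheme.Opens.opensRange_ι]
  exact h2

instance surjective_morphismRestrict {X Y : Scheme.{u}} (f : X ⟶ Y) [Surjective f] (U : Y.Opens) :
    Surjective (f ∣_ U) := by
  refine ⟨fun y => ?_⟩
  obtain ⟨z, hz⟩ := f.surjective (U.ι y)
  have hzU : z ∈ f ⁻¹ᵁ U := by
    change f z ∈ U
    rw [hz]; exact mem_of_ι U y
  obtain ⟨z', hz'⟩ := exists_of_mem _ hzU
  refine ⟨z', ?_⟩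
  apply U.ι.isOpenEmbedding.injective
  have := congrArg (fun g => g z') (morphismRestrict_ι f U)
  simp only [Scheme.Hom.comp_apply] at this
  rw [this, hz', hz]

theorem main1390' {U S : Scheme.{u}} (e : U ⟶ S) [Etale e] (u : U) :
    ∃ (V : S.Opens) (T : Scheme.{u}) (π : T ⟶ (V : Scheme.{u})), e u ∈ V ∧ Surjective π ∧
      IsFinite π ∧ Flat π ∧ LocallyOfFinitePresentation π ∧
      ∀ t : T, ∃ (W : T.Opens) (h : (W : Scheme.{u}) ⟶ U), t ∈ W ∧ h ≫ e = W.ι ≫ π ≫ V.ι := by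
  obtain ⟨V₀, T₀, π₀, hsV, -, hsurj, hfin, hflat, hlfp, hloc⟩ :=
    Groth.Agent.Helper21.EtDom.main1390 e u (e u) rfl
  haveI := hsurj; haveI := hfin; haveI := hflat; haveI := hlfp
  -- the good locus
  let good : Set T₀ := {t | ∃ (W : T₀.Opens) (h : (W : Scheme.{u}) ⟶ U), t ∈ W ∧
    h ≫ e = W.ι ≫ π₀ ≫ V₀.ι}
  have hgood : IsOpen good := by
    rw [isOpen_iff_forall_mem_open]
    rintro t ⟨W, h, htW, hh⟩
    exact ⟨W, fun t' ht' => ⟨W, h, ht', hh⟩, W.isOpen, htW⟩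
  have hC : IsClosed (π₀.base '' goodᶜ) := π₀.isClosedMap _ hgood.isClosed_compl
  obtain ⟨s₀, hs₀⟩ := exists_of_mem V₀ hsV
  have hs₀C : s₀ ∉ π₀.base '' goodᶜ := by
    rintro ⟨t, htg, hts⟩
    apply htg
    obtain ⟨W, h, htW, hh, -⟩ := hloc t (by rw [show π₀ t = s₀ from hts]; exact hs₀)
    exact ⟨W, h, htW, hh⟩
  obtain ⟨V₁, hV₁⟩ : ∃ V₁ : (V₀ : Scheme.{u}).Opens, (V₁ : Set V₀) = (π₀.base '' goodᶜ)ᶜ :=
    ⟨⟨_, hC.isOpen_compl⟩, rfl⟩
  have hs₀V₁ : s₀ ∈ V₁ := by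
    change s₀ ∈ (V₁ : Set V₀)
    rw [hV₁]; exact hs₀C
  refine ⟨V₀.ι ''ᵁ V₁, (π₀ ⁻¹ᵁ V₁ : Scheme.{u}), (π₀ ∣_ V₁) ≫ (V₀.ι.isoImage V₁).hom, ?_,
    inferInstance, inferInstance, inferInstance, inferInstance, ?_⟩
  · rw [← hs₀]
    exact ⟨s₀, hs₀V₁, rfl⟩
  · intro t
    have ht₀ : π₀ ((π₀ ⁻¹ᵁ V₁).ι t) ∈ V₁ := mem_of_ι (π₀ ⁻¹ᵁ V₁) t
    have htg : (π₀ ⁻¹ᵁ V₁).ι t ∈ good := by
      by_contra hng
      have : π₀ ((π₀ ⁻¹ᵁ V₁).ι t) ∈ (V₁ : Set V₀) := ht₀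
      rw [hV₁] at this
      exact this ⟨_, hng, rfl⟩
    obtain ⟨W₀, h₀, htW₀, hh₀⟩ := htg
    refine ⟨(π₀ ⁻¹ᵁ V₁).ι ⁻¹ᵁ W₀, ((π₀ ⁻¹ᵁ V₁).ι ∣_ W₀) ≫ h₀, htW₀, ?_⟩
    rw [Category.assoc, hh₀, morphismRestrict_ι_assoc, Category.assoc, Scheme.Hom.isoImage_hom_ι,
      morphismRestrict_ι_assoc]

theorem main7198 {S : Scheme.{u}} (E : PreZeroHypercover.{w} S)
    (hflat : ∀ i, Flat (E.f i)) (hfp : ∀ i, LocallyOfFinitePresentation (E.f i))
    (hsurj : ∀ s : S, ∃ (i : E.I₀) (x : E.X i), E.f i x = s) (s : S) :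
    ∃ (U : S.Opens) (W : Scheme.{u}) (π : W ⟶ U.toScheme), s ∈ U ∧
      (IsFinite π ∧ Flat π ∧ LocallyOfFinitePresentation π) ∧ Surjective π ∧
      ∀ w : W, ∃ (W' : W.Opens) (T : Scheme.{u}) (ρ : T ⟶ W'.toScheme) (i : E.I₀)
        (r : T ⟶ E.X i), w ∈ W' ∧ (IsFinite ρ ∧ Flat ρ ∧ LocallyOfFinitePresentation ρ) ∧
        Surjective ρ ∧ r ≫ E.f i = ρ ≫ W'.ι ≫ π ≫ U.ι := by
  obtain ⟨i, x, hx⟩ := hsurj s
  haveI := hflat i
  haveI := hfp i
  obtain ⟨O, hO⟩ : ∃ O : S.Opens, (O : Set S) = Set.range (E.f i).base :=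
    ⟨⟨_, (E.f i).isOpenMap.isOpen_range⟩, rfl⟩
  have hsO : s ∈ O := by
    change s ∈ (O : Set S)
    rw [hO]; exact ⟨x, hx⟩
  haveI : Surjective ((E.f i) ∣_ O) := by
    refine ⟨fun y => ?_⟩
    have hy : O.ι y ∈ (O : Set S) := mem_of_ι O y
    rw [hO] at hy
    obtain ⟨z, hz⟩ := hy
    have hzU : z ∈ (E.f i) ⁻¹ᵁ O := by
      change (E.f i) z ∈ O
      rw [hz]; exact mem_of_ι O y
    obtain ⟨z', hz'⟩ := exists_of_mem _ hzU
    refine ⟨z', ?_⟩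
    apply O.ι.isOpenEmbedding.injective
    have := congrArg (fun g => g z') (morphismRestrict_ι (E.f i) O)
    simp only [Scheme.Hom.comp_apply] at this
    rw [this, hz', hz]
  obtain ⟨s', hs'⟩ := exists_of_mem O hsO
  obtain ⟨S', V, e, πV, hE, ⟨s'', hs''⟩, hVsurj, hVfin, hVflat, hVlfp, r, hr⟩ :=
    Groth.Agent.Helper21.FppfDom.main1379 ((E.f i) ∣_ O) s'
  haveI := hE; haveI := hVsurj; haveI := hVfin; haveI := hVflat; haveI := hVlfp
  obtain ⟨U, T₀, π₀, hsU, hπsurj, hπfin, hπflat, hπlfp, hloc⟩ := main1390' (e ≫ O.ι) s''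
  refine ⟨U, T₀, π₀, ?_, ⟨hπfin, hπflat, hπlfp⟩, hπsurj, ?_⟩
  · rw [Scheme.Hom.comp_apply, hs'', hs'] at hsU
    exact hsU
  · intro w
    obtain ⟨W', h, hwW', hh⟩ := hloc w
    refine ⟨W', pullback πV h, pullback.snd πV h, i,
      pullback.fst πV h ≫ r ≫ ((E.f i) ⁻¹ᵁ O).ι, hwW', ⟨inferInstance, inferInstance, inferInstance⟩,
      inferInstance, ?_⟩
    rw [Category.assoc, Category.assoc, ← morphismRestrict_ι, reassoc_of% hr,
      ← Category.assoc, ← Category.assoc, pullback.condition, Category.assoc, Category.assoc, hh]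

end Groth.Agent.Helper21.FppfTower
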