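import Mathlib
import Groth.Agent.Lib.Helper21.GQuot3

/-!
Quotients of schemes by finite groups: finiteness properties relative to a base.
-/

open AlgebraicGeometry CategoryTheory Limits

universe u

namespace Groth.Agent.Helper21.GQuot4

open Groth.Agent.Helper21.GQuot Groth.Agent.Helper21.GQuot3

/-- Artin–Tate at ring level in `RingHom` form. -/
theorem finiteType_of_comp {C A B : Type*} [CommRing C] [CommRing A] [CommRing B]
    [IsNoetherianRing C] (α : C →+* A) (β : A →+* B) (hβ : Function.Injective β)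
    (hint : β.IsIntegral) (hft : (β.comp α).FiniteType) : α.FiniteType := by
  letI : Algebra C A := α.toAlgebra
  letI : Algebra A B := β.toAlgebra
  letI : Algebra C B := (β.comp α).toAlgebra
  haveI : IsScalarTower C A B := IsScalarTower.of_algebraMap_eq' rfl
  haveI hCB : Algebra.FiniteType C B := hft
  haveI : Algebra.IsIntegral A B := ⟨hint⟩
  haveI : Algebra.FiniteType A B := Algebra.FiniteType.of_restrictScalars_finiteType C A B
  haveI : Module.Finite A B := Algebra.IsIntegral.finite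
  have h1 : (⊤ : Subalgebra C A).FG :=
    fg_of_fg_of_fg C A B hCB.out Module.Finite.fg_top hβ
  exact ⟨h1⟩

section

variable {X Y Z : Scheme.{u}} {G : Type u} [Group G] [Finite G] (ρ : G →* Aut X) (p : X ⟶ Y)

theorem isAffineHom_of_comp (hp : SGA1.IsQuot ρ p) (q : Y ⟶ Z) [IsAffineHom (p ≫ q)] :
    IsAffineHom q := by
  refine ⟨fun V hV => ?_⟩
  apply isAffineOpen_of_preimage ρ p hp
  exact hV.preimage (p ≫ q)

theorem isSeparated_of_comp' (hp : SGA1.IsQuot ρ p) (q : Y ⟶ Z) [IsSeparated (p ≫ q)] :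
    IsSeparated q := by
  haveI := GQuot.isIntegralHom ρ p hp
  haveI := GQuot.surjective ρ p hp
  exact isSeparated_of_comp p q

theorem isFinite_of_comp (hp : SGA1.IsQuot ρ p) (q : Y ⟶ Z) [LocallyOfFiniteType (p ≫ q)] :
    IsFinite p := by
  haveI := GQuot.isIntegralHom ρ p hp
  haveI : LocallyOfFiniteType p := locallyOfFiniteType_of_comp p q
  exact (IsFinite.iff_isIntegralHom_and_locallyOfFiniteType p).mpr ⟨inferInstance, inferInstance⟩

theorem quasiCompact_of_comp (hp : SGA1.IsQuot ρ p) (q : Y ⟶ Z) [QuasiCompact (p ≫ q)] :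
    QuasiCompact q := by
  have hs := (GQuot.surjective ρ p hp).surj
  refine ⟨fun U hU hUc => ?_⟩
  have h1 : q.base ⁻¹' U = p.base '' ((p ≫ q).base ⁻¹' U) := by
    ext y
    constructor
    · intro hy
      obtain ⟨x, rfl⟩ := hs y
      exact ⟨x, hy, rfl⟩
    · rintro ⟨x, hx, rfl⟩
      exact hx
  rw [h1]
  exact (QuasiCompact.isCompact_preimage (f := p ≫ q) U hU hUc).image p.continuous

theorem locallyOfFiniteType_of_comp' (hp : SGA1.IsQuot ρ p) (q : Y ⟶ Z) [IsLocallyNoetherian Z]
    [LocallyOfFiniteType (p ≫ q)] : LocallyOfFiniteType q := by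
  rw [HasRingHomProperty.iff_appLE (P := @LocallyOfFiniteType)]
  intro V W e
  haveI := hp.affine
  have hU : IsAffineOpen (p ⁻¹ᵁ W.1) := W.2.preimage p
  have hf := HasRingHomProperty.appLE (P := @LocallyOfFiniteType) (p ≫ q) inferInstance V
    ⟨p ⁻¹ᵁ W.1, hU⟩ (fun x hx => e hx)
  haveI : IsNoetherianRing Γ(Z, V.1) := IsLocallyNoetherian.component_noetherian V
  have hcomp : (p ≫ q).appLE V.1 (p ⁻¹ᵁ W.1) (fun x hx => e hx) =
      q.appLE V.1 W.1 e ≫ p.app W.1 := by
    rw [p.app_eq_appLE, Scheme.Hom.appLE_comp_appLE]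
  rw [hcomp] at hf
  exact finiteType_of_comp (q.appLE V.1 W.1 e).hom (p.app W.1).hom (hp.injective W.1)
    (GQuot.ring_facts ρ p hp W.1).1 hf

end

end Groth.Agent.Helper21.GQuot4
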