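import Mathlib
import Groth.Agent.Lib.Helper21.GQuot4
import Groth.Agent.Lib.Helper21.GQuot6
import Groth.Agent.Lib.Helper21.DescMor

/-!
Quotients of schemes by finite groups in two steps.
-/

open AlgebraicGeometry CategoryTheory Limits

universe u

namespace Groth.Agent.Helper21.GQuot11

open Groth.Agent.Helper21.GQuot Groth.Agent.Helper21.GQuot3 Groth.Agent.Helper21.GQuot4
  Groth.Agent.Helper21.GQuot6

theorem comm_aux {X W : Scheme.{u}} (pH : X ⟶ W) (a : X ⟶ X) (b : W ⟶ W)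
    (hab : pH ≫ b = a ≫ pH) (V : W.Opens) (O : X.Opens) (hO : O ≤ pH ⁻¹ᵁ V)
    (ha : O ≤ a ⁻¹ᵁ O) (hb : V ≤ b ⁻¹ᵁ V) (s : Γ(W, V)) :
    (a.appLE O O ha).hom ((pH.appLE V O hO).hom s) =
      (pH.appLE V O hO).hom ((b.appLE V V hb).hom s) := by
  have h1 : pH.appLE V O hO ≫ a.appLE O O ha = b.appLE V V hb ≫ pH.appLE V O hO := by
    rw [Scheme.Hom.appLE_comp_appLE, Scheme.Hom.appLE_comp_appLE, appLE_congr_hom hab]
  exact congrArg (fun m => m.hom s) h1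

theorem hrel {X W Z : Scheme.{u}} {G Q : Type u} [Group G] [Group Q] (ρ : G →* Aut X)
    (pH : X ⟶ W) (r : W ⟶ Z) (ρbar : Q →* Aut W)
    (hinvG : ∀ g : G, (ρ g).hom ≫ pH ≫ r = pH ≫ r) (hinvQ : ∀ q, (ρbar q).hom ≫ r = r)
    (g : G) (q : Q) (hgq : pH ≫ (ρbar q).hom = (ρ g).hom ≫ pH) (U : Z.Opens)
    (s : Γ(W, r ⁻¹ᵁ U)) :
    σ ρ (pH ≫ r) hinvG U g ((pH.app (r ⁻¹ᵁ U)).hom s) =
      (pH.app (r ⁻¹ᵁ U)).hom (σ ρbar r hinvQ U q s) := by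
  have e1 : ∀ s', (pH.appLE (r ⁻¹ᵁ U) ((pH ≫ r) ⁻¹ᵁ U) le_rfl).hom s' =
      (pH.app (r ⁻¹ᵁ U)).hom s' :=
    fun s' => congrArg (fun m => m.hom s') pH.appLE_eq_app
  have h2 := comm_aux pH (ρ g).hom (ρbar q).hom hgq (r ⁻¹ᵁ U) ((pH ≫ r) ⁻¹ᵁ U) le_rfl
    (SGA1.preimage_le_of_inv ρ (pH ≫ r) hinvG g U) (SGA1.preimage_le_of_inv ρbar r hinvQ q U) s
  calc σ ρ (pH ≫ r) hinvG U g ((pH.app (r ⁻¹ᵁ U)).hom s)
      = σ ρ (pH ≫ r) hinvG U g
          ((pH.appLE (r ⁻¹ᵁ U) ((pH ≫ r) ⁻¹ᵁ U) le_rfl).hom s) := congrArg _ (e1 s).symm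
    _ = (pH.appLE (r ⁻¹ᵁ U) ((pH ≫ r) ⁻¹ᵁ U) le_rfl).hom (σ ρbar r hinvQ U q s) := h2
    _ = (pH.app (r ⁻¹ᵁ U)).hom (σ ρbar r hinvQ U q s) := e1 _

/-- If `pH ≫ r` is a quotient by `G`, `pH` is a quotient by a finite group, and a group `Q`
acts on the intermediate scheme compatibly with `G` through a surjection `G → Q`, then `r` is a
quotient by `Q`. -/
theorem isQuot_of_comp {X W Z : Scheme.{u}} {G H Q : Type u} [Group G] [Group H] [Finite H]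
    [Group Q] (ρ : G →* Aut X) (ρH : H →* Aut X) (pH : X ⟶ W) (hPH : SGA1.IsQuot ρH pH)
    (r : W ⟶ Z) (hP : SGA1.IsQuot ρ (pH ≫ r))
    (ρbar : Q →* Aut W) (π : G → Q) (hπ : Function.Surjective π)
    (hρbar : ∀ g : G, pH ≫ (ρbar (π g)).hom = (ρ g).hom ≫ pH) : SGA1.IsQuot ρbar r := by
  haveI := hP.affine
  haveI : Epi pH := Groth.Agent.Helper21.DescMor.epi_of_surjective_of_injective pH
    (GQuot.surjective ρH pH hPH).surj hPH.injective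
  have hinv : ∀ q : Q, (ρbar q).hom ≫ r = r := by
    intro q
    obtain ⟨g, rfl⟩ := hπ q
    rw [← cancel_epi pH, ← Category.assoc, hρbar, Category.assoc, hP.inv g]
  have haff : IsAffineHom r := isAffineHom_of_comp ρH pH hPH r
  refine isQuot_of_qprop ρbar r hinv haff (fun U => ?_)
  have hcomp : (pH ≫ r).app U = r.app U ≫ pH.app (r ⁻¹ᵁ U) := Scheme.Hom.comp_app pH r U
  have hcomp' : ∀ t, ((pH ≫ r).app U).hom t = (pH.app (r ⁻¹ᵁ U)).hom ((r.app U).hom t) :=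
    fun t => congrArg (fun m => m.hom t) hcomp
  refine ⟨?_, ?_⟩
  · intro t t' htt'
    apply hP.injective U
    rw [hcomp', hcomp', htt']
  · intro s hs
    have hinvG : ∀ g : G, σ ρ (pH ≫ r) hP.inv U g ((pH.app (r ⁻¹ᵁ U)).hom s) =
        (pH.app (r ⁻¹ᵁ U)).hom s := by
      intro g
      rw [hrel ρ pH r ρbar hP.inv hinv g (π g) (hρbar g) U s, hs (π g)]
    obtain ⟨t, ht⟩ := (hP.range_iff U ((pH.app (r ⁻¹ᵁ U)).hom s)).mpr hinvG
    refine ⟨t, ?_⟩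
    apply hPH.injective (r ⁻¹ᵁ U)
    rw [← hcomp']
    exact ht

/-- If `pH` is a quotient by `H` and `r` is a quotient by `Q`, with `G` acting on `X`,
containing the image of `H` and inducing the action of `Q`, then `pH ≫ r` is a quotient by
`G`. -/
theorem isQuot_comp {X W Z : Scheme.{u}} {G H Q : Type u} [Group G] [Group H] [Finite H]
    [Group Q] (ρ : G →* Aut X) (ρH : H →* Aut X) (pH : X ⟶ W) (hPH : SGA1.IsQuot ρH pH)
    (r : W ⟶ Z) (ρbar : Q →* Aut W) (hR : SGA1.IsQuot ρbar r)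
    (j : H → G) (hj : ∀ h, ρ (j h) = ρH h)
    (π : G → Q) (hπ : Function.Surjective π)
    (hρbar : ∀ g : G, pH ≫ (ρbar (π g)).hom = (ρ g).hom ≫ pH) : SGA1.IsQuot ρ (pH ≫ r) := by
  haveI := hPH.affine
  haveI := hR.affine
  have hinv : ∀ g : G, (ρ g).hom ≫ pH ≫ r = pH ≫ r := by
    intro g
    rw [← Category.assoc, ← hρbar, Category.assoc, hR.inv]
  have haff : IsAffineHom (pH ≫ r) := inferInstance
  refine isQuot_of_qprop ρ (pH ≫ r) hinv haff (fun U => ?_)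
  have hcomp : (pH ≫ r).app U = r.app U ≫ pH.app (r ⁻¹ᵁ U) := Scheme.Hom.comp_app pH r U
  have hcomp' : ∀ t, ((pH ≫ r).app U).hom t = (pH.app (r ⁻¹ᵁ U)).hom ((r.app U).hom t) :=
    fun t => congrArg (fun m => m.hom t) hcomp
  have hrel : ∀ (g : G) (s : Γ(W, r ⁻¹ᵁ U)),
      σ ρ (pH ≫ r) hinv U g ((pH.app (r ⁻¹ᵁ U)).hom s) =
        (pH.app (r ⁻¹ᵁ U)).hom (σ ρbar r hR.inv U (π g) s) := by
    intro g s
    exact hrel ρ pH r ρbar hinv hR.inv g (π g) (hρbar g) U s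
  refine ⟨?_, ?_⟩
  · intro t t' htt'
    rw [hcomp', hcomp'] at htt'
    exact hR.injective U (hPH.injective (r ⁻¹ᵁ U) htt')
  · intro s hs
    -- `s` is `H`-invariant
    have hsH : ∀ h : H, σ ρH pH hPH.inv (r ⁻¹ᵁ U) h s = s := by
      intro h
      have h2 := hs (j h)
      have h3 : (ρ (j h)).hom = (ρH h).hom := by rw [hj]
      have h4 : (ρ (j h)).hom.appLE ((pH ≫ r) ⁻¹ᵁ U) ((pH ≫ r) ⁻¹ᵁ U)
          (SGA1.preimage_le_of_inv ρ (pH ≫ r) hinv (j h) U) =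
          (ρH h).hom.appLE (pH ⁻¹ᵁ (r ⁻¹ᵁ U)) (pH ⁻¹ᵁ (r ⁻¹ᵁ U))
          (SGA1.preimage_le_of_inv ρH pH hPH.inv h (r ⁻¹ᵁ U)) := appLE_congr_hom h3 _ _ _
      exact (congrArg (fun m => m.hom s) h4).symm.trans h2
    obtain ⟨s', hs'⟩ := (hPH.range_iff (r ⁻¹ᵁ U) s).mpr hsH
    have hsQ : ∀ q : Q, σ ρbar r hR.inv U q s' = s' := by
      intro q
      obtain ⟨g, rfl⟩ := hπ q
      apply hPH.injective (r ⁻¹ᵁ U)
      rw [← hrel, hs']
      exact hs g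
    obtain ⟨t, ht⟩ := (hR.range_iff U s').mpr hsQ
    refine ⟨t, ?_⟩
    rw [hcomp', ht, hs']

end Groth.Agent.Helper21.GQuot11
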