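import Mathlib
import Groth.Agent.Lib.Helper21.GQuot6

/-!
Quotients of schemes by finite groups commute with flat base change.
-/

open AlgebraicGeometry CategoryTheory Limits TensorProduct

universe u

namespace Groth.Agent.Helper21.GQuot8

open Groth.Agent.Helper21.GQuot Groth.Agent.Helper21.GQuot3 Groth.Agent.Helper21.GQuot6

/-- Invariants commute with flat base change (algebra form). -/
theorem flat_invariants_alg (B A B' A' : Type*) [CommRing B] [CommRing A] [CommRing B']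
    [CommRing A']
    [Algebra B A] [Algebra B B'] [Algebra B A'] [Algebra A A'] [Algebra B' A']
    [IsScalarTower B A A'] [IsScalarTower B B' A'] [Algebra.IsPushout B B' A A']
    [Module.Flat B B']
    {ι : Type*} [Finite ι] (σ : ι → A →+* A) (σ' : ι → A' →+* A')
    (hσα : ∀ i a, σ' i (algebraMap A A' a) = algebraMap A A' (σ i a))
    (hσφ' : ∀ i b', σ' i (algebraMap B' A' b') = algebraMap B' A' b')
    (hinj : Function.Injective (algebraMap B A))
    (hinv : ∀ a, (∀ i, σ i a = a) → a ∈ Set.range (algebraMap B A))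
    (hfix : ∀ i b, σ i (algebraMap B A b) = algebraMap B A b) :
    Function.Injective (algebraMap B' A') ∧
      ∀ a', (∀ i, σ' i a' = a') → a' ∈ Set.range (algebraMap B' A') := by
  classical
  cases nonempty_fintype ι
  let e : B' ⊗[B] A ≃ₐ[B'] A' := Algebra.IsPushout.equiv B B' A A'
  have he : ∀ (b' : B') (a : A), e (b' ⊗ₜ a) = algebraMap B' A' b' * algebraMap A A' a :=
    fun b' a => Algebra.IsPushout.equiv_tmul B B' A A' b' a
  let f : B →ₗ[B] A := Algebra.linearMap B A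
  let gi : ι → A →ₗ[B] A := fun i =>
    { toFun := fun a => σ i a - a
      map_add' := fun a b => by rw [map_add]; ring
      map_smul' := fun b a => by
        rw [RingHom.id_apply, Algebra.smul_def, map_mul, hfix, Algebra.smul_def]; ring }
  let g : A →ₗ[B] (ι → A) := LinearMap.pi gi
  have hex : Function.Exact f g := by
    intro a
    constructor
    · intro h
      apply hinv
      intro i
      have := congrFun h i
      exact sub_eq_zero.mp this
    · rintro ⟨b, rfl⟩
      funext i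
      show σ i (algebraMap B A b) - algebraMap B A b = 0
      rw [hfix, sub_self]
  have hex' : Function.Exact (f.lTensor B') (g.lTensor B') := Module.Flat.lTensor_exact B' hex
  have hinj' : Function.Injective (f.lTensor B') :=
    Module.Flat.lTensor_preserves_injective_linearMap f hinj
  have hφ' : ∀ b' : B', algebraMap B' A' b' = e ((f.lTensor B') (b' ⊗ₜ (1 : B))) := by
    intro b'
    rw [LinearMap.lTensor_tmul, he]
    show _ = _ * algebraMap A A' (algebraMap B A 1)
    rw [map_one, map_one, mul_one]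
  constructor
  · intro x y hxy
    rw [hφ', hφ'] at hxy
    have h1 := hinj' (e.injective hxy)
    have h2 := congrArg (TensorProduct.rid B B') h1
    simpa using h2
  · intro a' ha'
    have key : ∀ (i : ι) (t : B' ⊗[B] A), e ((gi i).lTensor B' t) = σ' i (e t) - e t := by
      intro i t
      induction t with
      | zero => simp
      | tmul b' a =>
        rw [LinearMap.lTensor_tmul, he, he]
        show _ * algebraMap A A' (σ i a - a) = _
        rw [map_mul, hσφ', hσα, map_sub]; ring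
      | add x y hx hy => rw [map_add, map_add, hx, hy, map_add, map_add]; ring
    have hpi : ∀ (t : B' ⊗[B] A) (i : ι),
        TensorProduct.piRight B B B' (fun _ : ι => A) ((g.lTensor B') t) i =
          (gi i).lTensor B' t := by
      intro t i
      induction t with
      | zero => simp
      | tmul b' a => simp [g]
      | add x y hx hy => simp only [map_add, Pi.add_apply, hx, hy]
    have hz : (g.lTensor B') (e.symm a') = 0 := by
      apply (TensorProduct.piRight B B B' (fun _ : ι => A)).injective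
      rw [map_zero]
      funext i
      rw [hpi]
      apply e.injective
      rw [key, e.apply_symm_apply, ha' i, sub_self]
      exact (map_zero e).symm
    obtain ⟨s, hs⟩ := (hex' (e.symm a')).mp hz
    refine ⟨TensorProduct.rid B B' s, ?_⟩
    rw [hφ']
    have : (TensorProduct.rid B B' s) ⊗ₜ[B] (1 : B) = s := by
      rw [← TensorProduct.rid_symm_apply]
      exact (TensorProduct.rid B B').symm_apply_apply s
    rw [this, hs, e.apply_symm_apply]

/-- Invariants commute with flat base change (`CommRingCat` pushout form). -/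
theorem flat_invariants {B A B' A' : CommRingCat.{u}} (φ : B ⟶ A) (β : B ⟶ B') (α : A ⟶ A')
    (φ' : B' ⟶ A') (hpo : IsPushout φ β α φ') (hflat : β.hom.Flat)
    {ι : Type*} [Finite ι] (σ : ι → A →+* A) (σ' : ι → A' →+* A')
    (hσα : ∀ i a, σ' i (α.hom a) = α.hom (σ i a))
    (hσφ' : ∀ i b', σ' i (φ'.hom b') = φ'.hom b')
    (hinj : Function.Injective φ.hom)
    (hinv : ∀ a, (∀ i, σ i a = a) → a ∈ Set.range φ.hom)
    (hfix : ∀ i b, σ i (φ.hom b) = φ.hom b) :
    Function.Injective φ'.hom ∧ ∀ a', (∀ i, σ' i a' = a') → a' ∈ Set.range φ'.hom := by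
  letI : Algebra B A := φ.hom.toAlgebra
  letI : Algebra B B' := β.hom.toAlgebra
  letI : Algebra A A' := α.hom.toAlgebra
  letI : Algebra B' A' := φ'.hom.toAlgebra
  letI : Algebra B A' := (α.hom.comp φ.hom).toAlgebra
  haveI : IsScalarTower B A A' := IsScalarTower.of_algebraMap_eq (fun x => rfl)
  haveI : IsScalarTower B B' A' := IsScalarTower.of_algebraMap_eq (fun x =>
    congrArg (fun m => m.hom x) hpo.w)
  haveI : Module.Flat B B' := hflat
  haveI hP : Algebra.IsPushout B A B' A' := CommRingCat.isPushout_iff_isPushout.mp hpo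
  haveI hP' : Algebra.IsPushout B B' A A' := hP.symm
  exact flat_invariants_alg B A B' A' σ σ' hσα hσφ' hinj hinv hfix

section

variable {X Y X' Y' : Scheme.{u}} {G : Type u} [Group G] [Finite G]
  (ρ : G →* Aut X) (p : X ⟶ Y) (hp : SGA1.IsQuot ρ p)
  (c : Y' ⟶ Y) [Flat c] (pX : X' ⟶ X) (p' : X' ⟶ Y') (hX : IsPullback pX p' p c)
  (ρ' : G →* Aut X') (hρ₁ : ∀ g : G, (ρ' g).hom ≫ pX = pX ≫ (ρ g).hom)
  (hρ₂ : ∀ g : G, (ρ' g).hom ≫ p' = p')

include hp hX hρ₁ in
theorem qprop_flat (V : Y.Opens) (hV : IsAffineOpen V) (W' : Y'.Opens) (hW' : IsAffineOpen W')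
    (hle : W' ≤ c ⁻¹ᵁ V) : QProp ρ' p' hρ₂ W' := by
  haveI := hp.affine
  have hU : IsAffineOpen (p ⁻¹ᵁ V) := hV.preimage p
  have h1 : pX ⁻¹ᵁ (p ⁻¹ᵁ V) = p' ⁻¹ᵁ (c ⁻¹ᵁ V) := by
    rw [← Scheme.Hom.comp_preimage, ← Scheme.Hom.comp_preimage, hX.w]
  have hle' : p' ⁻¹ᵁ W' ≤ pX ⁻¹ᵁ (p ⁻¹ᵁ V) := by
    rw [h1]
    exact fun x hx => hle hx
  have hUY : p' ⁻¹ᵁ W' = pX ⁻¹ᵁ (p ⁻¹ᵁ V) ⊓ p' ⁻¹ᵁ W' :=
    le_antisymm (le_inf hle' le_rfl) inf_le_right
  have hpo := (isIso_pushoutSection_iff hX hle (le_refl _) hUY).mp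
    (isIso_pushoutSection_of_isAffineOpen hX hle (le_refl _) hUY hV hW' hU)
  have hflat : (c.appLE V W' hle).hom.Flat :=
    HasRingHomProperty.appLE (P := @Flat) c inferInstance ⟨V, hV⟩ ⟨W', hW'⟩ hle
  have e1 : p.appLE V (p ⁻¹ᵁ V) (le_refl _) = p.app V := p.appLE_eq_app
  have e2 : ∀ h, p'.appLE W' (p' ⁻¹ᵁ W') h = p'.app W' := fun _ => p'.appLE_eq_app
  rw [e1, e2] at hpo
  have hQ := qprop_of_isQuot ρ p hp V
  refine flat_invariants (p.app V) (c.appLE V W' hle) _ (p'.app W') hpo hflat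
    (σ ρ p hp.inv V) (σ ρ' p' hρ₂ W') ?_ (fun g b' => σ_app ρ' p' hρ₂ W' g b') hQ.1 hQ.2
    (fun g b => σ_app ρ p hp.inv V g b)
  intro g a
  have h2 : pX.appLE (p ⁻¹ᵁ V) (p' ⁻¹ᵁ W') hle' ≫
      (ρ' g).hom.appLE (p' ⁻¹ᵁ W') (p' ⁻¹ᵁ W') (SGA1.preimage_le_of_inv ρ' p' hρ₂ g W') =
      (ρ g).hom.appLE (p ⁻¹ᵁ V) (p ⁻¹ᵁ V) (SGA1.preimage_le_of_inv ρ p hp.inv g V) ≫
      pX.appLE (p ⁻¹ᵁ V) (p' ⁻¹ᵁ W') hle' := by
    rw [Scheme.Hom.appLE_comp_appLE, Scheme.Hom.appLE_comp_appLE, appLE_congr_hom (hρ₁ g)]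
  exact congrArg (fun m => m.hom a) h2

include hp hX hρ₁ hρ₂ in
/-- Quotients by finite groups commute with flat base change. -/
theorem isQuot_flat : SGA1.IsQuot ρ' p' := by
  haveI := hp.affine
  have haff : IsAffineHom p' := MorphismProperty.of_isPullback (P := @IsAffineHom) hX inferInstance
  let 𝓑 : Set Y'.Opens := {W' | IsAffineOpen W' ∧ ∃ V : Y.Opens, IsAffineOpen V ∧ W' ≤ c ⁻¹ᵁ V}
  have hB : TopologicalSpace.Opens.IsBasis 𝓑 := by
    rw [TopologicalSpace.Opens.isBasis_iff_nbhd]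
    intro O y' hy'
    obtain ⟨V, hV, hyV, -⟩ := TopologicalSpace.Opens.isBasis_iff_nbhd.mp
      Y.isBasis_affineOpens (show c y' ∈ (⊤ : Y.Opens) from trivial)
    obtain ⟨W', hW', hyW', hWle⟩ := TopologicalSpace.Opens.isBasis_iff_nbhd.mp
      Y'.isBasis_affineOpens (show y' ∈ O ⊓ c ⁻¹ᵁ V from ⟨hy', hyV⟩)
    exact ⟨W', ⟨hW', V, hV, hWle.trans inf_le_right⟩, hyW', hWle.trans inf_le_left⟩
  refine isQuot_of_qprop ρ' p' hρ₂ haff (qprop_of_basis ρ' p' hρ₂ 𝓑 hB ?_)
  rintro W' ⟨hW', V, hV, hle⟩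
  exact qprop_flat ρ p hp c pX p' hX ρ' hρ₁ hρ₂ V hV W' hW' hle

end

end Groth.Agent.Helper21.GQuot8
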