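import Mathlib
import Groth.Agent.Lib.Helper21.GQuot8
import Groth.Agent.Lib.Helper21.GQuot11

/-!
Products of quotients by finite groups.
-/

open AlgebraicGeometry CategoryTheory Limits

universe u

namespace Groth.Agent.Helper21.GQuot12

open Groth.Agent.Helper21.GQuot Groth.Agent.Helper21.GQuot8 Groth.Agent.Helper21.GQuot11

section

variable {S XG Y : Scheme.{u}} {H : Type u} [Group H] (gX : XG ⟶ S) (fY : Y ⟶ S)
  (σ : H →* Aut Y) (hσ : ∀ h, (σ h).hom ≫ fY = fY)

/-- The morphism `id × σ h` of `XG ×_S Y`. -/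
noncomputable def m (h : H) : pullback gX fY ⟶ pullback gX fY :=
  pullback.lift (pullback.fst gX fY) (pullback.snd gX fY ≫ (σ h).hom)
    (by rw [Category.assoc, hσ h, pullback.condition])

theorem m_fst (h : H) : m gX fY σ hσ h ≫ pullback.fst gX fY = pullback.fst gX fY :=
  pullback.lift_fst _ _ _

theorem m_snd (h : H) :
    m gX fY σ hσ h ≫ pullback.snd gX fY = pullback.snd gX fY ≫ (σ h).hom :=
  pullback.lift_snd _ _ _

theorem m_one : m gX fY σ hσ 1 = 𝟙 _ := by
  apply pullback.hom_ext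
  · rw [m_fst, Category.id_comp]
  · rw [m_snd, Category.id_comp, map_one]
    exact Category.comp_id _

theorem m_comp (h h' : H) : m gX fY σ hσ h ≫ m gX fY σ hσ h' = m gX fY σ hσ (h' * h) := by
  apply pullback.hom_ext
  · rw [Category.assoc, m_fst, m_fst, m_fst]
  · rw [Category.assoc, m_snd, ← Category.assoc, m_snd, m_snd, Category.assoc, map_mul]
    rfl

/-- The action of `H` on `XG ×_S Y` through the second factor. -/
noncomputable def act : H →* Aut (pullback gX fY) where
  toFun h :=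
    { hom := m gX fY σ hσ h
      inv := m gX fY σ hσ h⁻¹
      hom_inv_id := by rw [m_comp, inv_mul_cancel, m_one]
      inv_hom_id := by rw [m_comp, mul_inv_cancel, m_one] }
  map_one' := Aut.ext (m_one gX fY σ hσ)
  map_mul' h h' := Aut.ext (m_comp gX fY σ hσ h' h).symm

theorem act_hom (h : H) : (act gX fY σ hσ h).hom = m gX fY σ hσ h := rfl

end

/-- The product of two quotients by finite groups is a quotient by the product group, over a
base over which the relevant structure morphisms are flat. -/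
theorem isQuot_prod {S X Y XG YH : Scheme.{u}} {G H : Type u} [Group G] [Finite G] [Group H]
    [Finite H] (fX : X ⟶ S) (fY : Y ⟶ S) (gX : XG ⟶ S) (gY : YH ⟶ S) [Flat fY] [Flat gX]
    (ρ : G →* Aut X) (σ : H →* Aut Y) (hσ : ∀ h, (σ h).hom ≫ fY = fY)
    (p : X ⟶ XG) (hp : p ≫ gX = fX) (q : Y ⟶ YH) (hq : q ≫ gY = fY)
    (hP : SGA1.IsQuot ρ p) (hQ : SGA1.IsQuot σ q)
    (θ : G × H →* Aut (pullback fX fY))
    (hθ1 : ∀ gh : G × H, (θ gh).hom ≫ pullback.fst fX fY = pullback.fst fX fY ≫ (ρ gh.1).hom)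
    (hθ2 : ∀ gh : G × H, (θ gh).hom ≫ pullback.snd fX fY = pullback.snd fX fY ≫ (σ gh.2).hom)
    (π : pullback fX fY ⟶ pullback gX gY)
    (hπ1 : π ≫ pullback.fst gX gY = pullback.fst fX fY ≫ p)
    (hπ2 : π ≫ pullback.snd gX gY = pullback.snd fX fY ≫ q) :
    SGA1.IsQuot θ π := by
  have hc1 : (pullback.fst fX fY ≫ p) ≫ gX = pullback.snd fX fY ≫ fY := by
    rw [Category.assoc, hp, pullback.condition]
  obtain ⟨π₁, hπ₁f, hπ₁s⟩ : ∃ π₁ : pullback fX fY ⟶ pullback gX fY,
      π₁ ≫ pullback.fst gX fY = pullback.fst fX fY ≫ p ∧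
      π₁ ≫ pullback.snd gX fY = pullback.snd fX fY :=
    ⟨pullback.lift _ _ hc1, pullback.lift_fst _ _ _, pullback.lift_snd _ _ _⟩
  have hc2 : pullback.fst gX fY ≫ gX = (pullback.snd gX fY ≫ q) ≫ gY := by
    rw [Category.assoc, hq, pullback.condition]
  obtain ⟨π₂, hπ₂f, hπ₂s⟩ : ∃ π₂ : pullback gX fY ⟶ pullback gX gY,
      π₂ ≫ pullback.fst gX gY = pullback.fst gX fY ∧
      π₂ ≫ pullback.snd gX gY = pullback.snd gX fY ≫ q :=
    ⟨pullback.lift _ _ hc2, pullback.lift_fst _ _ _, pullback.lift_snd _ _ _⟩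
  have hπ : π = π₁ ≫ π₂ := by
    apply pullback.hom_ext
    · rw [hπ1, Category.assoc, hπ₂f, hπ₁f]
    · rw [hπ2, Category.assoc, hπ₂s, ← Category.assoc, hπ₁s]
  -- the two cartesian squares
  have hX₁ : IsPullback (pullback.fst fX fY) π₁ p (pullback.fst gX fY) := by
    have hout : IsPullback (π₁ ≫ pullback.snd gX fY) (pullback.fst fX fY) fY (p ≫ gX) := by
      rw [hπ₁s, hp]
      exact (IsPullback.of_hasPullback fX fY).flip
    exact (IsPullback.of_right hout hπ₁f (IsPullback.of_hasPullback gX fY).flip).flip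
  have hX₂ : IsPullback (pullback.snd gX fY) π₂ q (pullback.snd gX gY) := by
    have hout : IsPullback (π₂ ≫ pullback.fst gX gY) (pullback.snd gX fY) gX (q ≫ gY) := by
      rw [hπ₂f, hq]
      exact IsPullback.of_hasPullback gX fY
    exact (IsPullback.of_right hout hπ₂s (IsPullback.of_hasPullback gX gY)).flip
  -- step 1: quotient by `G`
  let ρ₁ : G →* Aut (pullback fX fY) := θ.comp (MonoidHom.inl G H)
  have hρ₁ : ∀ g, ρ₁ g = θ (g, 1) := fun g => rfl
  have h1 : SGA1.IsQuot ρ₁ π₁ := by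
    refine isQuot_flat ρ p hP (pullback.fst gX fY) (pullback.fst fX fY) π₁ hX₁ ρ₁ ?_ ?_
    · intro g
      rw [hρ₁]
      exact hθ1 (g, 1)
    · intro g
      rw [hρ₁]
      apply pullback.hom_ext
      · rw [Category.assoc, hπ₁f, ← Category.assoc, hθ1 (g, 1), Category.assoc]
        show _ ≫ (ρ g).hom ≫ p = _
        rw [hP.inv g]
      · rw [Category.assoc, hπ₁s, hθ2 (g, 1)]
        show _ ≫ (σ 1).hom = _
        rw [map_one]
        exact Category.comp_id _
  -- step 2: quotient by `H`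
  have h2 : SGA1.IsQuot (act gX fY σ hσ) π₂ := by
    refine isQuot_flat σ q hQ (pullback.snd gX gY) (pullback.snd gX fY) π₂ hX₂
      (act gX fY σ hσ) ?_ ?_
    · intro h
      rw [act_hom, m_snd]
    · intro h
      rw [act_hom]
      apply pullback.hom_ext
      · rw [Category.assoc, hπ₂f, m_fst]
      · rw [Category.assoc, hπ₂s, ← Category.assoc, m_snd, Category.assoc, hQ.inv h]
  -- step 3: compose
  rw [hπ]
  refine isQuot_comp θ ρ₁ π₁ h1 π₂ (act gX fY σ hσ) h2 (fun g => (g, 1)) (fun g => rfl)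
    Prod.snd Prod.snd_surjective ?_
  intro gh
  rw [act_hom]
  apply pullback.hom_ext
  · rw [Category.assoc, m_fst, Category.assoc, hπ₁f, ← Category.assoc, hθ1 gh, Category.assoc,
      hP.inv gh.1]
  · rw [Category.assoc, m_snd, ← Category.assoc, hπ₁s, Category.assoc, hπ₁s, hθ2 gh]

end Groth.Agent.Helper21.GQuot12
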