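import Mathlib
import Groth.Agent.Lib.Helper21.GQuot
import Groth.Agent.Lib.Helper21.DescMor

/-!
Universal property of the quotient of a scheme by a finite group.
-/

open AlgebraicGeometry CategoryTheory Limits

universe u

namespace Groth.Agent.Helper21.GQuot2

open Groth.Agent.Helper21.GQuot Groth.Agent.Helper21.DescMor

theorem universal {X Y : Scheme.{u}} {G : Type u} [Group G] [Finite G] (ρ : G →* Aut X)
    (p : X ⟶ Y) (hp : SGA1.IsQuot ρ p) (Z : Scheme.{u}) (h : X ⟶ Z)
    (hh : ∀ g : G, (ρ g).hom ≫ h = h) :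
    ∃! h' : Y ⟶ Z, p ≫ h' = h := by
  refine existsUnique_desc p h (isQuotientMap ρ p hp) hp.injective ?_ ?_
  · intro x x' hxx'
    obtain ⟨g, rfl⟩ := orbit ρ p hp x x' hxx'
    have := congrArg (fun m => m.base x) (hh g)
    exact this.symm
  · intro W U e s
    rw [hp.range_iff U]
    intro g
    have h1 : h.appLE W (p ⁻¹ᵁ U) e.le ≫ (ρ g).hom.appLE (p ⁻¹ᵁ U) (p ⁻¹ᵁ U)
        (SGA1.preimage_le_of_inv ρ p hp.inv g U) = h.appLE W (p ⁻¹ᵁ U) e.le := by
      rw [Scheme.Hom.appLE_comp_appLE]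
      exact DescMor.appLE_congr_hom (hh g) _ _ _
    exact congrArg (fun m => m.hom s) h1

end Groth.Agent.Helper21.GQuot2
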