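import Mathlib
import Groth.Agent.Lib.Helper21.GQuot

/-!
Quotients of schemes by finite groups: restriction to opens of the quotient.
-/

open AlgebraicGeometry CategoryTheory Limits

universe u

namespace Groth.Agent.Helper21.GQuot5

open Groth.Agent.Helper21.GQuot

theorem map_eq_id {X : Scheme.{u}} {U : X.Opens} (i : Opposite.op U ⟶ Opposite.op U) :
    X.presheaf.map i = 𝟙 _ := by
  have : i = 𝟙 _ := Subsingleton.elim _ _
  rw [this, X.presheaf.map_id]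

/-- An endomorphism of an open subscheme compatible with an endomorphism of the ambient scheme
acts on sections in the same way. -/
theorem appLE_restrict_eq {X : Scheme.{u}} {W : X.Opens} (a : W.toScheme ⟶ W.toScheme) (b : X ⟶ X)
    (hab : a ≫ W.ι = W.ι ≫ b) (O : W.toScheme.Opens) (e : O ≤ a ⁻¹ᵁ O)
    (e' : W.ι ''ᵁ O ≤ b ⁻¹ᵁ (W.ι ''ᵁ O)) :
    a.appLE O O e = b.appLE (W.ι ''ᵁ O) (W.ι ''ᵁ O) e' := by
  have hle : O ≤ W.ι ⁻¹ᵁ (W.ι ''ᵁ O) := by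
    intro x hx
    exact ⟨x, hx, rfl⟩
  have h1 : (a ≫ W.ι).appLE (W.ι ''ᵁ O) O (e.trans (fun x hx => hle hx)) =
      (W.ι ≫ b).appLE (W.ι ''ᵁ O) O (fun x hx => e' (hle hx)) :=
    appLE_congr_hom hab _ _ _
  have h2 : ∀ t : Γ(X, W.ι ''ᵁ O), (W.ι.appLE (W.ι ''ᵁ O) O hle).hom t = t := by
    intro t
    rw [Scheme.Opens.ι_appLE]
    exact congrArg (fun m => m.hom t) (map_eq_id _)
  have h3 : W.ι.appLE (W.ι ''ᵁ O) O hle ≫ a.appLE O O e =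
      (a ≫ W.ι).appLE (W.ι ''ᵁ O) O (e.trans (fun x hx => hle hx)) :=
    Scheme.Hom.appLE_comp_appLE a W.ι (W.ι ''ᵁ O) O O hle e
  have h4 : b.appLE (W.ι ''ᵁ O) (W.ι ''ᵁ O) e' ≫ W.ι.appLE (W.ι ''ᵁ O) O hle =
      (W.ι ≫ b).appLE (W.ι ''ᵁ O) O (fun x hx => e' (hle hx)) :=
    Scheme.Hom.appLE_comp_appLE W.ι b (W.ι ''ᵁ O) (W.ι ''ᵁ O) O e' hle
  apply CommRingCat.hom_ext
  apply RingHom.ext
  intro t
  have e3 := congrArg (fun m => m.hom t) h3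
  have e4 := congrArg (fun m => m.hom t) h4
  have e1 := congrArg (fun m => m.hom t) h1
  have e5 : (a.appLE O O e).hom ((W.ι.appLE (W.ι ''ᵁ O) O hle).hom t) =
      (W.ι.appLE (W.ι ''ᵁ O) O hle).hom ((b.appLE (W.ι ''ᵁ O) (W.ι ''ᵁ O) e').hom t) :=
    e3.trans (e1.trans e4.symm)
  have e6 : (a.appLE O O e).hom t =
      (a.appLE O O e).hom ((W.ι.appLE (W.ι ''ᵁ O) O hle).hom t) :=
    congrArg (a.appLE O O e).hom (h2 t).symm
  exact e6.trans (e5.trans (h2 _))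

section

variable {X Y : Scheme.{u}} {G : Type u} [Group G] (ρ : G →* Aut X) (p : X ⟶ Y)

theorem injective_of_eq (hp : SGA1.IsQuot ρ p) (V' : Y.Opens) (O' : X.Opens)
    (E : O' = p ⁻¹ᵁ V') : Function.Injective (p.appLE V' O' E.le).hom := by
  subst E
  have : p.appLE V' (p ⁻¹ᵁ V') le_rfl = p.app V' := p.appLE_eq_app
  rw [this]
  exact hp.injective V'

theorem range_iff_of_eq (hp : SGA1.IsQuot ρ p) (V' : Y.Opens) (O' : X.Opens)
    (E : O' = p ⁻¹ᵁ V') (e2 : ∀ g : G, O' ≤ (ρ g).hom ⁻¹ᵁ O') (s : Γ(X, O')) :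
    s ∈ Set.range (p.appLE V' O' E.le).hom ↔
      ∀ g : G, ((ρ g).hom.appLE O' O' (e2 g)).hom s = s := by
  subst E
  have : p.appLE V' (p ⁻¹ᵁ V') le_rfl = p.app V' := p.appLE_eq_app
  rw [this]
  exact hp.range_iff V' s

theorem isQuot_restrict (hp : SGA1.IsQuot ρ p) (U : Y.Opens)
    (ρU : G →* Aut (p ⁻¹ᵁ U).toScheme)
    (hρU : ∀ g : G, (ρU g).hom ≫ (p ⁻¹ᵁ U).ι = (p ⁻¹ᵁ U).ι ≫ (ρ g).hom) :
    SGA1.IsQuot ρU (p ∣_ U) := by
  haveI := hp.affine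
  have hinv : ∀ g : G, (ρU g).hom ≫ p ∣_ U = p ∣_ U := by
    intro g
    rw [← cancel_mono U.ι, Category.assoc, morphismRestrict_ι, ← Category.assoc, hρU g,
      Category.assoc, hp.inv g]
  have hle : ∀ (V : U.toScheme.Opens) (g : G), (p ⁻¹ᵁ U).ι ''ᵁ ((p ∣_ U) ⁻¹ᵁ V) ≤
      (ρ g).hom ⁻¹ᵁ ((p ⁻¹ᵁ U).ι ''ᵁ ((p ∣_ U) ⁻¹ᵁ V)) := by
    intro V g
    rw [image_morphismRestrict_preimage]
    exact SGA1.preimage_le_of_inv ρ p hp.inv g _
  refine ⟨IsZariskiLocalAtTarget.restrict (P := @IsAffineHom) hp.affine U, hinv, fun V => ?_,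
    fun V s => ?_⟩
  · rw [morphismRestrict_app']
    exact injective_of_eq ρ p hp _ _ (image_morphismRestrict_preimage p U V)
  · rw [morphismRestrict_app']
    have key : ∀ g : G, (ρU g).hom.appLE ((p ∣_ U) ⁻¹ᵁ V) ((p ∣_ U) ⁻¹ᵁ V)
        (SGA1.preimage_le_of_inv ρU (p ∣_ U) hinv g V) =
        (ρ g).hom.appLE ((p ⁻¹ᵁ U).ι ''ᵁ ((p ∣_ U) ⁻¹ᵁ V)) ((p ⁻¹ᵁ U).ι ''ᵁ ((p ∣_ U) ⁻¹ᵁ V))
          (hle V g) :=
      fun g => appLE_restrict_eq (ρU g).hom (ρ g).hom (hρU g) _ _ _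
    have h3 := range_iff_of_eq ρ p hp _ _ (image_morphismRestrict_preimage p U V) (hle V) s
    constructor
    · intro hs g
      exact (congrArg (fun m => m.hom s) (key g)).trans ((h3.mp hs) g)
    · intro h
      apply h3.mpr
      intro g
      exact (congrArg (fun m => m.hom s) (key g)).symm.trans (h g)

end

end Groth.Agent.Helper21.GQuot5
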