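import Mathlib
import Groth.Agent.Lib.Helper21.GQuot6

/-!
`Spec A ⟶ Spec A^G` is a quotient by `G`.
-/

open AlgebraicGeometry CategoryTheory Limits

universe u

namespace Groth.Agent.Helper21.GQuot7

open Groth.Agent.Helper21.GQuot Groth.Agent.Helper21.GQuot3 Groth.Agent.Helper21.GQuot6

theorem spec_isQuot (G : Type u) [Group G] [Finite G] (A B : Type u) [CommRing A] [CommRing B]
    [Algebra B A] [MulSemiringAction G A] [SMulCommClass G B A] [Algebra.IsInvariant B A G]
    [FaithfulSMul B A]
    (ρ : G →* Aut (Spec (CommRingCat.of A)))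
    (hρ : Set.range (fun g : G => (ρ g).hom) =
      Set.range (fun g : G => Spec.map (CommRingCat.ofHom (MulSemiringAction.toRingHom G A g)))) :
    SGA1.IsQuot ρ (Spec.map (CommRingCat.ofHom (algebraMap B A))) := by
  have hinv : ∀ g : G, (ρ g).hom ≫ Spec.map (CommRingCat.ofHom (algebraMap B A)) =
      Spec.map (CommRingCat.ofHom (algebraMap B A)) := by
    intro g
    have hg : (ρ g).hom ∈ Set.range (fun g : G => (ρ g).hom) := ⟨g, rfl⟩
    rw [hρ] at hg
    obtain ⟨g', hg'⟩ := hg
    rw [← hg', ← Spec.map_comp]
    congr 1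
    ext b
    exact smul_algebraMap g' b
  refine isQuot_of_qprop ρ _ hinv inferInstance ?_
  have hbasis : TopologicalSpace.Opens.IsBasis (Set.range (fun b : B =>
      (Spec (CommRingCat.of B)).basicOpen ((Scheme.ΓSpecIso (CommRingCat.of B)).inv.hom b))) := by
    have h1 : (fun b : B => (Spec (CommRingCat.of B)).basicOpen
        ((Scheme.ΓSpecIso (CommRingCat.of B)).inv.hom b)) =
        (fun b : B => (PrimeSpectrum.basicOpen b : (Spec (CommRingCat.of B)).Opens)) := by
      funext b
      exact basicOpen_eq_of_affine (R := CommRingCat.of B) b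
    rw [h1]
    exact PrimeSpectrum.isBasis_basic_opens
  apply qprop_of_basis ρ _ hinv _ hbasis
  rintro _ ⟨b, rfl⟩
  apply qprop_basicOpen ρ _ hinv ⊤ (isAffineOpen_top _) (isAffineOpen_top _)
  constructor
  · -- injectivity on global sections
    have h2 := Scheme.ΓSpecIso_naturality (CommRingCat.ofHom (algebraMap B A))
    intro s t hst
    have h3 := congrArg (fun m => m.hom s) h2
    have h4 := congrArg (fun m => m.hom t) h2
    simp only [CommRingCat.hom_comp, RingHom.comp_apply] at h3 h4
    have h5 : (Spec.map (CommRingCat.ofHom (algebraMap B A))).appTop.hom s =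
        (Spec.map (CommRingCat.ofHom (algebraMap B A))).appTop.hom t := hst
    rw [h5, h4] at h3
    have h6 := FaithfulSMul.algebraMap_injective B A h3
    exact ((ConcreteCategory.bijective_of_isIso (Scheme.ΓSpecIso (CommRingCat.of B)).hom).1 h6).symm
  · intro s hs
    -- invariance under all Spec σ_g
    let s' : Γ(Spec (CommRingCat.of A), ⊤) := s
    have hs' : ∀ g' : G, MulSemiringAction.toRingHom G A g'
        ((Scheme.ΓSpecIso (CommRingCat.of A)).hom.hom s') =
        (Scheme.ΓSpecIso (CommRingCat.of A)).hom.hom s' := by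
      intro g'
      have hg : Spec.map (CommRingCat.ofHom (MulSemiringAction.toRingHom G A g')) ∈
          Set.range (fun g : G => (ρ g).hom) := by rw [hρ]; exact ⟨g', rfl⟩
      obtain ⟨g, hg⟩ := hg
      have h1 := hs g
      unfold σ at h1
      have hg' : (ρ g).hom = Spec.map (CommRingCat.ofHom (MulSemiringAction.toRingHom G A g')) := hg
      have e := appLE_congr_hom hg' _ _
        (SGA1.preimage_le_of_inv ρ (Spec.map (CommRingCat.ofHom (algebraMap B A))) hinv g ⊤)
      have h1' := (congrArg (fun m => m.hom s) e).symm.trans h1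
      have h1'' : ((Spec.map (CommRingCat.ofHom (MulSemiringAction.toRingHom G A g'))).appLE ⊤ ⊤
          (by simp)).hom s' = s' := h1'
      have h5 : (Spec.map (CommRingCat.ofHom (MulSemiringAction.toRingHom G A g'))).appLE ⊤ ⊤
          (by simp) = (Spec.map (CommRingCat.ofHom (MulSemiringAction.toRingHom G A g'))).appTop :=
        (Spec.map (CommRingCat.ofHom (MulSemiringAction.toRingHom G A g'))).appLE_eq_app
      rw [h5] at h1''
      have h2 := congrArg (fun m => m.hom s')
        (Scheme.ΓSpecIso_naturality (CommRingCat.ofHom (MulSemiringAction.toRingHom G A g')))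
      simp only [CommRingCat.hom_comp, RingHom.comp_apply] at h2
      rw [h1''] at h2
      exact h2.symm
    obtain ⟨b0, hb0⟩ := Algebra.IsInvariant.isInvariant (A := B) (G := G)
      ((Scheme.ΓSpecIso (CommRingCat.of A)).hom.hom s') hs'
    refine ⟨(Scheme.ΓSpecIso (CommRingCat.of B)).inv.hom b0, ?_⟩
    have h2 := Scheme.ΓSpecIso_inv_naturality (CommRingCat.ofHom (algebraMap B A))
    have h3 := congrArg (fun m => m.hom b0) h2
    simp only [CommRingCat.hom_comp, RingHom.comp_apply] at h3
    have h4 : (Spec.map (CommRingCat.ofHom (algebraMap B A))).appTop.hom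
        ((Scheme.ΓSpecIso (CommRingCat.of B)).inv.hom b0) =
        (Scheme.ΓSpecIso (CommRingCat.of A)).inv.hom (algebraMap B A b0) := h3.symm
    show (Spec.map (CommRingCat.ofHom (algebraMap B A))).appTop.hom
        ((Scheme.ΓSpecIso (CommRingCat.of B)).inv.hom b0) = s'
    rw [h4, hb0]
    exact congrArg (fun m => m.hom s') (Scheme.ΓSpecIso (CommRingCat.of A)).hom_inv_id

end Groth.Agent.Helper21.GQuot7
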