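import Mathlib
import Groth.Prelude.Def_Flat
import Groth.Agent.Lib.Helper11.UnivHomeo

/-!
Stein factorization of a proper morphism with geometrically connected fibres: the finite part
`S' ⟶ S` is a universal homeomorphism.
-/

open AlgebraicGeometry CategoryTheory Limits Polynomial

universe u

namespace Groth.Agent.Helper21.SteinUH

open Groth.Agent.Helper11.UH

/-- In an algebra integral over a field with only trivial idempotents, every element is a unit
or nilpotent. -/
theorem isUnit_or_isNilpotent {K B : Type*} [Field K] [CommRing B] (ι : K →+* B)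
    (hι : ι.IsIntegral) (hid : ∀ e : B, IsIdempotentElem e → e = 0 ∨ e = 1) (x : B) :
    IsUnit x ∨ IsNilpotent x := by
  obtain ⟨p, hpm, hpx⟩ := hι x
  have hp0 : p ≠ 0 := hpm.ne_zero
  obtain ⟨q, hpq, hq⟩ := Polynomial.exists_eq_pow_rootMultiplicity_mul_and_not_dvd p hp0 0
  set n := p.rootMultiplicity 0 with hn
  simp only [map_zero, sub_zero] at hpq hq
  have hc : q.coeff 0 ≠ 0 := fun h => hq (Polynomial.X_dvd_iff.mpr h)
  set c := q.coeff 0 with hcdef
  set r := q.divX.eval₂ ι x with hr
  have hqx : q.eval₂ ι x = x * r + ι c := by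
    have h0 := congrArg (eval₂ ι x) (Polynomial.X_mul_divX_add q)
    simp only [eval₂_add, eval₂_mul, eval₂_X, eval₂_C] at h0
    exact h0.symm
  have h1 : x ^ n * (x * r + ι c) = 0 := by
    rw [← hqx]
    rw [hpq] at hpx
    simpa [eval₂_mul, eval₂_pow, eval₂_X] using hpx
  set y := -(ι c⁻¹) * r with hy
  have h2 : x ^ n = x ^ (n + 1) * y := by
    have hcc : ι c * ι c⁻¹ = 1 := by rw [← map_mul, mul_inv_cancel₀ hc, map_one]
    calc x ^ n = x ^ n * (ι c * ι c⁻¹) := by rw [hcc, mul_one]
      _ = (x ^ n * (x * r + ι c)) * ι c⁻¹ - x ^ (n + 1) * r * ι c⁻¹ := by ring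
      _ = x ^ (n + 1) * y := by rw [h1, zero_mul, zero_sub, hy]; ring
  have h3 : ∀ k, x ^ n = x ^ (n + k) * y ^ k := by
    intro k
    induction k with
    | zero => simp
    | succ k ih =>
      calc x ^ n = x ^ (n + k) * y ^ k := ih
        _ = x ^ k * x ^ n * y ^ k := by ring
        _ = x ^ k * (x ^ (n + 1) * y) * y ^ k := by rw [← h2]
        _ = x ^ (n + (k + 1)) * y ^ (k + 1) := by ring
  have he : IsIdempotentElem (x ^ n * y ^ n) := by
    unfold IsIdempotentElem
    calc x ^ n * y ^ n * (x ^ n * y ^ n) = (x ^ (n + n) * y ^ n) * y ^ n := by ring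
      _ = x ^ n * y ^ n := by rw [← h3 n]
  rcases hid _ he with h0 | h1'
  · right
    refine ⟨n, ?_⟩
    calc x ^ n = x ^ (n + n) * y ^ n := h3 n
      _ = x ^ n * (x ^ n * y ^ n) := by ring
      _ = 0 := by rw [h0, mul_zero]
  · left
    rcases Nat.eq_zero_or_pos n with hn0 | hn0
    · rw [hn0] at h2
      simp only [pow_zero, zero_add, pow_one] at h2
      exact IsUnit.of_mul_eq_one y h2.symm
    · have hxn : x ^ n = x * x ^ (n - 1) := by
        rw [← pow_succ', Nat.sub_add_cancel hn0]
      have : x * (x ^ (n - 1) * y ^ n) = 1 := by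
        rw [← h1', hxn]; ring
      exact IsUnit.of_mul_eq_one _ this

/-- An algebra integral over a field whose spectrum is connected has exactly one prime. -/
theorem subsingleton_primeSpectrum {K B : Type*} [Field K] [CommRing B] (ι : K →+* B)
    (hι : ι.IsIntegral) [PreconnectedSpace (PrimeSpectrum B)] :
    Subsingleton (PrimeSpectrum B) := by
  have hid : ∀ e : B, IsIdempotentElem e → e = 0 ∨ e = 1 := by
    intro e he
    have hc : IsClopen ((PrimeSpectrum.basicOpen e : TopologicalSpace.Opens _) :
        Set (PrimeSpectrum B)) :=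
      PrimeSpectrum.isClopen_iff.mpr ⟨e, he, rfl⟩
    rcases isClopen_iff.mp hc with h | h
    · left
      have hnil : IsNilpotent e := by
        rw [← PrimeSpectrum.basicOpen_eq_bot_iff]
        exact TopologicalSpace.Opens.ext h
      obtain ⟨n, hn⟩ := hnil
      rcases n with _ | n
      · rw [pow_zero] at hn
        have : Subsingleton B := subsingleton_of_zero_eq_one hn.symm
        exact Subsingleton.elim _ _
      · rw [he.pow_succ_eq] at hn; exact hn
    · right
      have hu : IsUnit e := by
        by_contra hne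
        obtain ⟨M, hM, heM⟩ := exists_max_ideal_of_mem_nonunits hne
        have hmem : (⟨M, hM.isPrime⟩ : PrimeSpectrum B) ∈
            ((PrimeSpectrum.basicOpen e : TopologicalSpace.Opens _) : Set (PrimeSpectrum B)) := by
          rw [h]; trivial
        exact hmem heM
      obtain ⟨u, rfl⟩ := hu
      have h2 : (u : B) * u = u := he.eq
      have h3 : (u : B) * u = u * 1 := by rw [h2, mul_one]
      exact u.isUnit.mul_left_cancel h3
  have key : ∀ (p q : PrimeSpectrum B), p.asIdeal ≤ q.asIdeal := by
    intro p q x hx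
    rcases isUnit_or_isNilpotent ι hι hid x with hu | hn
    · exact absurd (p.asIdeal.eq_top_of_isUnit_mem hx hu) p.isPrime.ne_top
    · obtain ⟨n, hn⟩ := hn
      exact q.isPrime.mem_of_pow_mem n (hn ▸ zero_mem _)
  exact ⟨fun p q => PrimeSpectrum.ext (le_antisymm (key p q) (key q p))⟩

/-- Two retractions of `k → B` agree when `Spec B` is a point. -/
theorem section_unique {k B : Type*} [CommRing k] [IsDomain k] [CommRing B] (ι : k →+* B)
    (φ₁ φ₂ : B →+* k) (h1 : φ₁.comp ι = RingHom.id k) (h2 : φ₂.comp ι = RingHom.id k)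
    [Subsingleton (PrimeSpectrum B)] : φ₁ = φ₂ := by
  have hk : RingHom.ker φ₁ = RingHom.ker φ₂ := by
    have e : (⟨RingHom.ker φ₁, RingHom.ker_isPrime φ₁⟩ : PrimeSpectrum B) =
        ⟨RingHom.ker φ₂, RingHom.ker_isPrime φ₂⟩ := Subsingleton.elim _ _
    exact congrArg PrimeSpectrum.asIdeal e
  ext x
  have h1' : φ₁ (ι (φ₁ x)) = φ₁ x := by
    have := congrArg (fun f => f (φ₁ x)) h1
    simpa using this
  have h2' : φ₂ (ι (φ₁ x)) = φ₁ x := by
    have := congrArg (fun f => f (φ₁ x)) h2
    simpa using this
  have hx : x - ι (φ₁ x) ∈ RingHom.ker φ₁ := by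
    rw [RingHom.mem_ker, map_sub, h1', sub_self]
  rw [hk, RingHom.mem_ker, map_sub, h2', sub_eq_zero] at hx
  exact hx.symm

theorem key {X S : Scheme.{u}} (f : X ⟶ S) [IsProper f] [GeometricallyConnected f]
    {K : Type u} [Field K]
    (a b : Spec (.of K) ⟶ f.normalization)
    (hab : a ≫ f.fromNormalization = b ≫ f.fromNormalization) : a = b := by
  have htπ : f.toNormalization ≫ f.fromNormalization = f := f.toNormalization_fromNormalization
  have hUCt : UniversallyClosed f.toNormalization := inferInstance
  have hDt : IsDominant f.toNormalization := inferInstance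
  have hSt : Surjective f.toNormalization :=
    surjective_of_isDominant_of_isClosed_range f.toNormalization
      (f.toNormalization.isClosedMap.isClosed_range)
  let σa : Spec (.of K) ⟶ pullback f.fromNormalization (a ≫ f.fromNormalization) :=
    pullback.lift a (𝟙 _) (by simp)
  let σb : Spec (.of K) ⟶ pullback f.fromNormalization (a ≫ f.fromNormalization) :=
    pullback.lift b (𝟙 _) (by rw [← hab]; simp)
  have ha : σa ≫ pullback.fst _ _ = a := pullback.lift_fst _ _ _
  have hb : σb ≫ pullback.fst _ _ = b := pullback.lift_fst _ _ _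
  have ha2 : σa ≫ pullback.snd _ _ = 𝟙 _ := pullback.lift_snd _ _ _
  have hb2 : σb ≫ pullback.snd _ _ = 𝟙 _ := pullback.lift_snd _ _ _
  suffices σa = σb by rw [← ha, ← hb, this]
  have hconnX : ConnectedSpace ↥(pullback f (a ≫ f.fromNormalization)) :=
    pullback_of_geometrically (GeometricallyConnected.geometrically_connectedSpace) K
      (a ≫ f.fromNormalization)
  have hm : Surjective (pullback.map f (a ≫ f.fromNormalization) f.fromNormalization
      (a ≫ f.fromNormalization) f.toNormalization (𝟙 _) (𝟙 _)
      ((Category.comp_id _).trans htπ.symm)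
      ((Category.comp_id _).trans (Category.id_comp _).symm)) :=
    MorphismProperty.pullbackMap (P := @Surjective) (f := f) (g := a ≫ f.fromNormalization)
      (f' := f.fromNormalization) (g' := a ≫ f.fromNormalization) (i₁ := f.toNormalization)
      (i₂ := 𝟙 _) hSt inferInstance htπ.symm (Category.id_comp _).symm
  have hconnP : ConnectedSpace ↥(pullback f.fromNormalization (a ≫ f.fromNormalization)) :=
    Function.Surjective.connectedSpace hm.surj (Scheme.Hom.continuous _)
  have hAff : IsAffine (pullback f.fromNormalization (a ≫ f.fromNormalization)) :=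
    isAffine_of_isAffineHom (pullback.snd f.fromNormalization (a ≫ f.fromNormalization))
  let e := (pullback f.fromNormalization (a ≫ f.fromNormalization)).isoSpec
  obtain ⟨φa, hφa⟩ := Spec.map_surjective (σa ≫ e.hom)
  obtain ⟨φb, hφb⟩ := Spec.map_surjective (σb ≫ e.hom)
  obtain ⟨ι, hι⟩ := Spec.map_surjective (e.inv ≫ pullback.snd f.fromNormalization
    (a ≫ f.fromNormalization))
  have e1 : ι ≫ φa = 𝟙 _ := by
    apply Spec.map_injective
    rw [Spec.map_comp, hφa, hι, Spec.map_id, Category.assoc, Iso.hom_inv_id_assoc, ha2]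
  have e2 : ι ≫ φb = 𝟙 _ := by
    apply Spec.map_injective
    rw [Spec.map_comp, hφb, hι, Spec.map_id, Category.assoc, Iso.hom_inv_id_assoc, hb2]
  have hint : ι.hom.IsIntegral := by
    rw [← IsIntegralHom.SpecMap_iff, hι]
    infer_instance
  have hpc : PreconnectedSpace (PrimeSpectrum
      Γ(pullback f.fromNormalization (a ≫ f.fromNormalization), ⊤)) := by
    have : ConnectedSpace ↥(Spec Γ(pullback f.fromNormalization (a ≫ f.fromNormalization), ⊤)) :=
      (e.hom.homeomorph.connectedSpace_iff).mp hconnP
    exact this.toPreconnectedSpace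
  have hsub : Subsingleton (PrimeSpectrum
      Γ(pullback f.fromNormalization (a ≫ f.fromNormalization), ⊤)) :=
    subsingleton_primeSpectrum ι.hom hint
  have hφ : φa.hom = φb.hom := by
    refine section_unique ι.hom φa.hom φb.hom ?_ ?_
    · have := congrArg CommRingCat.Hom.hom e1; simpa using this
    · have := congrArg CommRingCat.Hom.hom e2; simpa using this
  have hφ' : φa = φb := CommRingCat.hom_ext hφ
  have : σa ≫ e.hom = σb ≫ e.hom := by rw [← hφa, ← hφb, hφ']
  exact (cancel_mono e.hom).mp this

theorem main {X S : Scheme.{u}} (f : X ⟶ S) [IsProper f] [GeometricallyConnected f] :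
    FlatMor.IsUnivHomeo f.fromNormalization := by
  rw [isUnivHomeo_iff]
  refine ⟨inferInstance, ?_, ?_⟩
  · have htfae := (tfae_universallyInjective f.fromNormalization).out 0 1
    rw [htfae]
    intro K _ a b hab
    exact key f a b hab
  · have : Surjective (f.toNormalization ≫ f.fromNormalization) := by
      rw [f.toNormalization_fromNormalization]; infer_instance
    exact Surjective.of_comp f.toNormalization _

end Groth.Agent.Helper21.SteinUH
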