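import Mathlib
import Groth.Agent.Lib.Helper21.SteinUH

/-!
Geometric connectedness of a proper scheme over a field in terms of its ring of global sections.
-/

open AlgebraicGeometry CategoryTheory Limits

universe u

namespace Groth.Agent.Helper21.GeomConn

open Groth.Agent.Helper21.SteinUH

/-- Generalisation of `SteinUH.key`: if `f = t ≫ π` with `t` surjective, `π` integral and `f`
geometrically connected, then `π` is injective on field-valued points. -/
theorem key' {X S' S : Scheme.{u}} (f : X ⟶ S) (t : X ⟶ S') (π : S' ⟶ S) (htπ : t ≫ π = f)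
    [hSt : Surjective t] [IsIntegralHom π] [GeometricallyConnected f]
    {K : Type u} [Field K] (a b : Spec (.of K) ⟶ S') (hab : a ≫ π = b ≫ π) : a = b := by
  let σa : Spec (.of K) ⟶ pullback π (a ≫ π) := pullback.lift a (𝟙 _) (by simp)
  let σb : Spec (.of K) ⟶ pullback π (a ≫ π) := pullback.lift b (𝟙 _) (by rw [← hab]; simp)
  have ha : σa ≫ pullback.fst _ _ = a := pullback.lift_fst _ _ _
  have hb : σb ≫ pullback.fst _ _ = b := pullback.lift_fst _ _ _
  have ha2 : σa ≫ pullback.snd _ _ = 𝟙 _ := pullback.lift_snd _ _ _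
  have hb2 : σb ≫ pullback.snd _ _ = 𝟙 _ := pullback.lift_snd _ _ _
  suffices σa = σb by rw [← ha, ← hb, this]
  have hconnX : ConnectedSpace ↥(pullback f (a ≫ π)) :=
    pullback_of_geometrically (GeometricallyConnected.geometrically_connectedSpace) K (a ≫ π)
  have hm : Surjective (pullback.map f (a ≫ π) π (a ≫ π) t (𝟙 _) (𝟙 _)
      ((Category.comp_id _).trans htπ.symm)
      ((Category.comp_id _).trans (Category.id_comp _).symm)) :=
    MorphismProperty.pullbackMap (P := @Surjective) (f := f) (g := a ≫ π)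
      (f' := π) (g' := a ≫ π) (i₁ := t)
      (i₂ := 𝟙 _) hSt inferInstance htπ.symm (Category.id_comp _).symm
  have hconnP : ConnectedSpace ↥(pullback π (a ≫ π)) :=
    Function.Surjective.connectedSpace hm.surj (Scheme.Hom.continuous _)
  have hAff : IsAffine (pullback π (a ≫ π)) :=
    isAffine_of_isAffineHom (pullback.snd π (a ≫ π))
  let e := (pullback π (a ≫ π)).isoSpec
  obtain ⟨φa, hφa⟩ := Spec.map_surjective (σa ≫ e.hom)
  obtain ⟨φb, hφb⟩ := Spec.map_surjective (σb ≫ e.hom)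
  obtain ⟨ι, hι⟩ := Spec.map_surjective (e.inv ≫ pullback.snd π (a ≫ π))
  have e1 : ι ≫ φa = 𝟙 _ := by
    apply Spec.map_injective
    rw [Spec.map_comp, hφa, hι, Spec.map_id, Category.assoc, Iso.hom_inv_id_assoc, ha2]
  have e2 : ι ≫ φb = 𝟙 _ := by
    apply Spec.map_injective
    rw [Spec.map_comp, hφb, hι, Spec.map_id, Category.assoc, Iso.hom_inv_id_assoc, hb2]
  have hint : ι.hom.IsIntegral := by
    rw [← IsIntegralHom.SpecMap_iff, hι]
    infer_instance
  have hpc : PreconnectedSpace (PrimeSpectrum Γ(pullback π (a ≫ π), ⊤)) := by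
    have : ConnectedSpace ↥(Spec Γ(pullback π (a ≫ π), ⊤)) :=
      (e.hom.homeomorph.connectedSpace_iff).mp hconnP
    exact this.toPreconnectedSpace
  have hsub : Subsingleton (PrimeSpectrum Γ(pullback π (a ≫ π), ⊤)) :=
    subsingleton_primeSpectrum ι.hom hint
  have hφ : φa.hom = φb.hom := by
    refine section_unique ι.hom φa.hom φb.hom ?_ ?_
    · have := congrArg CommRingCat.Hom.hom e1; simpa using this
    · have := congrArg CommRingCat.Hom.hom e2; simpa using this
  have hφ' : φa = φb := CommRingCat.hom_ext hφ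
  have : σa ≫ e.hom = σb ≫ e.hom := by rw [← hφa, ← hφb, hφ']
  exact (cancel_mono e.hom).mp this

/-- A subring of a pushout of commutative rings containing the images of both legs is
everything. -/
theorem subring_eq_top {A B C P : CommRingCat.{u}} {f : A ⟶ B} {g : A ⟶ C} {inl : B ⟶ P}
    {inr : C ⟶ P} (h : IsPushout f g inl inr) (S : Subring P) (hl : ∀ b, inl.hom b ∈ S)
    (hr : ∀ c, inr.hom c ∈ S) : S = ⊤ := by
  let l' : B ⟶ CommRingCat.of S := CommRingCat.ofHom (inl.hom.codRestrict S hl)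
  let r' : C ⟶ CommRingCat.of S := CommRingCat.ofHom (inr.hom.codRestrict S hr)
  have hw : f ≫ l' = g ≫ r' := by
    ext x
    have := congrArg (fun m => m.hom x) h.w
    exact this
  let d := h.desc l' r' hw
  have hd : d ≫ CommRingCat.ofHom S.subtype = 𝟙 P := by
    apply h.hom_ext
    · rw [← Category.assoc, h.inl_desc]; ext x; rfl
    · rw [← Category.assoc, h.inr_desc]; ext x; rfl
  rw [eq_top_iff]
  intro x _
  have h1 := congrArg (fun m => m.hom x) hd
  have h2 : ((d.hom x : S) : P) = x := by simpa using h1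
  rw [← h2]
  exact (d.hom x).2

/-- Ring-level core of the converse direction: if `A` is generated by the images of `R` and `K`,
and every element of `R` has a `q`-power which is a scalar modulo nilpotents, then every element
of `A` is a unit or nilpotent. -/
theorem isUnit_or_isNilpotent_of_gen {k K R A : Type*} [Field k] [Field K] [CommRing R]
    [CommRing A] [Nontrivial A]
    (φ : k →+* R) (ψ : k →+* K) (ρ : R →+* A) (κ : K →+* A) (hcomm : ρ.comp φ = κ.comp ψ)
    (q : ℕ) [ExpChar k q]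
    (hR : ∀ a : R, ∃ (n : ℕ) (c : k), IsNilpotent (a ^ (q ^ n) - φ c))
    (hgen : ∀ S : Subring A, (∀ a, ρ a ∈ S) → (∀ c, κ c ∈ S) → S = ⊤) (z : A) :
    IsUnit z ∨ IsNilpotent z := by
  haveI : ExpChar A q := expChar_of_injective_ringHom (f := κ.comp ψ) (RingHom.injective _) q
  have hq : 0 < q := expChar_pos k q
  set I := nilradical A with hI
  have raise : ∀ (z : A) (n m : ℕ) (μ : K), z ^ (q ^ n) - κ μ ∈ I →
      z ^ (q ^ (n + m)) - κ (μ ^ (q ^ m)) ∈ I := by
    intro z n m μ h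
    have h1 : z ^ (q ^ (n + m)) - κ (μ ^ (q ^ m)) = (z ^ (q ^ n) - κ μ) ^ (q ^ m) := by
      rw [sub_pow_expChar_pow, map_pow, ← pow_mul, ← pow_add]
    rw [h1]
    exact Ideal.pow_mem_of_mem I h _ (pow_pos hq m)
  let S : Subring A :=
    { carrier := {z | ∃ (n : ℕ) (μ : K), z ^ (q ^ n) - κ μ ∈ I}
      zero_mem' := ⟨0, 0, by simp⟩
      one_mem' := ⟨0, 1, by simp⟩
      add_mem' := by
        rintro z₁ z₂ ⟨n₁, μ₁, h₁⟩ ⟨n₂, μ₂, h₂⟩
        have h₁' := raise z₁ n₁ n₂ μ₁ h₁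
        have h₂' := raise z₂ n₂ n₁ μ₂ h₂
        rw [add_comm n₂ n₁] at h₂'
        refine ⟨n₁ + n₂, μ₁ ^ (q ^ n₂) + μ₂ ^ (q ^ n₁), ?_⟩
        have : (z₁ + z₂) ^ (q ^ (n₁ + n₂)) - κ (μ₁ ^ (q ^ n₂) + μ₂ ^ (q ^ n₁)) =
            (z₁ ^ (q ^ (n₁ + n₂)) - κ (μ₁ ^ (q ^ n₂))) +
              (z₂ ^ (q ^ (n₁ + n₂)) - κ (μ₂ ^ (q ^ n₁))) := by
          rw [add_pow_expChar_pow, map_add]; ring
        rw [this]
        exact I.add_mem h₁' h₂'
      mul_mem' := by
        rintro z₁ z₂ ⟨n₁, μ₁, h₁⟩ ⟨n₂, μ₂, h₂⟩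
        have h₁' := raise z₁ n₁ n₂ μ₁ h₁
        have h₂' := raise z₂ n₂ n₁ μ₂ h₂
        rw [add_comm n₂ n₁] at h₂'
        refine ⟨n₁ + n₂, μ₁ ^ (q ^ n₂) * μ₂ ^ (q ^ n₁), ?_⟩
        have : (z₁ * z₂) ^ (q ^ (n₁ + n₂)) - κ (μ₁ ^ (q ^ n₂) * μ₂ ^ (q ^ n₁)) =
            (z₁ ^ (q ^ (n₁ + n₂)) - κ (μ₁ ^ (q ^ n₂))) * z₂ ^ (q ^ (n₁ + n₂)) +
              κ (μ₁ ^ (q ^ n₂)) * (z₂ ^ (q ^ (n₁ + n₂)) - κ (μ₂ ^ (q ^ n₁))) := by
          rw [mul_pow, map_mul]; ring
        rw [this]
        exact I.add_mem (I.mul_mem_right _ h₁') (I.mul_mem_left _ h₂')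
      neg_mem' := by
        rintro z ⟨n, μ, h⟩
        refine ⟨n, (-1) ^ (q ^ n) * μ, ?_⟩
        have : (-z) ^ (q ^ n) - κ ((-1) ^ (q ^ n) * μ) = (-1) ^ (q ^ n) * (z ^ (q ^ n) - κ μ) := by
          rw [map_mul, map_pow, map_neg, map_one, neg_pow z]; ring
        rw [this]
        exact I.mul_mem_left _ h }
  have hS : S = ⊤ := by
    apply hgen
    · intro a
      obtain ⟨n, c, hc⟩ := hR a
      refine ⟨n, ψ c, ?_⟩
      have h1 : ρ a ^ (q ^ n) - κ (ψ c) = ρ (a ^ (q ^ n) - φ c) := by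
        have := congrArg (fun m => m c) hcomm
        simp only [RingHom.comp_apply] at this
        rw [map_sub, map_pow, this]
      rw [h1]
      exact mem_nilradical.mpr (hc.map ρ)
    · intro c
      exact ⟨0, c, by simp⟩
  have hz : z ∈ S := hS ▸ Subring.mem_top z
  obtain ⟨n, μ, h⟩ := hz
  have hnil : IsNilpotent (z ^ (q ^ n) - κ μ) := mem_nilradical.mp h
  by_cases hμ : μ = 0
  · right
    rw [hμ, map_zero, sub_zero] at hnil
    exact hnil.of_pow
  · left
    have hu : IsUnit (κ μ) := (IsUnit.mk0 μ hμ).map κ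
    have h2 : IsUnit (κ μ + (z ^ (q ^ n) - κ μ)) :=
      hnil.isUnit_add_left_of_commute hu (Commute.all _ _)
    rw [add_sub_cancel] at h2
    exact (isUnit_pow_iff (pow_pos hq n).ne').mp h2

theorem idempotent_trivial {A : Type*} [CommRing A]
    (h : ∀ z : A, IsUnit z ∨ IsNilpotent z) (e : A) (he : IsIdempotentElem e) :
    e = 0 ∨ e = 1 := by
  rcases h e with hu | ⟨n, hn⟩
  · right
    obtain ⟨u, rfl⟩ := hu
    have h3 : (u : A) * u = u * 1 := by rw [he.eq, mul_one]
    exact u.isUnit.mul_left_cancel h3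
  · left
    rcases n with _ | n
    · rw [pow_zero] at hn
      have : Subsingleton A := subsingleton_of_zero_eq_one hn.symm
      exact Subsingleton.elim _ _
    · rw [he.pow_succ_eq] at hn; exact hn

/-- A clopen subset of a scheme gives an idempotent global section. -/
theorem exists_idempotent_of_isClopen (Y : Scheme.{u}) (s : Set Y) (hs : IsClopen s) :
    ∃ e : Γ(Y, ⊤), IsIdempotentElem e ∧ (e = 0 → s = ∅) ∧ (e = 1 → s = Set.univ) := by
  let U : Y.Opens := ⟨s, hs.isOpen⟩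
  let V : Y.Opens := ⟨sᶜ, hs.isClosed.isOpen_compl⟩
  let Uf : Bool → Y.Opens := fun b => bif b then U else V
  let sf : ∀ b, Γ(Y, Uf b) := fun b => bif b then 1 else 0
  have hbot : U ⊓ V = ⊥ := by
    ext x
    simp [U, V]
  have hbot' : V ⊓ U = ⊥ := by rw [inf_comm]; exact hbot
  have hsub : ∀ W : Y.Opens, W = ⊥ → Subsingleton Γ(Y, W) := by
    rintro _ rfl; infer_instance
  have compat : TopCat.Presheaf.IsCompatible Y.sheaf.1 Uf sf := by
    intro i j
    cases i <;> cases j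
    · rfl
    · haveI := hsub _ hbot'
      exact Subsingleton.elim (α := Γ(Y, V ⊓ U)) _ _
    · haveI := hsub _ hbot
      exact Subsingleton.elim (α := Γ(Y, U ⊓ V)) _ _
    · rfl
  have hcover : (⊤ : Y.Opens) ≤ iSup Uf := by
    intro x _
    by_cases hx : x ∈ s
    · exact TopologicalSpace.Opens.mem_iSup.mpr ⟨true, hx⟩
    · exact TopologicalSpace.Opens.mem_iSup.mpr ⟨false, hx⟩
  obtain ⟨e0, he0, -⟩ := Y.sheaf.existsUnique_gluing' Uf ⊤ (fun b => homOfLE le_top) hcover sf compat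
  let e : Γ(Y, ⊤) := e0
  have he : ∀ b, (Y.presheaf.map (homOfLE (le_top : Uf b ≤ ⊤)).op).hom e = sf b := he0
  refine ⟨e, ?_, ?_, ?_⟩
  · refine Y.sheaf.eq_of_locally_eq' Uf ⊤ (fun b => homOfLE le_top) hcover (e * e) e (fun b => ?_)
    show (Y.presheaf.map (homOfLE (le_top : Uf b ≤ ⊤)).op).hom (e * e) =
      (Y.presheaf.map (homOfLE (le_top : Uf b ≤ ⊤)).op).hom e
    rw [map_mul, he b]
    cases b
    · exact mul_zero (0 : Γ(Y, V))
    · exact mul_one (1 : Γ(Y, U))
  · intro h0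
    by_contra hne
    obtain ⟨x, hx⟩ := Set.nonempty_iff_ne_empty.mpr hne
    haveI : Nonempty U := ⟨⟨x, hx⟩⟩
    have h1 := he true
    rw [h0, map_zero] at h1
    exact zero_ne_one (α := Γ(Y, U)) h1
  · intro h1
    by_contra hne
    obtain ⟨x, hx⟩ := (Set.ne_univ_iff_exists_notMem s).mp hne
    haveI : Nonempty V := ⟨⟨x, hx⟩⟩
    have h2 := he false
    rw [h1, map_one] at h2
    exact one_ne_zero (α := Γ(Y, V)) h2

end Groth.Agent.Helper21.GeomConn
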