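import Mathlib
import Groth.Agent.Lib.Helper21.GeomConn

/-!
Geometric connectedness of a proper scheme over a field in terms of its ring of global sections:
the two directions.
-/

open AlgebraicGeometry CategoryTheory Limits

universe u

namespace Groth.Agent.Helper21.GeomConn2

open Groth.Agent.Helper21.SteinUH Groth.Agent.Helper21.GeomConn

theorem forward (k : Type u) [Field k] {X : Scheme.{u}} (f : X ⟶ Spec (CommRingCat.of k))
    [IsProper f] [GeometricallyConnected f] :
    IsLocalRing Γ(X, ⊤) ∧ ringKrullDim Γ(X, ⊤) = 0 ∧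
      ∀ a : Γ(X, ⊤), ∃ (n : ℕ) (c : k),
        IsNilpotent (a ^ (ringExpChar k ^ n) -
          f.appTop.hom ((Scheme.ΓSpecIso (CommRingCat.of k)).inv.hom c)) := by
  have hsub : Subsingleton ↥(Spec (CommRingCat.of k)) :=
    inferInstanceAs (Subsingleton (PrimeSpectrum k))
  have hne : Nonempty ↥(Spec (CommRingCat.of k)) :=
    inferInstanceAs (Nonempty (PrimeSpectrum k))
  have hconn : ConnectedSpace X := GeometricallyConnected.connectedSpace_of_subsingleton f
  have hcpt : CompactSpace X := (quasiCompact_iff_compactSpace f).mp inferInstance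
  let φ : CommRingCat.of k ⟶ Γ(X, ⊤) := (Scheme.ΓSpecIso (CommRingCat.of k)).inv ≫ f.appTop
  have hφint : φ.hom.IsIntegral := by
    apply RingHom.isIntegral_respectsIso.2 (e := (Scheme.ΓSpecIso _).symm.commRingCatIsoToRingEquiv)
    exact isIntegral_appTop_of_universallyClosed f
  have htπ : X.toSpecΓ ≫ Spec.map φ = f := by
    rw [Spec.map_comp, ← Category.assoc, ← Scheme.toSpecΓ_naturality, Category.assoc,
      toSpecΓ_SpecMap_ΓSpecIso_inv, Category.comp_id]
  have hUC : UniversallyClosed X.toSpecΓ := by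
    have : UniversallyClosed (X.toSpecΓ ≫ Spec.map φ) := by rw [htπ]; infer_instance
    exact .of_comp_of_isSeparated _ (Spec.map φ)
  have hSt : Surjective X.toSpecΓ :=
    surjective_of_isDominant_of_isClosed_range X.toSpecΓ (X.toSpecΓ.isClosedMap.isClosed_range)
  have hint : IsIntegralHom (Spec.map φ) := IsIntegralHom.SpecMap_iff.mpr hφint
  have hconnR : ConnectedSpace ↥(Spec Γ(X, ⊤)) :=
    Function.Surjective.connectedSpace hSt.surj (Scheme.Hom.continuous _)
  have hpc : PreconnectedSpace (PrimeSpectrum Γ(X, ⊤)) := hconnR.toPreconnectedSpace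
  have hss : Subsingleton (PrimeSpectrum Γ(X, ⊤)) := subsingleton_primeSpectrum φ.hom hφint
  have hnePS : Nonempty (PrimeSpectrum Γ(X, ⊤)) := hconnR.toNonempty
  have hnt : Nontrivial Γ(X, ⊤) := (PrimeSpectrum.nonempty_iff_nontrivial).mp hnePS
  have hloc : IsLocalRing Γ(X, ⊤) := by
    obtain ⟨m, hm⟩ := Ideal.exists_maximal Γ(X, ⊤)
    refine IsLocalRing.of_unique_max_ideal ⟨m, hm, fun m' hm' => ?_⟩
    exact congrArg PrimeSpectrum.asIdeal
      (Subsingleton.elim (⟨m', hm'.isPrime⟩ : PrimeSpectrum _) ⟨m, hm.isPrime⟩)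
  refine ⟨hloc, Order.krullDim_eq_zero, ?_⟩
  letI : Algebra k (IsLocalRing.ResidueField Γ(X, ⊤)) :=
    ((IsLocalRing.residue Γ(X, ⊤)).comp φ.hom).toAlgebra
  have hpi : IsPurelyInseparable k (IsLocalRing.ResidueField Γ(X, ⊤)) := by
    haveI : Nonempty (IsLocalRing.ResidueField Γ(X, ⊤) →+*
        AlgebraicClosure (IsLocalRing.ResidueField Γ(X, ⊤))) := ⟨algebraMap _ _⟩
    refine IsPurelyInseparable.of_injective_comp_algebraMap (F := k)
      (E := IsLocalRing.ResidueField Γ(X, ⊤))
      (AlgebraicClosure (IsLocalRing.ResidueField Γ(X, ⊤))) ?_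
    intro α β hαβ
    let a : Spec (.of (AlgebraicClosure (IsLocalRing.ResidueField Γ(X, ⊤)))) ⟶ Spec Γ(X, ⊤) :=
      Spec.map (CommRingCat.ofHom (α.comp (IsLocalRing.residue Γ(X, ⊤))))
    let b : Spec (.of (AlgebraicClosure (IsLocalRing.ResidueField Γ(X, ⊤)))) ⟶ Spec Γ(X, ⊤) :=
      Spec.map (CommRingCat.ofHom (β.comp (IsLocalRing.residue Γ(X, ⊤))))
    have hab : a ≫ Spec.map φ = b ≫ Spec.map φ := by
      rw [← Spec.map_comp, ← Spec.map_comp]
      congr 1
      ext x
      exact congrArg (fun m => m x) hαβ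
    have h1 := key' f X.toSpecΓ (Spec.map φ) htπ a b hab
    have h2 := Spec.map_injective h1
    have h3 : α.comp (IsLocalRing.residue Γ(X, ⊤)) = β.comp (IsLocalRing.residue Γ(X, ⊤)) :=
      congrArg CommRingCat.Hom.hom h2
    exact (RingHom.cancel_right IsLocalRing.residue_surjective).mp h3
  intro a
  obtain ⟨n, c, hc⟩ := IsPurelyInseparable.pow_mem k (ringExpChar k)
    (IsLocalRing.residue Γ(X, ⊤) a)
  refine ⟨n, c, ?_⟩
  have hmem : a ^ (ringExpChar k ^ n) - φ.hom c ∈ IsLocalRing.maximalIdeal Γ(X, ⊤) := by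
    rw [← IsLocalRing.residue_eq_zero_iff, map_sub, map_pow, ← hc]
    exact sub_self _
  show IsNilpotent (a ^ (ringExpChar k ^ n) - φ.hom c)
  rw [nilpotent_iff_mem_prime]
  intro J hJ
  have hJm : (⟨J, hJ⟩ : PrimeSpectrum Γ(X, ⊤)) = ⟨IsLocalRing.maximalIdeal Γ(X, ⊤), inferInstance⟩ :=
    Subsingleton.elim _ _
  have : J = IsLocalRing.maximalIdeal Γ(X, ⊤) := congrArg PrimeSpectrum.asIdeal hJm
  rw [this]
  exact hmem

theorem backward (k : Type u) [Field k] {X : Scheme.{u}} (f : X ⟶ Spec (CommRingCat.of k))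
    [IsProper f] (hnt : Nontrivial Γ(X, ⊤))
    (hpi : ∀ a : Γ(X, ⊤), ∃ (n : ℕ) (c : k),
        IsNilpotent (a ^ (ringExpChar k ^ n) -
          f.appTop.hom ((Scheme.ΓSpecIso (CommRingCat.of k)).inv.hom c))) :
    GeometricallyConnected f := by
  refine ⟨geometrically_iff_of_isClosedUnderIsomorphisms.mpr fun K _ y => ?_⟩
  show ConnectedSpace ↥(pullback f y)
  have hcpt : CompactSpace X := (quasiCompact_iff_compactSpace f).mp inferInstance
  have hqs : QuasiSeparatedSpace X := (quasiSeparated_iff_quasiSeparatedSpace f).mp inferInstance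
  obtain ⟨ψ, rfl⟩ := Spec.map_surjective y
  have hflat : Flat (Spec.map ψ) := by
    rw [Flat.SpecMap_iff]
    letI := ψ.hom.toAlgebra
    exact RingHom.flat_algebraMap_iff.mpr inferInstance
  -- nonemptiness
  have hneX : Nonempty X := by
    by_contra hcon
    haveI : IsEmpty X := not_nonempty_iff.mp hcon
    exact not_subsingleton Γ(X, ⊤) inferInstance
  have hneY : Nonempty ↥(pullback f (Spec.map ψ)) := by
    obtain ⟨x⟩ := hneX
    have hneK : Nonempty ↥(Spec (CommRingCat.of K)) :=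
      inferInstanceAs (Nonempty (PrimeSpectrum K))
    obtain ⟨pt⟩ := hneK
    have hsub : Subsingleton ↥(Spec (CommRingCat.of k)) :=
      inferInstanceAs (Subsingleton (PrimeSpectrum k))
    obtain ⟨z, -, -⟩ := Scheme.Pullback.exists_preimage_pullback (f := f) (g := Spec.map ψ) x pt
      (Subsingleton.elim _ _)
    exact ⟨z⟩
  have H : IsPullback (pullback.fst f (Spec.map ψ)) (pullback.snd f (Spec.map ψ)) f
      (Spec.map ψ) := IsPullback.of_hasPullback _ _
  have hiso : IsIso (pushoutSection H (US := ⊤) (UT := ⊤) (UX := ⊤) (UY := ⊤)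
      (by simp) (by simp) (by simp)) :=
    isIso_pushoutSection_of_isQuasiSeparated_of_flat_right H _ _ _ (isAffineOpen_top _)
      (isAffineOpen_top _) isCompact_univ isQuasiSeparated_univ
  have hpo := (isIso_pushoutSection_iff H (US := ⊤) (UT := ⊤) (UX := ⊤) (UY := ⊤)
      (by simp) (by simp) (by simp)).mp hiso
  haveI hntY : Nontrivial Γ(pullback f (Spec.map ψ), ⊤) := by
    apply +allowSynthFailures Scheme.component_nontrivial
    obtain ⟨z⟩ := hneY
    exact ⟨⟨z, trivial⟩⟩
  have key : ∀ z : Γ(pullback f (Spec.map ψ), ⊤), IsUnit z ∨ IsNilpotent z := by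
    intro z
    refine isUnit_or_isNilpotent_of_gen (k := k) (K := K) (R := Γ(X, ⊤))
      (f.appTop.hom.comp (Scheme.ΓSpecIso (CommRingCat.of k)).inv.hom) ψ.hom
      ((pullback.fst f (Spec.map ψ)).appLE ⊤ ⊤ (by simp)).hom
      (((pullback.snd f (Spec.map ψ)).appLE ⊤ ⊤ (by simp)).hom.comp
        (Scheme.ΓSpecIso (CommRingCat.of K)).inv.hom) ?_ (ringExpChar k) hpi ?_ z
    · have h1 := hpo.w
      have h2 : f.appLE ⊤ ⊤ (by simp) = f.appTop := f.appLE_eq_app
      have h3 : (Spec.map ψ).appLE ⊤ ⊤ (by simp) = (Spec.map ψ).appTop :=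
        (Spec.map ψ).appLE_eq_app
      rw [h2, h3] at h1
      have h4 : (Scheme.ΓSpecIso (CommRingCat.of k)).inv ≫ f.appTop ≫
          (pullback.fst f (Spec.map ψ)).appLE ⊤ ⊤ (by simp) =
          ψ ≫ (Scheme.ΓSpecIso (CommRingCat.of K)).inv ≫
            (pullback.snd f (Spec.map ψ)).appLE ⊤ ⊤ (by simp) := by
        rw [h1, Scheme.ΓSpecIso_inv_naturality_assoc]
      exact congrArg CommRingCat.Hom.hom h4
    · intro S hl hr
      refine subring_eq_top hpo S hl (fun c => ?_)
      have := hr ((Scheme.ΓSpecIso (CommRingCat.of K)).hom.hom c)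
      simpa using this
  rw [connectedSpace_iff_clopen]
  refine ⟨hneY, fun s hs => ?_⟩
  obtain ⟨e, he, h0, h1⟩ := exists_idempotent_of_isClopen _ s hs
  rcases idempotent_trivial key e he with h | h
  · exact Or.inl (h0 h)
  · exact Or.inr (h1 h)

end Groth.Agent.Helper21.GeomConn2
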