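import Mathlib
import Groth.Prelude.Def_EtGlue
import Groth.Agent.Lib.Helper3.BL3

/-!
# Glueing pairs detect properties of ring maps: surjectivity and finite type
-/

set_option autoImplicit false

open TensorProduct

namespace Groth.Agent.Helper21.GLA

universe u

section modules

variable {R R' : Type u} [CommRing R] [CommRing R'] [Algebra R R'] {f : R}

/-- a submodule `P ⊆ M` with `M/P` `f`-power torsion and `R' ⊗ P → R' ⊗ M` surjective is everything. -/
theorem eq_top_of_glue (hq : EtGlue.QuotPowBijective R R' f) {M : Type u} [AddCommGroup M]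
    [Module R M] (P : Submodule R M) (h1 : ∀ m : M, ∃ n : ℕ, f ^ n • m ∈ P)
    (h2 : ∀ x : R' ⊗[R] M,
      x ∈ Submodule.span R {y | ∃ (r' : R') (p : M), p ∈ P ∧ r' ⊗ₜ[R] p = y}) : P = ⊤ := by
  have htors : ∀ t : M ⧸ P, ∃ n : ℕ, f ^ n • t = 0 := by
    intro t
    obtain ⟨m, rfl⟩ := Submodule.Quotient.mk_surjective _ t
    obtain ⟨n, hn⟩ := h1 m
    refine ⟨n, ?_⟩
    rw [← Submodule.Quotient.mk_smul, Submodule.Quotient.mk_eq_zero]
    exact hn
  have hzero : ∀ z : R' ⊗[R] (M ⧸ P), z = 0 := by
    intro z
    obtain ⟨w, rfl⟩ := LinearMap.lTensor_surjective R' (Submodule.mkQ_surjective P) z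
    have hw := h2 w
    induction hw using Submodule.span_induction with
    | mem x hx =>
      obtain ⟨r', p, hp, rfl⟩ := hx
      rw [LinearMap.lTensor_tmul, Submodule.mkQ_apply, (Submodule.Quotient.mk_eq_zero P).2 hp,
        tmul_zero]
    | zero => exact map_zero _
    | add x y _ _ hx hy => rw [map_add, hx, hy, add_zero]
    | smul a x _ hx => rw [map_smul, hx, smul_zero]
  rw [eq_top_iff]
  intro m _
  have := Groth.Agent.Helper3.BL.tmul_injective_of_torsion hq htors (Submodule.Quotient.mk m)
    (hzero _)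
  exact (Submodule.Quotient.mk_eq_zero _).1 this

end modules

section away

variable {A B : Type u} [CommRing A] [CommRing B]

theorem awayMap_algebraMap (φ : A →+* B) (a : A) (z : A) :
    Localization.awayMap φ a (algebraMap A (Localization.Away a) z) =
      algebraMap B (Localization.Away (φ a)) (φ z) := by
  simp only [Localization.awayMap, IsLocalization.Away.map, IsLocalization.map_eq]

/-- an element of `B` whose image in `B_{φ a}` comes from `A_a` is, up to a power of `φ a`, in the
image of `φ`. -/
theorem exists_pow_mul_eq_of_mem_range (φ : A →+* B) (a : A) (b : B)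
    (h : algebraMap B (Localization.Away (φ a)) b ∈ Set.range (Localization.awayMap φ a)) :
    ∃ (n : ℕ) (a₀ : A), φ a ^ n * b = φ a₀ := by
  obtain ⟨x, hx⟩ := h
  obtain ⟨n, a₀, hxa⟩ := IsLocalization.Away.surj a x
  have h3 := congrArg (Localization.awayMap φ a) hxa
  rw [map_mul, map_pow, awayMap_algebraMap, awayMap_algebraMap, hx, ← map_pow, ← map_mul] at h3
  obtain ⟨k, hk⟩ := IsLocalization.Away.exists_of_eq (φ a) h3
  refine ⟨k + n, a ^ k * a₀, ?_⟩
  rw [map_mul, map_pow, ← hk, pow_add]
  ring

end away

section surj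

variable {R R' : Type u} [CommRing R] [CommRing R'] [Algebra R R'] {f : R}
variable {A B : Type u} [CommRing A] [Algebra R A] [CommRing B] [Algebra R B]

theorem smul_eq_map_pow_mul (φ : A →ₐ[R] B) (n : ℕ) (b : B) :
    f ^ n • b = φ.toRingHom (algebraMap R A f) ^ n * b := by
  rw [Algebra.smul_def, map_pow]
  congr 2
  exact (φ.commutes f).symm

/-- S10721, the nontrivial direction. -/
theorem surjective_of_glue (hq : EtGlue.QuotPowBijective R R' f) (φ : A →ₐ[R] B)
    (h1 : Function.Surjective (Localization.awayMap φ.toRingHom (algebraMap R A f)))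
    (h2 : Function.Surjective (Algebra.TensorProduct.map (AlgHom.id R R') φ).toRingHom) :
    Function.Surjective φ := by
  have htop : LinearMap.range φ.toLinearMap = ⊤ := by
    apply eq_top_of_glue hq
    · intro b
      obtain ⟨n, a₀, h⟩ := exists_pow_mul_eq_of_mem_range φ.toRingHom (algebraMap R A f) b (h1 _)
      refine ⟨n, a₀, ?_⟩
      rw [smul_eq_map_pow_mul φ, h]
      rfl
    · intro x
      obtain ⟨y, rfl⟩ := h2 x
      induction y using TensorProduct.induction_on with
      | zero =>
        rw [map_zero]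
        exact Submodule.zero_mem _
      | tmul r a =>
        exact Submodule.subset_span ⟨r, φ a, ⟨a, rfl⟩, rfl⟩
      | add y z hy hz =>
        rw [map_add]
        exact Submodule.add_mem _ hy hz
  intro b
  have hb : b ∈ LinearMap.range φ.toLinearMap := htop ▸ Submodule.mem_top
  obtain ⟨a, ha⟩ := hb
  exact ⟨a, ha⟩

end surj

section stable

/-- a property of ring maps stable under base change is stable under `R' ⊗ -`. -/
theorem lTensor_of_stable {P : ∀ {R S : Type u} [CommRing R] [CommRing S], (R →+* S) → Prop}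
    (hP : RingHom.IsStableUnderBaseChange @P) (hP' : RingHom.RespectsIso @P)
    {R R' A B : Type u} [CommRing R] [CommRing R'] [CommRing A] [CommRing B] [Algebra R R']
    [Algebra R A] [Algebra R B] (φ : A →ₐ[R] B) (h : P φ.toRingHom) :
    P (Algebra.TensorProduct.map (AlgHom.id R R') φ).toRingHom := by
  let algAB : Algebra A B := φ.toRingHom.toAlgebra
  have tower : IsScalarTower R A B := IsScalarTower.of_algebraMap_eq' φ.comp_algebraMap.symm
  let g : A ⊗[R] R' →ₐ[R] B ⊗[R] R' := Algebra.TensorProduct.map φ (AlgHom.id R R')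
  let alg2 : Algebra (A ⊗[R] R') (B ⊗[R] R') := g.toRingHom.toAlgebra
  have hg : ∀ x, algebraMap (A ⊗[R] R') (B ⊗[R] R') x = g x := fun _ => rfl
  have tower2 : IsScalarTower A (A ⊗[R] R') (B ⊗[R] R') := by
    refine IsScalarTower.of_algebraMap_eq (fun a => ?_)
    rw [hg, Algebra.TensorProduct.algebraMap_apply, Algebra.TensorProduct.algebraMap_apply]
    rfl
  have hpush : Algebra.IsPushout A B (A ⊗[R] R') (B ⊗[R] R') := by
    refine Algebra.IsPushout.tensorProduct_tensorProduct R R' A B ?_
    ext r'
    show g ((1 : A) ⊗ₜ[R] r') = (1 : B) ⊗ₜ[R] r'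
    simp [g]
  have h1 : P (algebraMap (A ⊗[R] R') (B ⊗[R] R')) := hP A B (A ⊗[R] R') (B ⊗[R] R') h
  have h2 := hP'.1 _ (Algebra.TensorProduct.comm R B R').toRingEquiv
    (hP'.2 _ (Algebra.TensorProduct.comm R R' A).toRingEquiv h1)
  convert h2 using 1
  refine RingHom.ext (fun x => ?_)
  induction x using TensorProduct.induction_on with
  | zero => simp
  | tmul r' a => simp [hg, g]
  | add x y hx hy => simp only [map_add, hx, hy]

end stable

end Groth.Agent.Helper21.GLA
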