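import Mathlib
import Groth.Agent.Lib.Helper21.GlueAlg

/-!
# Glueing pairs detect finite type ring maps
-/

set_option autoImplicit false

open TensorProduct

namespace Groth.Agent.Helper21.GLA2

open Groth.Agent.Helper21.GLA

universe u

section away

variable {A B : Type u} [CommRing A] [CommRing B]

/-- localization side: if `B_{φ a}` is generated over `A_a` by fractions with numerators in a
subring `S₁ ⊇ φ(A)`, every element of `B` is in `S₁` up to a power of `φ a`. -/
theorem exists_pow_mul_mem_of_adjoin (φ : A →+* B) (a : A) (S₁ : Subring B)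
    (hφ : ∀ z, φ z ∈ S₁)
    [Algebra (Localization.Away a) (Localization.Away (φ a))]
    (halg : ∀ r, algebraMap (Localization.Away a) (Localization.Away (φ a)) r =
      Localization.awayMap φ a r)
    (s₁ : Set (Localization.Away (φ a)))
    (hs₁ : ∀ x ∈ s₁, ∃ (n : ℕ) (b₁ : B), b₁ ∈ S₁ ∧
      algebraMap B (Localization.Away (φ a)) b₁ =
        x * algebraMap B (Localization.Away (φ a)) (φ a) ^ n)
    (hgen : Algebra.adjoin (Localization.Away a) s₁ = ⊤) (b : B) :
    ∃ n : ℕ, φ a ^ n * b ∈ S₁ := by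
  have hT : ∀ x : Localization.Away (φ a), ∃ (n : ℕ) (b₁ : B), b₁ ∈ S₁ ∧
      algebraMap B (Localization.Away (φ a)) b₁ =
        x * algebraMap B (Localization.Away (φ a)) (φ a) ^ n := by
    intro x
    have hx : x ∈ Algebra.adjoin (Localization.Away a) s₁ := hgen ▸ Algebra.mem_top
    induction hx using Algebra.adjoin_induction with
    | mem x hx => exact hs₁ x hx
    | algebraMap r =>
      obtain ⟨n, a₀, h⟩ := IsLocalization.Away.surj a r
      refine ⟨n, φ a₀, hφ a₀, ?_⟩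
      have h3 := congrArg (Localization.awayMap φ a) h
      rw [map_mul, map_pow, awayMap_algebraMap, awayMap_algebraMap] at h3
      rw [halg]
      exact h3.symm
    | add x y _ _ hx hy =>
      obtain ⟨n, b₁, hb₁, e₁⟩ := hx
      obtain ⟨m, b₂, hb₂, e₂⟩ := hy
      refine ⟨n + m, b₁ * φ a ^ m + b₂ * φ a ^ n, ?_, ?_⟩
      · exact S₁.add_mem (S₁.mul_mem hb₁ (S₁.pow_mem (hφ a) m))
          (S₁.mul_mem hb₂ (S₁.pow_mem (hφ a) n))
      · rw [map_add, map_mul, map_mul, map_pow, map_pow, e₁, e₂, pow_add]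
        ring
    | mul x y _ _ hx hy =>
      obtain ⟨n, b₁, hb₁, e₁⟩ := hx
      obtain ⟨m, b₂, hb₂, e₂⟩ := hy
      refine ⟨n + m, b₁ * b₂, S₁.mul_mem hb₁ hb₂, ?_⟩
      rw [map_mul, e₁, e₂, pow_add]
      ring
  obtain ⟨n, b₁, hb₁, e⟩ := hT (algebraMap B _ b)
  rw [← map_pow, ← map_mul] at e
  obtain ⟨k, hk⟩ := IsLocalization.Away.exists_of_eq (φ a) e
  refine ⟨k + n, ?_⟩
  have h4 : φ a ^ (k + n) * b = φ a ^ k * b₁ := by
    rw [hk, pow_add]
    ring
  rw [h4]
  exact S₁.mul_mem (S₁.pow_mem (hφ a) k) hb₁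

end away

section tensor

variable {R R' : Type u} [CommRing R] [CommRing R'] [Algebra R R']
variable {A B : Type u} [CommRing A] [Algebra R A] [CommRing B] [Algebra R B]

/-- tensor side: if `R' ⊗ B` is generated over `R' ⊗ A` by elements of the image of `R' ⊗ S₁`
for a subring `S₁ ⊇ φ(A)`, then `R' ⊗ S₁ → R' ⊗ B` is surjective. -/
theorem mem_span_of_adjoin (φ : A →ₐ[R] B) (S₁ : Subring B) (hφ : ∀ z, φ z ∈ S₁)
    [Algebra (R' ⊗[R] A) (R' ⊗[R] B)]
    (halg : ∀ y, algebraMap (R' ⊗[R] A) (R' ⊗[R] B) y =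
      Algebra.TensorProduct.map (AlgHom.id R R') φ y)
    (s₂ : Set (R' ⊗[R] B))
    (hs₂ : ∀ x ∈ s₂, x ∈ Submodule.span R
      {y | ∃ (r' : R') (p : B), p ∈ S₁ ∧ r' ⊗ₜ[R] p = y})
    (hgen : Algebra.adjoin (R' ⊗[R] A) s₂ = ⊤) (x : R' ⊗[R] B) :
    x ∈ Submodule.span R {y | ∃ (r' : R') (p : B), p ∈ S₁ ∧ r' ⊗ₜ[R] p = y} := by
  have hGG : ∀ x ∈ {y : R' ⊗[R] B | ∃ (r' : R') (p : B), p ∈ S₁ ∧ r' ⊗ₜ[R] p = y},
      ∀ y ∈ {y : R' ⊗[R] B | ∃ (r' : R') (p : B), p ∈ S₁ ∧ r' ⊗ₜ[R] p = y},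
      x * y ∈ {y : R' ⊗[R] B | ∃ (r' : R') (p : B), p ∈ S₁ ∧ r' ⊗ₜ[R] p = y} := by
    rintro _ ⟨r₁, p₁, hp₁, rfl⟩ _ ⟨r₂, p₂, hp₂, rfl⟩
    exact ⟨r₁ * r₂, p₁ * p₂, S₁.mul_mem hp₁ hp₂,
      (Algebra.TensorProduct.tmul_mul_tmul r₁ r₂ p₁ p₂).symm⟩
  have hmul : ∀ x y : R' ⊗[R] B,
      x ∈ Submodule.span R {y | ∃ (r' : R') (p : B), p ∈ S₁ ∧ r' ⊗ₜ[R] p = y} →
      y ∈ Submodule.span R {y | ∃ (r' : R') (p : B), p ∈ S₁ ∧ r' ⊗ₜ[R] p = y} →
      x * y ∈ Submodule.span R {y | ∃ (r' : R') (p : B), p ∈ S₁ ∧ r' ⊗ₜ[R] p = y} := by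
    intro x y hx hy
    have h := Submodule.mul_mem_mul hx hy
    rw [Submodule.span_mul_span] at h
    refine Submodule.span_mono ?_ h
    intro z hz
    obtain ⟨x, hx, y, hy, rfl⟩ := Set.mem_mul.1 hz
    exact hGG x hx y hy
  have hx : x ∈ Algebra.adjoin (R' ⊗[R] A) s₂ := hgen ▸ Algebra.mem_top
  induction hx using Algebra.adjoin_induction with
  | mem x hx => exact hs₂ x hx
  | algebraMap y =>
    rw [halg]
    induction y using TensorProduct.induction_on with
    | zero =>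
      rw [map_zero]
      exact Submodule.zero_mem _
    | tmul r a => exact Submodule.subset_span ⟨r, φ a, hφ a, rfl⟩
    | add y z hy hz =>
      rw [map_add]
      exact Submodule.add_mem _ hy hz
  | add x y _ _ hx hy => exact Submodule.add_mem _ hx hy
  | mul x y _ _ hx hy => exact hmul x y hx hy

end tensor

section main

variable {R R' : Type u} [CommRing R] [CommRing R'] [Algebra R R'] {f : R}
variable {A B : Type u} [CommRing A] [Algebra R A] [CommRing B] [Algebra R B]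

/-- S10722, the nontrivial direction. -/
theorem finiteType_of_glue (hq : EtGlue.QuotPowBijective R R' f) (φ : A →ₐ[R] B)
    (h1 : (Localization.awayMap φ.toRingHom (algebraMap R A f)).FiniteType)
    (h2 : (Algebra.TensorProduct.map (AlgHom.id R R') φ).toRingHom.FiniteType) :
    φ.toRingHom.FiniteType := by
  classical
  let algAB : Algebra A B := φ.toRingHom.toAlgebra
  let algL : Algebra (Localization.Away (algebraMap R A f))
      (Localization.Away (φ.toRingHom (algebraMap R A f))) :=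
    (Localization.awayMap φ.toRingHom (algebraMap R A f)).toAlgebra
  let algT : Algebra (R' ⊗[R] A) (R' ⊗[R] B) :=
    (Algebra.TensorProduct.map (AlgHom.id R R') φ).toRingHom.toAlgebra
  have h1' : Algebra.FiniteType (Localization.Away (algebraMap R A f))
      (Localization.Away (φ.toRingHom (algebraMap R A f))) := h1
  have h2' : Algebra.FiniteType (R' ⊗[R] A) (R' ⊗[R] B) := h2
  obtain ⟨s₁, hs₁⟩ := h1'.out
  obtain ⟨s₂, hs₂⟩ := h2'.out
  have hnum : ∀ x : Localization.Away (φ.toRingHom (algebraMap R A f)), ∃ (b : B) (n : ℕ),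
      algebraMap B (Localization.Away (φ.toRingHom (algebraMap R A f))) b =
        x * algebraMap B (Localization.Away (φ.toRingHom (algebraMap R A f)))
          (φ.toRingHom (algebraMap R A f)) ^ n := by
    intro x
    obtain ⟨n, b, h⟩ := IsLocalization.Away.surj (φ.toRingHom (algebraMap R A f)) x
    exact ⟨b, n, h.symm⟩
  choose num den hnd using hnum
  obtain ⟨N', hfin, hN'⟩ := TensorProduct.exists_finite_submodule_right_of_setFinite
    (R := R) (M := R') (N := B) (s₂ : Set (R' ⊗[R] B)) s₂.finite_toSet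
  obtain ⟨t₂, ht₂⟩ := Module.Finite.iff_fg.1 hfin
  let t : Finset B := s₁.image num ∪ t₂
  let S₁ : Subalgebra A B := Algebra.adjoin A (t : Set B)
  have hφS : ∀ z, φ.toRingHom z ∈ S₁.toSubring := fun z => S₁.algebraMap_mem z
  have ht1 : ∀ x ∈ s₁, num x ∈ S₁.toSubring := by
    intro x hx
    refine Algebra.subset_adjoin ?_
    rw [Finset.coe_union]
    exact Or.inl (Finset.mem_coe.2 (Finset.mem_image_of_mem num hx))
  have ht2 : ∀ y ∈ (t₂ : Set B), y ∈ S₁ := by
    intro y hy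
    refine Algebra.subset_adjoin ?_
    rw [Finset.coe_union]
    exact Or.inr hy
  have key : ∀ x : R' ⊗[R] B, x ∈ Submodule.span R
      {y | ∃ (r' : R') (p : B), p ∈ S₁.toSubring ∧ r' ⊗ₜ[R] p = y} := by
    intro x
    refine mem_span_of_adjoin φ S₁.toSubring hφS (fun _ => rfl) (s₂ : Set _) ?_ hs₂ x
    have hall : ∀ w : R' ⊗[R] N', (LinearMap.lTensor R' N'.subtype) w ∈ Submodule.span R
        {y | ∃ (r' : R') (p : B), p ∈ S₁.toSubring ∧ r' ⊗ₜ[R] p = y} := by
      intro w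
      induction w using TensorProduct.induction_on with
      | zero =>
        rw [map_zero]
        exact Submodule.zero_mem _
      | tmul r' n =>
        refine Submodule.subset_span ⟨r', n.1, ?_, rfl⟩
        have hn : n.1 ∈ Submodule.span R (t₂ : Set B) := ht₂ ▸ n.2
        exact (Submodule.span_le (p := S₁.toSubmodule.restrictScalars R)).2 ht2 hn
      | add w₁ w₂ h₁ h₂ =>
        rw [map_add]
        exact Submodule.add_mem _ h₁ h₂
    intro x hx
    obtain ⟨w, rfl⟩ := hN' hx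
    exact hall w
  have hP : (S₁.toSubmodule.restrictScalars R : Submodule R B) = ⊤ := by
    apply eq_top_of_glue hq
    · intro b
      obtain ⟨n, hn⟩ := exists_pow_mul_mem_of_adjoin φ.toRingHom (algebraMap R A f) S₁.toSubring
        hφS (fun _ => rfl) (s₁ : Set _) (fun x hx => ⟨den x, num x, ht1 x hx, hnd x⟩) hs₁ b
      refine ⟨n, ?_⟩
      rw [smul_eq_map_pow_mul φ]
      exact hn
    · intro x
      exact key x
  refine ⟨⟨t, ?_⟩⟩
  rw [eq_top_iff]
  intro b _
  have hb : b ∈ (S₁.toSubmodule.restrictScalars R : Submodule R B) := hP ▸ Submodule.mem_top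
  exact hb

end main

end Groth.Agent.Helper21.GLA2
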