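import Mathlib
import Groth.Prelude.Def_EtGlue
import Groth.Agent.Lib.Helper21.FlatAway
import Groth.Agent.Lib.Helper6.TorBC
import Groth.Agent.Lib.Helper6.EtGlueTor2
import Groth.Agent.Lib.Helper3.BL3

/-!
# Flatness and finite projectivity descend along a glueing pair (Beauville–Laszlo)
-/

set_option autoImplicit false

open CategoryTheory Limits MonoidalCategory TensorProduct
open Groth.Agent.Helper18.TorLib

namespace Groth.Agent.Helper21.GLF

universe u

open Groth.Agent.Helper21.FAT

section away

variable {A : Type u} [CommRing A] (M : Type u) [AddCommGroup M] [Module A M]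

/-- `Tor_q(M, N) = 0` for `q ≥ 1` when `M_g` is flat over `A_g` and `N` is an `A_g`-module. -/
theorem tz_of_module_away (g : A)
    (hflat : Module.Flat (Localization.Away g) (LocalizedModule (Submonoid.powers g) M))
    (N : Type u) [AddCommGroup N] [Module A N] [Module (Localization.Away g) N]
    [IsScalarTower A (Localization.Away g) N] (q : ℕ) :
    TZ A (q + 1) M N := by
  have e : Localization.Away g ⊗[A] M ≃ₗ[Localization.Away g]
      LocalizedModule (Submonoid.powers g) M :=
    (IsLocalizedModule.isBaseChange (Submonoid.powers g) (Localization.Away g)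
      (LocalizedModule.mkLinearMap (Submonoid.powers g) M)).equiv
  have hfl : Module.Flat (Localization.Away g)
      (ModuleCat.of (Localization.Away g) (Localization.Away g ⊗[A] M)) :=
    Module.Flat.of_linearEquiv e
  unfold TZ
  rw [Groth.Agent.Helper21.RPD.isZero_tor_baseChange_iff (Localization.Away g) M N (q + 1)]
  exact isZero_tor_succ_of_flat_left
    (ModuleCat.of (Localization.Away g) (Localization.Away g ⊗[A] M)) (ModuleCat.of _ _) q

end away

section glue

variable {R R' : Type u} [CommRing R] [CommRing R'] [Algebra R R'] (f : R)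
variable (M : Type u) [AddCommGroup M] [Module R M]

/-- `Tor_q^R(M, R') = 0` for `q ≥ 1` when `M_f` is flat over `R_f`. -/
theorem tz_prime (h : EtGlue.IsGlueingPair R R' f)
    (hflat : Module.Flat (Localization.Away f) (LocalizedModule (Submonoid.powers f) M)) (q : ℕ) :
    TZ R (q + 1) M R' := by
  let φ : Localization.Away f →+* Localization.Away (algebraMap R R' f) :=
    Localization.awayMap (algebraMap R R') f
  let alg : Algebra (Localization.Away f) (Localization.Away (algebraMap R R' f)) := φ.toAlgebra
  have hφ : ∀ r : R, φ (algebraMap R (Localization.Away f) r) =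
      algebraMap R' (Localization.Away (algebraMap R R' f)) (algebraMap R R' r) := by
    intro r
    simp only [φ, IsLocalization.Away.map, IsLocalization.map_eq]
  have tower : IsScalarTower R (Localization.Away f) (Localization.Away (algebraMap R R' f)) := by
    refine IsScalarTower.of_algebraMap_eq (fun r => ?_)
    rw [IsScalarTower.algebraMap_apply R R' (Localization.Away (algebraMap R R' f))]
    exact (hφ r).symm
  let ι : R →ₗ[R] R' × Localization.Away f :=
    (Algebra.linearMap R R').prod (Algebra.linearMap R (Localization.Away f))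
  let π : R' × Localization.Away f →ₗ[R] Localization.Away (algebraMap R R' f) :=
    (IsScalarTower.toAlgHom R R' (Localization.Away (algebraMap R R' f))).toLinearMap.coprod
      (-(IsScalarTower.toAlgHom R (Localization.Away f)
        (Localization.Away (algebraMap R R' f))).toLinearMap)
  have hπ : ∀ (x : R') (y : Localization.Away f),
      π (x, y) = algebraMap R' (Localization.Away (algebraMap R R' f)) x - φ y := by
    intro x y
    show algebraMap R' (Localization.Away (algebraMap R R' f)) x + -(φ y) = _
    rw [sub_eq_add_neg]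
  have hι : Function.Injective ι := h.2.1
  have hπs : Function.Surjective π := by
    intro z
    obtain ⟨x, y, hxy⟩ := h.2.2.2 z
    exact ⟨(x, y), (hπ x y).trans hxy⟩
  have hex : Function.Exact ι π := by
    rintro ⟨x, y⟩
    rw [hπ]
    constructor
    · intro hxy
      obtain ⟨r, hr1, hr2⟩ := h.2.2.1 x y (sub_eq_zero.1 hxy)
      exact ⟨r, Prod.ext hr1 hr2⟩
    · rintro ⟨r, hr⟩
      have h1 : algebraMap R R' r = x := congrArg Prod.fst hr
      have h2 : algebraMap R (Localization.Away f) r = y := congrArg Prod.snd hr
      rw [← h1, ← h2, hφ, sub_self]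
  have hR : TZ R (q + 1) M R :=
    Groth.Agent.Helper6.TorFlat.isZero_tor_succ_of_flat_right (ModuleCat.of R R) q
      (ModuleCat.of R M)
  have hL' : TZ R (q + 1) M (Localization.Away (algebraMap R R' f)) :=
    tz_of_module_away M f hflat _ q
  have hprod : TZ R (q + 1) M (R' × Localization.Away f) :=
    (tz_of_exact M ι π hι hex hπs (q + 1)).1 hR hL'
  have hL : TZ R (q + 1 + 1) M (Localization.Away f) := tz_of_module_away M f hflat _ (q + 1)
  exact (tz_of_exact M (LinearMap.inl R R' (Localization.Away f))
    (LinearMap.snd R R' (Localization.Away f)) LinearMap.inl_injective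
    Function.Exact.inl_snd LinearMap.snd_surjective (q + 1)).2.1 hL hprod

/-- `Tor_q^R(M, N) = 0` for `q ≥ 1` and `N` killed by a power of `f`. -/
theorem tz_killed (h : EtGlue.IsGlueingPair R R' f)
    (h1 : Module.Flat R' (R' ⊗[R] M))
    (h2 : Module.Flat (Localization.Away f) (LocalizedModule (Submonoid.powers f) M))
    (N : Type u) [AddCommGroup N] [Module R N] (k : ℕ) (hN : ∀ y : N, f ^ k • y = 0) (q : ℕ) :
    TZ R (q + 1) M N := by
  have hbij : Function.Bijective ((TensorProduct.mk R N R').flip 1) := by
    constructor
    · intro y₁ y₂ hy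
      exact Groth.Agent.Helper6.EtGlueTor.tmul_one_injective h.1 k hN hy
    · intro x
      obtain ⟨y, rfl⟩ :=
        Groth.Agent.Helper6.EtGlueTor.exists_tmul_one f h.1 (fun y => ⟨k, hN y⟩) x
      exact ⟨y, rfl⟩
  let e : N ≃ₗ[R] R' ⊗[R] N :=
    (LinearEquiv.ofBijective _ hbij).trans (TensorProduct.comm R N R')
  refine tz_congr M e.symm (q + 1) ?_
  have hP : ∀ q : ℕ, 0 < q → Subsingleton
      (((Tor (ModuleCat.{u} R) q).obj (ModuleCat.of R M)).obj (ModuleCat.of R R')) := by
    intro q hq
    obtain ⟨j, rfl⟩ : ∃ j, q = j + 1 := ⟨q - 1, by omega⟩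
    exact ModuleCat.subsingleton_of_isZero (tz_prime f M h h2 j)
  obtain ⟨φ, hφ⟩ :=
    Groth.Agent.Helper6.TorBC.tor_baseChange (A := R) (A' := R') M (R' ⊗[R] N) hP (q + 1)
  have hfl : Module.Flat R' (ModuleCat.of R' (R' ⊗[R] M)) := h1
  have hz : IsZero (((Tor (ModuleCat.{u} R') (q + 1)).obj (ModuleCat.of R' (R' ⊗[R] M))).obj
      (ModuleCat.of R' (R' ⊗[R] N))) :=
    isZero_tor_succ_of_flat_left (ModuleCat.of R' (R' ⊗[R] M)) (ModuleCat.of R' (R' ⊗[R] N)) q
  have hs1 : Subsingleton (((Tor (ModuleCat.{u} R') (q + 1)).obj
      (ModuleCat.of R' (R' ⊗[R] M))).obj (ModuleCat.of R' (R' ⊗[R] N))) :=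
    ModuleCat.subsingleton_of_isZero hz
  have hs2 : Subsingleton (((Tor (ModuleCat.{u} R) (q + 1)).obj (ModuleCat.of R M)).obj
      (ModuleCat.of R (R' ⊗[R] N))) := hφ.1.subsingleton
  exact ModuleCat.isZero_of_subsingleton _

/-- flatness descends along a glueing pair. -/
theorem flat_of_glue (h : EtGlue.IsGlueingPair R R' f)
    (h1 : Module.Flat R' (R' ⊗[R] M))
    (h2 : Module.Flat (Localization.Away f) (LocalizedModule (Submonoid.powers f) M)) :
    Module.Flat R M := by
  apply flat_of_tz_one
  intro N _ _
  refine downward M (fun _ : Fin 1 => f) (fun _ => h2) ?_ 1 0 (by omega) N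
    (fun j hj => absurd hj (Nat.not_lt_zero _)) 1 le_rfl (by omega)
  intro N' _ _ hk q hq1 _
  obtain ⟨k, hk⟩ := hk
  obtain ⟨j, rfl⟩ : ∃ j, q = j + 1 := ⟨q - 1, by omega⟩
  refine tz_killed f M h h1 h2 N' k ?_ j
  intro y
  have hmem : f ^ k • y ∈
      (Ideal.span (Set.range (fun _ : Fin 1 => f))) ^ k • (⊤ : Submodule R N') :=
    Submodule.smul_mem_smul (Ideal.pow_mem_pow (Ideal.subset_span (Set.mem_range_self 0)) k)
      Submodule.mem_top
  rw [hk] at hmem
  exact (Submodule.mem_bot R).1 hmem

end glue

section ker

variable {R : Type u} [CommRing R] (B : Type u) [CommRing B] [Algebra R B]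
variable {M F : Type u} [AddCommGroup M] [Module R M] [AddCommGroup F] [Module R F]

/-- if `M` is flat, `F` finite free and `B ⊗ M` finitely presented over `B`, then the base change
of the kernel of a surjection `F → M` is finite over `B`. -/
theorem finite_baseChange_ker [Module.Flat R M] [Module.Flat R F] [Module.Finite R F]
    (π : F →ₗ[R] M) (hπ : Function.Surjective π) [Module.FinitePresentation B (B ⊗[R] M)] :
    Module.Finite B (B ⊗[R] LinearMap.ker π) := by
  let K := LinearMap.ker π
  have hex : Function.Exact K.subtype π := LinearMap.exact_subtype_ker_map π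
  have hz : IsZero (((Tor (ModuleCat.{u} R) 1).obj (ModuleCat.of R M)).obj (ModuleCat.of R B)) := by
    have hfl : Module.Flat R (ModuleCat.of R M) := ‹Module.Flat R M›
    exact isZero_tor_succ_of_flat_left (ModuleCat.of R M) (ModuleCat.of R B) 0
  have hinj : Function.Injective (K.subtype.rTensor B) :=
    (isZero_tor_one_iff_injective K.subtype π K.injective_subtype hex hπ).1 hz
  have hinj' : Function.Injective (K.subtype.baseChange B) :=
    (LinearMap.lTensor_inj_iff_rTensor_inj (M := B) K.subtype).2 hinj
  have hex' : Function.Exact (K.subtype.baseChange B) (π.baseChange B) := lTensor_exact B hex hπ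
  have hsurj' : Function.Surjective (π.baseChange B) := LinearMap.lTensor_surjective B hπ
  have hfg : (LinearMap.ker (π.baseChange B)).FG :=
    Module.FinitePresentation.fg_ker (π.baseChange B) hsurj'
  rw [(LinearMap.exact_iff.1 hex')] at hfg
  have hfin : Module.Finite B (LinearMap.range (K.subtype.baseChange B)) :=
    Module.Finite.iff_fg.2 hfg
  exact Module.Finite.equiv (LinearEquiv.ofInjective (K.subtype.baseChange B) hinj').symm

end ker

section proj

variable {R R' : Type u} [CommRing R] [CommRing R'] [Algebra R R'] (f : R)
variable (M : Type u) [AddCommGroup M] [Module R M]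

/-- finite projectivity descends along a glueing pair. -/
theorem finproj_of_glue (h : EtGlue.IsGlueingPair R R' f)
    (h1 : Module.Finite R' (R' ⊗[R] M)) (h1' : Module.Projective R' (R' ⊗[R] M))
    (h2 : Module.Finite (Localization.Away f) (LocalizedModule (Submonoid.powers f) M))
    (h2' : Module.Projective (Localization.Away f) (LocalizedModule (Submonoid.powers f) M)) :
    Module.Finite R M ∧ Module.Projective R M := by
  have hfin : Module.Finite R M := (Groth.Agent.Helper3.BL.finite_iff h.1 M).2 ⟨h1, h2⟩
  have hflat : Module.Flat R M := flat_of_glue f M h inferInstance inferInstance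
  obtain ⟨n, π, hπ⟩ := Module.Finite.exists_fin' R M
  -- the kernel is finitely generated
  have hfp1 : Module.FinitePresentation R' (R' ⊗[R] M) := Module.finitePresentation_of_projective _ _
  have hK1 : Module.Finite R' (R' ⊗[R] LinearMap.ker π) := finite_baseChange_ker R' π hπ
  let eM : Localization.Away f ⊗[R] M ≃ₗ[Localization.Away f]
      LocalizedModule (Submonoid.powers f) M :=
    (IsLocalizedModule.isBaseChange (Submonoid.powers f) (Localization.Away f)
      (LocalizedModule.mkLinearMap (Submonoid.powers f) M)).equiv
  have hfinL : Module.Finite (Localization.Away f) (Localization.Away f ⊗[R] M) :=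
    Module.Finite.equiv eM.symm
  have hprojL : Module.Projective (Localization.Away f) (Localization.Away f ⊗[R] M) :=
    Module.Projective.of_equiv eM.symm
  have hfp2 : Module.FinitePresentation (Localization.Away f) (Localization.Away f ⊗[R] M) :=
    Module.finitePresentation_of_projective _ _
  have hK2 : Module.Finite (Localization.Away f) (Localization.Away f ⊗[R] LinearMap.ker π) :=
    finite_baseChange_ker (Localization.Away f) π hπ
  let eK : Localization.Away f ⊗[R] LinearMap.ker π ≃ₗ[Localization.Away f]
      LocalizedModule (Submonoid.powers f) (LinearMap.ker π) :=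
    (IsLocalizedModule.isBaseChange (Submonoid.powers f) (Localization.Away f)
      (LocalizedModule.mkLinearMap (Submonoid.powers f) (LinearMap.ker π))).equiv
  have hK2' : Module.Finite (Localization.Away f)
      (LocalizedModule (Submonoid.powers f) (LinearMap.ker π)) := Module.Finite.equiv eK
  have hKfin : Module.Finite R (LinearMap.ker π) :=
    (Groth.Agent.Helper3.BL.finite_iff h.1 (LinearMap.ker π)).2 ⟨hK1, hK2'⟩
  have hfp : Module.FinitePresentation R M :=
    Module.finitePresentation_of_surjective π hπ (Module.Finite.iff_fg.1 hKfin)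
  exact ⟨hfin, Module.Flat.projective_of_finitePresentation⟩

/-- finite projectivity ascends. -/
theorem finproj_baseChange [Module.Finite R M] [Module.Projective R M] :
    (Module.Finite R' (R' ⊗[R] M) ∧ Module.Projective R' (R' ⊗[R] M)) ∧
    (Module.Finite (Localization.Away f) (LocalizedModule (Submonoid.powers f) M) ∧
      Module.Projective (Localization.Away f) (LocalizedModule (Submonoid.powers f) M)) := by
  let eM : Localization.Away f ⊗[R] M ≃ₗ[Localization.Away f]
      LocalizedModule (Submonoid.powers f) M :=
    (IsLocalizedModule.isBaseChange (Submonoid.powers f) (Localization.Away f)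
      (LocalizedModule.mkLinearMap (Submonoid.powers f) M)).equiv
  exact ⟨⟨inferInstance, inferInstance⟩, inferInstance, Module.Projective.of_equiv eM⟩

end proj

end Groth.Agent.Helper21.GLF
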