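import Mathlib
import Groth.Agent.Lib.Helper21.GlueAlg2
import Groth.Agent.Lib.Helper21.GlueFlat
import Groth.Agent.Lib.Helper18.BLFinite
import Groth.Agent.S2004

/-!
# Glueing pairs: base change to a glueable algebra, and flat ring maps
-/

set_option autoImplicit false

open TensorProduct

namespace Groth.Agent.Helper21.GLA3

open Groth.Agent.Helper21.GLA

universe u

section pair

variable {R R' : Type u} [CommRing R] [CommRing R'] [Algebra R R'] {f : R}

theorem algebraMap_pow_mul (A : Type u) [CommRing A] [Algebra R A] (n : ℕ) (y : A ⊗[R] R') :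
    (algebraMap A (A ⊗[R] R')) (algebraMap R A f) ^ n * y = f ^ n • y := by
  rw [← map_pow, ← map_pow, ← IsScalarTower.algebraMap_apply, ← Algebra.smul_def]

/-- if `A` is a glueable `R`-algebra, `(A → A ⊗_R R', f)` is again a glueing pair. -/
theorem glueingPair_baseChange (h : EtGlue.IsGlueingPair R R' f) (A : Type u) [CommRing A]
    [Algebra R A] (hA : EtGlue.IsGlueable R R' f A) :
    EtGlue.IsGlueingPair A (A ⊗[R] R') (algebraMap R A f) := by
  have hq := Groth.Agent.Helper18.BLFinite.quotPowBijective_baseChange A h.1
  obtain ⟨hinj, hsurj⟩ := (Groth.Agent.Helper3.BL.glueable_iff h.1).1 hA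
  refine (Groth.Agent.S2004.result A (A ⊗[R] R') (algebraMap R A f) hq).2 ⟨?_, ?_⟩
  · rintro x ⟨n, hn⟩ hx
    refine hinj x ⟨n, ?_⟩ ?_
    · rw [Algebra.smul_def, map_pow]
      exact hn
    · have h1 := congrArg (TensorProduct.comm R A R') hx
      rw [Algebra.TensorProduct.algebraMap_apply, map_zero] at h1
      exact h1
  · rintro x' ⟨n, hn⟩
    have hn' : f ^ n • (TensorProduct.comm R A R' x') = 0 := by
      rw [← map_smul, ← algebraMap_pow_mul, hn, map_zero]
    obtain ⟨m, ⟨k, hk⟩, hm⟩ := hsurj _ ⟨n, hn'⟩
    refine ⟨m, ⟨k, ?_⟩, ?_⟩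
    · rw [← map_pow, ← Algebra.smul_def]
      exact hk
    · have h2 := congrArg (TensorProduct.comm R A R').symm hm
      rw [LinearEquiv.symm_apply_apply] at h2
      rw [← h2, Algebra.TensorProduct.algebraMap_apply]
      rfl

end pair

section flat

variable {R R' A B : Type u} [CommRing R] [CommRing R'] [CommRing A] [CommRing B]
  [Algebra R R'] [Algebra R A] [Algebra R B] [Algebra A B] [IsScalarTower R A B]

attribute [local instance] Algebra.TensorProduct.rightAlgebra in
/-- the algebra map `A ⊗ R' → (A ⊗ R') ⊗_A B` is, up to isomorphisms, `R' ⊗ A → R' ⊗ B`. -/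
theorem algebraMap_eq_comp :
    algebraMap (A ⊗[R] R') ((A ⊗[R] R') ⊗[A] B) =
      ((Algebra.IsPushout.cancelBaseChangeAlg R R' A (A ⊗[R] R') B).symm.toRingEquiv.toRingHom.comp
        (Algebra.TensorProduct.map (AlgHom.id R R') (IsScalarTower.toAlgHom R A B)).toRingHom).comp
        (Algebra.TensorProduct.comm R A R').toRingEquiv.toRingHom := by
  refine RingHom.ext (fun x => ?_)
  induction x using TensorProduct.induction_on with
  | zero => simp
  | tmul a r' =>
    show (a ⊗ₜ[R] r') ⊗ₜ[A] (1 : B) =
      (Algebra.IsPushout.cancelBaseChangeAlg R R' A (A ⊗[R] R') B).symm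
        ((Algebra.TensorProduct.map (AlgHom.id R R') (IsScalarTower.toAlgHom R A B))
          (r' ⊗ₜ[R] a))
    rw [Algebra.TensorProduct.map_tmul, Algebra.IsPushout.cancelBaseChangeAlg_symm_tmul,
      Algebra.TensorProduct.right_algebraMap_apply, AlgHom.coe_id, id_eq,
      IsScalarTower.coe_toAlgHom', Algebra.algebraMap_eq_smul_one a, ← TensorProduct.smul_tmul,
      TensorProduct.smul_tmul', smul_eq_mul, mul_one]
  | add x y hx hy => simp only [map_add, hx, hy]

attribute [local instance] Algebra.TensorProduct.rightAlgebra in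
/-- flatness of `R' ⊗ A → R' ⊗ B` gives flatness of `(A ⊗ R') ⊗_A B` over `A ⊗ R'`. -/
theorem flat_tensor_of_map_flat
    (h : (Algebra.TensorProduct.map (AlgHom.id R R') (IsScalarTower.toAlgHom R A B)).toRingHom.Flat) :
    Module.Flat (A ⊗[R] R') ((A ⊗[R] R') ⊗[A] B) := by
  rw [← RingHom.flat_algebraMap_iff, algebraMap_eq_comp]
  exact RingHom.Flat.comp (RingHom.Flat.of_bijective (AlgEquiv.bijective _))
    (RingHom.Flat.comp h (RingHom.Flat.of_bijective (AlgEquiv.bijective _)))

end flat

section loc

variable {A B : Type u} [CommRing A] [CommRing B]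

/-- the `A_a`-linear identification `B_a ≃ B_{φ a}`. -/
theorem exists_equiv_awayMap (φ : A →+* B) (a : A) :
    letI := φ.toAlgebra
    letI := (Localization.awayMap φ a).toAlgebra
    Nonempty (LocalizedModule (Submonoid.powers a) B ≃ₗ[Localization.Away a]
      Localization.Away (φ a)) := by
  letI algAB : Algebra A B := φ.toAlgebra
  haveI : IsScalarTower A B (Localization.Away (φ a)) := inferInstance
  have hsub : Algebra.algebraMapSubmonoid B (Submonoid.powers a) = Submonoid.powers (φ a) :=
    Submonoid.map_powers _ _
  haveI : IsLocalization (Algebra.algebraMapSubmonoid B (Submonoid.powers a))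
      (Localization.Away (φ a)) := by
    rw [hsub]; infer_instance
  haveI hloc : IsLocalizedModule (Submonoid.powers a)
      (IsScalarTower.toAlgHom A B (Localization.Away (φ a))).toLinearMap :=
    isLocalizedModule_iff_isLocalization.mpr inferInstance
  let e : LocalizedModule (Submonoid.powers a) B ≃ₗ[A] Localization.Away (φ a) :=
    IsLocalizedModule.iso (Submonoid.powers a)
      (IsScalarTower.toAlgHom A B (Localization.Away (φ a))).toLinearMap
  letI algf : Algebra (Localization.Away a) (Localization.Away (φ a)) :=
    (Localization.awayMap φ a).toAlgebra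
  haveI : IsScalarTower A (Localization.Away a) (Localization.Away (φ a)) := by
    apply IsScalarTower.of_algebraMap_eq'
    change (algebraMap B (Localization.Away (φ a))).comp φ
      = (Localization.awayMap φ a).comp (algebraMap A (Localization.Away a))
    simp only [Localization.awayMap, IsLocalization.Away.map]
    rw [IsLocalization.map_comp]
  exact ⟨e.extendScalarsOfIsLocalization (Submonoid.powers a) (Localization.Away a)⟩

theorem flat_localizedModule_of_awayMap_flat (φ : A →+* B) (a : A)
    (h : (Localization.awayMap φ a).Flat) :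
    letI := φ.toAlgebra
    Module.Flat (Localization.Away a) (LocalizedModule (Submonoid.powers a) B) := by
  letI algAB : Algebra A B := φ.toAlgebra
  letI algf : Algebra (Localization.Away a) (Localization.Away (φ a)) :=
    (Localization.awayMap φ a).toAlgebra
  obtain ⟨e⟩ := exists_equiv_awayMap φ a
  have hfl : Module.Flat (Localization.Away a) (Localization.Away (φ a)) := h
  exact Module.Flat.of_linearEquiv e

end loc

section main

variable {R R' : Type u} [CommRing R] [CommRing R'] [Algebra R R'] {f : R}
variable {A B : Type u} [CommRing A] [Algebra R A] [CommRing B] [Algebra R B]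

/-- S12188, the nontrivial direction. -/
theorem flat_of_glue (h : EtGlue.IsGlueingPair R R' f) (hA : EtGlue.IsGlueable R R' f A)
    (φ : A →ₐ[R] B)
    (h1 : (Localization.awayMap φ.toRingHom (algebraMap R A f)).Flat)
    (h2 : (Algebra.TensorProduct.map (AlgHom.id R R') φ).toRingHom.Flat) :
    φ.toRingHom.Flat := by
  letI algAB : Algebra A B := φ.toRingHom.toAlgebra
  haveI tower : IsScalarTower R A B := IsScalarTower.of_algebraMap_eq' φ.comp_algebraMap.symm
  have hgp := glueingPair_baseChange h A hA
  have hφ : IsScalarTower.toAlgHom R A B = φ := AlgHom.ext (fun _ => rfl)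
  have hf1 : Module.Flat (A ⊗[R] R') ((A ⊗[R] R') ⊗[A] B) :=
    flat_tensor_of_map_flat (by rw [hφ]; exact h2)
  have hf2 : Module.Flat (Localization.Away (algebraMap R A f))
      (LocalizedModule (Submonoid.powers (algebraMap R A f)) B) :=
    flat_localizedModule_of_awayMap_flat φ.toRingHom (algebraMap R A f) h1
  exact Groth.Agent.Helper21.GLF.flat_of_glue (algebraMap R A f) B hgp hf1 hf2

end main

end Groth.Agent.Helper21.GLA3
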