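import Mathlib
import Groth.Agent.Lib.Helper21.GlueAlg3

/-!
# Glueing pairs detect flat ring maps of finite presentation
-/

set_option autoImplicit false

open TensorProduct

namespace Groth.Agent.Helper21.GLA4

open Groth.Agent.Helper21.GLA

universe u

section inj

variable {A : Type u} [CommRing A]

theorem aux {Y G X K M₀ M : Type u} [AddCommGroup Y] [Module A Y]
    [AddCommGroup G] [Module A G] [AddCommGroup X] [Module A X] [AddCommGroup K] [Module A K]
    [AddCommGroup M₀] [Module A M₀] [AddCommGroup M] [Module A M] [Module.Flat A M]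
    [Module.Flat A G]
    (p₁ : Y →ₗ[A] G) (p₂ : G →ₗ[A] X) (ι : K →ₗ[A] M₀) (ψ : M₀ →ₗ[A] M)
    (h1 : Function.Exact p₁ p₂) (hp₂ : Function.Surjective p₂) (h2 : Function.Exact ι ψ)
    (hψ : Function.Surjective ψ) (hp₁ : Function.Injective p₁) (hι : Function.Injective ι) :
    Function.Injective (ι.lTensor X) :=
  lTensor_injective_of_exact_of_exact_of_rTensor_injective h1 hp₂ h2 hψ
    (Module.Flat.rTensor_preserves_injective_linearMap p₁ hp₁)
    (Module.Flat.lTensor_preserves_injective_linearMap ι hι)

/-- if `M₀/K` is flat then `X ⊗ K → X ⊗ M₀` is injective for every `X`. -/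
theorem lTensor_injective_of_flat {M₀ M : Type u} [AddCommGroup M₀] [Module A M₀]
    [AddCommGroup M] [Module A M] [Module.Flat A M]
    (ψ : M₀ →ₗ[A] M) (hψ : Function.Surjective ψ) (X : Type u) [AddCommGroup X] [Module A X] :
    Function.Injective ((LinearMap.ker ψ).subtype.lTensor X) :=
  aux (Y := ↥(LinearMap.ker (Finsupp.linearCombination A (id : X → X))))
    (K := ↥(LinearMap.ker ψ))
    (LinearMap.ker (Finsupp.linearCombination A (id : X → X))).subtype
    (Finsupp.linearCombination A (id : X → X)) (LinearMap.ker ψ).subtype ψ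
    (LinearMap.exact_subtype_ker_map _) (Finsupp.linearCombination_id_surjective A X)
    (LinearMap.exact_subtype_ker_map ψ) hψ (Submodule.injective_subtype _)
    (Submodule.injective_subtype _)

variable {R : Type u} [CommRing R] [Algebra R A] (R' : Type u) [CommRing R'] [Algebra R R']

/-- injectivity after `- ⊗_A (A ⊗_R R')` gives injectivity after `- ⊗_R R'`. -/
theorem rTensor_restrict_injective {K M₀ : Type u} [AddCommGroup K] [Module A K] [Module R K]
    [IsScalarTower R A K] [AddCommGroup M₀] [Module A M₀] [Module R M₀] [IsScalarTower R A M₀]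
    (g : K →ₗ[A] M₀) (h : Function.Injective (g.rTensor (A ⊗[R] R'))) :
    Function.Injective ((g.restrictScalars R).rTensor R') := by
  have nat : ∀ z : K ⊗[A] (A ⊗[R] R'),
      AlgebraTensorModule.cancelBaseChange R A A M₀ R' (g.rTensor (A ⊗[R] R') z) =
        (g.restrictScalars R).rTensor R' (AlgebraTensorModule.cancelBaseChange R A A K R' z) := by
    intro z
    induction z using TensorProduct.induction_on with
    | zero => simp
    | tmul k w =>
      induction w using TensorProduct.induction_on with
      | zero => simp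
      | tmul a r' =>
        rw [LinearMap.rTensor_tmul, AlgebraTensorModule.cancelBaseChange_tmul,
          AlgebraTensorModule.cancelBaseChange_tmul, LinearMap.rTensor_tmul,
          LinearMap.restrictScalars_apply, map_smul]
      | add w₁ w₂ h₁ h₂ => simp only [tmul_add, map_add, h₁, h₂]
    | add z₁ z₂ h₁ h₂ => simp only [map_add, h₁, h₂]
  intro x y hxy
  obtain ⟨x', rfl⟩ := (AlgebraTensorModule.cancelBaseChange R A A K R').surjective x
  obtain ⟨y', rfl⟩ := (AlgebraTensorModule.cancelBaseChange R A A K R').surjective y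
  rw [← nat, ← nat] at hxy
  rw [h ((AlgebraTensorModule.cancelBaseChange R A A M₀ R').injective hxy)]

variable {R'} {f : R}

/-- a surjection `ψ : M₀ → M` of `A`-modules onto a flat module, whose kernel is `f`-power torsion
and which is injective after `R' ⊗_R -`, is injective. -/
theorem injective_of_glue (hq : EtGlue.QuotPowBijective R R' f) {M₀ M : Type u}
    [AddCommGroup M₀] [Module A M₀] [Module R M₀] [IsScalarTower R A M₀]
    [AddCommGroup M] [Module A M] [Module R M] [IsScalarTower R A M] [Module.Flat A M]
    (ψ : M₀ →ₗ[A] M) (hψ : Function.Surjective ψ)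
    (htors : ∀ x, ψ x = 0 → ∃ n : ℕ, f ^ n • x = 0)
    (hinj : Function.Injective ((ψ.restrictScalars R).lTensor R')) : Function.Injective ψ := by
  rw [injective_iff_map_eq_zero]
  intro x hx
  have h1 : Function.Injective (((LinearMap.ker ψ).subtype.restrictScalars R).rTensor R') :=
    rTensor_restrict_injective R' (LinearMap.ker ψ).subtype
      ((LinearMap.lTensor_inj_iff_rTensor_inj _ _).1
        (lTensor_injective_of_flat ψ hψ (A ⊗[R] R')))
  let x' : LinearMap.ker ψ := ⟨x, hx⟩
  have h3 : (1 : R') ⊗ₜ[R] x = 0 := by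
    apply hinj
    rw [LinearMap.lTensor_tmul, map_zero]
    show (1 : R') ⊗ₜ[R] ψ x = 0
    rw [hx, tmul_zero]
  have h2 : x' ⊗ₜ[R] (1 : R') = 0 := by
    apply h1
    rw [LinearMap.rTensor_tmul, map_zero]
    have h5 := congrArg (TensorProduct.comm R R' M₀) h3
    rw [TensorProduct.comm_tmul, map_zero] at h5
    exact h5
  have h4 : (1 : R') ⊗ₜ[R] x' = 0 := by
    have h5 := congrArg (TensorProduct.comm R (LinearMap.ker ψ) R') h2
    rw [TensorProduct.comm_tmul, map_zero] at h5
    exact h5
  have htK : ∀ t : LinearMap.ker ψ, ∃ n : ℕ, f ^ n • t = 0 := fun t => by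
    obtain ⟨n, hn⟩ := htors t.1 t.2
    exact ⟨n, Subtype.ext hn⟩
  have h6 := Groth.Agent.Helper3.BL.tmul_injective_of_torsion hq htK x' h4
  exact congrArg Subtype.val h6

end inj

section ker

/-- the kernel of a surjective ring map of finite presentation is finitely generated. -/
theorem ker_fg_of_finitePresentation {P B : Type u} [CommRing P] [CommRing B] (g : P →+* B)
    (hg : Function.Surjective g) (h : g.FinitePresentation) : (RingHom.ker g).FG := by
  letI alg : Algebra P B := g.toAlgebra
  have hfp : Algebra.FinitePresentation P B := h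
  exact Algebra.FinitePresentation.ker_fG_of_surjective (Algebra.ofId P B) hg

/-- a finitely generated extended ideal is generated by finitely many elements of the ideal. -/
theorem exists_finset_map_eq {P Q : Type u} [CommRing P] [CommRing Q] {F : Type*}
    [FunLike F P Q] [RingHomClass F P Q] (h : F) (J : Ideal P) (hfg : (J.map h).FG) :
    ∃ T : Finset P, (T : Set P) ⊆ J ∧ (Ideal.span (T : Set P)).map h = J.map h := by
  classical
  have hfg' : (Submodule.span Q (h '' (J : Set P))).FG := hfg
  obtain ⟨s', hs', hspan⟩ := (Submodule.fg_span_iff_fg_span_finset_subset _).1 hfg'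
  obtain ⟨T, hT, rfl⟩ := Finset.subset_set_image_iff.1 hs'
  refine ⟨T, hT, ?_⟩
  rw [Ideal.map_span]
  show Ideal.span (h '' (T : Set P)) = Submodule.span Q (h '' (J : Set P))
  rw [hspan, Finset.coe_image]

end ker

section main

variable {R R' : Type u} [CommRing R] [CommRing R'] [Algebra R R'] {f : R}
variable {A B : Type u} [CommRing A] [Algebra R A] [CommRing B] [Algebra R B]

theorem map_id_comp {P : Type u} [CommRing P] [Algebra R P] (ι : A →ₐ[R] P) (π : P →ₐ[R] B) :
    (Algebra.TensorProduct.map (AlgHom.id R R') (π.comp ι)).toRingHom =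
      (Algebra.TensorProduct.map (AlgHom.id R R') π).toRingHom.comp
        (Algebra.TensorProduct.map (AlgHom.id R R') ι).toRingHom := by
  refine RingHom.ext (fun x => ?_)
  induction x using TensorProduct.induction_on with
  | zero => simp
  | tmul r' a => rfl
  | add x y hx hy => simp only [map_add, hx, hy]

/-- S10723, the finite presentation part. -/
theorem finitePresentation_of_glue (hq : EtGlue.QuotPowBijective R R' f) (φ : A →ₐ[R] B)
    (hflat : φ.toRingHom.Flat) (hft : φ.toRingHom.FiniteType)
    (h1 : (Localization.awayMap φ.toRingHom (algebraMap R A f)).FinitePresentation)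
    (h2 : (Algebra.TensorProduct.map (AlgHom.id R R') φ).toRingHom.FinitePresentation) :
    φ.toRingHom.FinitePresentation := by
  classical
  letI algAB : Algebra A B := φ.toRingHom.toAlgebra
  haveI tower : IsScalarTower R A B := IsScalarTower.of_algebraMap_eq' φ.comp_algebraMap.symm
  have hflat' : Module.Flat A B := hflat
  have hft' : Algebra.FiniteType A B := hft
  obtain ⟨n, π, hπ⟩ := Algebra.FiniteType.iff_quotient_mvPolynomial''.1 hft'
  -- the element `c`
  have hc : algebraMap R (MvPolynomial (Fin n) A) f =
      algebraMap A (MvPolynomial (Fin n) A) (algebraMap R A f) :=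
    IsScalarTower.algebraMap_apply R A (MvPolynomial (Fin n) A) f
  have hπc : π.toRingHom (algebraMap A (MvPolynomial (Fin n) A) (algebraMap R A f)) =
      φ.toRingHom (algebraMap R A f) := π.commutes (algebraMap R A f)
  -- localization side
  haveI : IsLocalization.Away
      (π.toRingHom (algebraMap A (MvPolynomial (Fin n) A) (algebraMap R A f)))
      (Localization.Away (φ.toRingHom (algebraMap R A f))) := by
    rw [hπc]; infer_instance
  let π_a : Localization.Away (algebraMap A (MvPolynomial (Fin n) A) (algebraMap R A f)) →+*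
      Localization.Away (φ.toRingHom (algebraMap R A f)) :=
    IsLocalization.Away.map _ _ π.toRingHom
      (algebraMap A (MvPolynomial (Fin n) A) (algebraMap R A f))
  let ι_a : Localization.Away (algebraMap R A f) →+*
      Localization.Away (algebraMap A (MvPolynomial (Fin n) A) (algebraMap R A f)) :=
    Localization.awayMap (algebraMap A (MvPolynomial (Fin n) A)) (algebraMap R A f)
  have hcomp_a : π_a.comp ι_a = Localization.awayMap φ.toRingHom (algebraMap R A f) := by
    apply IsLocalization.ringHom_ext (Submonoid.powers (algebraMap R A f))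
    refine RingHom.ext (fun r => ?_)
    show π_a (ι_a (algebraMap A _ r)) = Localization.awayMap φ.toRingHom (algebraMap R A f)
      (algebraMap A _ r)
    rw [awayMap_algebraMap, awayMap_algebraMap]
    show IsLocalization.Away.map _ _ π.toRingHom
      (algebraMap A (MvPolynomial (Fin n) A) (algebraMap R A f)) (algebraMap _ _ _) = _
    rw [IsLocalization.Away.map, IsLocalization.map_eq]
    congr 1
    exact π.commutes r
  have hι_ft : ι_a.FiniteType :=
    RingHom.finiteType_localizationPreserves.away _ _ _ _
      (RingHom.finiteType_algebraMap.2 inferInstance)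
  have hπa_fp : π_a.FinitePresentation :=
    RingHom.FinitePresentation.of_comp_finiteType ι_a (by rw [hcomp_a]; exact h1) hι_ft
  have hπa_surj : Function.Surjective π_a :=
    RingHom.surjective_localizationPreserves.away π.toRingHom _ _ _ hπ
  have hker_a : (RingHom.ker π_a).FG := ker_fg_of_finitePresentation π_a hπa_surj hπa_fp
  have hk : RingHom.ker π_a = (RingHom.ker π.toRingHom).map (algebraMap (MvPolynomial (Fin n) A)
      (Localization.Away (algebraMap A (MvPolynomial (Fin n) A) (algebraMap R A f)))) :=
    IsLocalization.ker_map (Localization.Away (φ.toRingHom (algebraMap R A f))) π.toRingHom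
      (Submonoid.map_powers π.toRingHom _)
  rw [hk] at hker_a
  obtain ⟨T₁, hT₁, hT₁map⟩ := exists_finset_map_eq _ _ hker_a
  -- tensor side
  let ι_R : A →ₐ[R] MvPolynomial (Fin n) A := IsScalarTower.toAlgHom R A (MvPolynomial (Fin n) A)
  let π_R : MvPolynomial (Fin n) A →ₐ[R] B := π.restrictScalars R
  have hcomp : π_R.comp ι_R = φ := AlgHom.ext (fun a => π.commutes a)
  have hΙ_ft : (Algebra.TensorProduct.map (AlgHom.id R R') ι_R).toRingHom.FiniteType :=
    lTensor_of_stable RingHom.finiteType_isStableUnderBaseChange RingHom.finiteType_respectsIso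
      ι_R (RingHom.finiteType_algebraMap.2 inferInstance)
  have hΦ_fp : (Algebra.TensorProduct.map (AlgHom.id R R') π_R).toRingHom.FinitePresentation := by
    refine RingHom.FinitePresentation.of_comp_finiteType _ ?_ hΙ_ft
    rw [← map_id_comp, hcomp]
    exact h2
  have hΦ_surj : Function.Surjective (Algebra.TensorProduct.map (AlgHom.id R R') π_R).toRingHom :=
    Algebra.TensorProduct.map_surjective (AlgHom.id R R') π_R Function.surjective_id hπ
  have hker' := ker_fg_of_finitePresentation _ hΦ_surj hΦ_fp
  have hk' : RingHom.ker (Algebra.TensorProduct.map (AlgHom.id R R') π_R).toRingHom =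
      (RingHom.ker π.toRingHom).map
        (Algebra.TensorProduct.includeRight : MvPolynomial (Fin n) A →ₐ[R]
          R' ⊗[R] MvPolynomial (Fin n) A) :=
    Algebra.TensorProduct.lTensor_ker (A := R') π_R hπ
  rw [hk'] at hker'
  obtain ⟨T₂, hT₂, hT₂map⟩ := exists_finset_map_eq _ _ hker'
  -- the finitely generated ideal
  have hJ₀ : Ideal.span ((T₁ ∪ T₂ : Finset _) : Set (MvPolynomial (Fin n) A)) ≤
      RingHom.ker π.toRingHom := by
    rw [Ideal.span_le, Finset.coe_union]
    exact Set.union_subset hT₁ hT₂
  have hT₁le : Ideal.span (T₁ : Set (MvPolynomial (Fin n) A)) ≤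
      Ideal.span ((T₁ ∪ T₂ : Finset _) : Set (MvPolynomial (Fin n) A)) := by
    apply Ideal.span_mono
    rw [Finset.coe_union]
    exact Set.subset_union_left
  have hT₂le : Ideal.span (T₂ : Set (MvPolynomial (Fin n) A)) ≤
      Ideal.span ((T₁ ∪ T₂ : Finset _) : Set (MvPolynomial (Fin n) A)) := by
    apply Ideal.span_mono
    rw [Finset.coe_union]
    exact Set.subset_union_right
  let ψ : (MvPolynomial (Fin n) A ⧸
      Ideal.span ((T₁ ∪ T₂ : Finset _) : Set (MvPolynomial (Fin n) A))) →ₐ[A] B :=
    Ideal.Quotient.liftₐ _ π (fun x hx => hJ₀ hx)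
  have hψmk : ∀ q, ψ (Ideal.Quotient.mk _ q) = π q := fun q => rfl
  have hψinj : Function.Injective ψ.toLinearMap := by
    apply injective_of_glue hq ψ.toLinearMap
    · intro b
      obtain ⟨q, rfl⟩ := hπ b
      exact ⟨Ideal.Quotient.mk _ q, rfl⟩
    · intro x hx
      obtain ⟨q, rfl⟩ := Ideal.Quotient.mk_surjective x
      have hq' : q ∈ RingHom.ker π.toRingHom := hx
      have h3 : algebraMap _ (Localization.Away
          (algebraMap A (MvPolynomial (Fin n) A) (algebraMap R A f))) q ∈
          (Ideal.span (T₁ : Set (MvPolynomial (Fin n) A))).map (algebraMap _ _) := by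
        rw [hT₁map]
        exact Ideal.mem_map_of_mem _ hq'
      obtain ⟨m, ⟨k, rfl⟩, hm⟩ := (IsLocalization.algebraMap_mem_map_algebraMap_iff
        (Submonoid.powers (algebraMap A (MvPolynomial (Fin n) A) (algebraMap R A f))) _ _ _).1 h3
      refine ⟨k, ?_⟩
      have e1 : f ^ k • (Ideal.Quotient.mk (Ideal.span ((T₁ ∪ T₂ : Finset _) :
          Set (MvPolynomial (Fin n) A))) q) = Ideal.Quotient.mk _
          (algebraMap A (MvPolynomial (Fin n) A) (algebraMap R A f) ^ k * q) := by
        rw [← hc, ← map_pow, ← Algebra.smul_def]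
        rfl
      rw [e1]
      exact Ideal.Quotient.eq_zero_iff_mem.2 (hT₁le hm)
    · rw [injective_iff_map_eq_zero]
      intro z hz
      obtain ⟨w, rfl⟩ := LinearMap.lTensor_surjective R'
        (g := (Ideal.Quotient.mkₐ R (Ideal.span ((T₁ ∪ T₂ : Finset _) :
          Set (MvPolynomial (Fin n) A)))).toLinearMap) Ideal.Quotient.mk_surjective z
      have hcompw : ∀ w, (Algebra.TensorProduct.map (AlgHom.id R R') π_R) w =
          (ψ.toLinearMap.restrictScalars R).lTensor R'
            ((Ideal.Quotient.mkₐ R (Ideal.span ((T₁ ∪ T₂ : Finset _) :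
              Set (MvPolynomial (Fin n) A)))).toLinearMap.lTensor R' w) := by
        intro w
        induction w using TensorProduct.induction_on with
        | zero => simp
        | tmul r q => rfl
        | add x y hx hy => simp only [map_add, hx, hy]
      have hw : w ∈ RingHom.ker (Algebra.TensorProduct.map (AlgHom.id R R') π_R).toRingHom := by
        show (Algebra.TensorProduct.map (AlgHom.id R R') π_R) w = 0
        rw [hcompw, hz]
      rw [hk', ← hT₂map] at hw
      have hw2 := Ideal.map_mono (f := (Algebra.TensorProduct.includeRight :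
        MvPolynomial (Fin n) A →ₐ[R] R' ⊗[R] MvPolynomial (Fin n) A)) hT₂le hw
      have hkerJ₀ : RingHom.ker (Ideal.Quotient.mkₐ R (Ideal.span ((T₁ ∪ T₂ : Finset _) :
          Set (MvPolynomial (Fin n) A)))) = Ideal.span ((T₁ ∪ T₂ : Finset _) :
          Set (MvPolynomial (Fin n) A)) := Ideal.Quotient.mkₐ_ker R _
      rw [← hkerJ₀, ← Algebra.TensorProduct.lTensor_ker (A := R')
        (Ideal.Quotient.mkₐ R (Ideal.span ((T₁ ∪ T₂ : Finset _) :
          Set (MvPolynomial (Fin n) A)))) Ideal.Quotient.mk_surjective] at hw2
      exact hw2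
  have hJle : RingHom.ker π.toRingHom ≤
      Ideal.span ((T₁ ∪ T₂ : Finset _) : Set (MvPolynomial (Fin n) A)) := by
    intro q hq'
    have h5 : ψ.toLinearMap (Ideal.Quotient.mk _ q) = ψ.toLinearMap 0 := by
      rw [map_zero]
      exact hq'
    exact Ideal.Quotient.eq_zero_iff_mem.1 (hψinj h5)
  have hfg : (RingHom.ker π.toRingHom).FG := by
    rw [le_antisymm hJle hJ₀]
    exact ⟨T₁ ∪ T₂, rfl⟩
  exact Algebra.FinitePresentation.of_surjective hπ hfg

end main

end Groth.Agent.Helper21.GLA4
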