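import Mathlib
import Groth.Agent.Lib.Helper21.GlueAlg4

/-!
# Glueing pairs detect formally unramified and étale ring maps
-/

set_option autoImplicit false

open TensorProduct

namespace Groth.Agent.Helper21.GLA5

open Groth.Agent.Helper21.GLA

universe u

section flip

/-- a property respecting isomorphisms holds for `R' ⊗ φ` iff it holds for `φ ⊗ R'`. -/
theorem flip_of_respectsIso {P : ∀ {R S : Type u} [CommRing R] [CommRing S], (R →+* S) → Prop}
    (hP' : RingHom.RespectsIso @P)
    {R R' A B : Type u} [CommRing R] [CommRing R'] [CommRing A] [CommRing B] [Algebra R R']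
    [Algebra R A] [Algebra R B] (φ : A →ₐ[R] B)
    (h : P (Algebra.TensorProduct.map (AlgHom.id R R') φ).toRingHom) :
    P (Algebra.TensorProduct.map φ (AlgHom.id R R')).toRingHom := by
  have h2 := hP'.1 _ (Algebra.TensorProduct.comm R R' B).toRingEquiv
    (hP'.2 _ (Algebra.TensorProduct.comm R A R').toRingEquiv h)
  convert h2 using 1
  refine RingHom.ext (fun x => ?_)
  induction x using TensorProduct.induction_on with
  | zero => simp
  | tmul a r' => rfl
  | add x y hx hy => simp only [map_add, hx, hy]

end flip

section unram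

variable {R R' : Type u} [CommRing R] [CommRing R'] [Algebra R R'] {f : R}
variable {A B : Type u} [CommRing A] [Algebra R A] [CommRing B] [Algebra R B]

/-- the Kähler differentials are `f`-power torsion if the localized map is formally unramified. -/
theorem kaehler_torsion (φ : A →ₐ[R] B)
    (h1 : (Localization.awayMap φ.toRingHom (algebraMap R A f)).FormallyUnramified) :
    letI := φ.toRingHom.toAlgebra
    haveI : IsScalarTower R A B := IsScalarTower.of_algebraMap_eq' φ.comp_algebraMap.symm
    ∀ ω : KaehlerDifferential A B, ∃ n : ℕ, f ^ n • ω = 0 := by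
  letI algAB : Algebra A B := φ.toRingHom.toAlgebra
  haveI tower : IsScalarTower R A B := IsScalarTower.of_algebraMap_eq' φ.comp_algebraMap.symm
  intro ω
  have hsub : Algebra.algebraMapSubmonoid B (Submonoid.powers (algebraMap R A f)) =
      Submonoid.powers (φ.toRingHom (algebraMap R A f)) := Submonoid.map_powers _ _
  haveI : IsLocalization (Algebra.algebraMapSubmonoid B (Submonoid.powers (algebraMap R A f)))
      (Localization.Away (φ.toRingHom (algebraMap R A f))) := by
    rw [hsub]; infer_instance
  letI algf : Algebra (Localization.Away (algebraMap R A f))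
      (Localization.Away (φ.toRingHom (algebraMap R A f))) :=
    (Localization.awayMap φ.toRingHom (algebraMap R A f)).toAlgebra
  haveI : IsScalarTower A (Localization.Away (algebraMap R A f))
      (Localization.Away (φ.toRingHom (algebraMap R A f))) := by
    apply IsScalarTower.of_algebraMap_eq'
    change (algebraMap B (Localization.Away (φ.toRingHom (algebraMap R A f)))).comp φ.toRingHom
      = (Localization.awayMap φ.toRingHom (algebraMap R A f)).comp
        (algebraMap A (Localization.Away (algebraMap R A f)))
    simp only [Localization.awayMap, IsLocalization.Away.map]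
    rw [IsLocalization.map_comp]
  have hunr : Algebra.FormallyUnramified (Localization.Away (algebraMap R A f))
      (Localization.Away (φ.toRingHom (algebraMap R A f))) := h1
  have hloc : IsLocalizedModule (Submonoid.powers (algebraMap R A f))
      ((KaehlerDifferential.map A (Localization.Away (algebraMap R A f)) B
        (Localization.Away (φ.toRingHom (algebraMap R A f)))).restrictScalars A) :=
    KaehlerDifferential.isLocalizedModule A (Localization.Away (algebraMap R A f)) B
      (Localization.Away (φ.toRingHom (algebraMap R A f))) (Submonoid.powers (algebraMap R A f))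
  have h0 : ((KaehlerDifferential.map A (Localization.Away (algebraMap R A f)) B
      (Localization.Away (φ.toRingHom (algebraMap R A f)))).restrictScalars A) ω =
      ((KaehlerDifferential.map A (Localization.Away (algebraMap R A f)) B
      (Localization.Away (φ.toRingHom (algebraMap R A f)))).restrictScalars A) 0 :=
    Subsingleton.elim _ _
  obtain ⟨⟨c, k, rfl⟩, hc⟩ := IsLocalizedModule.exists_of_eq
    (S := Submonoid.powers (algebraMap R A f)) h0
  refine ⟨k, ?_⟩
  have hc' : (algebraMap R A f) ^ k • ω = 0 := by
    rw [smul_zero] at hc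
    exact hc
  rw [← algebraMap_smul A (f ^ k) ω, map_pow]
  exact hc'

/-- the Kähler differentials die after `R' ⊗ -` if the base changed map is formally unramified. -/
theorem kaehler_tensor (φ : A →ₐ[R] B)
    (h2 : (Algebra.TensorProduct.map (AlgHom.id R R') φ).toRingHom.FormallyUnramified) :
    letI := φ.toRingHom.toAlgebra
    haveI : IsScalarTower R A B := IsScalarTower.of_algebraMap_eq' φ.comp_algebraMap.symm
    ∀ ω : KaehlerDifferential A B, (1 : R') ⊗ₜ[R] ω = 0 := by
  letI algAB : Algebra A B := φ.toRingHom.toAlgebra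
  haveI tower : IsScalarTower R A B := IsScalarTower.of_algebraMap_eq' φ.comp_algebraMap.symm
  intro ω
  let g : A ⊗[R] R' →ₐ[R] B ⊗[R] R' := Algebra.TensorProduct.map φ (AlgHom.id R R')
  letI alg2 : Algebra (A ⊗[R] R') (B ⊗[R] R') := g.toRingHom.toAlgebra
  have hg : ∀ x, algebraMap (A ⊗[R] R') (B ⊗[R] R') x = g x := fun _ => rfl
  haveI tower2 : IsScalarTower A (A ⊗[R] R') (B ⊗[R] R') := by
    refine IsScalarTower.of_algebraMap_eq (fun a => ?_)
    rw [hg, Algebra.TensorProduct.algebraMap_apply, Algebra.TensorProduct.algebraMap_apply]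
    rfl
  have hpush : Algebra.IsPushout A B (A ⊗[R] R') (B ⊗[R] R') := by
    refine Algebra.IsPushout.tensorProduct_tensorProduct R R' A B ?_
    ext r'
    show g ((1 : A) ⊗ₜ[R] r') = (1 : B) ⊗ₜ[R] r'
    simp [g]
  haveI hpush' : Algebra.IsPushout A (A ⊗[R] R') B (B ⊗[R] R') := hpush.symm
  have hunr2 : Algebra.FormallyUnramified (A ⊗[R] R') (B ⊗[R] R') :=
    flip_of_respectsIso RingHom.FormallyUnramified.respectsIso φ h2
  have hsub : Subsingleton ((A ⊗[R] R') ⊗[A] KaehlerDifferential A B) :=
    (KaehlerDifferential.tensorKaehlerEquivBase A (A ⊗[R] R') B (B ⊗[R] R')).toEquiv.subsingleton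
  have h5 : ω ⊗ₜ[A] ((1 : A) ⊗ₜ[R] (1 : R')) =
      (0 : KaehlerDifferential A B ⊗[A] (A ⊗[R] R')) := by
    have h5' := congrArg (TensorProduct.comm A (A ⊗[R] R') (KaehlerDifferential A B))
      (Subsingleton.elim (((1 : A) ⊗ₜ[R] (1 : R')) ⊗ₜ[A] ω) 0)
    rw [TensorProduct.comm_tmul, map_zero] at h5'
    exact h5'
  have h6 := congrArg (AlgebraTensorModule.cancelBaseChange R A A (KaehlerDifferential A B) R') h5
  rw [AlgebraTensorModule.cancelBaseChange_tmul, one_smul, map_zero] at h6
  have h7 := congrArg (TensorProduct.comm R (KaehlerDifferential A B) R') h6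
  rw [TensorProduct.comm_tmul, map_zero] at h7
  exact h7

/-- formally unramified descends along a glueing pair. -/
theorem formallyUnramified_of_glue (hq : EtGlue.QuotPowBijective R R' f) (φ : A →ₐ[R] B)
    (h1 : (Localization.awayMap φ.toRingHom (algebraMap R A f)).FormallyUnramified)
    (h2 : (Algebra.TensorProduct.map (AlgHom.id R R') φ).toRingHom.FormallyUnramified) :
    φ.toRingHom.FormallyUnramified := by
  letI algAB : Algebra A B := φ.toRingHom.toAlgebra
  haveI tower : IsScalarTower R A B := IsScalarTower.of_algebraMap_eq' φ.comp_algebraMap.symm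
  show Algebra.FormallyUnramified A B
  rw [Algebra.formallyUnramified_iff]
  have hzero : ∀ ω : KaehlerDifferential A B, ω = 0 := fun ω =>
    Groth.Agent.Helper3.BL.tmul_injective_of_torsion hq (kaehler_torsion φ h1) ω
      (kaehler_tensor φ h2 ω)
  exact ⟨fun x y => by rw [hzero x, hzero y]⟩

/-- S10724, the nontrivial direction. -/
theorem etale_of_glue (h : EtGlue.IsGlueingPair R R' f) (hA : EtGlue.IsGlueable R R' f A)
    (φ : A →ₐ[R] B)
    (h1 : (Localization.awayMap φ.toRingHom (algebraMap R A f)).Etale)
    (h2 : (Algebra.TensorProduct.map (AlgHom.id R R') φ).toRingHom.Etale) :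
    φ.toRingHom.Etale := by
  rw [RingHom.Etale.iff_flat_and_formallyUnramified] at h1 h2 ⊢
  have hfl := Groth.Agent.Helper21.GLA3.flat_of_glue h hA φ h1.1 h2.1
  have hft := Groth.Agent.Helper21.GLA2.finiteType_of_glue h.1 φ
    (RingHom.FiniteType.of_finitePresentation h1.2.2)
    (RingHom.FiniteType.of_finitePresentation h2.2.2)
  exact ⟨hfl, formallyUnramified_of_glue h.1 φ h1.2.1 h2.2.1,
    Groth.Agent.Helper21.GLA4.finitePresentation_of_glue h.1 φ hfl hft h1.2.2 h2.2.2⟩

end unram

end Groth.Agent.Helper21.GLA5
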