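import Mathlib
import Groth.Prelude.Def_EtGlue
import Groth.Agent.Lib.Helper3.BL2

/-!
# Glueing algebras along a glueing pair (Beauville–Laszlo for rings)
-/

set_option autoImplicit false

open TensorProduct

namespace Groth.Agent.Helper21.GLA6

open Groth.Agent.Helper3.BL

universe u

variable {R R' : Type u} [CommRing R] [CommRing R'] [Algebra R R'] {f : R}
variable {A₁ : Type u} [CommRing A₁] [Algebra R A₁]
variable {A' : Type u} [CommRing A'] [Algebra R A'] [Algebra R' A'] [IsScalarTower R R' A']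

/-- the module isomorphism attached to the algebra isomorphism. -/
theorem exists_alpha (φ : Localization.Away (algebraMap R A' f) ≃ₐ[R'] R' ⊗[R] A₁) :
    ∃ α : LocalizedModule (Submonoid.powers (algebraMap R R' f)) A' ≃ₗ[R'] R' ⊗[R] A₁,
      ∀ x : A', α (LocalizedModule.mkLinearMap (Submonoid.powers (algebraMap R R' f)) A' x) =
        φ (algebraMap A' (Localization.Away (algebraMap R A' f)) x) := by
  have hsub : Algebra.algebraMapSubmonoid A' (Submonoid.powers (algebraMap R R' f)) =
      Submonoid.powers (algebraMap R A' f) := by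
    rw [IsScalarTower.algebraMap_apply R R' A' f]
    exact Submonoid.map_powers _ _
  haveI : IsLocalization (Algebra.algebraMapSubmonoid A' (Submonoid.powers (algebraMap R R' f)))
      (Localization.Away (algebraMap R A' f)) := by
    rw [hsub]; infer_instance
  haveI hloc : IsLocalizedModule (Submonoid.powers (algebraMap R R' f))
      (IsScalarTower.toAlgHom R' A' (Localization.Away (algebraMap R A' f))).toLinearMap :=
    isLocalizedModule_iff_isLocalization.mpr inferInstance
  refine ⟨(IsLocalizedModule.iso (Submonoid.powers (algebraMap R R' f))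
      (IsScalarTower.toAlgHom R' A' (Localization.Away (algebraMap R A' f))).toLinearMap).trans
      φ.toLinearEquiv, fun x => ?_⟩
  rw [LinearEquiv.trans_apply, LocalizedModule.mkLinearMap_apply, IsLocalizedModule.iso_mk_one]
  rfl

variable (φ : Localization.Away (algebraMap R A' f) ≃ₐ[R'] R' ⊗[R] A₁)

/-- the first map `A' × A₁ → R' ⊗ A₁`. -/
noncomputable def F₁ : A' × A₁ →ₐ[R] R' ⊗[R] A₁ :=
  ((φ.toAlgHom.restrictScalars R).comp
    (IsScalarTower.toAlgHom R A' (Localization.Away (algebraMap R A' f)))).comp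
    (AlgHom.fst R A' A₁)

/-- the second map `A' × A₁ → R' ⊗ A₁`. -/
noncomputable def F₂ : A' × A₁ →ₐ[R] R' ⊗[R] A₁ :=
  (Algebra.TensorProduct.includeRight : A₁ →ₐ[R] R' ⊗[R] A₁).comp (AlgHom.snd R A' A₁)

theorem F₁_apply (p : A' × A₁) :
    F₁ φ p = φ (algebraMap A' (Localization.Away (algebraMap R A' f)) p.1) := rfl

theorem F₂_apply (p : A' × A₁) : F₂ (R' := R') (A' := A') p = (1 : R') ⊗ₜ[R] p.2 := rfl

/-- the glued algebra. -/
noncomputable def S : Subalgebra R (A' × A₁) := AlgHom.equalizer (F₁ φ) (F₂ (R' := R') (A' := A'))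

theorem mem_S (p : A' × A₁) :
    p ∈ S φ ↔ φ (algebraMap A' (Localization.Away (algebraMap R A' f)) p.1) =
      (1 : R') ⊗ₜ[R] p.2 := Iff.rfl

section main

variable {φ}
variable (α : LocalizedModule (Submonoid.powers (algebraMap R R' f)) A' ≃ₗ[R'] R' ⊗[R] A₁)
  (hα : ∀ x : A', α (LocalizedModule.mkLinearMap (Submonoid.powers (algebraMap R R' f)) A' x) =
        φ (algebraMap A' (Localization.Away (algebraMap R A' f)) x))

include hα in
theorem mem_S_iff (p : A' × A₁) : p ∈ S φ ↔ p ∈ fibreProd α := by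
  rw [mem_S, mem_fibreProd, hα]

/-- the identification of the glued algebra with the fibre product module. -/
noncomputable def ε : S φ ≃ₗ[R] fibreProd α where
  toFun x := ⟨x.1, (mem_S_iff α hα x.1).1 x.2⟩
  invFun y := ⟨y.1, (mem_S_iff α hα y.1).2 y.2⟩
  map_add' _ _ := rfl
  map_smul' _ _ := rfl
  left_inv _ := rfl
  right_inv _ := rfl

theorem ε_val (x : S φ) : (ε α hα x).1 = x.1 := rfl

end main

section main2

variable {φ}
variable (α : LocalizedModule (Submonoid.powers (algebraMap R R' f)) A' ≃ₗ[R'] R' ⊗[R] A₁)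
  (hα : ∀ x : A', α (LocalizedModule.mkLinearMap (Submonoid.powers (algebraMap R R' f)) A' x) =
        φ (algebraMap A' (Localization.Away (algebraMap R A' f)) x))

theorem bij_of_isUnit (h₁ : IsUnit (algebraMap R A₁ f)) :
    Function.Bijective fun x : A₁ => f • x := by
  obtain ⟨u, hu⟩ := h₁
  constructor
  · intro x y hxy
    simp only [Algebra.smul_def] at hxy
    rw [← hu] at hxy
    exact (Units.mul_right_inj u).1 hxy
  · intro y
    refine ⟨↑u⁻¹ * y, ?_⟩
    simp only [Algebra.smul_def]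
    rw [← hu, ← mul_assoc, Units.mul_inv, one_mul]

include hα in
theorem glueable_S (h : EtGlue.IsGlueingPair R R' f)
    (hf : Function.Bijective fun x : A₁ => f • x) :
    EtGlue.IsGlueable R R' f (S φ) := by
  rw [glueable_iff_of_glueingPair h]
  intro m hm hm0
  have hg := (glueable_iff_of_glueingPair h).1 (fibreProd_glueable α hf h)
  have h0 : ε α hα m = 0 := by
    refine hg (ε α hα m) ?_ ?_
    · obtain ⟨n, hn⟩ := hm
      exact ⟨n, by rw [← map_smul, hn, map_zero]⟩
    · have := congrArg ((ε α hα).toLinearMap.lTensor R') hm0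
      rw [LinearMap.lTensor_tmul, map_zero] at this
      exact this
  exact (ε α hα).map_eq_zero_iff.1 h0

variable (φ) in
/-- the comparison map `R' ⊗ S → A'`. -/
noncomputable def Ψ : R' ⊗[R] (S φ) →ₐ[R'] A' :=
  Algebra.TensorProduct.lift (Algebra.ofId R' A') ((AlgHom.fst R A' A₁).comp (S φ).val)
    (fun _ _ => Commute.all _ _)

theorem Ψ_tmul (r : R') (x : S φ) : Ψ φ (r ⊗ₜ[R] x) = algebraMap R' A' r * x.1.1 := by
  rw [Ψ, Algebra.TensorProduct.lift_tmul]
  rfl

theorem Ψ_eq (w : R' ⊗[R] S φ) : Ψ φ w = Phi α ((ε α hα).lTensor R' w) := by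
  induction w with
  | zero => simp
  | tmul r x =>
    rw [LinearEquiv.lTensor_tmul, Phi_tmul, Ψ_tmul, pr₁_apply, ε_val, Algebra.smul_def]
  | add x y hx hy => rw [map_add, map_add, map_add, hx, hy]

include hα in
theorem Ψ_bijective (h : EtGlue.IsGlueingPair R R' f)
    (hf : Function.Bijective fun x : A₁ => f • x) : Function.Bijective (Ψ φ) := by
  have e : (Ψ φ : R' ⊗[R] S φ → A') = (Phi α) ∘ ((ε α hα).lTensor R') :=
    funext (fun w => Ψ_eq α hα w)
  rw [e]
  exact ⟨(Phi_injective α hf h).comp ((ε α hα).lTensor R').injective,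
    (Phi_surjective α hf h.1).comp ((ε α hα).lTensor R').surjective⟩

variable (φ) in
/-- the second projection. -/
noncomputable def p₂ : S φ →ₐ[R] A₁ := (AlgHom.snd R A' A₁).comp (S φ).val

theorem p₂_apply (x : S φ) : p₂ φ x = x.1.2 := rfl

include hα in
theorem isLocalization_p₂ (hf : Function.Bijective fun x : A₁ => f • x) :
    letI : Algebra (S φ) A₁ := (p₂ φ).toRingHom.toAlgebra
    IsLocalization.Away (algebraMap R (S φ) f) A₁ := by
  letI : Algebra (S φ) A₁ := (p₂ φ).toRingHom.toAlgebra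
  haveI : IsScalarTower R (S φ) A₁ :=
    IsScalarTower.of_algebraMap_eq (fun r => ((p₂ φ).commutes r).symm)
  have h1 : IsLocalizedModule (Submonoid.powers f) ((pr₂ α) ∘ₗ (ε α hα).toLinearMap) := by
    haveI := isLocalizedModule_pr₂ α hf
    exact IsLocalizedModule.of_linearEquiv_right _ _ _
  have h2 : (IsScalarTower.toAlgHom R (S φ) A₁).toLinearMap = (pr₂ α) ∘ₗ (ε α hα).toLinearMap := by
    ext x
    rfl
  rw [← h2] at h1
  have h3 := isLocalizedModule_iff_isLocalization.mp h1
  have h4 : Algebra.algebraMapSubmonoid (S φ) (Submonoid.powers f) =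
      Submonoid.powers (algebraMap R (S φ) f) := Submonoid.map_powers _ _
  rw [h4] at h3
  exact h3

include hα in
theorem main (h : EtGlue.IsGlueingPair R R' f) (h₁ : IsUnit (algebraMap R A₁ f)) :
    ∃ (_ : EtGlue.IsGlueable R R' f (S φ))
      (e₁ : Localization.Away (algebraMap R (S φ) f) ≃ₐ[R] A₁) (e' : R' ⊗[R] (S φ) ≃ₐ[R'] A'),
      ∀ a : S φ, φ (algebraMap A' (Localization.Away (algebraMap R A' f))
        (e' ((1 : R') ⊗ₜ[R] a))) =
        (1 : R') ⊗ₜ[R] e₁ (algebraMap (S φ) (Localization.Away (algebraMap R (S φ) f)) a) := by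
  have hf := bij_of_isUnit (f := f) h₁
  letI : Algebra (S φ) A₁ := (p₂ φ).toRingHom.toAlgebra
  haveI : IsScalarTower R (S φ) A₁ :=
    IsScalarTower.of_algebraMap_eq (fun r => ((p₂ φ).commutes r).symm)
  haveI : IsLocalization.Away (algebraMap R (S φ) f) A₁ := isLocalization_p₂ α hα hf
  let e₀ : Localization.Away (algebraMap R (S φ) f) ≃ₐ[S φ] A₁ :=
    IsLocalization.algEquiv (Submonoid.powers (algebraMap R (S φ) f))
      (Localization.Away (algebraMap R (S φ) f)) A₁
  refine ⟨glueable_S α hα h hf, e₀.restrictScalars R,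
    AlgEquiv.ofBijective (Ψ φ) (Ψ_bijective α hα h hf), fun a => ?_⟩
  have h5 : (AlgEquiv.ofBijective (Ψ φ) (Ψ_bijective α hα h hf)) ((1 : R') ⊗ₜ[R] a) = a.1.1 := by
    rw [AlgEquiv.ofBijective_apply, Ψ_tmul, map_one, one_mul]
  have h6 : (e₀.restrictScalars R)
      (algebraMap (S φ) (Localization.Away (algebraMap R (S φ) f)) a) = a.1.2 := by
    rw [AlgEquiv.restrictScalars_apply, e₀.commutes]
    rfl
  rw [h5, h6]
  exact (mem_S φ a.1).1 a.2

end main2

end Groth.Agent.Helper21.GLA6
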