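import Mathlib
import Groth.Prelude.Def_EtGlue
import Groth.Agent.Lib.Helper22.PowTors
import Groth.Agent.Lib.Helper3.BL

/-!
# Exactness of the glueing complex for a flat map `R → S` with `R/I ≅ S/IS`
-/

set_option autoImplicit false

open TensorProduct

namespace Groth.Agent.Helper21.GCX

universe u

variable {R S : Type u} [CommRing R] [CommRing S] [Algebra R S]

section general

variable {M : Type u} [AddCommGroup M] [Module R M]

/-- localization commutes with `S ⊗ -`. -/
theorem isLoc_lTensor (g : R) :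
    IsLocalizedModule (Submonoid.powers g)
      ((LocalizedModule.mkLinearMap (Submonoid.powers g) M).lTensor S) := by
  have h1 : IsLocalizedModule (Submonoid.powers g)
      (AlgebraTensorModule.rTensor R S (LocalizedModule.mkLinearMap (Submonoid.powers g) M)) :=
    inferInstance
  have h2 : (LocalizedModule.mkLinearMap (Submonoid.powers g) M).lTensor S =
      ((TensorProduct.comm R (LocalizedModule (Submonoid.powers g) M) S).toLinearMap ∘ₗ
        (AlgebraTensorModule.rTensor R S
          (LocalizedModule.mkLinearMap (Submonoid.powers g) M))) ∘ₗ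
        (TensorProduct.comm R S M).toLinearMap := by
    ext s m
    simp
  rw [h2]
  haveI : IsLocalizedModule (Submonoid.powers g)
      ((TensorProduct.comm R (LocalizedModule (Submonoid.powers g) M) S).toLinearMap ∘ₗ
        (AlgebraTensorModule.rTensor R S
          (LocalizedModule.mkLinearMap (Submonoid.powers g) M))) :=
    IsLocalizedModule.of_linearEquiv _ _ _
  exact IsLocalizedModule.of_linearEquiv_right _ _ _

/-- the comparison `S ⊗ M_g ≃ (S ⊗ M)_g`. -/
noncomputable def kappa (g : R) :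
    S ⊗[R] LocalizedModule (Submonoid.powers g) M ≃ₗ[R]
      LocalizedModule (Submonoid.powers g) (S ⊗[R] M) :=
  haveI := isLoc_lTensor (S := S) (M := M) g
  IsLocalizedModule.linearEquiv (Submonoid.powers g)
    ((LocalizedModule.mkLinearMap (Submonoid.powers g) M).lTensor S)
    (LocalizedModule.mkLinearMap (Submonoid.powers g) (S ⊗[R] M))

theorem kappa_lTensor (g : R) (x : S ⊗[R] M) :
    kappa g ((LocalizedModule.mkLinearMap (Submonoid.powers g) M).lTensor S x) =
      LocalizedModule.mkLinearMap (Submonoid.powers g) (S ⊗[R] M) x := by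
  haveI := isLoc_lTensor (S := S) (M := M) g
  exact IsLocalizedModule.linearEquiv_apply _ _ _ x

theorem kappa_comp (g : R) :
    ((kappa (S := S) (M := M) g).toLinearMap ∘ₗ
      (TensorProduct.mk R S (LocalizedModule (Submonoid.powers g) M) 1)) =
      EtGlue.tensorOfLoc R S g M := by
  refine IsLocalizedModule.ext (Submonoid.powers g)
    (LocalizedModule.mkLinearMap (Submonoid.powers g) M)
    (IsLocalizedModule.map_units
      (LocalizedModule.mkLinearMap (Submonoid.powers g) (S ⊗[R] M))) ?_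
  ext m
  simp only [LinearMap.coe_comp, Function.comp_apply, LinearEquiv.coe_coe,
    TensorProduct.mk_apply]
  rw [IsLocalizedModule.map_apply]
  have h3 : (1 : S) ⊗ₜ[R] (LocalizedModule.mkLinearMap (Submonoid.powers g) M m) =
      (LocalizedModule.mkLinearMap (Submonoid.powers g) M).lTensor S ((1 : S) ⊗ₜ[R] m) :=
    (LinearMap.lTensor_tmul _ _ _ _).symm
  rw [h3, kappa_lTensor]
  rfl

theorem kappa_tmul (g : R) (y : LocalizedModule (Submonoid.powers g) M) :
    kappa g ((1 : S) ⊗ₜ[R] y) = EtGlue.tensorOfLoc R S g M y := by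
  rw [← kappa_comp]
  rfl

/-- comparing `S ⊗ M_g` with `(S ⊗ M)_g`. -/
theorem tmul_eq_of_loc_eq (g : R) (x : S ⊗[R] M) (y : LocalizedModule (Submonoid.powers g) M)
    (h : EtGlue.locOfTensor R S g M x = EtGlue.tensorOfLoc R S g M y) :
    (1 : S) ⊗ₜ[R] y = (LocalizedModule.mkLinearMap (Submonoid.powers g) M).lTensor S x := by
  apply (kappa (S := S) (M := M) g).injective
  rw [kappa_lTensor, kappa_tmul, ← h]

theorem piRight_proj {ι : Type} [Fintype ι] [DecidableEq ι] (X : ι → Type u)
    [∀ i, AddCommGroup (X i)] [∀ i, Module R (X i)] (a : S ⊗[R] ((i : ι) → X i)) (i : ι) :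
    TensorProduct.piRight R R S X a i = (LinearMap.proj i).lTensor S a := by
  induction a with
  | zero => simp
  | tmul s g =>
    rw [TensorProduct.piRight_apply, TensorProduct.piRightHom_tmul, LinearMap.lTensor_tmul]
    rfl
  | add a b ha hb => rw [map_add, map_add, Pi.add_apply, ha, hb]

theorem eq_of_proj_eq {ι : Type} [Fintype ι] [DecidableEq ι] (X : ι → Type u)
    [∀ i, AddCommGroup (X i)] [∀ i, Module R (X i)] (a b : S ⊗[R] ((i : ι) → X i))
    (h : ∀ i, (LinearMap.proj i).lTensor S a = (LinearMap.proj i).lTensor S b) : a = b := by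
  apply (TensorProduct.piRight R R S X).injective
  funext i
  rw [piRight_proj, piRight_proj, h i]

end general

section torsion

variable {t : ℕ} (f : Fin t → R) (I : Ideal R)
variable {D : Type u} [AddCommGroup D] [Module R D]

theorem torsion_of_gens (hI : Ideal.span (Set.range f) = I) (d : D)
    (h : ∀ j, ∃ e : ℕ, f j ^ e • d = 0) : ∃ n : ℕ, ∀ a ∈ I ^ n, a • d = 0 := by
  have hfg : I.FG := by
    rw [← hI]
    exact Submodule.fg_span (Set.finite_range f)
  have hle : I ≤ (Ideal.torsionOf R D d).radical := by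
    rw [← hI, Ideal.span_le]
    rintro _ ⟨j, rfl⟩
    obtain ⟨e, he⟩ := h j
    exact ⟨e, (Ideal.mem_torsionOf_iff _ _).2 he⟩
  obtain ⟨n, hn⟩ := Ideal.exists_pow_le_of_le_radical_of_fg hle hfg
  exact ⟨n, fun a ha => (Ideal.mem_torsionOf_iff _ _).1 (hn ha)⟩

variable [Module.Flat R S]
variable (hq : Function.Bijective
  (Ideal.quotientMap (I.map (algebraMap R S)) (algebraMap R S) Ideal.le_comap_map))

include hq in
theorem eq_zero_of_tmul_eq_zero (d : D) (hd : ∃ n : ℕ, ∀ a ∈ I ^ n, a • d = 0)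
    (h0 : (1 : S) ⊗ₜ[R] d = 0) : d = 0 := by
  obtain ⟨n, hn⟩ := hd
  let C : Submodule R D := Submodule.span R {d}
  have hC : ∀ c : C, ∃ n : ℕ, ∀ a ∈ I ^ n, a • c = 0 := by
    rintro ⟨c, hc⟩
    obtain ⟨r, rfl⟩ := Submodule.mem_span_singleton.1 hc
    refine ⟨n, fun a ha => ?_⟩
    apply Subtype.ext
    show a • r • d = 0
    rw [smul_comm, hn a ha, smul_zero]
  have hbij := Groth.Agent.Helper22.PowTors.bij_of_powTorsion I hq C hC
  have hinj : Function.Injective (C.subtype.lTensor S) :=
    Module.Flat.lTensor_preserves_injective_linearMap _ C.injective_subtype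
  have hc0 : (⟨d, Submodule.mem_span_singleton_self d⟩ : C) = 0 := by
    apply hbij.1
    apply hinj
    rw [TensorProduct.mk_apply, TensorProduct.mk_apply, LinearMap.lTensor_tmul, tmul_zero,
      map_zero]
    exact h0
  exact congrArg Subtype.val hc0

end torsion

section main

variable [Module.Flat R S]
variable {t : ℕ} (f : Fin t → R) (I : Ideal R) (hI : Ideal.span (Set.range f) = I)
variable (hq : Function.Bijective
  (Ideal.quotientMap (I.map (algebraMap R S)) (algebraMap R S) Ideal.le_comap_map))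
variable (M : Type u) [AddCommGroup M] [Module R M]

/-- the map into the product of the localizations. -/
noncomputable def lam : M →ₗ[R] ((i : Fin t) → LocalizedModule (Submonoid.powers (f i)) M) :=
  LinearMap.pi (fun i => LocalizedModule.mkLinearMap (Submonoid.powers (f i)) M)

theorem lam_apply (m : M) (i : Fin t) :
    lam f M m i = LocalizedModule.mkLinearMap (Submonoid.powers (f i)) M m := rfl

include hI hq in
theorem inj (m : M) (h0 : (1 : S) ⊗ₜ[R] m = 0)
    (h : ∀ i : Fin t, LocalizedModule.mkLinearMap (Submonoid.powers (f i)) M m = 0) : m = 0 := by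
  refine eq_zero_of_tmul_eq_zero I hq m (torsion_of_gens f I hI m fun j => ?_) h0
  exact (Groth.Agent.Helper3.BL.mk_one_eq_zero_iff M m).1 (h j)

include hI hq in
theorem glue' (x : S ⊗[R] M) (y : (i : Fin t) → LocalizedModule (Submonoid.powers (f i)) M)
    (h1 : ∀ i, EtGlue.locOfTensor R S (f i) M x = EtGlue.tensorOfLoc R S (f i) M (y i))
    (hL3 : ∀ j, ∃ e : ℕ, f j ^ e • (LinearMap.range (lam f M)).mkQ y = 0) :
    ∃ μ : M, (1 : S) ⊗ₜ[R] μ = x ∧ lam f M μ = y := by
  classical
  have hytors := torsion_of_gens f I hI ((LinearMap.range (lam f M)).mkQ y) hL3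
  -- the key equality in `S ⊗ Π`
  have hkey : (1 : S) ⊗ₜ[R] y = (lam f M).lTensor S x := by
    apply eq_of_proj_eq
    intro i
    rw [LinearMap.lTensor_tmul, ← LinearMap.lTensor_comp_apply]
    have hpi : (LinearMap.proj i) ∘ₗ (lam f M) =
        LocalizedModule.mkLinearMap (Submonoid.powers (f i)) M := LinearMap.proj_pi _ i
    rw [hpi]
    exact tmul_eq_of_loc_eq (f i) x (y i) (h1 i)
  have h0 : (1 : S) ⊗ₜ[R] ((LinearMap.range (lam f M)).mkQ y) = 0 := by
    have h4 : ((LinearMap.range (lam f M)).mkQ).lTensor S ((1 : S) ⊗ₜ[R] y) = 0 := by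
      rw [hkey, ← LinearMap.lTensor_comp_apply, LinearMap.range_mkQ_comp,
        LinearMap.lTensor_zero, LinearMap.zero_apply]
    rwa [LinearMap.lTensor_tmul] at h4
  have hy0 := eq_zero_of_tmul_eq_zero I hq _ hytors h0
  rw [Submodule.mkQ_apply, Submodule.Quotient.mk_eq_zero] at hy0
  obtain ⟨μ₀, hμ₀⟩ := hy0
  have hex := Module.Flat.lTensor_exact S (LinearMap.exact_subtype_ker_map (lam f M))
  have hz : (lam f M).lTensor S (x - (1 : S) ⊗ₜ[R] μ₀) = 0 := by
    rw [map_sub, LinearMap.lTensor_tmul, hμ₀, hkey, sub_self]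
  obtain ⟨w, hw⟩ := (hex _).1 hz
  have hker : ∀ k : LinearMap.ker (lam f M), ∃ n : ℕ, ∀ a ∈ I ^ n, a • k = 0 := by
    intro k
    have hk : ∀ j, ∃ e : ℕ, f j ^ e • (k : M) = 0 := by
      intro j
      have h5 : lam f M k = 0 := k.2
      have h6 := congrFun h5 j
      exact (Groth.Agent.Helper3.BL.mk_one_eq_zero_iff M (k : M)).1 h6
    obtain ⟨n, hn⟩ := torsion_of_gens f I hI (k : M) hk
    exact ⟨n, fun a ha => Subtype.ext (hn a ha)⟩
  obtain ⟨k, hk⟩ := (Groth.Agent.Helper22.PowTors.bij_of_powTorsion I hq _ hker).2 w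
  refine ⟨μ₀ + k, ?_, ?_⟩
  · rw [tmul_add]
    have h7 : (1 : S) ⊗ₜ[R] (k : M) = x - (1 : S) ⊗ₜ[R] μ₀ := by
      rw [← hw, ← hk, TensorProduct.mk_apply, LinearMap.lTensor_tmul]
      rfl
    rw [h7]
    abel
  · rw [map_add, hμ₀, LinearMap.mem_ker.1 k.2, add_zero]

include hI hq in
theorem glue (x : S ⊗[R] M) (N : ℕ) (m : Fin t → M)
    (h1 : ∀ i, EtGlue.locOfTensor R S (f i) M x = EtGlue.tensorOfLoc R S (f i) M
      (LocalizedModule.mk (m i)
        ⟨f i ^ N, Submonoid.pow_mem _ (Submonoid.mem_powers (f i)) N⟩))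
    (h2 : ∀ i j, ∃ e : ℕ, (f i * f j) ^ e • (f j ^ N • m i - f i ^ N • m j) = 0) :
    ∃ μ : M, (1 : S) ⊗ₜ[R] μ = x ∧
      ∀ i, LocalizedModule.mkLinearMap (Submonoid.powers (f i)) M μ =
        LocalizedModule.mk (m i)
          ⟨f i ^ N, Submonoid.pow_mem _ (Submonoid.mem_powers (f i)) N⟩ := by
  classical
  let y : (i : Fin t) → LocalizedModule (Submonoid.powers (f i)) M := fun i =>
    LocalizedModule.mk (m i) ⟨f i ^ N, Submonoid.pow_mem _ (Submonoid.mem_powers (f i)) N⟩
  have hyi : ∀ i, y i = LocalizedModule.mk (m i)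
      ⟨f i ^ N, Submonoid.pow_mem _ (Submonoid.mem_powers (f i)) N⟩ := fun i => rfl
  -- torsion of the class of `y`
  have hL3 : ∀ j, ∃ e : ℕ, f j ^ e • (LinearMap.range (lam f M)).mkQ y = 0 := by
    intro j
    choose e he using fun i => h2 i j
    have hE : ∀ i, (f i * f j) ^ (Finset.univ.sup e) •
        (f j ^ N • m i - f i ^ N • m j) = 0 := by
      intro i
      have hle : e i ≤ Finset.univ.sup e := Finset.le_sup (Finset.mem_univ i)
      obtain ⟨d, hd⟩ := Nat.exists_eq_add_of_le hle
      rw [hd, add_comm, pow_add, mul_smul, he i, smul_zero]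
    refine ⟨N + Finset.univ.sup e, ?_⟩
    rw [← map_smul, Submodule.mkQ_apply, Submodule.Quotient.mk_eq_zero]
    refine ⟨f j ^ (Finset.univ.sup e) • m j, ?_⟩
    funext i
    have h3 := hE i
    rw [smul_sub, sub_eq_zero] at h3
    rw [lam_apply, Pi.smul_apply, hyi, LocalizedModule.mkLinearMap_apply,
      LocalizedModule.smul'_mk, LocalizedModule.mk_eq]
    refine ⟨⟨f i ^ (Finset.univ.sup e),
      Submonoid.pow_mem _ (Submonoid.mem_powers (f i)) _⟩, ?_⟩
    rw [one_smul, Submonoid.mk_smul, Submonoid.mk_smul]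
    calc f i ^ (Finset.univ.sup e) • f i ^ N • f j ^ (Finset.univ.sup e) • m j
        = (f i * f j) ^ (Finset.univ.sup e) • f i ^ N • m j := by
          rw [smul_smul, smul_smul, smul_smul]; congr 1; ring
      _ = (f i * f j) ^ (Finset.univ.sup e) • f j ^ N • m i := h3.symm
      _ = f i ^ (Finset.univ.sup e) • f j ^ (N + Finset.univ.sup e) • m i := by
          rw [smul_smul, smul_smul]; congr 1; ring
  obtain ⟨μ, hμ1, hμ2⟩ := glue' f I hI hq M x y h1 hL3
  exact ⟨μ, hμ1, fun i => congrFun hμ2 i⟩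

end main

end Groth.Agent.Helper21.GCX
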