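import Mathlib
import Groth.Prelude.Def_EtGlue
import Groth.Agent.Lib.Helper21.GlueCx

/-!
# Lifting extensions by torsion modules along a flat map `R → S` with `R/I ≅ S/IS`
-/

set_option autoImplicit false

open TensorProduct

namespace Groth.Agent.Helper21.GEX

open Groth.Agent.Helper21.GCX

universe u

variable {R S : Type u} [CommRing R] [CommRing S] [Algebra R S] [Module.Flat R S]
variable {t : ℕ} (f : Fin t → R) (I : Ideal R) (hI : Ideal.span (Set.range f) = I)
variable (hq : Function.Bijective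
  (Ideal.quotientMap (I.map (algebraMap R S)) (algebraMap R S) Ideal.le_comap_map))

section T1

variable {D : Type u} [AddCommGroup D] [Module R D]

include hI hq in
/-- torsion elements of `S ⊗ D` come from torsion elements of `D`. -/
theorem exists_tmul_of_torsion (z : S ⊗[R] D) (hz : ∀ j, ∃ e : ℕ, f j ^ e • z = 0) :
    ∃ d : D, (∀ j, ∃ e : ℕ, f j ^ e • d = 0) ∧ (1 : S) ⊗ₜ[R] d = z := by
  classical
  choose e he using hz
  have hE : ∀ j, f j ^ (Finset.univ.sup e) • z = 0 := by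
    intro j
    have hle : e j ≤ Finset.univ.sup e := Finset.le_sup (Finset.mem_univ j)
    obtain ⟨d, hd⟩ := Nat.exists_eq_add_of_le hle
    rw [hd, add_comm, pow_add, mul_smul, he j, smul_zero]
  let ψ : D →ₗ[R] (Fin t → D) :=
    LinearMap.pi (fun j => (f j ^ (Finset.univ.sup e)) • LinearMap.id)
  have hψ : ∀ (k : D) j, ψ k j = f j ^ (Finset.univ.sup e) • k := fun k j => rfl
  have hex := Module.Flat.lTensor_exact S (LinearMap.exact_subtype_ker_map ψ)
  have hψz : ψ.lTensor S z = 0 := by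
    apply eq_of_proj_eq (fun _ : Fin t => D)
    intro j
    rw [← LinearMap.lTensor_comp_apply, map_zero]
    have h1 : (LinearMap.proj j) ∘ₗ ψ = (f j ^ (Finset.univ.sup e)) • LinearMap.id :=
      LinearMap.proj_pi _ j
    rw [h1, LinearMap.lTensor_smul, LinearMap.lTensor_id, LinearMap.smul_apply,
      LinearMap.id_apply, hE j]
  obtain ⟨w, hw⟩ := (hex _).1 hψz
  have hkj : ∀ (k : LinearMap.ker ψ) j, f j ^ (Finset.univ.sup e) • (k : D) = 0 := by
    intro k j
    have h2 := congrFun (LinearMap.mem_ker.1 k.2) j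
    rwa [hψ] at h2
  have hker : ∀ k : LinearMap.ker ψ, ∃ n : ℕ, ∀ a ∈ I ^ n, a • k = 0 := by
    intro k
    obtain ⟨n, hn⟩ := torsion_of_gens f I hI (k : D) (fun j => ⟨_, hkj k j⟩)
    exact ⟨n, fun a ha => Subtype.ext (hn a ha)⟩
  obtain ⟨k, hk⟩ := (Groth.Agent.Helper22.PowTors.bij_of_powTorsion I hq _ hker).2 w
  refine ⟨(k : D), fun j => ⟨_, hkj k j⟩, ?_⟩
  rw [← hw, ← hk, TensorProduct.mk_apply, LinearMap.lTensor_tmul]
  rfl

end T1

section main

variable (N M : Type u) [AddCommGroup N] [Module R N] [AddCommGroup M] [Module R M]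
variable (E' : Type u) [AddCommGroup E'] [Module S E'] [Module R E'] [IsScalarTower R S E']
variable (i' : S ⊗[R] N →ₗ[S] E') (p' : E' →ₗ[S] S ⊗[R] M)

/-- families whose class modulo `N` is torsion (equivalently: compatible families). -/
def H : Submodule R ((i : Fin t) → LocalizedModule (Submonoid.powers (f i)) N) where
  carrier := {y | ∀ j, ∃ e : ℕ, f j ^ e • y ∈ LinearMap.range (lam f N)}
  add_mem' := by
    intro a b ha hb j
    obtain ⟨e1, h1⟩ := ha j
    obtain ⟨e2, h2⟩ := hb j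
    refine ⟨e1 + e2, ?_⟩
    rw [smul_add]
    refine Submodule.add_mem _ ?_ ?_
    · rw [add_comm, pow_add, mul_smul]
      exact Submodule.smul_mem _ _ h1
    · rw [pow_add, mul_smul]
      exact Submodule.smul_mem _ _ h2
  zero_mem' := fun j => ⟨0, by rw [smul_zero]; exact Submodule.zero_mem _⟩
  smul_mem' := by
    intro c a ha j
    obtain ⟨e, h⟩ := ha j
    exact ⟨e, by rw [smul_comm]; exact Submodule.smul_mem _ _ h⟩

theorem mem_H (y : (i : Fin t) → LocalizedModule (Submonoid.powers (f i)) N) :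
    y ∈ H f N ↔ ∀ j, ∃ e : ℕ, f j ^ e • y ∈ LinearMap.range (lam f N) := Iff.rfl

/-- the localization of `i'`. -/
noncomputable def iloc (i : Fin t) :
    LocalizedModule (Submonoid.powers (f i)) (S ⊗[R] N) →ₗ[R]
      LocalizedModule (Submonoid.powers (f i)) E' :=
  IsLocalizedModule.map (Submonoid.powers (f i))
    (LocalizedModule.mkLinearMap (Submonoid.powers (f i)) (S ⊗[R] N))
    (LocalizedModule.mkLinearMap (Submonoid.powers (f i)) E') (i'.restrictScalars R)

theorem iloc_mk (i : Fin t) (τ : S ⊗[R] N) (s : Submonoid.powers (f i)) :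
    iloc f N E' i' i (LocalizedModule.mk τ s) = LocalizedModule.mk (i' τ) s :=
  IsLocalizedModule.map_LocalizedModules _ _ _ _

theorem iloc_injective (hi' : Function.Injective i') (i : Fin t) :
    Function.Injective (iloc f N E' i' i) :=
  IsLocalizedModule.map_injective _ _ _ _ hi'

/-- the glued extension. -/
noncomputable def E :
    Submodule R (E' × ((i : Fin t) → LocalizedModule (Submonoid.powers (f i)) N)) where
  carrier := {q | q.2 ∈ H f N ∧ ∀ i,
    LocalizedModule.mkLinearMap (Submonoid.powers (f i)) E' q.1 =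
      iloc f N E' i' i (EtGlue.tensorOfLoc R S (f i) N (q.2 i))}
  add_mem' := by
    rintro a b ⟨ha1, ha2⟩ ⟨hb1, hb2⟩
    refine ⟨Submodule.add_mem _ ha1 hb1, fun i => ?_⟩
    rw [Prod.fst_add, Prod.snd_add, Pi.add_apply, map_add, map_add, map_add, ha2 i, hb2 i]
  zero_mem' := ⟨Submodule.zero_mem _, fun i => by simp⟩
  smul_mem' := by
    rintro c a ⟨ha1, ha2⟩
    refine ⟨Submodule.smul_mem _ c ha1, fun i => ?_⟩
    rw [Prod.smul_fst, Prod.smul_snd, Pi.smul_apply, map_smul, map_smul, map_smul, ha2 i]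

theorem mem_E (q : E' × ((i : Fin t) → LocalizedModule (Submonoid.powers (f i)) N)) :
    q ∈ E f N E' i' ↔ q.2 ∈ H f N ∧ ∀ i,
      LocalizedModule.mkLinearMap (Submonoid.powers (f i)) E' q.1 =
        iloc f N E' i' i (EtGlue.tensorOfLoc R S (f i) N (q.2 i)) := Iff.rfl

theorem lam_mem_H (n : N) : lam f N n ∈ H f N := by
  intro j
  exact ⟨0, by rw [pow_zero, one_smul]; exact LinearMap.mem_range_self _ n⟩

theorem iE_mem (n : N) : (i' ((1 : S) ⊗ₜ[R] n), lam f N n) ∈ E f N E' i' := by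
  refine ⟨lam_mem_H f N n, fun i => ?_⟩
  show LocalizedModule.mkLinearMap (Submonoid.powers (f i)) E' (i' ((1 : S) ⊗ₜ[R] n)) =
    iloc f N E' i' i (EtGlue.tensorOfLoc R S (f i) N
      (LocalizedModule.mkLinearMap (Submonoid.powers (f i)) N n))
  rw [LocalizedModule.mkLinearMap_apply, LocalizedModule.mkLinearMap_apply,
    Groth.Agent.Helper3.BL.tensorOfLoc_mk, iloc_mk]

/-- the inclusion of `N`. -/
noncomputable def iE : N →ₗ[R] E f N E' i' :=
  LinearMap.codRestrict (E f N E' i')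
    (LinearMap.prod ((i'.restrictScalars R) ∘ₗ (TensorProduct.mk R S N 1)) (lam f N))
    (fun n => iE_mem f N E' i' n)

theorem iE_val (n : N) : (iE f N E' i' n : E' × _) = (i' ((1 : S) ⊗ₜ[R] n), lam f N n) := rfl

/-- the map to `E'`. -/
noncomputable def gE : E f N E' i' →ₗ[R] E' :=
  (LinearMap.fst R E' _) ∘ₗ (E f N E' i').subtype

theorem gE_apply (q : E f N E' i') : gE f N E' i' q = q.1.1 := rfl

include hI hq in
theorem exists_mem_E (hi' : Function.Injective i') (hp' : Function.Surjective p')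
    (hex' : LinearMap.range i' = LinearMap.ker p')
    (m : M) (hm : ∃ n : ℕ, ∀ a ∈ I ^ n, a • m = 0) :
    ∃ q ∈ E f N E' i', p' q.1 = (1 : S) ⊗ₜ[R] m := by
  classical
  obtain ⟨n, hn⟩ := hm
  obtain ⟨e₀, he₀⟩ := hp' ((1 : S) ⊗ₜ[R] m)
  have hfn : ∀ j, f j ^ n • m = 0 := fun j =>
    hn _ (Ideal.pow_mem_pow (hI ▸ Ideal.subset_span (Set.mem_range_self j)) n)
  have hτ : ∀ j, ∃ τ : S ⊗[R] N, i' τ = f j ^ n • e₀ := by
    intro j
    have h1 : f j ^ n • e₀ ∈ LinearMap.ker p' := by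
      rw [LinearMap.mem_ker, LinearMap.map_smul_of_tower, he₀, ← tmul_smul, hfn j, tmul_zero]
    rw [← hex'] at h1
    exact h1
  choose τ hτ using hτ
  have hcoc : ∀ i j, f j ^ n • τ i = f i ^ n • τ j := by
    intro i j
    apply hi'
    rw [LinearMap.map_smul_of_tower, LinearMap.map_smul_of_tower, hτ, hτ, smul_comm]
  let Θ : S ⊗[R] ((i : Fin t) → LocalizedModule (Submonoid.powers (f i)) N) ≃ₗ[R]
      ((i : Fin t) → LocalizedModule (Submonoid.powers (f i)) (S ⊗[R] N)) :=
    (TensorProduct.piRight R R S _).trans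
      (LinearEquiv.piCongrRight (fun i => kappa (S := S) (M := N) (f i)))
  have hΘ : ∀ z i, Θ z i = kappa (f i) ((LinearMap.proj i).lTensor S z) := by
    intro z i
    show kappa (f i) (TensorProduct.piRight R R S _ z i) = _
    rw [piRight_proj]
  let σ : (i : Fin t) → LocalizedModule (Submonoid.powers (f i)) (S ⊗[R] N) := fun i =>
    LocalizedModule.mk (τ i) ⟨f i ^ n, Submonoid.pow_mem _ (Submonoid.mem_powers (f i)) n⟩
  have hσ' : Θ (Θ.symm σ) = σ := Θ.apply_symm_apply σ
  have hΘlam : ∀ (x : S ⊗[R] N) i,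
      Θ ((lam f N).lTensor S x) i = LocalizedModule.mk x 1 := by
    intro x i
    rw [hΘ, ← LinearMap.lTensor_comp_apply]
    have hpi : (LinearMap.proj i) ∘ₗ (lam f N) =
        LocalizedModule.mkLinearMap (Submonoid.powers (f i)) N := LinearMap.proj_pi _ i
    rw [hpi, kappa_lTensor]
    rfl
  have hΘtmul : ∀ (y : (i : Fin t) → LocalizedModule (Submonoid.powers (f i)) N) i,
      Θ ((1 : S) ⊗ₜ[R] y) i = EtGlue.tensorOfLoc R S (f i) N (y i) := by
    intro y i
    rw [hΘ, LinearMap.lTensor_tmul, kappa_tmul]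
    rfl
  have h4 : ∀ j, f j ^ n • Θ.symm σ = (lam f N).lTensor S (τ j) := by
    intro j
    apply Θ.injective
    funext i
    rw [map_smul, hσ', hΘlam, Pi.smul_apply]
    show f j ^ n • LocalizedModule.mk (τ i) _ = _
    rw [LocalizedModule.smul'_mk, LocalizedModule.mk_eq]
    refine ⟨1, ?_⟩
    rw [one_smul, one_smul, one_smul, Submonoid.mk_smul]
    exact hcoc i j
  have h5 : ∀ j, ∃ e : ℕ,
      f j ^ e • ((LinearMap.range (lam f N)).mkQ.lTensor S (Θ.symm σ)) = 0 := by
    intro j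
    refine ⟨n, ?_⟩
    rw [← map_smul, h4, ← LinearMap.lTensor_comp_apply, LinearMap.range_mkQ_comp,
      LinearMap.lTensor_zero, LinearMap.zero_apply]
  obtain ⟨d, hd1, hd2⟩ := exists_tmul_of_torsion f I hI hq _ h5
  obtain ⟨y, rfl⟩ := Submodule.mkQ_surjective _ d
  have hyH : y ∈ H f N := by
    intro j
    obtain ⟨e, he⟩ := hd1 j
    refine ⟨e, ?_⟩
    rwa [← map_smul, Submodule.mkQ_apply, Submodule.Quotient.mk_eq_zero] at he
  have h6 : (LinearMap.range (lam f N)).mkQ.lTensor S (Θ.symm σ - (1 : S) ⊗ₜ[R] y) = 0 := by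
    rw [map_sub, LinearMap.lTensor_tmul, hd2, sub_self]
  have hexQ := lTensor_exact S (LinearMap.exact_map_mkQ_range (lam f N))
    (Submodule.mkQ_surjective _)
  obtain ⟨τ₀, hτ₀⟩ := (hexQ _).1 h6
  refine ⟨(e₀ - i' τ₀, y), ⟨hyH, fun i => ?_⟩, ?_⟩
  · have h7 : σ i = LocalizedModule.mk τ₀ 1 + EtGlue.tensorOfLoc R S (f i) N (y i) := by
      have h8 : Θ.symm σ = (lam f N).lTensor S τ₀ + (1 : S) ⊗ₜ[R] y := by
        rw [hτ₀]; abel
      have h9 := congrFun (congrArg Θ h8) i
      rw [hσ', map_add, Pi.add_apply, hΘlam, hΘtmul] at h9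
      exact h9
    have h10 := congrArg (iloc f N E' i' i) h7
    rw [map_add, iloc_mk, iloc_mk, hτ] at h10
    have h11 := LocalizedModule.mk_cancel (⟨f i ^ n,
      Submonoid.pow_mem _ (Submonoid.mem_powers (f i)) n⟩ : Submonoid.powers (f i)) e₀
    rw [Submonoid.mk_smul] at h11
    rw [h11] at h10
    show LocalizedModule.mkLinearMap (Submonoid.powers (f i)) E' (e₀ - i' τ₀) = _
    rw [map_sub, LocalizedModule.mkLinearMap_apply, LocalizedModule.mkLinearMap_apply, h10]
    abel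
  · show p' (e₀ - i' τ₀) = _
    rw [map_sub, he₀]
    have h12 : i' τ₀ ∈ LinearMap.ker p' := hex' ▸ LinearMap.mem_range_self i' τ₀
    rw [LinearMap.mem_ker.1 h12, sub_zero]

include hI hq in
theorem main (hM : ∀ m : M, ∃ n : ℕ, ∀ a ∈ I ^ n, a • m = 0)
    (hi' : Function.Injective i') (hp' : Function.Surjective p')
    (hex' : LinearMap.range i' = LinearMap.ker p') :
    ∃ (i : N →ₗ[R] E f N E' i') (p : E f N E' i' →ₗ[R] M) (g : E f N E' i' →ₗ[R] E'),
      Function.Injective i ∧ Function.Surjective p ∧ LinearMap.range i = LinearMap.ker p ∧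
      (∀ n : N, g (i n) = i' ((1 : S) ⊗ₜ[R] n)) ∧
      (∀ e, p' (g e) = (1 : S) ⊗ₜ[R] p e) := by
  let β : M ≃ₗ[R] S ⊗[R] M := LinearEquiv.ofBijective (TensorProduct.mk R S M 1)
    (Groth.Agent.Helper22.PowTors.bij_of_powTorsion I hq M hM)
  have hβ : ∀ m, β m = (1 : S) ⊗ₜ[R] m := fun m => rfl
  let p : E f N E' i' →ₗ[R] M :=
    β.symm.toLinearMap ∘ₗ (p'.restrictScalars R) ∘ₗ (gE f N E' i')
  have hp : ∀ q : E f N E' i', β (p q) = p' q.1.1 := fun q => β.apply_symm_apply _
  refine ⟨iE f N E' i', p, gE f N E' i', ?_, ?_, ?_, fun n => rfl, fun q => ?_⟩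
  · -- injective
    rw [injective_iff_map_eq_zero]
    intro n hn
    have h1 := congrArg Subtype.val hn
    rw [iE_val] at h1
    have h2 : i' ((1 : S) ⊗ₜ[R] n) = 0 := congrArg Prod.fst h1
    have h3 : lam f N n = 0 := congrArg Prod.snd h1
    have h4 : (1 : S) ⊗ₜ[R] n = 0 := hi' (by rw [h2, map_zero])
    exact inj f I hI hq N n h4 (fun i => congrFun h3 i)
  · -- surjective
    intro m
    obtain ⟨q, hq1, hq2⟩ := exists_mem_E f I hI hq N M E' i' p' hi' hp' hex' m (hM m)
    refine ⟨⟨q, hq1⟩, ?_⟩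
    apply β.injective
    rw [hp, hβ]
    exact hq2
  · -- exactness
    apply le_antisymm
    · rintro _ ⟨n, rfl⟩
      rw [LinearMap.mem_ker]
      apply β.injective
      rw [hp, map_zero, iE_val]
      have h1 : i' ((1 : S) ⊗ₜ[R] n) ∈ LinearMap.ker p' :=
        hex' ▸ LinearMap.mem_range_self i' _
      exact LinearMap.mem_ker.1 h1
    · rintro ⟨⟨e', y⟩, hy, hA⟩ hker
      rw [LinearMap.mem_ker] at hker
      have h1 : p' e' = 0 := by
        have h2 := hp ⟨⟨e', y⟩, hy, hA⟩
        rw [hker, map_zero] at h2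
        exact h2.symm
      have h3 : e' ∈ LinearMap.range i' := by rw [hex']; exact LinearMap.mem_ker.2 h1
      obtain ⟨τ, rfl⟩ := h3
      have h4 : ∀ i, EtGlue.locOfTensor R S (f i) N τ =
          EtGlue.tensorOfLoc R S (f i) N (y i) := by
        intro i
        apply iloc_injective f N E' i' hi' i
        rw [← hA i]
        show iloc f N E' i' i (LocalizedModule.mk τ 1) = _
        rw [iloc_mk]
        rfl
      have h5 : ∀ j, ∃ e : ℕ, f j ^ e • (LinearMap.range (lam f N)).mkQ y = 0 := by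
        intro j
        obtain ⟨e, he⟩ := hy j
        refine ⟨e, ?_⟩
        rw [← map_smul, Submodule.mkQ_apply, Submodule.Quotient.mk_eq_zero]
        exact he
      obtain ⟨μ, hμ1, hμ2⟩ := glue' f I hI hq N τ y h4 h5
      refine ⟨μ, ?_⟩
      apply Subtype.ext
      rw [iE_val, hμ1, hμ2]
  · rw [← hβ, hp]
    rfl

end main

end Groth.Agent.Helper21.GEX
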