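import Mathlib
import Groth.Agent.Lib.Helper22.PowTors

/-!
# Formal glueing of maps: descending `M' → S ⊗ N` with torsion kernel and cokernel
-/

set_option autoImplicit false

open TensorProduct

namespace Groth.Agent.Helper21.GMP

universe u

variable {R S : Type u} [CommRing R] [CommRing S] [Algebra R S]
variable {N : Type u} [AddCommGroup N] [Module R N]
variable {M' : Type u} [AddCommGroup M'] [Module S M'] [Module R M'] [IsScalarTower R S M']
variable (φ : M' →ₗ[S] S ⊗[R] N)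

/-- the fibre product `M' ×_{S ⊗ N} N`. -/
def fib : Submodule R (M' × N) where
  carrier := {p | φ p.1 = (1 : S) ⊗ₜ[R] p.2}
  add_mem' := by
    intro a b (ha : φ a.1 = (1 : S) ⊗ₜ[R] a.2) (hb : φ b.1 = (1 : S) ⊗ₜ[R] b.2)
    show φ (a + b).1 = (1 : S) ⊗ₜ[R] (a + b).2
    rw [Prod.fst_add, Prod.snd_add, map_add, tmul_add, ha, hb]
  zero_mem' := by
    show φ (0 : M' × N).1 = (1 : S) ⊗ₜ[R] (0 : M' × N).2
    rw [Prod.fst_zero, Prod.snd_zero, map_zero, tmul_zero]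
  smul_mem' := by
    intro c a (ha : φ a.1 = (1 : S) ⊗ₜ[R] a.2)
    show φ (c • a).1 = (1 : S) ⊗ₜ[R] (c • a).2
    rw [Prod.smul_fst, Prod.smul_snd, LinearMap.map_smul_of_tower, ha, tmul_smul]

theorem mem_fib (p : M' × N) : p ∈ fib φ ↔ φ p.1 = (1 : S) ⊗ₜ[R] p.2 := Iff.rfl

/-- first projection. -/
def pr₁ : fib φ →ₗ[R] M' := (LinearMap.fst R M' N) ∘ₗ (fib φ).subtype

/-- second projection. -/
def psi : fib φ →ₗ[R] N := (LinearMap.snd R M' N) ∘ₗ (fib φ).subtype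

theorem pr₁_apply (x : fib φ) : pr₁ φ x = x.1.1 := rfl
theorem psi_apply (x : fib φ) : psi φ x = x.1.2 := rfl

/-- the comparison map. -/
noncomputable def Phi : S ⊗[R] fib φ →ₗ[S] M' := (pr₁ φ).liftBaseChange S

theorem Phi_tmul (s : S) (x : fib φ) : Phi φ (s ⊗ₜ[R] x) = s • x.1.1 := rfl

theorem phi_Phi (w : S ⊗[R] fib φ) : φ (Phi φ w) = (psi φ).baseChange S w := by
  induction w with
  | zero => simp
  | tmul s x =>
    rw [Phi_tmul, map_smul, LinearMap.baseChange_tmul, psi_apply, (mem_fib φ x.1).1 x.2,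
      TensorProduct.smul_tmul', smul_eq_mul, mul_one]
  | add x y hx hy => rw [map_add, map_add, map_add, hx, hy]

theorem baseChange_eq_lTensor (w : S ⊗[R] fib φ) :
    (psi φ).baseChange S w = (psi φ).lTensor S w := rfl

variable [Module.Flat R S] (I : Ideal R)
variable (hq : Function.Bijective
  (Ideal.quotientMap (I.map (algebraMap R S)) (algebraMap R S) Ideal.le_comap_map))

include hq in
theorem Phi_injective (hker : ∀ x : M', φ x = 0 → ∃ n : ℕ, ∀ a ∈ I ^ n, a • x = 0) :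
    Function.Injective (Phi φ) := by
  rw [injective_iff_map_eq_zero]
  intro w hw
  have h1 : (psi φ).lTensor S w = 0 := by
    rw [← baseChange_eq_lTensor, ← phi_Phi, hw, map_zero]
  have hex := Module.Flat.lTensor_exact S (N := ↥(LinearMap.ker (psi φ))) (N' := ↥(fib φ))
    (N'' := N) (f := (LinearMap.ker (psi φ)).subtype) (g := psi φ)
    (LinearMap.exact_subtype_ker_map (psi φ))
  obtain ⟨w₀, hw₀⟩ := (hex _).1 h1
  have htors : ∀ k : LinearMap.ker (psi φ), ∃ n : ℕ, ∀ a ∈ I ^ n, a • k = 0 := by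
    intro k
    have hk2 : k.1.1.2 = 0 := LinearMap.mem_ker.1 k.2
    have hk1 : φ k.1.1.1 = 0 := by
      rw [(mem_fib φ k.1.1).1 k.1.2, hk2, tmul_zero]
    obtain ⟨n, hn⟩ := hker _ hk1
    refine ⟨n, fun a ha => ?_⟩
    apply Subtype.ext
    apply Subtype.ext
    apply Prod.ext
    · exact hn a ha
    · show a • k.1.1.2 = 0
      rw [hk2, smul_zero]
  obtain ⟨k, hk⟩ := (Groth.Agent.Helper22.PowTors.bij_of_powTorsion I hq
    (↥(LinearMap.ker (psi φ))) htors).2 w₀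
  have hwk : w = (1 : S) ⊗ₜ[R] (k : fib φ) := by
    rw [← hw₀, ← hk, TensorProduct.mk_apply, LinearMap.lTensor_tmul]
    rfl
  have hk0 : (k : fib φ) = 0 := by
    have h2 : (k : fib φ).1.1 = 0 := by
      have := hw
      rw [hwk, Phi_tmul, one_smul] at this
      exact this
    have h3 : (k : fib φ).1.2 = 0 := LinearMap.mem_ker.1 k.2
    apply Subtype.ext
    exact Prod.ext h2 h3
  rw [hwk, hk0, tmul_zero]

include hq in
theorem Phi_surjective
    (hcoker : ∀ y : S ⊗[R] N, ∃ n : ℕ, ∀ a ∈ I ^ n, a • y ∈ LinearMap.range φ) :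
    Function.Surjective (Phi φ) := by
  -- the quotient `Q`
  let π : S ⊗[R] N →ₗ[S] (S ⊗[R] N) ⧸ LinearMap.range φ := (LinearMap.range φ).mkQ
  let γ : N →ₗ[R] (S ⊗[R] N) ⧸ LinearMap.range φ :=
    (π.restrictScalars R) ∘ₗ (TensorProduct.mk R S N 1)
  have hγ : ∀ n, γ n = π ((1 : S) ⊗ₜ[R] n) := fun n => rfl
  have hQ : ∀ q : (S ⊗[R] N) ⧸ LinearMap.range φ, ∃ n : ℕ, ∀ a ∈ I ^ n, a • q = 0 := by
    intro q
    obtain ⟨y, rfl⟩ := Submodule.mkQ_surjective _ q
    obtain ⟨n, hn⟩ := hcoker y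
    refine ⟨n, fun a ha => ?_⟩
    rw [← LinearMap.map_smul_of_tower, Submodule.mkQ_apply, Submodule.Quotient.mk_eq_zero]
    exact hn a ha
  have hν := Groth.Agent.Helper22.PowTors.bij_of_powTorsion I hq _ hQ
  let μ : S ⊗[R] ((S ⊗[R] N) ⧸ LinearMap.range φ) →ₗ[S] (S ⊗[R] N) ⧸ LinearMap.range φ :=
    (LinearMap.id : ((S ⊗[R] N) ⧸ LinearMap.range φ) →ₗ[R] _).liftBaseChange S
  have hμ : ∀ (s : S) q, μ (s ⊗ₜ[R] q) = s • q := fun s q => rfl
  have hμinj : Function.Injective μ := by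
    rw [injective_iff_map_eq_zero]
    intro z hz
    obtain ⟨q, rfl⟩ := hν.2 z
    rw [TensorProduct.mk_apply, hμ, one_smul] at hz
    rw [hz, map_zero]
  have hμγ : ∀ y : S ⊗[R] N, μ (γ.lTensor S y) = π y := by
    intro y
    induction y with
    | zero => simp
    | tmul s n =>
      rw [LinearMap.lTensor_tmul, hμ, hγ, ← map_smul, TensorProduct.smul_tmul', smul_eq_mul,
        mul_one]
    | add x y hx hy => rw [map_add, map_add, map_add, hx, hy]
  have hex := Module.Flat.lTensor_exact S (f := (LinearMap.ker γ).subtype) (g := γ)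
    (LinearMap.exact_subtype_ker_map γ)
  -- lifting elements of `S ⊗ ker γ`
  have hlift : ∀ v : S ⊗[R] LinearMap.ker γ, ∃ w : S ⊗[R] fib φ,
      (psi φ).lTensor S w = (LinearMap.ker γ).subtype.lTensor S v := by
    intro v
    induction v with
    | zero => exact ⟨0, by simp⟩
    | tmul s n =>
      have hn : γ n.1 = 0 := LinearMap.mem_ker.1 n.2
      rw [hγ, Submodule.mkQ_apply, Submodule.Quotient.mk_eq_zero] at hn
      obtain ⟨m', hm'⟩ := hn
      refine ⟨s ⊗ₜ[R] ⟨(m', n.1), hm'⟩, ?_⟩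
      rw [LinearMap.lTensor_tmul, LinearMap.lTensor_tmul]
      rfl
    | add x y hx hy =>
      obtain ⟨wx, hwx⟩ := hx
      obtain ⟨wy, hwy⟩ := hy
      exact ⟨wx + wy, by rw [map_add, map_add, hwx, hwy]⟩
  intro m'
  have h1 : γ.lTensor S (φ m') = 0 := by
    apply hμinj
    rw [hμγ, map_zero, Submodule.mkQ_apply, Submodule.Quotient.mk_eq_zero]
    exact LinearMap.mem_range_self φ m'
  obtain ⟨v, hv⟩ := (hex _).1 h1
  obtain ⟨w, hw⟩ := hlift v
  have h2 : φ (m' - Phi φ w) = 0 := by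
    rw [map_sub, phi_Phi, baseChange_eq_lTensor, hw, hv, sub_self]
  have hmem : (m' - Phi φ w, (0 : N)) ∈ fib φ := by
    show φ (m' - Phi φ w) = (1 : S) ⊗ₜ[R] (0 : N)
    rw [h2, tmul_zero]
  refine ⟨w + (1 : S) ⊗ₜ[R] ⟨(m' - Phi φ w, 0), hmem⟩, ?_⟩
  rw [map_add, Phi_tmul, one_smul]
  exact add_sub_cancel _ _

include hq in
theorem main (hker : ∀ x : M', φ x = 0 → ∃ n : ℕ, ∀ a ∈ I ^ n, a • x = 0)
    (hcoker : ∀ y : S ⊗[R] N, ∃ n : ℕ, ∀ a ∈ I ^ n, a • y ∈ LinearMap.range φ) :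
    ∃ e : S ⊗[R] fib φ ≃ₗ[S] M', φ ∘ₗ e.toLinearMap = (psi φ).baseChange S := by
  refine ⟨LinearEquiv.ofBijective (Phi φ)
    ⟨Phi_injective φ I hq hker, Phi_surjective φ I hq hcoker⟩, ?_⟩
  apply LinearMap.ext
  intro w
  exact phi_Phi φ w

end Groth.Agent.Helper21.GMP
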