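import Mathlib
import Groth.Agent.Lib.Helper21.GrAbs6

/-!
# Abstract framework: generic flatness of `Q ⊗ Y`, `Q ⊗ Z`
-/

set_option linter.style.haveILetI false
set_option linter.unusedSectionVars false

open TensorProduct Function

namespace Groth.Agent.Helper21.GrAbs

open Groth.Agent.Helper21.GrA

universe u

section GenericYZ

variable {𝔸 : Type u} [CommRing 𝔸] [IsNoetherianRing 𝔸] {S : Type u} [CommRing S] [Algebra 𝔸 S]
  [Algebra.FiniteType 𝔸 S]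
  {X : Type u} [AddCommGroup X] [Module 𝔸 X] [Module S X] [IsScalarTower 𝔸 S X] [Module.Finite S X]
  {Y : Type u} [AddCommGroup Y] [Module 𝔸 Y] [Module S Y] [IsScalarTower 𝔸 S Y]
  {Z : Type u} [AddCommGroup Z] [Module 𝔸 Z]
  {a : X →ₗ[𝔸] Y} {b : Y →ₗ[𝔸] Z} {π : ℕ → X →ₗ[𝔸] X} {πY : ℕ → Y →ₗ[𝔸] Y}

/-- Generic flatness of `Q ⊗ Y` and `Q ⊗ Z` over `Q = (𝔸/p)_s`. -/
theorem exists_away_flat (h : Hyp S a b π πY) (p : Ideal 𝔸) [p.IsPrime] :
    ∃ s : 𝔸, s ∉ p ∧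
      Module.Flat (Localization.Away (Ideal.Quotient.mk p s))
        ((Localization.Away (Ideal.Quotient.mk p s)) ⊗[𝔸] Y) ∧
      Module.Flat (Localization.Away (Ideal.Quotient.mk p s))
        ((Localization.Away (Ideal.Quotient.mk p s)) ⊗[𝔸] Z) := by
  obtain ⟨f, hf, hflat⟩ := exists_flat_baseChange_away a h.ha (𝔸 ⧸ p)
  obtain ⟨s, rfl⟩ := Ideal.Quotient.mk_surjective f
  have hsp : s ∉ p := fun hs => hf (Ideal.Quotient.eq_zero_iff_mem.mpr hs)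
  refine ⟨s, hsp, ?_⟩
  haveI : Module.Flat (𝔸 ⧸ p) (Localization.Away (Ideal.Quotient.mk p s)) :=
    IsLocalization.flat _ (Submonoid.powers (Ideal.Quotient.mk p s))
  haveI := hflat
  have h2 := flat_quot_of_flat_baseChange (𝔸 ⧸ p) (Localization.Away (Ideal.Quotient.mk p s))
    (𝒦 𝔸 (𝔸 ⧸ p) a) (𝒦 𝔸 (Localization.Away (Ideal.Quotient.mk p s)) a)
    (fun κ hκ => trans_mem_𝒦 hκ)
    (fun ξ' hξ' => kerBC_le_of_flat _ _ a ξ' (mem_𝒦.mp hξ'))
  exact h.hL3 (Localization.Away (Ideal.Quotient.mk p s)) h2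

end GenericYZ

end Groth.Agent.Helper21.GrAbs
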