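import Mathlib
import Groth.Agent.Lib.Helper21.GrI2

/-!
# EGA IV 11.2.6-type statement for all `M ⧸ J^k M` simultaneously (ring form)
-/

set_option linter.style.haveILetI false
set_option linter.unusedSectionVars false

open TensorProduct Function

namespace Groth.Agent.Helper21.GrI

open Groth.Agent.Helper21.GrA Groth.Agent.Helper21.GrAbs Groth.Agent.Helper21.GrRees
  Groth.Agent.Helper21.StageColim

universe u

/-- flatness of all `A ⊗ M₀ ⧸ J₀^k M₀` descends to a stage of a directed colimit. -/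
theorem flat_pieces_colim_iff {A₀ : Type u} [CommRing A₀]
    {ι : Type u} [Preorder ι] (G : ι → Type u) [∀ i, CommRing (G i)] [∀ i, Algebra A₀ (G i)]
    (g : ∀ i j, i ≤ j → G i →ₐ[A₀] G j)
    (A : Type u) [CommRing A] [Algebra A₀ A] [∀ i, Algebra (G i) A]
    [∀ i, IsScalarTower A₀ (G i) A]
    (hcolim : FlatCA.IsDirectedColimitRing G (fun i j h => (g i j h).toRingHom) A)
    {B₀ : Type u} [CommRing B₀] [Algebra A₀ B₀] [Algebra.FinitePresentation A₀ B₀]
    (J₀ : Ideal B₀) (hJ₀ : J₀.FG)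
    (M₀ : Type u) [AddCommGroup M₀] [Module B₀ M₀] [Module A₀ M₀] [IsScalarTower A₀ B₀ M₀]
    [Module.FinitePresentation B₀ M₀] :
    (∀ k : ℕ, Module.Flat A ((A ⊗[A₀] M₀) ⧸
        LinearMap.range
          (((J₀ ^ k • (⊤ : Submodule B₀ M₀)).restrictScalars A₀).subtype.baseChange A))) ↔
      ∃ i : ι, ∀ k : ℕ, Module.Flat (G i) ((G i ⊗[A₀] M₀) ⧸
        LinearMap.range
          (((J₀ ^ k • (⊤ : Submodule B₀ M₀)).restrictScalars A₀).subtype.baseChange (G i))) := by
  classical
  constructor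
  · intro hflat
    let P := Algebra.Presentation.ofFinitePresentation A₀ B₀
    obtain ⟨n, m, f, gg, hf, hfg⟩ := Module.FinitePresentation.exists_fin' B₀ M₀
    obtain ⟨t, ht⟩ := hJ₀
    have hsurj : ∀ (k : Fin m) (l : Fin n), ∃ w : MvPolynomial _ A₀,
        MvPolynomial.aeval P.val w = gg (Pi.single k 1) l := fun k l => by
      obtain ⟨w, hw⟩ := P.algebraMap_surjective (gg (Pi.single k 1) l)
      exact ⟨w, by rw [← hw, Algebra.Generators.algebraMap_apply]⟩
    choose w hw using hsurj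
    have hsurjt : ∀ b : B₀, ∃ v : MvPolynomial _ A₀, MvPolynomial.aeval P.val v = b := fun b => by
      obtain ⟨v, hv⟩ := P.algebraMap_surjective b
      exact ⟨v, by rw [← hv, Algebra.Generators.algebraMap_apply]⟩
    choose v hv using hsurjt
    let s : Set A₀ := (P.coeffs ∪ ⋃ k, ⋃ l, ((w k l).coeffs : Set A₀)) ∪
      ⋃ b ∈ t, ((v b).coeffs : Set A₀)
    have hsfin : s.Finite := by
      refine Set.Finite.union (Set.Finite.union P.finite_coeffs ?_) ?_
      · exact Set.finite_iUnion fun k => Set.finite_iUnion fun l => Finset.finite_toSet _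
      · exact Set.Finite.biUnion (Finset.finite_toSet t) fun b _ => Finset.finite_toSet _
    let 𝔸 : Subalgebra ℤ A₀ := Algebra.adjoin ℤ s
    haveI : P.HasCoeffs 𝔸 :=
      ⟨fun x hx => ⟨⟨x, Algebra.subset_adjoin (Or.inl (Or.inl hx))⟩, rfl⟩⟩
    haveI : Algebra.FiniteType ℤ 𝔸 := Algebra.FiniteType.adjoin_of_finite hsfin
    haveI : IsNoetherianRing 𝔸 := Algebra.FiniteType.isNoetherianRing ℤ 𝔸
    let S₁ := P.ModelOfHasCoeffs 𝔸
    letI : Algebra S₁ B₀ := FS.modelAlgebra P 𝔸
    haveI : IsScalarTower 𝔸 S₁ B₀ := FS.model_isScalarTower P 𝔸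
    haveI : Algebra.IsPushout 𝔸 A₀ S₁ B₀ := FS.model_isPushout P 𝔸
    have hw' : ∀ k l, ∃ w' : MvPolynomial _ 𝔸, MvPolynomial.map (algebraMap 𝔸 A₀) w' = w k l := by
      intro k l
      have : w k l ∈ Set.range (MvPolynomial.map (algebraMap 𝔸 A₀)) := by
        rw [MvPolynomial.mem_range_map_iff_coeffs_subset]
        intro x hx
        exact ⟨⟨x, Algebra.subset_adjoin (Or.inl (Or.inr (Set.mem_iUnion₂.mpr ⟨k, l, hx⟩)))⟩, rfl⟩
      exact this
    choose w' hw' using hw'
    have hv' : ∀ b ∈ t, ∃ v' : MvPolynomial _ 𝔸, MvPolynomial.map (algebraMap 𝔸 A₀) v' = v b := by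
      intro b hb
      have : v b ∈ Set.range (MvPolynomial.map (algebraMap 𝔸 A₀)) := by
        rw [MvPolynomial.mem_range_map_iff_coeffs_subset]
        intro x hx
        exact ⟨⟨x, Algebra.subset_adjoin (Or.inr (Set.mem_iUnion₂.mpr ⟨b, hb, hx⟩))⟩, rfl⟩
      exact this
    choose! v' hv' using hv'
    let c' : Fin m → Fin n → S₁ := fun k l => Ideal.Quotient.mk _ (w' k l)
    let y : B₀ → S₁ := fun b => Ideal.Quotient.mk _ (v' b)
    letI : Module S₁ M₀ := Module.compHom M₀ (algebraMap S₁ B₀)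
    haveI : IsScalarTower S₁ B₀ M₀ := IsScalarTower.of_algebraMap_smul fun _ _ => rfl
    have hc : ∀ k l, algebraMap S₁ B₀ (c' k l) = gg (Pi.single k 1) l := by
      intro k l
      rw [FS.modelAlgebra_mk, ← hw, ← hw', MvPolynomial.aeval_map_algebraMap]
    have hy : ∀ b ∈ t, algebraMap S₁ B₀ (y b) = b := by
      intro b hb
      rw [FS.modelAlgebra_mk]
      conv_rhs => rw [← hv b, ← hv' b hb]
      rw [MvPolynomial.aeval_map_algebraMap]
    obtain ⟨h, hh⟩ := FS.exists_isBaseChange_cokerModel c' f gg hf hfg hc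
    haveI : Module.Finite S₁ (FS.CokerModel c') := Module.Finite.quotient S₁ _
    let J₁ : Ideal S₁ := Ideal.span (y '' (t : Set B₀))
    have hJ : J₁.map (algebraMap S₁ B₀) = J₀ := by
      rw [← ht, Ideal.map_span, Set.image_image]
      congr 1
      ext b
      constructor
      · rintro ⟨b', hb', rfl⟩
        change algebraMap S₁ B₀ (y b') ∈ (t : Set B₀)
        rw [hy b' hb']
        exact hb'
      · intro hb
        exact ⟨b, hb, hy b hb⟩
    have hflat' : ∀ k : ℕ, Module.Flat A (A ⊗[A₀]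
        (M₀ ⧸ ((J₁.map (algebraMap S₁ B₀)) ^ k • (⊤ : Submodule B₀ M₀)))) := fun k => by
      rw [hJ]
      exact (flat_quot_range_iff A _).mp (hflat k)
    obtain ⟨i, hi⟩ := exists_stage_flat_pieces 𝔸 h hh J₁ G g A hcolim hflat'
    refine ⟨i, fun k => (flat_quot_range_iff (G i) _).mpr ?_⟩
    have := hi k
    rw [hJ] at this
    exact this
  · rintro ⟨i, hi⟩ k
    rw [flat_quot_range_iff]
    haveI := (flat_quot_range_iff (G i) _).mp (hi k)
    exact Module.Flat.of_linearEquiv (AlgebraTensorModule.cancelBaseChange A₀ (G i) A A _).symm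

end Groth.Agent.Helper21.GrI
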