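import Mathlib
import Groth.Agent.Lib.Helper21.GrRees4
import Groth.Agent.Lib.Helper21.GrAbs9

/-!
# Generic flatness of all `M ⧸ I^k M` simultaneously
-/

set_option linter.style.haveILetI false
set_option linter.unusedSectionVars false

open TensorProduct Function Polynomial

namespace Groth.Agent.Helper21.GrRees

open Groth.Agent.Helper21.GrA Groth.Agent.Helper21.GrAbs

universe u

section Generic

variable (𝔸 : Type u) {B : Type u} [CommRing 𝔸] [CommRing B] [Algebra 𝔸 B] (I : Ideal B)
  (M : Type u) [AddCommGroup M] [Module B M] [Module 𝔸 M] [IsScalarTower 𝔸 B M]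
  [IsNoetherianRing 𝔸] [Algebra.FiniteType 𝔸 B] [Module.Finite B M]

/-- **Generic flatness of all `M ⧸ I^k M`**: for a prime `p` of the Noetherian base there is
`s ∉ p` such that all `(𝔸/p)_s ⊗ M ⧸ I^k M` are flat. -/
theorem exists_away_flat_pieces (p : Ideal 𝔸) [p.IsPrime] :
    ∃ s : 𝔸, s ∉ p ∧ ∀ k : ℕ, Module.Flat (Localization.Away (Ideal.Quotient.mk p s))
      ((Localization.Away (Ideal.Quotient.mk p s)) ⊗[𝔸]
        (M ⧸ (I ^ k • (⊤ : Submodule B M)))) := by
  haveI := finiteType_rees 𝔸 I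
  haveI : IsNoetherianRing B := Algebra.FiniteType.isNoetherianRing 𝔸 B
  haveI := finite_rees M I
  obtain ⟨s, hsp, _, hZ⟩ := exists_away_flat (hyp 𝔸 I M) p
  haveI := hZ
  exact ⟨s, hsp, fun k => flat_piece_of_quot 𝔸 (I.stableFiltration (⊤ : Submodule B M))
    (Localization.Away (Ideal.Quotient.mk p s)) k⟩

end Generic

end Groth.Agent.Helper21.GrRees
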