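import Mathlib
import Groth.Agent.Lib.Helper21.GrK1
import Groth.Agent.Lib.Helper21.GrI2
import Groth.Agent.Lib.Helper21.FlatKer

/-!
# Generic flatness of the graded pieces (image form)
-/

set_option linter.style.haveILetI false
set_option linter.unusedSectionVars false

open TensorProduct Function

namespace Groth.Agent.Helper21.GrK

open Groth.Agent.Helper21 Groth.Agent.Helper21.GrA Groth.Agent.Helper21.GrAbs

universe u

section Away

variable {𝔸 : Type u} [CommRing 𝔸]

/-- Flatness over `(𝔸/p)_s` passes to `(𝔸/p)_t` when `s ∣ t`. -/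
theorem flat_away_of_dvd (p : Ideal 𝔸) (s t : 𝔸) (hst : s ∣ t)
    (Y : Type u) [AddCommGroup Y] [Module 𝔸 Y]
    [Module.Flat (Localization.Away (Ideal.Quotient.mk p s))
      ((Localization.Away (Ideal.Quotient.mk p s)) ⊗[𝔸] Y)] :
    Module.Flat (Localization.Away (Ideal.Quotient.mk p t))
      ((Localization.Away (Ideal.Quotient.mk p t)) ⊗[𝔸] Y) := by
  obtain ⟨c, rfl⟩ := hst
  have hu : IsUnit (algebraMap (𝔸 ⧸ p) (Localization.Away (Ideal.Quotient.mk p (s * c)))
      (Ideal.Quotient.mk p s)) := by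
    have h1 := IsLocalization.Away.algebraMap_isUnit (S := Localization.Away
      (Ideal.Quotient.mk p (s * c))) (Ideal.Quotient.mk p (s * c))
    rw [map_mul, map_mul] at h1
    exact isUnit_of_mul_isUnit_left h1
  let φ : Localization.Away (Ideal.Quotient.mk p s) →+*
      Localization.Away (Ideal.Quotient.mk p (s * c)) :=
    IsLocalization.Away.lift (Ideal.Quotient.mk p s) hu
  letI : Algebra (Localization.Away (Ideal.Quotient.mk p s))
      (Localization.Away (Ideal.Quotient.mk p (s * c))) := φ.toAlgebra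
  haveI : IsScalarTower 𝔸 (Localization.Away (Ideal.Quotient.mk p s))
      (Localization.Away (Ideal.Quotient.mk p (s * c))) :=
    IsScalarTower.of_algebraMap_eq fun x => by
      change _ = φ _
      rw [IsScalarTower.algebraMap_apply 𝔸 (𝔸 ⧸ p) (Localization.Away (Ideal.Quotient.mk p s)),
        IsLocalization.Away.lift_eq,
        ← IsScalarTower.algebraMap_apply 𝔸 (𝔸 ⧸ p)]
  exact flat_trans 𝔸 (Localization.Away (Ideal.Quotient.mk p s))
    (Localization.Away (Ideal.Quotient.mk p (s * c))) Y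

end Away

section Ker

variable {A : Type u} [CommRing A] {N : Type u} [AddCommGroup N] [Module A N]

/-- `P / P'` (as the image of `P` in `N / P'`) is flat if `N / P'` and `N / P` are. -/
theorem flat_map_mkQ (P' P : Submodule A N) (hle : P' ≤ P) [Module.Flat A (N ⧸ P')]
    [Module.Flat A (N ⧸ P)] : Module.Flat A ↥(Submodule.map P'.mkQ P) := by
  refine FK.flat_of_exact (M := ↥(Submodule.map P'.mkQ P)) (N := N ⧸ P') (P := N ⧸ P)
    (Submodule.map P'.mkQ P).subtype (Submodule.mapQ P' P LinearMap.id hle)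
    (Submodule.injective_subtype _) ?_ ?_
  · intro y
    obtain ⟨y, rfl⟩ := Submodule.Quotient.mk_surjective _ y
    exact ⟨Submodule.Quotient.mk y, rfl⟩
  · intro y
    obtain ⟨y, rfl⟩ := Submodule.Quotient.mk_surjective _ y
    constructor
    · intro hy
      have h1 : Submodule.Quotient.mk (p := P) y = 0 := hy
      rw [Submodule.Quotient.mk_eq_zero] at h1
      exact ⟨⟨Submodule.Quotient.mk y, ⟨y, h1, rfl⟩⟩, rfl⟩
    · rintro ⟨⟨_, ⟨y', hy', rfl⟩⟩, h2⟩
      have h3 : Submodule.Quotient.mk (p := P') y' = Submodule.Quotient.mk y := h2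
      rw [Submodule.Quotient.eq] at h3
      change Submodule.Quotient.mk (p := P) y = 0
      rw [Submodule.Quotient.mk_eq_zero]
      have h4 : y = y' - (y' - y) := by abel
      rw [h4]
      exact P.sub_mem hy' (hle h3)

end Ker

section Image

variable {A₀ : Type u} [CommRing A₀] (A : Type u) [CommRing A] [Algebra A₀ A]
  {B₀ : Type u} [CommRing B₀] [Algebra A₀ B₀]
  {M₀ : Type u} [AddCommGroup M₀] [Module B₀ M₀] [Module A₀ M₀] [IsScalarTower A₀ B₀ M₀]

theorem range_baseChange_mono {P' P : Submodule A₀ M₀} (hle : P' ≤ P) :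
    LinearMap.range (P'.subtype.baseChange A) ≤ LinearMap.range (P.subtype.baseChange A) := by
  rintro _ ⟨y, rfl⟩
  refine ⟨(Submodule.inclusion hle).baseChange A y, ?_⟩
  rw [← LinearMap.comp_apply, ← LinearMap.baseChange_comp, Submodule.subtype_comp_inclusion]

/-- the graded pieces (image form) are flat if all `A ⊗ M₀ ⧸ J₀^k M₀` are. -/
theorem flat_gr_image (J₀ : Ideal B₀)
    (h : ∀ k : ℕ, Module.Flat A (A ⊗[A₀] (M₀ ⧸ (J₀ ^ k • (⊤ : Submodule B₀ M₀))))) (n : ℕ) :
    Module.Flat A
      ↥(Submodule.map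
          (LinearMap.range (LinearMap.baseChange A
            ((J₀ ^ (n + 1) • (⊤ : Submodule B₀ M₀)).restrictScalars A₀).subtype)).mkQ
          (LinearMap.range (LinearMap.baseChange A
            ((J₀ ^ n • (⊤ : Submodule B₀ M₀)).restrictScalars A₀).subtype))) := by
  haveI := (GrI.flat_quot_range_iff A (J₀ ^ (n + 1) • (⊤ : Submodule B₀ M₀))).mpr (h (n + 1))
  haveI := (GrI.flat_quot_range_iff A (J₀ ^ n • (⊤ : Submodule B₀ M₀))).mpr (h n)
  refine flat_map_mkQ _ _ (range_baseChange_mono A ?_)
  intro x hx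
  exact Submodule.smul_mono_left (Ideal.pow_le_pow_right (Nat.le_succ n)) hx

end Image

end Groth.Agent.Helper21.GrK
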