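import Mathlib

/-!
# Stratifications of the spectrum of a Noetherian ring by generic properties
-/

set_option linter.style.haveILetI false
set_option linter.unusedSectionVars false

open TensorProduct Function

namespace Groth.Agent.Helper21.GrK

universe u

section Strat

variable {A₀ : Type u} [CommRing A₀]

/-- the locally closed set `V(p) ∩ D(s)` -/
def Zs (p : Ideal A₀) (s : A₀) : Set (PrimeSpectrum A₀) :=
  PrimeSpectrum.zeroLocus (p : Set A₀) ∩ (PrimeSpectrum.basicOpen s : Set (PrimeSpectrum A₀))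

theorem mem_Zs {p : Ideal A₀} {s : A₀} {x : PrimeSpectrum A₀} :
    x ∈ Zs p s ↔ p ≤ x.asIdeal ∧ s ∉ x.asIdeal := by
  unfold Zs
  rw [Set.mem_inter_iff, PrimeSpectrum.mem_zeroLocus]
  rfl

variable [IsNoetherianRing A₀]

/-- Noetherian induction: a generic property gives a finite stratification. -/
theorem exists_strat (good : Ideal A₀ → A₀ → Prop)
    (hgen : ∀ (p : Ideal A₀) [p.IsPrime], ∃ s : A₀, s ∉ p ∧ ∀ t : A₀, t ∉ p → s ∣ t → good p t)
    (I : Ideal A₀) :
    ∃ (m : ℕ) (p : Fin m → Ideal A₀) (s : Fin m → A₀),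
      (∀ i, good (p i) (s i)) ∧
      (∀ i j, i ≠ j → Disjoint (Zs (p i) (s i)) (Zs (p j) (s j))) ∧
      (⋃ i, Zs (p i) (s i) = PrimeSpectrum.zeroLocus (I : Set A₀)) ∧
      (∀ i, ∃ U : Set (PrimeSpectrum A₀), IsOpen U ∧
        U ∩ (⋃ j, ⋃ (_ : i ≤ j), Zs (p j) (s j)) = Zs (p i) (s i)) := by
  classical
  induction I using IsNoetherian.induction with
  | hgt I ih =>
  change Ideal A₀ at I
  by_cases hI : I = ⊤
  · subst hI
    refine ⟨0, Fin.elim0, Fin.elim0, fun i => i.elim0, fun i => i.elim0, ?_, fun i => i.elim0⟩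
    rw [Submodule.top_coe, PrimeSpectrum.zeroLocus_univ]
    exact Set.iUnion_of_empty _
  · obtain ⟨p₀, hp₀⟩ := Ideal.nonempty_minimalPrimes hI
    have hfin := Ideal.finite_minimalPrimes_of_isNoetherianRing A₀ I
    haveI hp₀prime : p₀.IsPrime := hp₀.1.1
    have hIp₀ : I ≤ p₀ := hp₀.1.2
    -- the element `f`
    have hf : ∃ f : A₀, f ∉ p₀ ∧ ∀ q ∈ I.minimalPrimes, q ≠ p₀ → f ∈ q := by
      by_contra hcon
      push Not at hcon
      have hle : (hfin.toFinset.erase p₀).inf id ≤ p₀ := by
        intro f hf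
        by_contra hfp
        obtain ⟨q, hq, hqne, hfq⟩ := hcon f hfp
        have hq' : q ∈ hfin.toFinset.erase p₀ :=
          Finset.mem_erase.mpr ⟨hqne, hfin.mem_toFinset.mpr hq⟩
        have h7 : (hfin.toFinset.erase p₀).inf id ≤ id q := Finset.inf_le hq'
        exact hfq (h7 hf)
      obtain ⟨q, hq, hqle⟩ := (Ideal.IsPrime.inf_le' hp₀prime).mp hle
      obtain ⟨hqne, hqmem⟩ := Finset.mem_erase.mp hq
      have hqmin : q ∈ I.minimalPrimes := hfin.mem_toFinset.mp hqmem
      have hqle' : q ≤ p₀ := hqle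
      exact hqne (le_antisymm hqle' (hp₀.2 hqmin.1 hqle'))
    obtain ⟨f, hfp₀, hfq⟩ := hf
    obtain ⟨s₁, hs₁, hgood⟩ := hgen p₀
    set t : A₀ := f * s₁ with ht
    have htp₀ : t ∉ p₀ := fun h => (hp₀prime.mem_or_mem h).elim hfp₀ hs₁
    have hgoodt : good p₀ t := hgood t htp₀ (dvd_mul_left s₁ f)
    have hZ₀ : Zs p₀ t = PrimeSpectrum.zeroLocus (I : Set A₀) ∩
        (PrimeSpectrum.basicOpen t : Set (PrimeSpectrum A₀)) := by
      ext x
      rw [mem_Zs, Set.mem_inter_iff, PrimeSpectrum.mem_zeroLocus]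
      constructor
      · rintro ⟨h1, h2⟩
        exact ⟨fun a ha => h1 (hIp₀ ha), h2⟩
      · rintro ⟨h1, h2⟩
        refine ⟨?_, h2⟩
        obtain ⟨q, hq, hqx⟩ := Ideal.exists_minimalPrimes_le (J := x.asIdeal) (I := I) h1
        by_cases hqp : q = p₀
        · rw [← hqp]; exact hqx
        · exact absurd (x.asIdeal.mul_mem_right s₁ (hqx (hfq q hq hqp))) h2
    have hlt : I < I ⊔ Ideal.span {t} := by
      refine lt_of_le_of_ne le_sup_left fun h => htp₀ (hIp₀ ?_)
      rw [h]
      exact Ideal.mem_sup_right (Ideal.subset_span rfl)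
    obtain ⟨m, p, s, hg, hdis, hun, hop⟩ := ih _ hlt
    have hZI' : PrimeSpectrum.zeroLocus ((I ⊔ Ideal.span {t} : Ideal A₀) : Set A₀) =
        PrimeSpectrum.zeroLocus (I : Set A₀) ∩
          (PrimeSpectrum.basicOpen t : Set (PrimeSpectrum A₀))ᶜ := by
      ext x
      rw [PrimeSpectrum.mem_zeroLocus, Set.mem_inter_iff, PrimeSpectrum.mem_zeroLocus,
        Set.mem_compl_iff]
      constructor
      · intro h
        exact ⟨fun a ha => h (Ideal.mem_sup_left ha),
          fun hx => hx (h (Ideal.mem_sup_right (Ideal.subset_span rfl)))⟩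
      · rintro ⟨h1, h2⟩ a ha
        have h3 : t ∈ x.asIdeal := by
          by_contra h4
          exact h2 h4
        have h5 : I ⊔ Ideal.span {t} ≤ x.asIdeal :=
          sup_le h1 ((Ideal.span_singleton_le_iff_mem _).mpr h3)
        exact h5 ha
    have hsub : ∀ j, Zs (p j) (s j) ⊆ PrimeSpectrum.zeroLocus (I : Set A₀) ∩
          (PrimeSpectrum.basicOpen t : Set (PrimeSpectrum A₀))ᶜ := by
      intro j
      rw [← hZI', ← hun]
      exact Set.subset_iUnion (fun j => Zs (p j) (s j)) j
    have hdis0 : ∀ j, Disjoint (Zs p₀ t) (Zs (p j) (s j)) := by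
      intro j
      rw [Set.disjoint_left]
      intro x hx hx'
      rw [hZ₀] at hx
      exact (hsub j hx').2 hx.2
    have hunion : (⋃ i : Fin (m + 1), Zs ((Fin.cons p₀ p : Fin (m + 1) → Ideal A₀) i)
        ((Fin.cons t s : Fin (m + 1) → A₀) i)) = Zs p₀ t ∪ ⋃ j, Zs (p j) (s j) := by
      ext x
      simp only [Set.mem_iUnion, Set.mem_union, Fin.exists_fin_succ, Fin.cons_zero, Fin.cons_succ]
    refine ⟨m + 1, Fin.cons p₀ p, Fin.cons t s, ?_, ?_, ?_, ?_⟩
    · refine Fin.cases ?_ (fun i => ?_)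
      · simpa only [Fin.cons_zero] using hgoodt
      · simpa only [Fin.cons_succ] using hg i
    · refine Fin.cases ?_ (fun i => ?_)
      · refine Fin.cases ?_ (fun j => ?_)
        · intro h; exact absurd rfl h
        · intro _
          simpa only [Fin.cons_zero, Fin.cons_succ] using hdis0 j
      · refine Fin.cases ?_ (fun j => ?_)
        · intro _
          simpa only [Fin.cons_zero, Fin.cons_succ] using (hdis0 i).symm
        · intro h
          simpa only [Fin.cons_succ] using hdis i j (fun hij => h (congrArg Fin.succ hij))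
    · rw [hunion, hun, hZ₀, hZI', ← Set.inter_union_distrib_left, Set.union_compl_self,
        Set.inter_univ]
    · refine Fin.cases ?_ (fun i => ?_)
      · refine ⟨(PrimeSpectrum.basicOpen t : Set (PrimeSpectrum A₀)),
          (PrimeSpectrum.basicOpen t).isOpen, ?_⟩
        have h1 : (⋃ j : Fin (m + 1), ⋃ (_ : (0 : Fin (m + 1)) ≤ j),
            Zs ((Fin.cons p₀ p : Fin (m + 1) → Ideal A₀) j)
              ((Fin.cons t s : Fin (m + 1) → A₀) j)) =
            Zs p₀ t ∪ ⋃ j, Zs (p j) (s j) := by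
          rw [← hunion]
          ext x
          simp only [Set.mem_iUnion, Fin.zero_le, exists_true_left]
        rw [h1, hun, hZI', Fin.cons_zero, Fin.cons_zero, hZ₀]
        ext x
        simp only [Set.mem_inter_iff, Set.mem_union, Set.mem_compl_iff]
        tauto
      · obtain ⟨U, hU, hUeq⟩ := hop i
        refine ⟨U, hU, ?_⟩
        have h1 : (⋃ j : Fin (m + 1), ⋃ (_ : i.succ ≤ j),
            Zs ((Fin.cons p₀ p : Fin (m + 1) → Ideal A₀) j)
              ((Fin.cons t s : Fin (m + 1) → A₀) j)) =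
            ⋃ j, ⋃ (_ : i ≤ j), Zs (p j) (s j) := by
          ext x
          simp only [Set.mem_iUnion, Fin.exists_fin_succ, Fin.cons_zero, Fin.cons_succ,
            Fin.succ_le_succ_iff, exists_prop]
          constructor
          · rintro (⟨h, _⟩ | h)
            · exact absurd h (by simp [Fin.succ_ne_zero])
            · exact h
          · intro h
            exact Or.inr h
        rw [h1, hUeq, Fin.cons_succ, Fin.cons_succ]

end Strat

end Groth.Agent.Helper21.GrK
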