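import Mathlib
import Groth.Agent.Lib.Helper21.GrK2
import Groth.Agent.Lib.Helper21.GrK3

/-!
# Affine stratification with flat graded quotients (EGA IV 11.3-type)
-/

set_option linter.style.haveILetI false
set_option linter.unusedSectionVars false

open TensorProduct Function AlgebraicGeometry CategoryTheory

namespace Groth.Agent.Helper21.GrK

universe u

section Conv

variable {A₀ : Type u} [CommRing A₀]

theorem range_comap_away_quot (p : Ideal A₀) (s : A₀) :
    Set.range (PrimeSpectrum.comap
      (algebraMap A₀ (Localization.Away (Ideal.Quotient.mk p s)))) = Zs p s := by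
  have h1 : algebraMap A₀ (Localization.Away (Ideal.Quotient.mk p s)) =
      (algebraMap (A₀ ⧸ p) (Localization.Away (Ideal.Quotient.mk p s))).comp
        (Ideal.Quotient.mk p) :=
    IsScalarTower.algebraMap_eq A₀ (A₀ ⧸ p) _
  ext x
  constructor
  · rintro ⟨y, rfl⟩
    rw [mem_Zs, PrimeSpectrum.comap_asIdeal]
    constructor
    · intro a ha
      rw [Ideal.mem_comap, h1, RingHom.comp_apply, Ideal.Quotient.eq_zero_iff_mem.mpr ha, map_zero]
      exact Ideal.zero_mem _
    · intro hs
      rw [Ideal.mem_comap, h1, RingHom.comp_apply] at hs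
      have hu := IsLocalization.Away.algebraMap_isUnit
        (S := Localization.Away (Ideal.Quotient.mk p s)) (Ideal.Quotient.mk p s)
      exact (PrimeSpectrum.isPrime y).ne_top (Ideal.eq_top_of_isUnit_mem _ hs hu)
  · intro hx
    rw [mem_Zs] at hx
    obtain ⟨hpx, hsx⟩ := hx
    have h2 : x ∈ Set.range (PrimeSpectrum.comap (Ideal.Quotient.mk p)) := by
      rw [_root_.range_comap_of_surjective _ _ Ideal.Quotient.mk_surjective,
        Ideal.mk_ker]
      exact (PrimeSpectrum.mem_zeroLocus _ _).mpr hpx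
    obtain ⟨x', rfl⟩ := h2
    have h3 : x' ∈ Set.range (PrimeSpectrum.comap
        (algebraMap (A₀ ⧸ p) (Localization.Away (Ideal.Quotient.mk p s)))) := by
      rw [PrimeSpectrum.localization_away_comap_range _ (Ideal.Quotient.mk p s)]
      exact hsx
    obtain ⟨y, rfl⟩ := h3
    refine ⟨y, ?_⟩
    rw [h1]
    rfl

theorem range_SpecMap_away_quot (p : Ideal A₀) (s : A₀) :
    Set.range (Spec.map (CommRingCat.ofHom
      (algebraMap A₀ (Localization.Away (Ideal.Quotient.mk p s))))) = Zs p s :=
  range_comap_away_quot p s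

theorem isImmersion_SpecMap_away_quot (p : Ideal A₀) (s : A₀) :
    IsImmersion (Spec.map (CommRingCat.ofHom
      (algebraMap A₀ (Localization.Away (Ideal.Quotient.mk p s))))) := by
  have h1 : algebraMap A₀ (Localization.Away (Ideal.Quotient.mk p s)) =
      (algebraMap (A₀ ⧸ p) (Localization.Away (Ideal.Quotient.mk p s))).comp
        (Ideal.Quotient.mk p) :=
    IsScalarTower.algebraMap_eq A₀ (A₀ ⧸ p) _
  rw [h1, CommRingCat.ofHom_comp, Spec.map_comp]
  haveI : IsClosedImmersion (Spec.map (CommRingCat.ofHom (Ideal.Quotient.mk p))) :=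
    IsClosedImmersion.spec_of_surjective _ Ideal.Quotient.mk_surjective
  infer_instance

end Conv

section Main

/-- **Affine stratification with flat graded quotients.** -/
theorem exists_stratification {A₀ : Type u} [CommRing A₀] [IsNoetherianRing A₀]
    {B₀ : Type u} [CommRing B₀] [Algebra A₀ B₀] [Algebra.FiniteType A₀ B₀] (J₀ : Ideal B₀)
    (M₀ : Type u) [AddCommGroup M₀] [Module B₀ M₀] [Module A₀ M₀] [IsScalarTower A₀ B₀ M₀]
    [Module.Finite B₀ M₀] :
    ∃ (m : ℕ) (A : Fin m → Type u) (_ : ∀ i, CommRing (A i)) (_ : ∀ i, Algebra A₀ (A i)),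
      (∀ i, IsImmersion (Spec.map (CommRingCat.ofHom (algebraMap A₀ (A i))))) ∧
      (∀ i j, i ≠ j → Disjoint (Set.range (Spec.map (CommRingCat.ofHom (algebraMap A₀ (A i)))))
        (Set.range (Spec.map (CommRingCat.ofHom (algebraMap A₀ (A j)))))) ∧
      (⋃ i, Set.range (Spec.map (CommRingCat.ofHom (algebraMap A₀ (A i)))) = Set.univ) ∧
      (∀ i, ∃ U : Set (Spec (CommRingCat.of A₀)), IsOpen U ∧
        U ∩ (⋃ j, ⋃ (_ : i ≤ j), Set.range (Spec.map (CommRingCat.ofHom (algebraMap A₀ (A j))))) =
          Set.range (Spec.map (CommRingCat.ofHom (algebraMap A₀ (A i))))) ∧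
      ∀ i (n : ℕ), Module.Flat (A i)
        ↥(Submodule.map
            (LinearMap.range (LinearMap.baseChange (A i)
              ((J₀ ^ (n + 1) • (⊤ : Submodule B₀ M₀)).restrictScalars A₀).subtype)).mkQ
            (LinearMap.range (LinearMap.baseChange (A i)
              ((J₀ ^ n • (⊤ : Submodule B₀ M₀)).restrictScalars A₀).subtype))) := by
  classical
  let good : Ideal A₀ → A₀ → Prop := fun p s =>
    ∀ k : ℕ, Module.Flat (Localization.Away (Ideal.Quotient.mk p s))
      ((Localization.Away (Ideal.Quotient.mk p s)) ⊗[A₀]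
        (M₀ ⧸ (J₀ ^ k • (⊤ : Submodule B₀ M₀))))
  have hgen : ∀ (p : Ideal A₀) [p.IsPrime], ∃ s : A₀, s ∉ p ∧
      ∀ t : A₀, t ∉ p → s ∣ t → good p t := by
    intro p _
    obtain ⟨s, hs, hfl⟩ := GrRees.exists_away_flat_pieces A₀ J₀ M₀ p
    refine ⟨s, hs, fun t _ hst k => ?_⟩
    haveI := hfl k
    exact flat_away_of_dvd p s t hst _
  obtain ⟨m, p, s, hg, hdis, hun, hop⟩ := exists_strat good hgen ⊥
  refine ⟨m, fun i => Localization.Away (Ideal.Quotient.mk (p i) (s i)),
    fun i => inferInstance, fun i => inferInstance, ?_, ?_, ?_, ?_, ?_⟩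
  · intro i
    exact isImmersion_SpecMap_away_quot (p i) (s i)
  · intro i j hij
    have := hdis i j hij
    rw [← range_SpecMap_away_quot, ← range_SpecMap_away_quot] at this
    exact this
  · have h1 : (⋃ i, Set.range (Spec.map (CommRingCat.ofHom
        (algebraMap A₀ (Localization.Away (Ideal.Quotient.mk (p i) (s i))))))) =
        ⋃ i, Zs (p i) (s i) := Set.iUnion_congr fun i => range_SpecMap_away_quot (p i) (s i)
    refine h1.trans ?_
    rw [hun]
    exact PrimeSpectrum.zeroLocus_bot
  · intro i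
    obtain ⟨U, hU, hUeq⟩ := hop i
    refine ⟨U, hU, ?_⟩
    have h1 : (⋃ j, ⋃ (_ : i ≤ j), Set.range (Spec.map (CommRingCat.ofHom
        (algebraMap A₀ (Localization.Away (Ideal.Quotient.mk (p j) (s j))))))) =
        ⋃ j, ⋃ (_ : i ≤ j), Zs (p j) (s j) :=
      Set.iUnion_congr fun j => Set.iUnion_congr fun _ => range_SpecMap_away_quot (p j) (s j)
    refine (congrArg (fun T => U ∩ T) h1).trans ?_
    exact hUeq.trans (range_SpecMap_away_quot (p i) (s i)).symm
  · intro i n
    exact flat_gr_image (Localization.Away (Ideal.Quotient.mk (p i) (s i))) J₀ (hg i) n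

end Main

end Groth.Agent.Helper21.GrK
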