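import Mathlib
import Groth.Agent.Lib.Helper21.DescFinA

/-!
# Invariant affine open neighbourhoods for finite locally free pre-equivalence relations (helper21)

`s t : R ⟶ U` whose images of points form an equivalence relation on the points of `U`, `s` finite
locally free and `t` closed: a point whose orbit lies in an affine open has an invariant affine open
neighbourhood.
-/

set_option autoImplicit false
set_option backward.isDefEq.respectTransparency false
set_option backward.isDefEq.respectTransparency.types false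
set_option linter.style.haveILetI false

open CategoryTheory CategoryTheory.Limits AlgebraicGeometry

universe u

namespace Groth.Agent.Helper21.InvAff

open Groth.Agent.Helper21.DescFinA

variable {U R : Scheme.{u}} (s t : R ⟶ U)

/-- The orbit of a set of points. -/
def orb (A : Set U) : Set U := t.base '' (s.base ⁻¹' A)

/-- The points of `R` induce an equivalence relation on the points of `U`. -/
structure IsPreEq : Prop where
  refl : ∀ u : U, ∃ r : R, s.base r = u ∧ t.base r = u
  symm : ∀ r : R, ∃ r' : R, s.base r' = t.base r ∧ t.base r' = s.base r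
  trans : ∀ r₁ r₂ : R, s.base r₂ = t.base r₁ → ∃ r : R, s.base r = s.base r₁ ∧ t.base r = t.base r₂

/-- The largest invariant subset inside `W`. -/
def core (W : Set U) : Set U := (orb s t Wᶜ)ᶜ

variable {s t}

theorem mem_orb_self (h : IsPreEq s t) (A : Set U) (u : U) (hu : u ∈ A) : u ∈ orb s t A := by
  obtain ⟨r, hr1, hr2⟩ := h.refl u
  exact ⟨r, by change s.base r ∈ A; rw [hr1]; exact hu, hr2⟩

theorem core_subset (h : IsPreEq s t) (W : Set U) : core s t W ⊆ W := by
  intro v hv
  by_contra hvW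
  exact hv (mem_orb_self h _ v hvW)

theorem mem_core_iff (h : IsPreEq s t) (W : Set U) (w : U) :
    w ∈ core s t W ↔ orb s t {w} ⊆ W := by
  constructor
  · rintro hw _ ⟨r, hr, rfl⟩
    by_contra hv
    obtain ⟨r', h1, h2⟩ := h.symm r
    refine hw ⟨r', ?_, ?_⟩
    · change s.base r' ∈ Wᶜ
      rw [h1]; exact hv
    · rw [h2]; exact hr
  · rintro hw ⟨r, hr, rfl⟩
    obtain ⟨r', h1, h2⟩ := h.symm r
    exact hr (hw ⟨r', h1, h2⟩)

theorem core_invariant (h : IsPreEq s t) (W : Set U) (r : R) :
    s.base r ∈ core s t W ↔ t.base r ∈ core s t W := by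
  have key : ∀ r : R, s.base r ∈ core s t W → t.base r ∈ core s t W := by
    intro r hr
    rw [mem_core_iff h] at hr ⊢
    rintro _ ⟨r₂, hr₂, rfl⟩
    obtain ⟨r₃, h1, h2⟩ := h.trans r r₂ hr₂
    exact hr ⟨r₃, h1, h2⟩
  refine ⟨key r, fun hr => ?_⟩
  obtain ⟨r', h1, h2⟩ := h.symm r
  have := key r' (by rw [h1]; exact hr)
  rwa [h2] at this

theorem isOpen_core (ht : IsClosedMap t.base) (W : Set U) (hW : IsOpen W) :
    IsOpen (core s t W) :=
  (ht _ (hW.isClosed_compl.preimage s.continuous)).isOpen_compl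

/-- **Invariant affine neighbourhoods.** -/
theorem exists_invariant_affine (h : IsPreEq s t) [IsFinite s] [Flat s]
    [LocallyOfFinitePresentation s] (ht : IsClosedMap t.base) (u : U) (V : U.Opens)
    (hV : IsAffineOpen V) (huV : orb s t {u} ⊆ V) (O : U.Opens)
    (hO : ∀ r : R, s.base r ∈ O ↔ t.base r ∈ O) (hu : u ∈ O) :
    ∃ W : U.Opens, IsAffineOpen W ∧ u ∈ W ∧ W ≤ O ∧ s ⁻¹ᵁ W = t ⁻¹ᵁ W := by
  have hfin : (orb s t {u}).Finite := (s.finite_preimage_singleton u).image _
  let cV : U.Opens := ⟨core s t (V : Set U), isOpen_core ht _ V.2⟩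
  have huc : u ∈ core s t (V : Set U) := (mem_core_iff h _ _).mpr huV
  have h1 : orb s t {u} ⊆ ((cV ⊓ O : U.Opens) : Set U) := by
    rintro _ ⟨r, hr, rfl⟩
    have hr' : s.base r = u := hr
    refine ⟨(core_invariant h _ r).mp (by rw [hr']; exact huc), (hO r).mp ?_⟩
    rw [hr']; exact hu
  obtain ⟨fU, hf1, hf2⟩ := exists_basicOpen_finite' V hV _ hfin huV (cV ⊓ O) h1
  let U₁ := U.basicOpen fU
  have hU₁ : IsAffineOpen U₁ := hV.basicOpen fU
  have hle : s ⁻¹ᵁ U₁ ≤ t ⁻¹ᵁ V := by
    intro r hr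
    have h2 : s.base r ∈ core s t (V : Set U) := (hf2 hr).1
    exact core_subset h _ ((core_invariant h _ r).mp h2)
  let hh := R.presheaf.map (homOfLE hle).op (t.app V fU)
  have hbo : R.basicOpen hh = s ⁻¹ᵁ U₁ ⊓ t ⁻¹ᵁ U₁ := by
    rw [Scheme.basicOpen_res, Scheme.preimage_basicOpen, Scheme.preimage_basicOpen]
  obtain ⟨n, hn⟩ := exists_norm_section s U₁ hU₁ hh
  have hZ : ∀ w : U, w ∈ U.basicOpen n ↔ w ∈ core s t (U₁ : Set U) := by
    intro w
    rw [mem_core_iff h]
    constructor
    · intro hw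
      have hwU₁ : w ∈ U₁ := U.basicOpen_le n hw
      rintro _ ⟨r, hr, rfl⟩
      have h3 := (hn w hwU₁).mp hw r hr
      rw [hbo] at h3
      exact h3.2
    · intro hw
      have hwU₁ : w ∈ U₁ := hw (mem_orb_self h {w} w rfl)
      refine (hn w hwU₁).mpr (fun r hr => ?_)
      rw [hbo]
      refine ⟨?_, hw ⟨r, hr, rfl⟩⟩
      change s.base r ∈ U₁
      rw [hr]; exact hwU₁
  refine ⟨U.basicOpen n, hU₁.basicOpen n, ?_, ?_, ?_⟩
  · rw [hZ, mem_core_iff h]
    exact hf1
  · exact (U.basicOpen_le n).trans (hf2.trans inf_le_right)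
  · ext r
    change s.base r ∈ U.basicOpen n ↔ t.base r ∈ U.basicOpen n
    rw [hZ, hZ]
    exact core_invariant h _ r

end Groth.Agent.Helper21.InvAff
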