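import Mathlib
import Groth.Agent.Lib.Helper21.InvAff

/-!
# Quasi-compact sets stable under generalization; saturations in flat groupoids (helper21)
-/

set_option autoImplicit false
set_option backward.isDefEq.respectTransparency false
set_option backward.isDefEq.respectTransparency.types false
set_option linter.style.haveILetI false

open CategoryTheory CategoryTheory.Limits AlgebraicGeometry

universe u

namespace Groth.Agent.Helper21.GrpdSat

theorem exists_compact_open_between {U : Scheme.{u}} (E : Set U) (hE : IsCompact E) (O : U.Opens)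
    (hEO : E ⊆ O) : ∃ V : U.Opens, IsCompact (V : Set U) ∧ E ⊆ V ∧ V ≤ O := by
  classical
  have hch : ∀ e : E, ∃ A : U.Opens, IsAffineOpen A ∧ (e : U) ∈ A ∧ A ≤ O := by
    intro e
    obtain ⟨_, ⟨A, hA, rfl⟩, heA, hAO⟩ :=
      U.isBasis_affineOpens.exists_subset_of_mem_open (hEO e.2) O.2
    exact ⟨A, hA, heA, hAO⟩
  choose A hA heA hAO using hch
  obtain ⟨t, ht⟩ := hE.elim_finite_subcover (fun e : E => (A e : Set U)) (fun e => (A e).2)
    (fun e he => Set.mem_iUnion.mpr ⟨⟨e, he⟩, heA ⟨e, he⟩⟩)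
  refine ⟨⨆ e ∈ t, A e, ?_, ?_, ?_⟩
  · have : ((⨆ e ∈ t, A e : U.Opens) : Set U) = ⋃ e ∈ t, (A e : Set U) := by
      simp
    rw [this]
    exact t.isCompact_biUnion (fun e _ => (hA e).isCompact)
  · intro e he
    have := ht he
    simp only [Set.mem_iUnion] at this
    obtain ⟨i, hi, hei⟩ := this
    simp only [TopologicalSpace.Opens.coe_iSup, Set.mem_iUnion]
    exact ⟨i, hi, hei⟩
  · exact iSup₂_le (fun e _ => hAO e)

theorem eq_iInter_of_isCompact_of_stableUnderGeneralization {U : Scheme.{u}} (E : Set U)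
    (hE : IsCompact E) (hg : StableUnderGeneralization E) :
    E = ⋂ V : {V : U.Opens // IsCompact (V : Set U) ∧ E ⊆ V}, (V.1 : Set U) := by
  apply Set.Subset.antisymm
  · exact Set.subset_iInter (fun V => V.2.2)
  · intro x hx
    by_contra hxE
    -- `E` misses the closure of `x`
    let O : U.Opens := ⟨(closure {x})ᶜ, isClosed_closure.isOpen_compl⟩
    have hEO : E ⊆ O := by
      intro e he hex
      have : x ⤳ e := specializes_iff_mem_closure.mpr hex
      exact hxE (hg this he)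
    obtain ⟨V, hV, hEV, hVO⟩ := exists_compact_open_between E hE O hEO
    have h1 : x ∈ (V : Set U) := Set.mem_iInter.mp hx ⟨V, hV, hEV⟩
    exact hVO h1 (subset_closure rfl)

/-- Points in the closure of the range of a ring-spectrum map are specializations of points of
the range. -/
theorem exists_comap_specializes {B C : Type u} [CommRing B] [CommRing C] (φ : B →+* C)
    (𝔭 : PrimeSpectrum B) (h𝔭 : 𝔭 ∈ closure (Set.range (PrimeSpectrum.comap φ))) :
    ∃ 𝔮 : PrimeSpectrum C, PrimeSpectrum.comap φ 𝔮 ⤳ 𝔭 := by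
  rw [PrimeSpectrum.closure_range_comap] at h𝔭
  have hle : RingHom.ker φ ≤ 𝔭.asIdeal := h𝔭
  obtain ⟨p₀, hp₀, hp₀le⟩ := Ideal.exists_minimalPrimes_le hle
  have hp₀' : p₀ ∈ ((⊥ : Ideal C).comap φ).minimalPrimes := hp₀
  obtain ⟨q, hq, -, hqp⟩ := Ideal.exists_comap_eq_of_mem_minimalPrimes (I := ⊥) φ p₀ hp₀'
  refine ⟨⟨q, hq⟩, ?_⟩
  rw [← PrimeSpectrum.le_iff_specializes]
  change q.comap φ ≤ 𝔭.asIdeal
  rw [hqp]
  exact hp₀le

/-- For a quasi-compact morphism, points in the closure of the range are specializations of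
points of the range. -/
theorem exists_specializes_of_mem_closure_range {X Y : Scheme.{u}} (g : X ⟶ Y) [QuasiCompact g]
    (y : Y) (hy : y ∈ closure (Set.range g.base)) : ∃ x : X, g.base x ⤳ y := by
  obtain ⟨_, ⟨Y₀, hY₀, rfl⟩, hyY₀, -⟩ :=
    Y.isBasis_affineOpens.exists_subset_of_mem_open (Set.mem_univ y) isOpen_univ
  haveI hc : CompactSpace (g ⁻¹ᵁ Y₀ : Scheme.{u}) :=
    isCompact_iff_compactSpace.mp (QuasiCompact.isCompact_preimage (f := g) _ Y₀.2 hY₀.isCompact)
  obtain ⟨R', h, hsurj⟩ := compactSpace_iff_exists.mp hc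
  let k' : Spec R' ⟶ Y := h ≫ (g ⁻¹ᵁ Y₀).ι ≫ g
  have hk'mem : ∀ a, k'.base a ∈ Y₀ := by
    intro a
    have : (g ⁻¹ᵁ Y₀).ι.base (h.base a) ∈ g ⁻¹ᵁ Y₀ := by
      have : (g ⁻¹ᵁ Y₀).ι.base (h.base a) ∈ Set.range (g ⁻¹ᵁ Y₀).ι.base := ⟨_, rfl⟩
      rwa [Scheme.Opens.range_ι] at this
    exact this
  have hk' : Set.range k'.base ⊆ Set.range hY₀.fromSpec.base := by
    rw [hY₀.range_fromSpec]
    rintro _ ⟨a, rfl⟩
    exact hk'mem a
  let k := IsOpenImmersion.lift hY₀.fromSpec k' hk'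
  have hk : k ≫ hY₀.fromSpec = k' := IsOpenImmersion.lift_fac _ _ _
  obtain ⟨φ, hφ⟩ : ∃ φ, Spec.map φ = k := ⟨Spec.preimage k, Spec.map_preimage k⟩
  have hinj : Function.Injective hY₀.fromSpec.base := hY₀.fromSpec.isOpenEmbedding.injective
  have hkey : ∀ a, hY₀.fromSpec.base (PrimeSpectrum.comap φ.hom a) = k'.base a := by
    intro a
    rw [← hk, Scheme.Hom.comp_apply, ← hφ]
    rfl
  obtain ⟨𝔭, rfl⟩ : ∃ 𝔭, hY₀.fromSpec.base 𝔭 = y := by
    have : y ∈ Set.range hY₀.fromSpec.base := by rw [hY₀.range_fromSpec]; exact hyY₀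
    exact this
  have h1 : 𝔭 ∈ closure (Set.range (PrimeSpectrum.comap φ.hom)) := by
    have hopen : IsOpenMap hY₀.fromSpec.base := hY₀.fromSpec.isOpenEmbedding.isOpenMap
    have h3 := hopen.preimage_closure_eq_closure_preimage hY₀.fromSpec.continuous
      (Set.range g.base)
    have h2 : 𝔭 ∈ hY₀.fromSpec.base ⁻¹' closure (Set.range g.base) := hy
    rw [h3] at h2
    refine closure_mono ?_ h2
    rintro 𝔮' ⟨x, hx⟩
    have hx' : x ∈ g ⁻¹ᵁ Y₀ := by
      change g.base x ∈ Y₀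
      rw [hx]
      have : hY₀.fromSpec.base 𝔮' ∈ Set.range hY₀.fromSpec.base := ⟨_, rfl⟩
      rwa [hY₀.range_fromSpec] at this
    obtain ⟨a, ha⟩ := hsurj ⟨x, hx'⟩
    refine ⟨a, hinj ?_⟩
    rw [hkey a]
    change g.base ((g ⁻¹ᵁ Y₀).ι.base (h.base a)) = _
    rw [ha]
    exact hx
  obtain ⟨𝔮, h𝔮⟩ := exists_comap_specializes φ.hom 𝔭 h1
  refine ⟨(g ⁻¹ᵁ Y₀).ι.base (h.base 𝔮), ?_⟩
  have h4 := h𝔮.map hY₀.fromSpec.continuous
  rw [hkey 𝔮] at h4
  exact h4

/-- Set version: for a quasi-compact morphism and a closed set `Z`, points in the closure of the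
image of `Z` are specializations of points of the image. -/
theorem exists_specializes_of_mem_closure_image {X Y : Scheme.{u}} (g : X ⟶ Y) [QuasiCompact g]
    (Z : Set X) (hZ : IsClosed Z) (y : Y) (hy : y ∈ closure (g.base '' Z)) :
    ∃ x ∈ Z, g.base x ⤳ y := by
  let I := Scheme.IdealSheafData.vanishingIdeal ⟨Z, hZ⟩
  have hr : Set.range I.subschemeι.base = Z := by
    rw [Scheme.IdealSheafData.range_subschemeι]
    exact Scheme.IdealSheafData.coe_support_vanishingIdeal _
  have : g.base '' Z = Set.range (I.subschemeι ≫ g).base := by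
    rw [Scheme.Hom.comp_base, TopCat.coe_comp, Set.range_comp, hr]
  rw [this] at hy
  obtain ⟨x, hx⟩ := exists_specializes_of_mem_closure_range (I.subschemeι ≫ g) y hy
  refine ⟨I.subschemeι.base x, ?_, hx⟩
  rw [← hr]
  exact ⟨x, rfl⟩

open Groth.Agent.Helper21.InvAff in
/-- For a flat quasi-compact pre-equivalence relation: between the orbit of a quasi-compact open
and any open containing it there is an invariant open. -/
theorem exists_invariant_open_le {U R : Scheme.{u}} {s t : R ⟶ U} (h : IsPreEq s t)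
    [Flat s] [QuasiCompact t] [Flat t]
    (W : U.Opens) (W' : U.Opens) (hEW' : orb s t (W : Set U) ⊆ W') :
    ∃ V : U.Opens, s ⁻¹ᵁ V = t ⁻¹ᵁ V ∧ orb s t (W : Set U) ⊆ V ∧ V ≤ W' := by
  have horb : ∀ (A : Set U) (r : R), s.base r ∈ orb s t A → t.base r ∈ orb s t A := by
    rintro A r ⟨r₁, hr₁, hr₁'⟩
    obtain ⟨r', h1, h2⟩ := h.trans r₁ r hr₁'.symm
    exact ⟨r', by change s.base r' ∈ A; rw [h1]; exact hr₁, h2⟩
  have horb' : ∀ (A : Set U) (r : R), t.base r ∈ orb s t A → s.base r ∈ orb s t A := by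
    intro A r hr
    obtain ⟨r', h1, h2⟩ := h.symm r
    have := horb A r' (by rw [h1]; exact hr)
    rwa [h2] at this
  have hg : StableUnderGeneralization (orb s t (W : Set U)) :=
    (W.2.preimage s.continuous).stableUnderGeneralization.image (Flat.generalizingMap t)
  have hET : Disjoint (orb s t (W : Set U)) (orb s t ((W' : Set U)ᶜ)) := by
    rw [Set.disjoint_left]
    rintro x hxE ⟨r₂, hr₂, rfl⟩
    exact hr₂ (hEW' (horb' _ r₂ hxE))
  have hcl : ∀ y ∈ closure (orb s t ((W' : Set U)ᶜ)), ∃ x ∈ orb s t ((W' : Set U)ᶜ), x ⤳ y := by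
    intro y hy
    obtain ⟨x, hx, hxy⟩ := exists_specializes_of_mem_closure_image t (s.base ⁻¹' (W' : Set U)ᶜ)
      ((W'.2.isClosed_compl).preimage s.continuous) y hy
    exact ⟨t.base x, ⟨x, hx, rfl⟩, hxy⟩
  have hclE : Disjoint (orb s t (W : Set U)) (closure (orb s t ((W' : Set U)ᶜ))) := by
    rw [Set.disjoint_left]
    intro y hyE hyT
    obtain ⟨x, hxT, hxy⟩ := hcl y hyT
    exact Set.disjoint_left.mp hET (hg hxy hyE) hxT
  have hclinv : ∀ r : R, s.base r ∈ closure (orb s t ((W' : Set U)ᶜ)) →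
      t.base r ∈ closure (orb s t ((W' : Set U)ᶜ)) := by
    intro r hr
    obtain ⟨x, hxT, hxy⟩ := hcl _ hr
    obtain ⟨r', hr'r, hr'x⟩ := Flat.generalizingMap s hxy
    have h1 : t.base r' ∈ orb s t ((W' : Set U)ᶜ) := horb _ r' (by rw [hr'x]; exact hxT)
    exact (hr'r.map t.continuous).mem_closed isClosed_closure (subset_closure h1)
  have hclinv' : ∀ r : R, t.base r ∈ closure (orb s t ((W' : Set U)ᶜ)) →
      s.base r ∈ closure (orb s t ((W' : Set U)ᶜ)) := by
    intro r hr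
    obtain ⟨r', h1, h2⟩ := h.symm r
    have := hclinv r' (by rw [h1]; exact hr)
    rwa [h2] at this
  refine ⟨⟨(closure (orb s t ((W' : Set U)ᶜ)))ᶜ, isClosed_closure.isOpen_compl⟩, ?_, ?_, ?_⟩
  · ext r
    change s.base r ∈ (closure (orb s t ((W' : Set U)ᶜ)))ᶜ ↔
      t.base r ∈ (closure (orb s t ((W' : Set U)ᶜ)))ᶜ
    exact not_congr ⟨hclinv r, hclinv' r⟩
  · intro x hx
    exact Set.disjoint_left.mp hclE hx
  · intro x hx
    by_contra hxW'
    exact hx (subset_closure (mem_orb_self h _ x hxW'))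

open Groth.Agent.Helper21.InvAff in
/-- **Invariant opens between a quasi-compact open and a quasi-compact open** (Stacks 0APC-type
lemma) for a flat quasi-compact pre-equivalence relation on a quasi-separated scheme. -/
theorem exists_invariant_between {U R : Scheme.{u}} {s t : R ⟶ U} (h : IsPreEq s t)
    [QuasiCompact s] [Flat s] [QuasiCompact t] [Flat t] [QuasiSeparatedSpace U]
    (W : U.Opens) (hW : IsCompact (W : Set U)) :
    ∃ V W' : U.Opens, s ⁻¹ᵁ V = t ⁻¹ᵁ V ∧ IsCompact (W' : Set U) ∧ W ≤ V ∧ V ≤ W' := by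
  have hE : IsCompact (orb s t (W : Set U)) :=
    (QuasiCompact.isCompact_preimage (f := s) _ W.2 hW).image t.continuous
  obtain ⟨W', hW', hEW', -⟩ := exists_compact_open_between _ hE ⊤ (fun _ _ => trivial)
  obtain ⟨V, hV, hEV, hVW'⟩ := exists_invariant_open_le h W W' hEW'
  exact ⟨V, W', hV, hW', fun x hx => hEV (mem_orb_self h _ x hx), hVW'⟩

end Groth.Agent.Helper21.GrpdSat
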