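import Mathlib
import Groth.Agent.Lib.Lead.Depth5

/-!
# `depth Hom(M, N) ≥ min(2, depth N)`
-/

set_option autoImplicit false
universe u
open RingTheory.Sequence LocCoh Pointwise IsLocalRing

namespace Groth.Agent.Helper21.HD

open Groth.Agent.Lead.Depth

variable {R : Type u} [CommRing R] (M N : Type u) [AddCommGroup M] [Module R M]
  [AddCommGroup N] [Module R N]

theorem isSMulRegular_hom (x : R) (hx : IsSMulRegular N x) : IsSMulRegular (M →ₗ[R] N) x := by
  intro φ ψ h
  ext m
  apply hx
  have := LinearMap.congr_fun h m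
  simpa using this

/-- composition with the quotient map `N → N/xN` -/
noncomputable def comp (x : R) : (M →ₗ[R] N) →ₗ[R] (M →ₗ[R] QuotSMulTop x N) :=
  LinearMap.llcomp R M N (QuotSMulTop x N) (Submodule.mkQ (x • (⊤ : Submodule R N)))

theorem comp_apply (x : R) (φ : M →ₗ[R] N) (m : M) :
    comp M N x φ m = Submodule.mkQ (x • (⊤ : Submodule R N)) (φ m) := rfl

theorem comp_eq_zero_iff (x : R) (hx : IsSMulRegular N x) (φ : M →ₗ[R] N) :
    comp M N x φ = 0 ↔ φ ∈ (x • (⊤ : Submodule R (M →ₗ[R] N))) := by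
  constructor
  · intro h
    have hmem : ∀ m, φ m ∈ LinearMap.range (LinearMap.lsmul R N x) := by
      intro m
      have h1 : Submodule.mkQ (x • (⊤ : Submodule R N)) (φ m) = 0 := by
        rw [← comp_apply, h]
        rfl
      rw [Submodule.mkQ_apply, Submodule.Quotient.mk_eq_zero,
        Submodule.mem_smul_pointwise_iff_exists] at h1
      obtain ⟨n, -, hn⟩ := h1
      exact ⟨n, hn⟩
    have hinj : Function.Injective (LinearMap.lsmul R N x) := hx
    let e := LinearEquiv.ofInjective (LinearMap.lsmul R N x) hinj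
    let ψ : M →ₗ[R] N := e.symm.toLinearMap ∘ₗ (φ.codRestrict _ hmem)
    rw [Submodule.mem_smul_pointwise_iff_exists]
    refine ⟨ψ, Submodule.mem_top, ?_⟩
    ext m
    have h2 : (e (ψ m) : N) = φ m := by
      show (e (e.symm (φ.codRestrict _ hmem m)) : N) = φ m
      rw [LinearEquiv.apply_symm_apply]
      rfl
    rw [LinearMap.smul_apply, ← h2]
    rfl
  · intro h
    rw [Submodule.mem_smul_pointwise_iff_exists] at h
    obtain ⟨ψ, -, rfl⟩ := h
    ext m
    rw [comp_apply, LinearMap.smul_apply, Submodule.mkQ_apply, LinearMap.zero_apply,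
      Submodule.Quotient.mk_eq_zero]
    exact Submodule.smul_mem_pointwise_smul _ x _ Submodule.mem_top

theorem isWeaklyRegular_hom_pair (x y : R) (h : IsWeaklyRegular N [x, y]) :
    IsWeaklyRegular (M →ₗ[R] N) [x, y] := by
  obtain ⟨hx, h2⟩ := (isWeaklyRegular_cons_iff N x [y]).mp h
  have hy : IsSMulRegular (QuotSMulTop x N) y := (isWeaklyRegular_singleton_iff _ y).mp h2
  rw [isWeaklyRegular_cons_iff, isWeaklyRegular_singleton_iff]
  refine ⟨isSMulRegular_hom M N x hx, ?_⟩
  rw [isSMulRegular_iff_right_eq_zero_of_smul]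
  intro q hq
  obtain ⟨φ, rfl⟩ := Submodule.mkQ_surjective _ q
  rw [← map_smul, Submodule.mkQ_apply, Submodule.Quotient.mk_eq_zero,
    ← comp_eq_zero_iff M N x hx, map_smul] at hq
  have hyH := isSMulRegular_hom M (QuotSMulTop x N) y hy
  have h0 : comp M N x φ = 0 := hyH (by
    show y • comp M N x φ = y • (0 : M →ₗ[R] QuotSMulTop x N)
    rw [hq, smul_zero])
  rw [comp_eq_zero_iff M N x hx] at h0
  rw [Submodule.mkQ_apply, Submodule.Quotient.mk_eq_zero]
  exact h0

theorem main [IsLocalRing R] [Module.Finite R N] :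
    (1 ≤ LocCoh.depth R N → 1 ≤ LocCoh.depth R (M →ₗ[R] N)) ∧
    (2 ≤ LocCoh.depth R N → 2 ≤ LocCoh.depth R (M →ₗ[R] N)) := by
  rcases subsingleton_or_nontrivial N with hN | hN
  · have : Subsingleton (M →ₗ[R] N) := ⟨fun a b => by ext m; exact Subsingleton.elim _ _⟩
    rw [depth_eq_top_of_subsingleton (M →ₗ[R] N)]
    exact ⟨fun _ => le_top, fun _ => le_top⟩
  · have hIN := maximalIdeal_smul_top_ne_top (R := R) N
    constructor
    · intro h
      obtain ⟨rs, hlen, hreg, hmem⟩ := exists_of_le_idealDepth (maximalIdeal R) N hIN 1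
        (by exact_mod_cast h)
      obtain ⟨x, rfl⟩ := List.length_eq_one_iff.mp hlen
      have hx : IsSMulRegular N x := (isWeaklyRegular_singleton_iff N x).mp hreg
      have h1 := le_idealDepth_of_isWeaklyRegular (maximalIdeal R) (M →ₗ[R] N) [x]
        ((isWeaklyRegular_singleton_iff _ x).mpr (isSMulRegular_hom M N x hx)) hmem
      rw [depth_def]
      exact_mod_cast h1
    · intro h
      obtain ⟨rs, hlen, hreg, hmem⟩ := exists_of_le_idealDepth (maximalIdeal R) N hIN 2
        (by exact_mod_cast h)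
      obtain ⟨x, y, rfl⟩ := List.length_eq_two.mp hlen
      have h1 := le_idealDepth_of_isWeaklyRegular (maximalIdeal R) (M →ₗ[R] N) [x, y]
        (isWeaklyRegular_hom_pair M N x y hreg) hmem
      rw [depth_def]
      exact_mod_cast h1

end Groth.Agent.Helper21.HD
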