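import Mathlib
import Groth.Agent.Lib.Helper21.IQA
import Groth.Agent.Lib.Helper21.DescQA5

/-!
# Permanence properties of ind-quasi-affine morphisms (helper21)
-/

set_option autoImplicit false
set_option backward.isDefEq.respectTransparency false
set_option backward.isDefEq.respectTransparency.types false
set_option linter.style.haveILetI false

open CategoryTheory CategoryTheory.Limits AlgebraicGeometry TopologicalSpace

universe u

namespace Groth.Agent.Helper21.IQA

open Groth.Agent.Helper21.DescQA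

/-- `IQAhom` implies the affine-open formulation. -/
theorem IQAhom.toMoreMor {X Y : Scheme.{u}} (f : X ⟶ Y) (hf : IQAhom f) :
    MoreMor.IsIndQuasiAffineHom f := by
  intro V hV
  exact of_isAffineHom (pullbackRestrictIsoRestrict f V).inv (hf _ V.ι hV)

theorem iqahom_iff {X Y : Scheme.{u}} (f : X ⟶ Y) : MoreMor.IsIndQuasiAffineHom f ↔ IQAhom f :=
  ⟨IQAhom.of_moreMor f, IQAhom.toMoreMor f⟩

/-- An open subscheme of an ind-quasi-affine scheme is ind-quasi-affine. -/
theorem of_openImm {Z' Z : Scheme.{u}} (j : Z' ⟶ Z) [IsOpenImmersion j]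
    (hZ : MoreMor.IsIndQuasiAffine Z) : MoreMor.IsIndQuasiAffine Z' := by
  intro U hU
  haveI : CompactSpace (U : Scheme.{u}) := isCompact_iff_compactSpace.mp hU
  exact isQuasiAffine_of_openImm hZ (U.ι ≫ j)

/-- The source of an ind-quasi-affine morphism to an ind-quasi-affine scheme is
ind-quasi-affine. -/
theorem of_iqahom {X' Y' : Scheme.{u}} (h : X' ⟶ Y') (hh : IQAhom h)
    (hY' : MoreMor.IsIndQuasiAffine Y') : MoreMor.IsIndQuasiAffine X' := by
  intro Q hQ
  haveI : CompactSpace (Q : Scheme.{u}) := isCompact_iff_compactSpace.mp hQ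
  obtain ⟨O, hO, hQO, -⟩ := Groth.Agent.Helper21.GrpdSat.exists_compact_open_between
    (h.base '' (Q : Set X')) (hQ.image h.continuous) ⊤ (fun _ _ => trivial)
  haveI := hY' O hO
  have hle : Q ≤ h ⁻¹ᵁ O := fun x hx => hQO ⟨x, hx, rfl⟩
  -- `Q ⟶ O` is quasi-affine over every affine scheme
  have hbc : IQAhom (h ∣_ O) :=
    MorphismProperty.of_isPullback (P := IQAhom) (isPullback_morphismRestrict h O).flip hh
  have hk : QA (h.resLE O Q hle) := by
    intro T t hT
    haveI : IsAffineHom (t ≫ (O : Scheme.{u}).toSpecΓ) := isAffineHom_of_isAffine _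
    haveI : IsAffineHom t := IsAffineHom.of_comp t (O : Scheme.{u}).toSpecΓ
    have hZ := hbc T t hT
    let e := pullbackRightPullbackFstIso (h ∣_ O) t (X'.homOfLE hle)
    haveI : IsAffineHom (pullback.fst (X'.homOfLE hle ≫ h ∣_ O) t) :=
      MorphismProperty.pullback_fst (P := @IsAffineHom) _ _ ‹_›
    haveI : CompactSpace (pullback (X'.homOfLE hle ≫ h ∣_ O) t : Scheme.{u}) :=
      QuasiCompact.compactSpace_of_compactSpace (pullback.fst (X'.homOfLE hle ≫ h ∣_ O) t)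
    exact isQuasiAffine_of_openImm hZ
      (e.inv ≫ pullback.snd (X'.homOfLE hle) (pullback.fst (h ∣_ O) t))
  refine isQuasiAffine_of_forall_exists_basicOpen (Q : Scheme.{u}) (fun x => ?_)
  obtain ⟨_, ⟨_, ⟨a, ha, rfl⟩, rfl⟩, hxa, -⟩ :=
    (Scheme.IsQuasiAffine.isBasis_basicOpen (O : Scheme.{u})).exists_subset_of_mem_open
      (Set.mem_univ ((h.resLE O Q hle).base x)) isOpen_univ
  refine ⟨(h.resLE O Q hle).appTop a, ?_, ?_⟩
  · rw [← Scheme.preimage_basicOpen_top]
    haveI : IsAffine (((O : Scheme.{u}).basicOpen a : (O : Scheme.{u}).Opens) : Scheme.{u}) := ha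
    haveI := hk _ ((O : Scheme.{u}).basicOpen a).ι inferInstance
    exact Scheme.IsQuasiAffine.of_isAffineHom
      (pullbackRestrictIsoRestrict (h.resLE O Q hle) ((O : Scheme.{u}).basicOpen a)).inv
  · rw [← Scheme.preimage_basicOpen_top]
    exact hxa

theorem IQAhom.comp {X Y Z : Scheme.{u}} (f : X ⟶ Y) (g : Y ⟶ Z) (hf : IQAhom f) (hg : IQAhom g) :
    IQAhom (f ≫ g) := by
  intro T t hT
  have h1 : IQAhom (pullback.snd f (pullback.fst g t)) :=
    MorphismProperty.pullback_snd (P := IQAhom) _ _ hf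
  have h2 := of_iqahom _ h1 (hg T t hT)
  exact of_isAffineHom (pullbackRightPullbackFstIso g t f).inv h2

theorem IQAhom.of_comp {X Y Z : Scheme.{u}} (f : X ⟶ Y) (g : Y ⟶ Z) (h : IQAhom (f ≫ g)) :
    IQAhom f := by
  refine IQAhom.of_local f (fun y => ?_)
  -- an affine open of `Z` and an affine open of `Y` mapping into it
  obtain ⟨_, ⟨(Zk : Z.Opens), hZk, rfl⟩, hgy, -⟩ :=
    Z.isBasis_affineOpens.exists_subset_of_mem_open (Set.mem_univ (g.base y)) isOpen_univ
  obtain ⟨_, ⟨(W : Y.Opens), hW, rfl⟩, hyW, hWZ⟩ :=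
    Y.isBasis_affineOpens.exists_subset_of_mem_open (show y ∈ g ⁻¹ᵁ Zk from hgy) (g ⁻¹ᵁ Zk).2
  refine ⟨_, W.ι, inferInstance, by rw [Scheme.Opens.range_ι]; exact hyW, ?_⟩
  intro T t hT
  haveI : IsAffine (W : Scheme.{u}) := hW
  haveI : IsAffine (Zk : Scheme.{u}) := hZk
  -- `f⁻¹ W` is an open subscheme of `(f ≫ g)⁻¹ Zk`
  have hIQA : MoreMor.IsIndQuasiAffine (pullback (f ≫ g) Zk.ι) := h _ Zk.ι inferInstance
  have hr : Set.range (W.ι ≫ g).base ⊆ Set.range Zk.ι.base := by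
    rw [Scheme.Opens.range_ι]
    rintro _ ⟨w, rfl⟩
    rw [Scheme.Hom.comp_apply]
    have : W.ι.base w ∈ W := by
      have := Set.mem_range_self (f := W.ι.base) w
      rwa [Scheme.Opens.range_ι] at this
    exact hWZ this
  let k : (W : Scheme.{u}) ⟶ (Zk : Scheme.{u}) := IsOpenImmersion.lift Zk.ι (W.ι ≫ g) hr
  have hk : k ≫ Zk.ι = W.ι ≫ g := IsOpenImmersion.lift_fac _ _ _
  let m : pullback f W.ι ⟶ pullback (f ≫ g) Zk.ι :=
    pullback.lift (pullback.fst f W.ι) (pullback.snd f W.ι ≫ k) (by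
      rw [Category.assoc, hk, ← Category.assoc, pullback.condition, Category.assoc])
  haveI : IsOpenImmersion (m ≫ pullback.fst (f ≫ g) Zk.ι) := by
    have : m ≫ pullback.fst (f ≫ g) Zk.ι = pullback.fst f W.ι := pullback.lift_fst _ _ _
    rw [this]; infer_instance
  haveI : IsOpenImmersion m := IsOpenImmersion.of_comp m (pullback.fst (f ≫ g) Zk.ι)
  have h1 : MoreMor.IsIndQuasiAffine (pullback f W.ι) := of_openImm m hIQA
  haveI : IsAffineHom t := isAffineHom_of_isAffine t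
  haveI : IsAffineHom (pullback.fst (pullback.snd f W.ι) t) :=
    MorphismProperty.pullback_fst (P := @IsAffineHom) _ _ ‹_›
  exact of_isAffineHom (pullback.fst (pullback.snd f W.ι) t) h1

/-- Ind-quasi-affine morphisms descend along flat surjective quasi-compact base change. -/
theorem IQAhom.descends {X S X' S' : Scheme.{u}} (f : X ⟶ S) (f' : X' ⟶ S') (g' : X' ⟶ X)
    (g : S' ⟶ S) [Flat g] [Surjective g] [QuasiCompact g] (hc : IsPullback g' f' f g)
    (hf' : IQAhom f') : IQAhom f := by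
  intro T t hT
  -- an affine flat cover of `T` factoring through `S'`
  haveI : QuasiCompact (pullback.snd g t) := inferInstance
  haveI : CompactSpace (pullback g t : Scheme.{u}) :=
    QuasiCompact.compactSpace_of_compactSpace (pullback.snd g t)
  obtain ⟨T', p₀, hsurj, hflat, hT'⟩ :=
    Scheme.exists_hom_isAffine_of_isZariskiLocalAtSource (@Flat : MorphismProperty Scheme.{u})
      (pullback g t : Scheme.{u})
  haveI := hsurj
  haveI : Flat p₀ := hflat
  haveI := hT'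
  let p : T' ⟶ T := p₀ ≫ pullback.snd g t
  haveI : Flat p := by
    haveI : Flat (pullback.snd g t) := MorphismProperty.pullback_snd (P := @Flat) _ _ ‹_›
    exact MorphismProperty.comp_mem _ _ _ ‹_› ‹_›
  haveI : Surjective p := by
    haveI : Surjective (pullback.snd g t) :=
      MorphismProperty.pullback_snd (P := @Surjective) _ _ ‹_›
    exact MorphismProperty.comp_mem _ _ _ ‹_› ‹_›
  let t' : T' ⟶ S' := p₀ ≫ pullback.fst g t
  have ht' : t' ≫ g = p ≫ t := by
    simp only [t', p, Category.assoc, pullback.condition]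
  -- the base change to `T'` is ind-quasi-affine
  have h1 : MoreMor.IsIndQuasiAffine (pullback f' t') := hf' T' t' hT'
  have e1 : IsPullback (pullback.fst f' t' ≫ g') (pullback.snd f' t') f (t' ≫ g) :=
    (IsPullback.of_hasPullback f' t').paste_horiz hc
  have h2 : MoreMor.IsIndQuasiAffine (pullback f (p ≫ t)) := by
    rw [ht'] at e1
    exact of_isAffineHom e1.isoPullback.inv h1
  have h3 : MoreMor.IsIndQuasiAffine (pullback (pullback.snd f t) p) :=
    of_isAffineHom (pullbackLeftPullbackSndIso f t p).hom h2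
  -- descend quasi-affineness of quasi-compact opens
  intro Q hQ
  haveI : CompactSpace (Q : Scheme.{u}) := isCompact_iff_compactSpace.mp hQ
  refine Groth.Agent.Helper21.DescQA5.isQuasiAffine_of_flat_surjective
    (Q.ι ≫ pullback.snd f t) p ?_
  haveI : IsAffineHom p := isAffineHom_of_isAffine p
  haveI : IsAffineHom (pullback.fst (Q.ι ≫ pullback.snd f t) p) :=
    MorphismProperty.pullback_fst (P := @IsAffineHom) _ _ ‹_›
  haveI : CompactSpace (pullback (Q.ι ≫ pullback.snd f t) p : Scheme.{u}) :=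
    QuasiCompact.compactSpace_of_compactSpace (pullback.fst (Q.ι ≫ pullback.snd f t) p)
  exact isQuasiAffine_of_openImm h3
    ((pullbackRightPullbackFstIso (pullback.snd f t) p Q.ι).inv ≫
      pullback.snd Q.ι (pullback.fst (pullback.snd f t) p))

/-- Characterization of ind-quasi-affine morphisms through quasi-compact opens over
quasi-compact quasi-separated opens. -/
theorem iff_resLE {X Y : Scheme.{u}} (f : X ⟶ Y) :
    MoreMor.IsIndQuasiAffineHom f ↔ ∀ (V : Y.Opens), IsCompact (V : Set ↑Y) →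
      IsQuasiSeparated (V : Set ↑Y) → ∀ (U : X.Opens) (hUV : U ≤ f ⁻¹ᵁ V),
        IsCompact (U : Set ↑X) → MoreMor.IsQuasiAffineHom (f.resLE V U hUV) := by
  constructor
  · intro hf V hVc hVqs U hUV hUc
    have hf' := IQAhom.of_moreMor f hf
    haveI : CompactSpace (U : Scheme.{u}) := isCompact_iff_compactSpace.mp hUc
    haveI : QuasiSeparatedSpace (V : Scheme.{u}) :=
      (isQuasiSeparated_iff_quasiSeparatedSpace (V : Set Y) V.2).mp hVqs
    haveI : QuasiCompact (f.resLE V U hUV) := inferInstance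
    refine ⟨inferInstance, fun W hW => ?_⟩
    haveI : IsAffine (W : Scheme.{u}) := hW
    have hZ := hf' _ (W.ι ≫ V.ι) inferInstance
    haveI : CompactSpace (((f.resLE V U hUV) ⁻¹ᵁ W : (U : Scheme.{u}).Opens) : Scheme.{u}) :=
      isCompact_iff_compactSpace.mp
        (QuasiCompact.isCompact_preimage (f := f.resLE V U hUV) _ W.2 hW.isCompact)
    let j : (((f.resLE V U hUV) ⁻¹ᵁ W : (U : Scheme.{u}).Opens) : Scheme.{u}) ⟶
        pullback f (W.ι ≫ V.ι) :=
      pullback.lift (((f.resLE V U hUV) ⁻¹ᵁ W).ι ≫ U.ι) ((f.resLE V U hUV) ∣_ W) (by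
        rw [Category.assoc, ← Scheme.Hom.resLE_comp_ι f hUV, ← Category.assoc,
          ← Category.assoc, morphismRestrict_ι])
    haveI : IsOpenImmersion (j ≫ pullback.fst f (W.ι ≫ V.ι)) := by
      have : j ≫ pullback.fst f (W.ι ≫ V.ι) = ((f.resLE V U hUV) ⁻¹ᵁ W).ι ≫ U.ι :=
        pullback.lift_fst _ _ _
      rw [this]; infer_instance
    haveI : IsOpenImmersion j := IsOpenImmersion.of_comp j (pullback.fst f (W.ι ≫ V.ι))
    exact isQuasiAffine_of_openImm hZ j
  · intro H W hW Q hQ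
    haveI : IsAffine (W : Scheme.{u}) := hW
    have hUc : IsCompact (((f ⁻¹ᵁ W).ι ''ᵁ Q : X.Opens) : Set X) := by
      change IsCompact ((f ⁻¹ᵁ W).ι.base '' (Q : Set _))
      exact hQ.image (f ⁻¹ᵁ W).ι.continuous
    have hUV : (f ⁻¹ᵁ W).ι ''ᵁ Q ≤ f ⁻¹ᵁ W := by
      rintro _ ⟨z, -, rfl⟩
      have := Set.mem_range_self (f := (f ⁻¹ᵁ W).ι.base) z
      rwa [Scheme.Opens.range_ι] at this
    obtain ⟨-, h2⟩ := H W hW.isCompact hW.isQuasiSeparated _ hUV hUc
    haveI := h2 ⊤ (isAffineOpen_top _)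
    haveI : CompactSpace (Q : Scheme.{u}) := isCompact_iff_compactSpace.mp hQ
    have hr : Set.range (Q.ι ≫ (f ⁻¹ᵁ W).ι).base ⊆
        Set.range (((f.resLE W _ hUV) ⁻¹ᵁ ⊤).ι ≫ ((f ⁻¹ᵁ W).ι ''ᵁ Q).ι).base := by
      rintro _ ⟨q, rfl⟩
      have hq : (Q.ι.base q) ∈ Q := by
        have := Set.mem_range_self (f := Q.ι.base) q
        rwa [Scheme.Opens.range_ι] at this
      have hmem : (f ⁻¹ᵁ W).ι.base (Q.ι.base q) ∈ (f ⁻¹ᵁ W).ι ''ᵁ Q := ⟨_, hq, rfl⟩
      obtain ⟨u, hu⟩ : (f ⁻¹ᵁ W).ι.base (Q.ι.base q) ∈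
          Set.range ((f ⁻¹ᵁ W).ι ''ᵁ Q).ι.base := by
        rw [Scheme.Opens.range_ι]; exact hmem
      obtain ⟨r, hr⟩ : u ∈ Set.range ((f.resLE W _ hUV) ⁻¹ᵁ ⊤).ι.base := by
        rw [Scheme.Opens.range_ι]; trivial
      refine ⟨r, ?_⟩
      rw [Scheme.Hom.comp_apply, hr, hu, Scheme.Hom.comp_apply]
    let j := IsOpenImmersion.lift (((f.resLE W _ hUV) ⁻¹ᵁ ⊤).ι ≫ ((f ⁻¹ᵁ W).ι ''ᵁ Q).ι)
      (Q.ι ≫ (f ⁻¹ᵁ W).ι) hr
    haveI : IsOpenImmersion (j ≫ (((f.resLE W _ hUV) ⁻¹ᵁ ⊤).ι ≫ ((f ⁻¹ᵁ W).ι ''ᵁ Q).ι)) := by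
      have : j ≫ (((f.resLE W _ hUV) ⁻¹ᵁ ⊤).ι ≫ ((f ⁻¹ᵁ W).ι ''ᵁ Q).ι) =
          Q.ι ≫ (f ⁻¹ᵁ W).ι := IsOpenImmersion.lift_fac _ _ _
      rw [this]; infer_instance
    haveI : IsOpenImmersion j := IsOpenImmersion.of_comp j
      (((f.resLE W _ hUV) ⁻¹ᵁ ⊤).ι ≫ ((f ⁻¹ᵁ W).ι ''ᵁ Q).ι)
    exact Scheme.IsQuasiAffine.of_isImmersion j


end Groth.Agent.Helper21.IQA
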