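import Mathlib

/-! Retraction of the inflation map on 1-cocycles when `|P|` acts invertibly. -/

namespace Groth.Agent.Helper21.InflRetr
universe u
open CategoryTheory groupCohomology

set_option linter.unusedSectionVars false

variable {k G : Type u} [CommRing k] [Group G] (A : Rep.{u} k G) (P : Subgroup G) [P.Normal]

theorem map_mul_right_of_vanish (x : cocycles₁ A) (hx : ∀ s ∈ P, x s = 0) (g s : G) (hs : s ∈ P) :
    x (g * s) = x g := by
  rw [(mem_cocycles₁_iff x).1 x.2 g s, hx s hs, map_zero, zero_add]

theorem rho_apply_of_vanish (x : cocycles₁ A) (hx : ∀ s ∈ P, x s = 0) (g s : G) (hs : s ∈ P) :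
    A.ρ s (x g) = x g := by
  have h1 : x (s * g) = A.ρ s (x g) := by
    rw [(mem_cocycles₁_iff x).1 x.2 s g, hx s hs, add_zero]
  have h2 : s * g = g * (g⁻¹ * s * g) := by group
  rw [← h1, h2]
  exact map_mul_right_of_vanish A P x hx g _ (Subgroup.Normal.conj_mem' ‹_› s hs g)

/-- A 1-cocycle vanishing on the normal subgroup `P` descends to `G ⧸ P` with values in `A^P`. -/
noncomputable def bar (x : cocycles₁ A) (hx : ∀ s ∈ P, x s = 0) :
    cocycles₁ (A.quotientToInvariants P) :=
  ⟨fun q => Quotient.liftOn' q
      (fun g => ⟨x g, fun s => rho_apply_of_vanish A P x hx g s.1 s.2⟩)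
      (fun g h hgh => Subtype.ext (by
        have h1 : h = g * (g⁻¹ * h) := by group
        show x g = x h
        rw [h1]
        exact (map_mul_right_of_vanish A P x hx g _ (QuotientGroup.leftRel_apply.1 hgh)).symm)),
    by
      rw [mem_cocycles₁_iff]
      intro g h
      induction g using QuotientGroup.induction_on with | @H g =>
      induction h using QuotientGroup.induction_on with | @H h =>
      apply Subtype.ext
      simp [← QuotientGroup.mk_mul, (mem_cocycles₁_iff x).1 x.2 g h]⟩

theorem bar_apply (x : cocycles₁ A) (hx : ∀ s ∈ P, x s = 0) (g : G) :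
    (bar A P x hx (QuotientGroup.mk g : G ⧸ P)).1 = x g := rfl

theorem add_apply (x x' : cocycles₁ A) (g : G) : (x + x') g = x g + x' g := rfl
theorem sub_apply (x x' : cocycles₁ A) (g : G) : (x - x') g = x g - x' g := rfl
theorem smul_apply (c : k) (x : cocycles₁ A) (g : G) : (c • x) g = c • x g := rfl

variable [Fintype P] (hP : Function.Bijective fun a : A => (Nat.card P : k) • a)

/-- multiplication by `|P|` as a linear equivalence -/
noncomputable def e : A ≃ₗ[k] A :=
  LinearEquiv.ofBijective (LinearMap.lsmul k A (Nat.card P : k)) hP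

theorem e_apply (v : A) : e A P hP v = (Nat.card P : k) • v := rfl

/-- the averaging element `-(1/|P|) ∑_{q ∈ P} x q` -/
noncomputable def y (x : cocycles₁ A) : A := - (e A P hP).symm (∑ q : P, x (q : G))

theorem y_add (x x' : cocycles₁ A) : y A P hP (x + x') = y A P hP x + y A P hP x' := by
  simp only [y, add_apply, Finset.sum_add_distrib, map_add, neg_add]

theorem y_smul (c : k) (x : cocycles₁ A) : y A P hP (c • x) = c • y A P hP x := by
  simp only [y, smul_apply, ← Finset.smul_sum, map_smul, smul_neg]

theorem key (x : cocycles₁ A) (s : G) (hs : s ∈ P) :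
    x s = A.ρ s (y A P hP x) - y A P hP x := by
  apply (e A P hP).injective
  have hS : e A P hP (y A P hP x) = - ∑ q : P, x (q : G) := by
    rw [y, map_neg, LinearEquiv.apply_symm_apply]
  have hρ : e A P hP (A.ρ s (y A P hP x)) = A.ρ s (e A P hP (y A P hP x)) := by
    rw [e_apply, e_apply, map_smul]
  rw [map_sub, hρ, hS, map_neg, map_sum]
  have h3 : ∀ q : P, A.ρ s (x (q : G)) = x (((⟨s, hs⟩ : P) * q : P) : G) - x s := by
    intro q
    rw [Subgroup.coe_mul, (mem_cocycles₁_iff x).1 x.2 s q, add_sub_cancel_right]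
  have h4 : ∑ q : P, x (((⟨s, hs⟩ : P) * q : P) : G) = ∑ q : P, x (q : G) :=
    Equiv.sum_comp (Equiv.mulLeft (⟨s, hs⟩ : P)) (fun q => x (q : G))
  rw [Finset.sum_congr rfl (fun q _ => h3 q), Finset.sum_sub_distrib, h4, Finset.sum_const,
    Finset.card_univ, e_apply, Nat.card_eq_fintype_card, Nat.cast_smul_eq_nsmul]
  abel

/-- `x ↦ x - d(y x)`, a cocycle vanishing on `P`. -/
noncomputable def T (x : cocycles₁ A) : cocycles₁ A :=
  x - ⟨d₀₁ A (y A P hP x), d₀₁_apply_mem_cocycles₁ _⟩

theorem T_apply (x : cocycles₁ A) (g : G) :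
    T A P hP x g = x g - (A.ρ g (y A P hP x) - y A P hP x) := rfl

theorem T_vanish (x : cocycles₁ A) : ∀ s ∈ P, T A P hP x s = 0 := by
  intro s hs
  rw [T_apply, ← key A P hP x s hs, sub_self]

/-- the retraction of inflation -/
noncomputable def r : cocycles₁ A →ₗ[k] cocycles₁ (A.quotientToInvariants P) where
  toFun x := bar A P (T A P hP x) (T_vanish A P hP x)
  map_add' x x' := by
    apply cocycles₁_ext
    intro q
    induction q using QuotientGroup.induction_on with | @H g =>
    apply Subtype.ext
    show (T A P hP (x + x')) g = (T A P hP x) g + (T A P hP x') g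
    simp only [T_apply, y_add, add_apply, map_add]
    abel
  map_smul' c x := by
    apply cocycles₁_ext
    intro q
    induction q using QuotientGroup.induction_on with | @H g =>
    apply Subtype.ext
    show (T A P hP (c • x)) g = c • (T A P hP x) g
    simp only [T_apply, y_smul, smul_apply, map_smul, smul_sub]

theorem r_apply (x : cocycles₁ A) (g : G) :
    (r A P hP x (QuotientGroup.mk g : G ⧸ P)).1 = T A P hP x g := rfl

theorem infl_comp_r :
    (groupCohomology.mapCocycles₁ (QuotientGroup.mk' P)
        (Rep.ofHom (A.ρ.quotientToInvariants_lift P)) :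
          ModuleCat.of k (groupCohomology.cocycles₁ (A.quotientToInvariants P)) ⟶
            ModuleCat.of k (groupCohomology.cocycles₁ A)) ≫ ModuleCat.ofHom (r A P hP) = 𝟙 _ := by
  refine ModuleCat.hom_ext (LinearMap.ext fun h => ?_)
  apply cocycles₁_ext
  intro q
  induction q using QuotientGroup.induction_on with | @H g =>
  apply Subtype.ext
  set x : cocycles₁ A := (groupCohomology.mapCocycles₁ (QuotientGroup.mk' P)
        (Rep.ofHom (A.ρ.quotientToInvariants_lift P)) :
          ModuleCat.of k (groupCohomology.cocycles₁ (A.quotientToInvariants P)) ⟶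
            ModuleCat.of k (groupCohomology.cocycles₁ A)) h with hx
  have hxg : ∀ g : G, x g = (h (QuotientGroup.mk g : G ⧸ P)).1 := fun g => rfl
  have hxs : ∀ s : P, x (s : G) = 0 := by
    intro s
    rw [hxg, (QuotientGroup.eq_one_iff (s : G)).2 s.2, cocycles₁_map_one]
    rfl
  have hy : y A P hP x = 0 := by
    rw [y, Finset.sum_eq_zero (fun q _ => hxs q), map_zero, neg_zero]
  show T A P hP x g = (h (QuotientGroup.mk g : G ⧸ P)).1
  rw [T_apply, hy, map_zero, sub_zero, sub_zero, hxg]

end Groth.Agent.Helper21.InflRetr
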