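import Mathlib
import Groth.Agent.S6883
import Groth.Agent.Lib.Helper21.FS5
import Groth.Agent.Lib.Helper21.FS6
import Groth.Agent.Lib.Helper21.GrL5

/-!
# Descent of flatness along integral injective ring maps for finitely presented data
-/

set_option autoImplicit false
universe u
open TensorProduct

namespace Groth.Agent.Helper21.IntFlat

/-- Core: `A` Noetherian, `S₀` a finite type `A`-algebra, `M₀` a finite `S₀`-module, `R → S` an
injective integral map of `A`-algebras.  If `S ⊗[A] M₀` is flat over `S` then `R ⊗[A] M₀` is flat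
over `R`. -/
theorem flat_of_flat_integral (A : Type u) [CommRing A] [IsNoetherianRing A] (S₀ : Type u)
    [CommRing S₀] [Algebra A S₀] [Algebra.FiniteType A S₀]
    (M₀ : Type u) [AddCommGroup M₀] [Module S₀ M₀] [Module A M₀] [IsScalarTower A S₀ M₀]
    [Module.Finite S₀ M₀]
    (R S : Type u) [CommRing R] [CommRing S] [Algebra A R] [Algebra R S] [Algebra A S]
    [IsScalarTower A R S] [Algebra.IsIntegral R S] (hinj : Function.Injective (algebraMap R S))
    [Module.Flat S (S ⊗[A] M₀)] : Module.Flat R (R ⊗[A] M₀) := by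
  classical
  obtain ⟨T, hT⟩ := Groth.Agent.Helper21.FS.exists_finset_forall_flat A S₀ M₀ S
  by_cases hntR : Nontrivial R
  swap
  · haveI : Subsingleton R := not_nontrivial_iff_subsingleton.mp hntR
    haveI : Subsingleton (R ⊗[A] M₀) := Module.subsingleton R _
    infer_instance
  -- integrality data
  have hint : ∀ t : S, ∃ p : Polynomial R, p.Monic ∧ Polynomial.eval₂ (algebraMap R S) t p = 0 :=
    fun t => Algebra.IsIntegral.isIntegral t
  choose p hpm hp0 using hint
  let C : Finset R := T.biUnion (fun t => (p t).coeffs)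
  let R' : Subalgebra A R := Algebra.adjoin A (C : Set R)
  have hR'fg : R'.FG := Subalgebra.fg_adjoin_finset C
  haveI : Algebra.FiniteType A R' := (Subalgebra.fg_iff_finiteType R').mp hR'fg
  haveI : IsNoetherianRing R' := Algebra.FiniteType.isNoetherianRing A R'
  have hint' : ∀ t ∈ (T : Set S), IsIntegral R' t := by
    intro t ht
    have hlift : p t ∈ Polynomial.lifts (algebraMap R' R) := by
      rw [Polynomial.lifts_iff_coeff_lifts]
      intro n
      by_cases h0 : (p t).coeff n = 0
      · exact ⟨0, by rw [map_zero, h0]⟩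
      · have h1 : (p t).coeff n ∈ (p t).coeffs := Polynomial.coeff_mem_coeffs h0
        exact ⟨⟨(p t).coeff n,
          Algebra.subset_adjoin (Finset.mem_coe.mpr (Finset.mem_biUnion.mpr ⟨t, ht, h1⟩))⟩, rfl⟩
    obtain ⟨q, hq, -, hqm⟩ := Polynomial.lifts_and_degree_eq_and_monic hlift (hpm t)
    refine ⟨q, hqm, ?_⟩
    rw [IsScalarTower.algebraMap_eq R' R S, ← Polynomial.eval₂_map, hq]
    exact hp0 t
  let S'' : Subalgebra R' S := Algebra.adjoin R' (T : Set S)
  have hfgS : (Subalgebra.toSubmodule S'').FG := fg_adjoin_of_finite T.finite_toSet hint'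
  haveI hfin : Module.Finite R' S'' := Module.Finite.of_fg hfgS
  -- `S''` as an `A`-subalgebra
  let Sr : Subalgebra A S := S''.restrictScalars A
  have hTS : (T : Set S) ⊆ Sr := fun t ht => Algebra.subset_adjoin ht
  haveI : Algebra.FiniteType R' S'' := inferInstance
  haveI hftA : Algebra.FiniteType A S'' :=
    Algebra.FiniteType.trans (inferInstance : Algebra.FiniteType A R') inferInstance
  have hSrfg : Sr.FG := (Subalgebra.fg_iff_finiteType Sr).mpr hftA
  have hflat : Module.Flat S'' (S'' ⊗[A] M₀) := hT Sr hTS hSrfg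
  haveI : IsNoetherianRing S'' := Algebra.FiniteType.isNoetherianRing R' S''
  have hinj' : Function.Injective (algebraMap R' S'') := by
    intro x y hxy
    have h1 := congrArg (fun z : S'' => (z : S)) hxy
    exact Subtype.ext (hinj h1)
  haveI : Module.Flat S'' (S'' ⊗[R'] (R' ⊗[A] M₀)) :=
    Module.Flat.of_linearEquiv (AlgebraTensorModule.cancelBaseChange A R' S'' S'' M₀)
  haveI key : Module.Flat R' (R' ⊗[A] M₀) := Groth.Agent.S6883.result R' S'' hinj' (R' ⊗[A] M₀)
  exact Module.Flat.of_linearEquiv (AlgebraTensorModule.cancelBaseChange A R' R R M₀).symm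

end Groth.Agent.Helper21.IntFlat
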