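import Mathlib
import Groth.Agent.Lib.Helper21.IntFlat1

/-!
# Descent of flatness along integral injective ring maps: finitely presented modules over
finitely presented algebras
-/

set_option autoImplicit false
universe u
open TensorProduct

namespace Groth.Agent.Helper21.IntFlat

/-- `R → S` injective and integral, `P` a finitely presented `R`-algebra, `M` a finitely presented
`P`-module with `S ⊗[R] M` flat over `S`.  Then `M` is flat over `R`. -/
theorem flat_of_flat_baseChange_integral (R S : Type u) [CommRing R] [CommRing S] [Algebra R S]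
    [Algebra.IsIntegral R S] (hinj : Function.Injective (algebraMap R S))
    (P : Type u) [CommRing P] [Algebra R P] [Algebra.FinitePresentation R P]
    (M : Type u) [AddCommGroup M] [Module P M] [Module R M] [IsScalarTower R P M]
    [Module.FinitePresentation P M] [Module.Flat S (S ⊗[R] M)] : Module.Flat R M := by
  obtain ⟨R₀, _, _, S₀, _, _, _, _, _, _, M₀, _, _, _, _, _, _, f, hR₀, hS₀, hM₀, hpo, hbc⟩ :=
    Groth.Agent.Helper21.GrL.exists_noeth_model R P M
  haveI : IsNoetherianRing R₀ := Algebra.FiniteType.isNoetherianRing ℤ R₀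
  let e : R ⊗[R₀] M₀ ≃ₗ[R] M := Groth.Agent.Helper21.FS.baseChangeEquiv f hbc
  letI : Algebra R₀ S := ((algebraMap R S).comp (algebraMap R₀ R)).toAlgebra
  haveI : IsScalarTower R₀ R S := IsScalarTower.of_algebraMap_eq (fun _ => rfl)
  haveI : Module.Flat S (S ⊗[R₀] M₀) :=
    Module.Flat.of_linearEquiv ((AlgebraTensorModule.cancelBaseChange R₀ R S S M₀).symm ≪≫ₗ
      (AlgebraTensorModule.congr (LinearEquiv.refl S S) e))
  haveI := flat_of_flat_integral R₀ S₀ M₀ R S hinj
  exact Module.Flat.of_linearEquiv e.symm

end Groth.Agent.Helper21.IntFlat
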