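import Mathlib
import Groth.Agent.Lib.Helper21.IntFlat2
import Groth.Agent.Lib.Helper21.FL9

/-!
# Descent of flatness along integral injective base change: scheme form, at a point
-/

set_option autoImplicit false
universe u
open TensorProduct CategoryTheory CategoryTheory.Limits AlgebraicGeometry

namespace Groth.Agent.Helper21.IntFlat

/-- If the base change `f'` of `f` is flat at all points lying over the image of an open immersion
`e`, then the base change of `e ≫ f` is flat. -/
theorem flat_snd_of_openImmersion {X S S' W : Scheme.{u}} (f : X ⟶ S) (g : S' ⟶ S) (e : W ⟶ X)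
    [IsOpenImmersion e]
    (h : ∀ x' : ↥(pullback f g), (pullback.fst f g).base x' ∈ Set.range e.base →
      ((pullback.snd f g).stalkMap x').hom.Flat) :
    Flat (pullback.snd (e ≫ f) g) := by
  let k : pullback (e ≫ f) g ⟶ pullback f g :=
    (pullbackRightPullbackFstIso f g e).inv ≫ pullback.snd e (pullback.fst f g)
  have hk : k ≫ pullback.snd f g = pullback.snd (e ≫ f) g := by
    simp only [k, Category.assoc, pullbackRightPullbackFstIso_inv_snd_snd]
  have hk1 : k ≫ pullback.fst f g = pullback.fst (e ≫ f) g ≫ e := by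
    simp only [k, Category.assoc, pullbackRightPullbackFstIso_inv_snd_fst]
  haveI : IsOpenImmersion k := inferInstance
  rw [← hk]
  apply Flat.of_stalkMap
  intro z
  rw [Scheme.Hom.stalkMap_comp]
  have h1 : ((pullback.snd f g).stalkMap (k.base z)).hom.Flat := by
    apply h
    refine ⟨(pullback.fst (e ≫ f) g).base z, ?_⟩
    have := congrArg (fun m : pullback (e ≫ f) g ⟶ X => m.base z) hk1
    simpa using this.symm
  have h2 : (k.stalkMap z).hom.Flat :=
    RingHom.Flat.of_bijective (ConcreteCategory.bijective_of_isIso (k.stalkMap z))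
  exact RingHom.Flat.comp h1 h2

end Groth.Agent.Helper21.IntFlat

namespace Groth.Agent.Helper21.IntFlat

/-- Affine case: descent of flatness of `Spec B ⟶ Spec A` along an integral injective `A → A'`. -/
theorem flat_SpecMap_of_flat_baseChange {A A' : Type u} [CommRing A] [CommRing A'] [Algebra A A']
    [Algebra.IsIntegral A A'] (hinj : Function.Injective (algebraMap A A'))
    {B : CommRingCat.{u}} (φ : CommRingCat.of A ⟶ B) [LocallyOfFinitePresentation (Spec.map φ)]
    [Flat (pullback.snd (Spec.map φ) (Spec.map (CommRingCat.ofHom (algebraMap A A'))))] :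
    Flat (Spec.map φ) := by
  letI : Algebra A B := φ.hom.toAlgebra
  have hφ : φ = CommRingCat.ofHom (algebraMap A B) := rfl
  have hfp0 : φ.hom.FinitePresentation :=
    (HasRingHomProperty.Spec_iff (P := @LocallyOfFinitePresentation)).mp inferInstance
  haveI hfp : Algebra.FinitePresentation A B := hfp0
  have h0 : Flat (pullback.snd (Spec.map (CommRingCat.ofHom (algebraMap A B)))
      (Spec.map (CommRingCat.ofHom (algebraMap A A')))) := by
    rw [← hφ]; infer_instance
  have h1 : Flat ((pullbackSpecIso A B A').inv ≫ pullback.snd _ _) := inferInstance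
  rw [pullbackSpecIso_inv_snd] at h1
  have h2 : (RingHomClass.toRingHom
      (Algebra.TensorProduct.includeRight : A' →ₐ[A] B ⊗[A] A')).Flat :=
    Flat.SpecMap_iff.mp h1
  have h3 : ((Algebra.TensorProduct.comm A B A').toRingEquiv.toRingHom.comp
      (RingHomClass.toRingHom
        (Algebra.TensorProduct.includeRight : A' →ₐ[A] B ⊗[A] A'))).Flat :=
    RingHom.Flat.comp h2 (RingHom.Flat.of_bijective (Algebra.TensorProduct.comm A B A').bijective)
  have h4 : (Algebra.TensorProduct.comm A B A').toRingEquiv.toRingHom.comp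
      (RingHomClass.toRingHom
        (Algebra.TensorProduct.includeRight : A' →ₐ[A] B ⊗[A] A')) =
      algebraMap A' (A' ⊗[A] B) := by
    ext a
    simp [Algebra.TensorProduct.algebraMap_apply]
  rw [h4] at h3
  haveI : Module.Flat A' (A' ⊗[A] B) := (RingHom.flat_algebraMap_iff).mp h3
  have h5 : Module.Flat A B := flat_of_flat_baseChange_integral A A' hinj B B
  rw [Flat.SpecMap_iff]
  exact (RingHom.flat_algebraMap_iff).mpr h5

end Groth.Agent.Helper21.IntFlat

namespace Groth.Agent.Helper21.IntFlat

open TopologicalSpace in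
/-- Let `A → A'` be injective and integral, `f : X ⟶ Spec A` locally of finite presentation and
`x ∈ X`. If the base change `X' ⟶ Spec A'` is flat at all points over `x` then `f` is flat at `x`. -/
theorem flat_stalkMap_of_integral {A A' : Type u} [CommRing A] [CommRing A'] [Algebra A A']
    [Algebra.IsIntegral A A'] (hinj : Function.Injective (algebraMap A A'))
    {X : Scheme.{u}} (f : X ⟶ Spec (CommRingCat.of A)) [LocallyOfFinitePresentation f] (x : X)
    (h : ∀ x' : ↥(pullback f (Spec.map (CommRingCat.ofHom (algebraMap A A')))),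
      (pullback.fst f _).base x' = x →
      ((pullback.snd f (Spec.map (CommRingCat.ofHom (algebraMap A A')))).stalkMap x').hom.Flat) :
    (f.stalkMap x).hom.Flat := by
  haveI : IsIntegralHom (Spec.map (CommRingCat.ofHom (algebraMap A A'))) :=
    IsIntegralHom.SpecMap_iff.mpr (algebraMap_isIntegral_iff.mpr inferInstance)
  have hopen : IsOpen {x' : ↥(pullback f (Spec.map (CommRingCat.ofHom (algebraMap A A')))) |
      ((pullback.snd f (Spec.map (CommRingCat.ofHom (algebraMap A A')))).stalkMap x').hom.Flat} :=
    Groth.Agent.Helper21.FL.isOpen_flatLocus_scheme _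
  have hclosed : IsClosed ((pullback.fst f (Spec.map (CommRingCat.ofHom (algebraMap A A')))).base ''
      {x' : ↥(pullback f (Spec.map (CommRingCat.ofHom (algebraMap A A')))) |
      ((pullback.snd f (Spec.map (CommRingCat.ofHom (algebraMap A A')))).stalkMap x').hom.Flat}ᶜ) :=
    (pullback.fst f (Spec.map (CommRingCat.ofHom (algebraMap A A')))).isClosedMap _
      hopen.isClosed_compl
  have hx : x ∈ (⟨_, hclosed.isOpen_compl⟩ : X.Opens) := by
    rintro ⟨x', hx', rfl⟩
    exact hx' (h x' rfl)
  obtain ⟨W, hW, hxW, hWle⟩ := Opens.isBasis_iff_nbhd.mp X.isBasis_affineOpens hx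
  have hrange : Set.range hW.fromSpec.base = W := hW.range_fromSpec
  obtain ⟨φ, hφ⟩ := Spec.map_surjective (hW.fromSpec ≫ f)
  haveI : LocallyOfFinitePresentation (Spec.map φ) := hφ ▸ inferInstance
  haveI : Flat (pullback.snd (Spec.map φ) (Spec.map (CommRingCat.ofHom (algebraMap A A')))) := by
    rw [hφ]
    apply flat_snd_of_openImmersion
    intro x' hx'
    rw [hrange] at hx'
    by_contra hnot
    exact hWle hx' ⟨x', hnot, rfl⟩
  have hflat : Flat (hW.fromSpec ≫ f) := hφ ▸ flat_SpecMap_of_flat_baseChange hinj φ
  obtain ⟨w, rfl⟩ : ∃ w, hW.fromSpec.base w = x := by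
    rw [← Set.mem_range, hrange]; exact hxW
  have h1 : ((hW.fromSpec ≫ f).stalkMap w).hom.Flat := Flat.stalkMap _ w
  have h2 : (inv (hW.fromSpec.stalkMap w)).hom.Flat :=
    RingHom.Flat.of_bijective (ConcreteCategory.bijective_of_isIso _)
  have h3 : f.stalkMap (hW.fromSpec.base w) =
      (hW.fromSpec ≫ f).stalkMap w ≫ inv (hW.fromSpec.stalkMap w) :=
    (IsIso.eq_comp_inv (hW.fromSpec.stalkMap w)).mpr
      (Scheme.Hom.stalkMap_comp hW.fromSpec f w).symm
  rw [h3]
  exact RingHom.Flat.comp h1 h2

end Groth.Agent.Helper21.IntFlat
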