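import Mathlib

/-!
Extending a ring homomorphism into an algebraically closed field along an injective integral
ring extension.
-/

universe u v w

namespace Groth.Agent.Helper21.ILF

theorem exists_lift {E : Type u} {B : Type v} {K : Type w} [CommRing E] [CommRing B] [Algebra E B]
    [Algebra.IsIntegral E B] (hinj : Function.Injective (algebraMap E B))
    [Field K] [IsAlgClosed K] (g : E →+* K) :
    ∃ g' : B →+* K, g'.comp (algebraMap E B) = g := by
  classical
  haveI hP : (RingHom.ker g).IsPrime := RingHom.ker_isPrime g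
  have hle : (⊥ : Ideal B).comap (algebraMap E B) ≤ RingHom.ker g := by
    intro a ha
    have h0 : algebraMap E B a = 0 := ha
    have : a = 0 := hinj (by rw [h0, map_zero])
    rw [this]; exact zero_mem _
  obtain ⟨Q, -, hQ, hQp⟩ :=
    Ideal.exists_ideal_over_prime_of_isIntegral (RingHom.ker g) (⊥ : Ideal B) hle
  haveI : Q.IsPrime := hQ
  haveI : Q.LiesOver (RingHom.ker g) := ⟨hQp.symm⟩
  letI : Algebra (E ⧸ RingHom.ker g) K := (RingHom.kerLift g).toAlgebra
  haveI : Module.IsTorsionFree (E ⧸ RingHom.ker g) K :=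
    Module.isTorsionFree_iff_algebraMap_injective.mpr (RingHom.kerLift_injective g)
  let l : (B ⧸ Q) →ₐ[E ⧸ RingHom.ker g] K := IsAlgClosed.lift
  refine ⟨l.toRingHom.comp (Ideal.Quotient.mk Q), ?_⟩
  ext e
  have h1 : Ideal.Quotient.mk Q (algebraMap E B e) =
      algebraMap (E ⧸ RingHom.ker g) (B ⧸ Q) (Ideal.Quotient.mk _ e) :=
    (Ideal.Quotient.algebraMap_mk_of_liesOver Q (RingHom.ker g) e).symm
  show l (Ideal.Quotient.mk Q (algebraMap E B e)) = g e
  rw [h1, l.commutes]
  exact RingHom.kerLift_mk g e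

end Groth.Agent.Helper21.ILF
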