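import Mathlib

/-!
# Helper21: the Eakin–Nagata theorem (Formanek's proof)

* `isNoetherian_of_acc_smul_top`: a finitely generated `B`-module `M` with ACC on the submodules
  `I • ⊤` (`I` an ideal of `B`) is Noetherian.
* `isNoetherianRing_of_finite_of_injective`: if `A` is a Noetherian ring, finite as a module over a
  subring `B`, then `B` is Noetherian (Eakin–Nagata).
-/

namespace Groth.Agent.Helper21.InvPrin

open Submodule

universe u v

section Formanek

variable {B : Type u} [CommRing B] {M : Type v} [AddCommGroup M] [Module B M]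

/-- `{m | a • m ∈ N}` contains a spanning set, hence everything. -/
theorem smul_mem_of_span_eq_top {N : Submodule B M} {s : Set M} (hs : span B s = ⊤) (a : B)
    (h : ∀ m ∈ s, a • m ∈ N) (m : M) : a • m ∈ N := by
  have hm : m ∈ span B s := by rw [hs]; trivial
  induction hm using Submodule.span_induction with
  | mem x hx => exact h x hx
  | zero => simp
  | add x y _ _ hx hy => rw [smul_add]; exact N.add_mem hx hy
  | smul r x _ hx => rw [smul_comm]; exact N.smul_mem r hx

/-- Key step: if `M₁` is finitely generated and `M₁ ⧸ N₀` is Noetherian with the same annihilator as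
`M₁`, then `M₁` is Noetherian. -/
theorem isNoetherian_of_quotient_same_ann [Module.Finite B M] (N₀ : Submodule B M)
    (hN₀ : ∀ a : B, (∀ m : M, a • m ∈ N₀) → ∀ m : M, a • m = 0)
    [IsNoetherian B (M ⧸ N₀)] : IsNoetherian B M := by
  classical
  obtain ⟨s, hs⟩ := (Module.Finite.fg_top : (⊤ : Submodule B M).FG)
  -- φ : B → (s → M ⧸ N₀)
  let φ : B →ₗ[B] (s → M ⧸ N₀) :=
    LinearMap.pi fun i => LinearMap.toSpanSingleton B (M ⧸ N₀) (N₀.mkQ (i : M))
  have hker : ∀ a : B, a ∈ LinearMap.ker φ → ∀ m : M, a • m = 0 := by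
    intro a ha
    apply hN₀ a
    apply smul_mem_of_span_eq_top hs a
    intro m hm
    have h1 : φ a ⟨m, hm⟩ = 0 := by rw [LinearMap.mem_ker.mp ha]; rfl
    have h2 : a • N₀.mkQ m = 0 := h1
    rw [← map_smul] at h2
    exact (Submodule.Quotient.mk_eq_zero N₀).mp h2
  have : IsNoetherian B (B ⧸ LinearMap.ker φ) :=
    isNoetherian_of_linearEquiv φ.quotKerEquivRange.symm
  -- ψ : (s → B ⧸ ker φ) → M
  let ψi : s → ((B ⧸ LinearMap.ker φ) →ₗ[B] M) := fun i =>
    (LinearMap.ker φ).liftQ (LinearMap.toSpanSingleton B M (i : M)) (by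
      intro a ha
      rw [LinearMap.mem_ker, LinearMap.toSpanSingleton_apply]
      exact hker a ha _)
  let ψ : (s → B ⧸ LinearMap.ker φ) →ₗ[B] M :=
    ∑ i : s, (ψi i).comp (LinearMap.proj i)
  have hψ : Function.Surjective ψ := by
    rw [← LinearMap.range_eq_top, eq_top_iff, ← hs, Submodule.span_le]
    intro m hm
    refine ⟨Pi.single ⟨m, hm⟩ ((LinearMap.ker φ).mkQ 1), ?_⟩
    simp only [ψ, LinearMap.coe_sum, Finset.sum_apply, LinearMap.comp_apply, LinearMap.proj_apply]
    rw [Finset.sum_eq_single ⟨m, hm⟩]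
    · rw [Pi.single_eq_same]
      show (LinearMap.ker φ).liftQ (LinearMap.toSpanSingleton B M m) _
        (Submodule.Quotient.mk 1) = m
      rw [Submodule.liftQ_apply, LinearMap.toSpanSingleton_apply, one_smul]
    · intro b _ hb
      rw [Pi.single_eq_of_ne hb, map_zero]
    · intro h; exact absurd (Finset.mem_univ _) h
  exact isNoetherian_of_surjective ψ (LinearMap.range_eq_top.mpr hψ)

/-- **Formanek's theorem**: a finitely generated module with ACC on the submodules `I • ⊤`
is Noetherian. -/
theorem isNoetherian_of_acc_smul_top [Module.Finite B M]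
    (hacc : ∀ S : Set (Ideal B), S.Nonempty → ∃ I ∈ S, ∀ J ∈ S,
      I • (⊤ : Submodule B M) ≤ J • (⊤ : Submodule B M) →
        J • (⊤ : Submodule B M) = I • (⊤ : Submodule B M)) :
    IsNoetherian B M := by
  classical
  by_contra hM
  let S : Set (Ideal B) := {I | ¬ IsNoetherian B (M ⧸ I • (⊤ : Submodule B M))}
  have hbot : (⊥ : Ideal B) ∈ S := by
    intro h
    apply hM
    have e : (⊥ : Ideal B) • (⊤ : Submodule B M) = ⊥ := Submodule.bot_smul _
    exact isNoetherian_of_linearEquiv (Submodule.quotEquivOfEqBot _ e)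
  obtain ⟨I, hI, hmax⟩ := hacc S ⟨⊥, hbot⟩
  set N₁ : Submodule B M := I • (⊤ : Submodule B M) with hN₁
  -- (b') quotients of M₁ by J • ⊤ ≠ ⊥ are Noetherian
  have hb : ∀ J : Ideal B, J • (⊤ : Submodule B (M ⧸ N₁)) ≠ ⊥ →
      IsNoetherian B ((M ⧸ N₁) ⧸ J • (⊤ : Submodule B (M ⧸ N₁))) := by
    intro J hJ
    by_contra hnn
    have hIJ : (I ⊔ J) ∈ S := by
      intro hnoeth
      apply hnn
      let g : M →ₗ[B] (M ⧸ N₁) ⧸ J • (⊤ : Submodule B (M ⧸ N₁)) :=
        (J • (⊤ : Submodule B (M ⧸ N₁))).mkQ.comp N₁.mkQ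
      have hg : (I ⊔ J) • (⊤ : Submodule B M) ≤ LinearMap.ker g := by
        rw [Submodule.smul_le]
        intro r hr m _
        obtain ⟨i, hi, j, hj, rfl⟩ := Submodule.mem_sup.mp hr
        rw [LinearMap.mem_ker, add_smul, map_add]
        have h1 : g (i • m) = 0 := by
          have : N₁.mkQ (i • m) = 0 := by
            rw [Submodule.mkQ_apply, Submodule.Quotient.mk_eq_zero]
            exact Submodule.smul_mem_smul hi trivial
          simp only [g, LinearMap.comp_apply, this, map_zero]
        have h2 : g (j • m) = 0 := by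
          have h3 : (J • (⊤ : Submodule B (M ⧸ N₁))).mkQ (j • N₁.mkQ m) = 0 := by
            rw [Submodule.mkQ_apply, Submodule.Quotient.mk_eq_zero]
            exact Submodule.smul_mem_smul hj trivial
          simpa only [g, LinearMap.comp_apply, map_smul] using h3
        rw [h1, h2, add_zero]
      let g' := ((I ⊔ J) • (⊤ : Submodule B M)).liftQ g hg
      have hg' : Function.Surjective g' := by
        intro y
        obtain ⟨y', rfl⟩ := Submodule.mkQ_surjective _ y
        obtain ⟨m, rfl⟩ := Submodule.mkQ_surjective _ y'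
        exact ⟨Submodule.Quotient.mk m, rfl⟩
      exact isNoetherian_of_surjective g' (LinearMap.range_eq_top.mpr hg')
    have hle : I • (⊤ : Submodule B M) ≤ (I ⊔ J) • (⊤ : Submodule B M) :=
      Submodule.smul_mono_left le_sup_left
    have heq := hmax _ hIJ hle
    apply hJ
    rw [eq_bot_iff, Submodule.smul_le]
    intro j hj n _
    obtain ⟨m, rfl⟩ := Submodule.mkQ_surjective _ n
    rw [← map_smul, Submodule.mem_bot, Submodule.mkQ_apply, Submodule.Quotient.mk_eq_zero,
      ← heq]
    exact Submodule.smul_mem_smul (Ideal.mem_sup_right hj) trivial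
  -- the set Γ
  let Γ : Set (Submodule B (M ⧸ N₁)) :=
    {N | ∀ a : B, (∀ m : M ⧸ N₁, a • m ∈ N) → ∀ m : M ⧸ N₁, a • m = 0}
  obtain ⟨s, hs⟩ := (Module.Finite.fg_top : (⊤ : Submodule B (M ⧸ N₁)).FG)
  have hzorn : ∃ N₀, Maximal (· ∈ Γ) N₀ := by
    apply zorn_le₀
    intro c hc hchain
    by_cases hne : c.Nonempty
    · refine ⟨sSup c, ?_, fun z hz => le_sSup hz⟩
      intro a ha
      have hdir : DirectedOn (· ≤ ·) c := hchain.directedOn
      have key : ∀ t : Finset (M ⧸ N₁), ∃ N ∈ c, ∀ m ∈ t, a • m ∈ N := by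
        intro t
        induction t using Finset.induction_on with
        | empty => obtain ⟨N, hN⟩ := hne; exact ⟨N, hN, by simp⟩
        | insert x t _ ih =>
          obtain ⟨N, hN, hNt⟩ := ih
          obtain ⟨N', hN', hx⟩ := (Submodule.mem_sSup_of_directed hne hdir).mp (ha x)
          obtain ⟨N'', hN'', h1, h2⟩ := hdir N hN N' hN'
          refine ⟨N'', hN'', ?_⟩
          intro m hm
          rcases Finset.mem_insert.mp hm with rfl | hm
          · exact h2 hx
          · exact h1 (hNt m hm)
      obtain ⟨N, hN, hNs⟩ := key s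
      apply hc hN a
      exact smul_mem_of_span_eq_top hs a (fun m hm => hNs m hm)
    · refine ⟨⊥, ?_, fun z hz => absurd ⟨z, hz⟩ hne⟩
      intro a ha m
      exact (Submodule.mem_bot B).mp (ha m)
  obtain ⟨N₀, hN₀⟩ := hzorn
  -- Claim A: M₁ ⧸ N₀ is not Noetherian
  have hA : ¬ IsNoetherian B ((M ⧸ N₁) ⧸ N₀) := by
    intro h
    exact hI (isNoetherian_of_quotient_same_ann N₀ hN₀.prop)
  -- Claim B: submodules strictly bigger than N₀ are finitely generated
  have hB : ∀ N' : Submodule B (M ⧸ N₁), N₀ < N' → N'.FG := by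
    intro N' hlt
    have hN' : N' ∉ Γ := fun h => (lt_irrefl _ (lt_of_lt_of_le hlt (hN₀.le_of_ge h hlt.le)))
    simp only [Γ, Set.mem_ofPred_eq, not_forall] at hN'
    obtain ⟨a, ha, m₀, hm₀⟩ := hN'
    let J : Ideal B := Ideal.span {a}
    have hJne : J • (⊤ : Submodule B (M ⧸ N₁)) ≠ ⊥ := by
      intro h
      apply hm₀
      have : a • m₀ ∈ J • (⊤ : Submodule B (M ⧸ N₁)) :=
        Submodule.smul_mem_smul (Ideal.subset_span rfl) trivial
      rw [h] at this
      exact (Submodule.mem_bot B).mp this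
    have := hb J hJne
    have hJle : J • (⊤ : Submodule B (M ⧸ N₁)) ≤ N' := by
      rw [Submodule.smul_le]
      intro r hr m _
      obtain ⟨c, rfl⟩ := Ideal.mem_span_singleton'.mp hr
      rw [mul_smul]
      exact N'.smul_mem c (ha m)
    apply Submodule.fg_of_fg_map_of_fg_inf_ker (J • (⊤ : Submodule B (M ⧸ N₁))).mkQ
    · exact IsNoetherian.noetherian _
    · rw [Submodule.ker_mkQ, inf_eq_right.mpr hJle]
      exact Submodule.FG.smul ⟨{a}, by simp [J]⟩ Module.Finite.fg_top
  -- Claim C: M₁ ⧸ N₀ is Noetherian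
  apply hA
  rw [isNoetherian_def]
  intro P
  have hP : P = (P.comap N₀.mkQ).map N₀.mkQ :=
    (Submodule.map_comap_eq_of_surjective (Submodule.mkQ_surjective _) P).symm
  have hle : N₀ ≤ P.comap N₀.mkQ := by
    intro x hx
    rw [Submodule.mem_comap, Submodule.mkQ_apply, (Submodule.Quotient.mk_eq_zero N₀).mpr hx]
    exact P.zero_mem
  rcases eq_or_lt_of_le hle with h | h
  · rw [hP, ← h]
    have : N₀.map N₀.mkQ = ⊥ := by
      rw [eq_bot_iff, Submodule.map_le_iff_le_comap, Submodule.comap_bot, Submodule.ker_mkQ]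
    rw [this]
    exact Submodule.fg_bot
  · rw [hP]
    exact (hB _ h).map _

end Formanek

/-- **Eakin–Nagata**: if `A` is a Noetherian ring which is a finite module over a subring `B`,
then `B` is Noetherian. -/
theorem isNoetherianRing_of_finite_of_injective (B : Type u) (A : Type v) [CommRing B] [CommRing A]
    [Algebra B A] [IsNoetherianRing A] [Module.Finite B A]
    (hinj : Function.Injective (algebraMap B A)) : IsNoetherianRing B := by
  have : IsNoetherian B A := by
    apply isNoetherian_of_acc_smul_top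
    intro S hS
    let T : Set (Ideal A) := (fun I : Ideal B => I.map (algebraMap B A)) '' S
    have hT : T.Nonempty := hS.image _
    obtain ⟨_, ⟨I, hI, rfl⟩, hmax⟩ := set_has_maximal_iff_noetherian.mpr
      (inferInstance : IsNoetherian A A) T hT
    refine ⟨I, hI, fun J hJ hle => ?_⟩
    have e : ∀ K : Ideal B, K • (⊤ : Submodule B A) =
        (K.map (algebraMap B A)).restrictScalars B := fun K => Ideal.smul_top_eq_map K
    rw [e, e] at hle ⊢
    have hle' : I.map (algebraMap B A) ≤ J.map (algebraMap B A) := fun x hx => hle hx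
    have := hmax _ ⟨J, hJ, rfl⟩
    rcases eq_or_lt_of_le hle' with h | h
    · rw [h]
    · exact absurd h (this)
  rw [isNoetherianRing_iff]
  exact isNoetherian_of_injective (Algebra.linearMap B A) hinj

end Groth.Agent.Helper21.InvPrin
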