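import Mathlib

/-!
# Helper21: generic rank is at most the fibre dimension

`finrank_le_finrank_fiber`: for a finite module `M` over a domain `R` and a prime `p`,
`finrank R M ≤ dim_{κ(p)} κ(p) ⊗ M`.
-/

namespace Groth.Agent.Helper21.InvPrin

open TensorProduct IsLocalRing

universe u v

/-- Over a local ring, a finite module has at least as many generators as its rank. -/
theorem finrank_le_finrank_residueField_tensor (R : Type u) [CommRing R] [IsLocalRing R]
    (N : Type v) [AddCommGroup N] [Module R N] [Module.Finite R N] :
    Module.finrank R N ≤ Module.finrank (ResidueField R) (ResidueField R ⊗[R] N) := by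
  classical
  have hfg : (⊤ : Submodule R N).FG := Module.Finite.fg_top
  have h1 := TensorProduct.spanFinrank_top_eq_of_residueField (⊤ : Submodule R N) hfg
  obtain ⟨s, hs1, hs2⟩ := Submodule.FG.exists_span_finset_card_eq_spanFinrank hfg
  obtain ⟨v, hv⟩ := exists_linearIndependent_of_le_finrank (R := R) (M := N) le_rfl
  have h2 := linearIndependent_le_span v hv (s : Set N) hs2
  simp only [Cardinal.mk_fin, Finset.coe_sort_coe, Fintype.card_coe] at h2
  have h3 : Module.finrank R N ≤ s.card := by exact_mod_cast h2
  have e : (ResidueField R ⊗[R] (⊤ : Submodule R N)) ≃ₗ[ResidueField R] ResidueField R ⊗[R] N :=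
    LinearEquiv.baseChange R (ResidueField R) _ _ (Submodule.topEquiv (R := R) (M := N))
  have h4 : Module.finrank (ResidueField R) (ResidueField R ⊗[R] (⊤ : Submodule R N)) =
      (⊤ : Submodule (ResidueField R) (ResidueField R ⊗[R] (⊤ : Submodule R N))).spanFinrank :=
    Module.finrank_eq_spanFinrank_of_free
  rw [← e.finrank_eq, h4, h1, ← hs1]
  exact h3

/-- The generic rank of a finite module over a domain is at most the dimension of any fibre. -/
theorem finrank_le_finrank_fiber (R : Type u) [CommRing R] [IsDomain R] (p : Ideal R) [p.IsPrime]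
    (M : Type v) [AddCommGroup M] [Module R M] [Module.Finite R M] :
    Module.finrank R M ≤ Module.finrank p.ResidueField (p.Fiber M) := by
  classical
  let Rp := Localization.AtPrime p
  obtain ⟨v, hv⟩ := exists_linearIndependent_of_le_finrank (R := R) (M := M) le_rfl
  have hv' : LinearIndependent Rp ((TensorProduct.mk R Rp M 1) ∘ v) :=
    hv.of_isLocalizedModule Rp p.primeCompl (TensorProduct.mk R Rp M 1)
  have h1 : Module.finrank R M ≤ Module.finrank Rp (Rp ⊗[R] M) := by
    have := hv'.fintype_card_le_finrank
    simpa using this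
  have h2 := finrank_le_finrank_residueField_tensor Rp (Rp ⊗[R] M)
  let e : p.ResidueField ⊗[Rp] (Rp ⊗[R] M) ≃ₗ[p.ResidueField] p.ResidueField ⊗[R] M :=
    AlgebraTensorModule.cancelBaseChange _ _ _ _ _
  have h3 : Module.finrank (ResidueField Rp) (ResidueField Rp ⊗[Rp] (Rp ⊗[R] M)) =
      Module.finrank p.ResidueField (p.Fiber M) := e.finrank_eq
  omega

end Groth.Agent.Helper21.InvPrin
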