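import Mathlib

/-!
# Helper21: auxiliary lemmas on prime powers dividing products and on ramification indices
-/

namespace Groth.Agent.Helper21.InvPrin

universe u v

section Count

variable {A : Type u} [CommRing A] [IsDomain A]

/-- If `ϖ ^ k` divides a product of primes, at least `k` of the factors are divisible by `ϖ`. -/
theorem le_card_filter_dvd_of_pow_dvd_prod {ι : Type v} [DecidableEq ι] {ϖ : A} (hϖ : Prime ϖ)
    (f : ι → A) (T : Finset ι) (hf : ∀ i ∈ T, Prime (f i)) [DecidablePred fun i => ϖ ∣ f i] :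
    ∀ k : ℕ, ϖ ^ k ∣ ∏ i ∈ T, f i → k ≤ (T.filter fun i => ϖ ∣ f i).card := by
  induction T using Finset.induction_on with
  | empty =>
    intro k hk
    rcases Nat.eq_zero_or_pos k with rfl | hpos
    · simp
    · exfalso
      rw [Finset.prod_empty] at hk
      exact hϖ.not_isUnit (isUnit_of_dvd_one ((dvd_pow_self ϖ hpos.ne').trans hk))
  | insert a T ha ih =>
    intro k hk
    rw [Finset.prod_insert ha] at hk
    have hfT : ∀ i ∈ T, Prime (f i) := fun i hi => hf i (Finset.mem_insert_of_mem hi)
    by_cases hda : ϖ ∣ f a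
    · rw [Finset.filter_insert, if_pos hda, Finset.card_insert_of_notMem
        (fun h => ha (Finset.mem_filter.mp h).1)]
      rcases Nat.eq_zero_or_pos k with rfl | hpos
      · exact Nat.zero_le _
      · obtain ⟨k', rfl⟩ : ∃ k', k = k' + 1 := ⟨k - 1, by omega⟩
        obtain ⟨u, hu⟩ := hda
        have hunit : IsUnit u := by
          have hirr := (hf a (Finset.mem_insert_self a T)).irreducible
          rw [hu] at hirr
          exact (hirr.isUnit_or_isUnit rfl).resolve_left hϖ.not_isUnit
        have h1 : ϖ ^ k' * ϖ ∣ ϖ * (u * ∏ i ∈ T, f i) := by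
          rw [← pow_succ, ← mul_assoc, ← hu]; exact hk
        rw [mul_comm (ϖ ^ k') ϖ, mul_dvd_mul_iff_left hϖ.ne_zero] at h1
        have h2 : ϖ ^ k' ∣ ∏ i ∈ T, f i := (hunit.dvd_mul_left).mp h1
        have := ih hfT k' h2
        omega
    · rw [Finset.filter_insert, if_neg hda]
      exact ih hfT k (hϖ.pow_dvd_of_dvd_mul_left k hda hk)

end Count

section Length

variable {R : Type u} [CommRing R]

/-- In a ring whose ideal `(x)` is maximal, `R ⧸ (x ^ m)` has length at most `m`. -/
theorem length_quotient_span_pow_le (x : R) (hx : (Ideal.span {x}).IsMaximal) (m : ℕ) :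
    Module.length R (R ⧸ Ideal.span {x ^ m}) ≤ m := by
  induction m with
  | zero =>
    have : Ideal.span {x ^ 0} = (⊤ : Ideal R) := by simp
    have hsub : Subsingleton (R ⧸ Ideal.span {x ^ 0}) := by
      rw [this]; exact Ideal.Quotient.subsingleton_iff.mpr rfl
    rw [Module.length_eq_zero_iff.mpr hsub]
    exact bot_le
  | succ m ih =>
    have hle : Ideal.span {x ^ (m + 1)} ≤ Ideal.span {x ^ m} := by
      rw [Ideal.span_singleton_le_iff_mem, pow_succ]
      exact Ideal.mul_mem_right _ _ (Ideal.subset_span rfl)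
    let g : (R ⧸ Ideal.span {x ^ (m + 1)}) →ₗ[R] (R ⧸ Ideal.span {x ^ m}) :=
      Submodule.mapQ _ _ LinearMap.id hle
    have hg : Function.Surjective g := by
      intro y
      obtain ⟨r, rfl⟩ := Submodule.mkQ_surjective _ y
      exact ⟨Submodule.Quotient.mk r, rfl⟩
    have hadd := Module.length_eq_add_of_exact (LinearMap.ker g).subtype g
      (Submodule.subtype_injective _) hg (LinearMap.exact_subtype_ker_map g)
    -- the kernel is a quotient of R ⧸ (x)
    let c : R ⧸ Ideal.span {x ^ (m + 1)} := Submodule.Quotient.mk (x ^ m)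
    have hc : c ∈ LinearMap.ker g := by
      rw [LinearMap.mem_ker]
      show Submodule.Quotient.mk (x ^ m) = (0 : R ⧸ Ideal.span {x ^ m})
      rw [Submodule.Quotient.mk_eq_zero]
      exact Ideal.subset_span rfl
    let h0 : R →ₗ[R] LinearMap.ker g := LinearMap.toSpanSingleton R _ ⟨c, hc⟩
    have hh0 : Ideal.span {x} ≤ LinearMap.ker h0 := by
      rw [Ideal.span_singleton_le_iff_mem, LinearMap.mem_ker, LinearMap.toSpanSingleton_apply]
      apply Subtype.ext
      show x • c = 0
      show x • (Submodule.Quotient.mk (x ^ m) : R ⧸ Ideal.span {x ^ (m + 1)}) = 0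
      rw [← Submodule.Quotient.mk_smul, Submodule.Quotient.mk_eq_zero, smul_eq_mul, ← pow_succ']
      exact Ideal.subset_span rfl
    let h1 : (R ⧸ Ideal.span {x}) →ₗ[R] LinearMap.ker g := Submodule.liftQ _ h0 hh0
    have hh1 : Function.Surjective h1 := by
      rintro ⟨y, hy⟩
      obtain ⟨r, rfl⟩ := Submodule.mkQ_surjective _ y
      rw [LinearMap.mem_ker] at hy
      have hy' : (Submodule.Quotient.mk r : R ⧸ Ideal.span {x ^ m}) = 0 := hy
      rw [Submodule.Quotient.mk_eq_zero, Ideal.mem_span_singleton'] at hy'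
      obtain ⟨a, ha⟩ := hy'
      refine ⟨Submodule.Quotient.mk a, ?_⟩
      apply Subtype.ext
      show a • c = _
      show a • (Submodule.Quotient.mk (x ^ m) : R ⧸ Ideal.span {x ^ (m + 1)}) = _
      rw [← Submodule.Quotient.mk_smul, smul_eq_mul, ha]
      rfl
    have hsimple : Module.length R (R ⧸ Ideal.span {x}) = 1 := by
      rw [Module.length_eq_one_iff]
      exact isSimpleModule_iff_isCoatom.mpr (Ideal.isMaximal_def.mp hx)
    have hker : Module.length R (LinearMap.ker g) ≤ 1 := by
      rw [← hsimple]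
      exact Module.length_le_of_surjective h1 hh1
    rw [hadd]
    calc Module.length R (LinearMap.ker g) + Module.length R (R ⧸ Ideal.span {x ^ m})
        ≤ 1 + m := add_le_add hker ih
      _ = ((m + 1 : ℕ) : ℕ∞) := by push_cast; rw [add_comm]

end Length

section Ram

variable {A : Type u} {B : Type v} [CommRing A] [IsDomain A] [CommRing B] [Algebra B A]

/-- If `p = (π)` and some element of `p ∩ B` has `π`-adic valuation `m` in `A`, then the
ramification index of `p` over `B` is at most `m`. -/
theorem ramificationIdx_le_of_eq_pow_mul (p : Ideal A) [p.IsPrime] (π : A) (hp : p = Ideal.span {π})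
    (b : B) (hb : b ∈ p.under B) (m : ℕ) (a : A) (ha : a ∉ p) (hba : algebraMap B A b = π ^ m * a) :
    p.ramificationIdx B ≤ m := by
  let Sq := Localization.AtPrime p
  rw [Ideal.ramificationIdx_def]
  set I : Ideal Sq := (p.under B).map (algebraMap B Sq) with hI
  let x : Sq := algebraMap A Sq π
  have hxmax : (Ideal.span {x}).IsMaximal := by
    have h1 : Ideal.span {x} = p.map (algebraMap A Sq) := by
      have h0 : p.map (algebraMap A Sq) = (Ideal.span {π}).map (algebraMap A Sq) :=
        congrArg (Ideal.map (algebraMap A Sq)) hp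
      rw [h0, Ideal.map_span, Set.image_singleton]
    rw [h1, Localization.AtPrime.map_eq_maximalIdeal]
    exact IsLocalRing.maximalIdeal.isMaximal Sq
  have hau : IsUnit (algebraMap A Sq a) :=
    IsLocalization.map_units Sq (⟨a, ha⟩ : p.primeCompl)
  have hxm : x ^ m ∈ I := by
    have h1 : algebraMap B Sq b ∈ I := Ideal.mem_map_of_mem _ hb
    rw [IsScalarTower.algebraMap_apply B A Sq, hba, map_mul, map_pow] at h1
    obtain ⟨u, hu⟩ := hau
    have h2 := I.mul_mem_right (↑u⁻¹ : Sq) h1
    rwa [← hu, mul_assoc, Units.mul_inv, mul_one] at h2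
  have hle : Ideal.span {x ^ m} ≤ I := (Ideal.span_singleton_le_iff_mem _).mpr hxm
  let g : (Sq ⧸ Ideal.span {x ^ m}) →ₗ[Sq] (Sq ⧸ I) := Submodule.mapQ _ _ LinearMap.id hle
  have hg : Function.Surjective g := by
    intro y
    obtain ⟨r, rfl⟩ := Submodule.mkQ_surjective _ y
    exact ⟨Submodule.Quotient.mk r, rfl⟩
  have h1 : Module.length Sq (Sq ⧸ I) ≤ m :=
    (Module.length_le_of_surjective g hg).trans (length_quotient_span_pow_le x hxmax m)
  exact ENat.toNat_le_of_le_natCast h1

end Ram

end Groth.Agent.Helper21.InvPrin
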