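import Mathlib
import Groth.Agent.Lib.Helper21.InvPrin2

/-!
# Helper21: the decomposition group is no bigger than `e` when `f = 1`
-/

namespace Groth.Agent.Helper21.InvPrin

open scoped Pointwise

universe u

variable {A B G : Type u} [CommRing A] [IsDomain A] [CommRing B] [Algebra B A] [FaithfulSMul B A]
  [Module.Finite B A] [Group G] [Finite G] [MulSemiringAction G A] [FaithfulSMul G A]
  [SMulCommClass G B A] [Algebra.IsInvariant B A G]

/-- If the inertia degree of `p` over `B = A^G` is `1`, the stabilizer of `p` has at most
`e(p)` elements. -/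
theorem card_stabilizer_le_ramificationIdx (q : Ideal B) [q.IsPrime] (p : Ideal A) [p.IsPrime]
    [p.LiesOver q] (hf : p.inertiaDeg B = 1) :
    Nat.card (MulAction.stabilizer G p) ≤ p.ramificationIdx B := by
  classical
  haveI : IsGaloisGroup G B A := ⟨inferInstance, inferInstance, inferInstance⟩
  haveI : IsDomain B := IsDomain.of_faithfulSMul B A
  have hfinset : (q.primesOver A).Finite := Algebra.QuasiFinite.finite_primesOver q
  letI : Fintype (q.primesOver A) := hfinset.fintype
  have hsum := Ideal.sum_ramification_inertia_eq_finrank_fiber q A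
  have hle := finrank_le_finrank_fiber B q A
  have hcard := IsGaloisGroup.card_eq_finrank' G B A
  have horb : MulAction.orbit G p = q.primesOver A :=
    Algebra.IsInvariant.orbit_eq_primesOver B A G q p
  have hterm : ∀ P : q.primesOver A,
      P.1.ramificationIdx B * P.1.inertiaDeg B = p.ramificationIdx B := by
    rintro ⟨P, hP⟩
    have hP' : P ∈ MulAction.orbit G p := by rw [horb]; exact hP
    obtain ⟨g, rfl⟩ := hP'
    show (g • p).ramificationIdx B * (g • p).inertiaDeg B = _
    rw [Ideal.ramificationIdx_smul, Ideal.inertiaDeg_smul, hf, mul_one]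
  rw [Finset.sum_congr rfl (fun P _ => hterm P), Finset.sum_const, Finset.card_univ,
    smul_eq_mul] at hsum
  have hos : Nat.card (MulAction.orbit G p) * Nat.card (MulAction.stabilizer G p) = Nat.card G := by
    simpa using Nat.card_congr (MulAction.orbitProdStabilizerEquivGroup G p)
  have hco : Nat.card (MulAction.orbit G p) = Fintype.card (q.primesOver A) := by
    rw [horb, Nat.card_eq_fintype_card]
  rw [hco] at hos
  have hpos : 0 < Fintype.card (q.primesOver A) := by
    apply Fintype.card_pos_iff.mpr
    exact ⟨⟨p, ‹p.IsPrime›, ‹p.LiesOver q›⟩⟩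
  have h1 : Fintype.card (q.primesOver A) * Nat.card (MulAction.stabilizer G p) ≤
      Fintype.card (q.primesOver A) * p.ramificationIdx B := by
    rw [hos, hsum, hcard]; exact hle
  exact Nat.le_of_mul_le_mul_left h1 hpos

end Groth.Agent.Helper21.InvPrin
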