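import Mathlib

/-!
# Helper21: trivial residue field extension gives inertia degree one
-/

namespace Groth.Agent.Helper21.InvPrin

set_option linter.style.haveILetI false

universe u v

variable {A : Type u} {B : Type v} [CommRing A] [CommRing B] [Algebra B A]

theorem inertiaDeg_eq_one_of_residue_trivial (q : Ideal B) [q.IsPrime] (p : Ideal A) [p.IsPrime]
    [p.LiesOver q]
    (hres : ∀ a : A, ∃ b c : B, c ∉ q ∧ algebraMap B A c * a - algebraMap B A b ∈ p) :
    p.inertiaDeg B = 1 := by
  letI := Localization.AtPrime.algebraOfLiesOver q p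
  rw [Ideal.inertiaDeg_eq q p]
  let φ := algebraMap q.ResidueField p.ResidueField
  let ι := algebraMap A p.ResidueField
  have hι0 : ∀ z ∈ p, ι z = 0 := by
    intro z hz
    show algebraMap A p.ResidueField z = 0
    rw [IsScalarTower.algebraMap_apply A (A ⧸ p) p.ResidueField,
      Ideal.Quotient.algebraMap_eq, Ideal.Quotient.eq_zero_iff_mem.mpr hz, map_zero]
  have hcomp : ∀ b : B, ι (algebraMap B A b) = φ (algebraMap B q.ResidueField b) := by
    intro b
    show algebraMap A p.ResidueField (algebraMap B A b) = _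
    rw [← IsScalarTower.algebraMap_apply B A p.ResidueField,
      IsScalarTower.algebraMap_apply B q.ResidueField p.ResidueField]
  have hne : ∀ c : B, c ∉ q → algebraMap B q.ResidueField c ≠ 0 := by
    intro c hc h0
    apply hc
    rw [IsScalarTower.algebraMap_apply B (B ⧸ q) q.ResidueField] at h0
    have h1 := (FaithfulSMul.algebraMap_injective (B ⧸ q) q.ResidueField)
      (h0.trans (map_zero _).symm)
    exact Ideal.Quotient.eq_zero_iff_mem.mp h1
  have key : ∀ a : A, ∃ t : q.ResidueField, ι a = φ t := by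
    intro a
    obtain ⟨b, c, hc, hmem⟩ := hres a
    have h1 := hι0 _ hmem
    rw [map_sub, map_mul, hcomp, hcomp, sub_eq_zero] at h1
    refine ⟨algebraMap B q.ResidueField b / algebraMap B q.ResidueField c, ?_⟩
    rw [map_div₀, ← h1, mul_div_cancel_left₀]
    exact fun h => hne c hc ((map_eq_zero φ).mp h)
  have hsurj : ∀ w : p.ResidueField, ∃ t : q.ResidueField, φ t = w := by
    intro w
    obtain ⟨x, y, hy, rfl⟩ := IsFractionRing.div_surjective (A := A ⧸ p) w
    obtain ⟨x, rfl⟩ := Ideal.Quotient.mk_surjective x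
    obtain ⟨y, rfl⟩ := Ideal.Quotient.mk_surjective y
    obtain ⟨t1, ht1⟩ := key x
    obtain ⟨t2, ht2⟩ := key y
    refine ⟨t1 / t2, ?_⟩
    rw [map_div₀, ← ht1, ← ht2]
    rfl
  rw [finrank_eq_one_iff_of_nonzero' (1 : p.ResidueField) one_ne_zero]
  intro w
  obtain ⟨t, ht⟩ := hsurj w
  exact ⟨t, by rw [← ht, Algebra.algebraMap_eq_smul_one]⟩

end Groth.Agent.Helper21.InvPrin
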