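import Mathlib
import Groth.Agent.Lib.Helper21.InvPrin1
import Groth.Agent.Lib.Helper21.InvPrin3
import Groth.Agent.Lib.Helper21.InvPrin4
import Groth.Agent.Lib.Helper21.InvPrin5
import Groth.Agent.Lib.Lead.RLR3

/-!
# Helper21: height-one primes of a ring of invariants with trivial residue extension are principal
-/

namespace Groth.Agent.Helper21.InvPrin

set_option linter.style.haveILetI false
set_option linter.unusedSectionVars false

open scoped Pointwise

universe u

variable {A B G : Type u} [CommRing A] [IsDomain A] [CommRing B] [Algebra B A] [FaithfulSMul B A]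
  [Module.Finite B A] [Group G] [Fintype G] [MulSemiringAction G A] [FaithfulSMul G A]
  [SMulCommClass G B A] [Algebra.IsInvariant B A G]

omit [IsDomain A] [FaithfulSMul B A] [Module.Finite B A] [FaithfulSMul G A] in
/-- The norm of an element lies in `B`. -/
theorem exists_norm (π : A) : ∃ f : B, algebraMap B A f = ∏ g : G, g • π := by
  apply Algebra.IsInvariant.isInvariant (G := G)
  intro h
  rw [Finset.smul_prod']
  simp only [smul_smul]
  exact Fintype.prod_equiv (Equiv.mulLeft h) _ _ (fun g => rfl)

omit [FaithfulSMul B A] [Module.Finite B A] [FaithfulSMul G A] [SMulCommClass G B A]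
  [Algebra.IsInvariant B A G] [Fintype G] in
theorem prime_smul {π : A} (hπ : Prime π) (g : G) : Prime (g • π) :=
  (MulEquiv.prime_iff (MulSemiringAction.toRingEquiv G A g).toMulEquiv).mpr hπ

omit [FaithfulSMul B A] [Module.Finite B A] [FaithfulSMul G A] [SMulCommClass G B A]
  [Algebra.IsInvariant B A G] [Fintype G] in
theorem smul_dvd_smul_iff (g : G) (x y : A) : g • x ∣ g • y ↔ x ∣ y := by
  constructor
  · intro h
    have := map_dvd (MulSemiringAction.toRingHom G A g⁻¹) h
    simpa [MulSemiringAction.toRingHom_apply, smul_smul] using this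
  · intro h
    have := map_dvd (MulSemiringAction.toRingHom G A g) h
    simpa [MulSemiringAction.toRingHom_apply] using this

omit [FaithfulSMul B A] [Module.Finite B A] [FaithfulSMul G A] [SMulCommClass G B A]
  [Algebra.IsInvariant B A G] in
/-- If `π ^ k` divides the invariant element `β`, where `k` is at least the number of `g` with
`π ∣ g • π`, then the norm of `π` divides `β`. -/
theorem prod_smul_dvd [DecidableEq G] (π : A) (hπ : Prime π) (β : A) (hβ : ∀ g : G, g • β = β)
    [DecidablePred fun g : G => π ∣ g • π]
    (k : ℕ) (hk : (Finset.univ.filter (fun g : G => π ∣ g • π)).card ≤ k) (hdvd : π ^ k ∣ β) :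
    ∏ g : G, g • π ∣ β := by
  classical
  suffices H : ∀ T : Finset G, ∏ g ∈ T, g • π ∣ β from H Finset.univ
  intro T
  induction T using Finset.induction_on with
  | empty => simp
  | insert g T hg ih =>
    rw [Finset.prod_insert hg]
    obtain ⟨c, hc⟩ := ih
    have hgk : (g • π) ^ k ∣ β := by
      have := (smul_dvd_smul_iff g (π ^ k) β).mpr hdvd
      rwa [smul_pow', hβ g] at this
    by_cases hdc : g • π ∣ c
    · obtain ⟨c', rfl⟩ := hdc
      exact ⟨c', by rw [hc]; ring⟩
    · exfalso
      rw [hc] at hgk
      have h1 : (g • π) ^ k ∣ ∏ h ∈ T, h • π :=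
        (prime_smul hπ g).pow_dvd_of_dvd_mul_right k hdc hgk
      have h2 := le_card_filter_dvd_of_pow_dvd_prod (prime_smul hπ g) (fun h : G => h • π) T
        (fun h _ => prime_smul hπ h) k h1
      -- compare the filters
      have h3 : (T.filter fun h => g • π ∣ h • π) ⊆
          ((Finset.univ.filter fun h : G => g • π ∣ h • π).erase g) := by
        intro h hh
        rw [Finset.mem_filter] at hh
        rw [Finset.mem_erase, Finset.mem_filter]
        exact ⟨fun e => hg (e ▸ hh.1), Finset.mem_univ _, hh.2⟩
      have h4 : (Finset.univ.filter fun h : G => g • π ∣ h • π).card =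
          (Finset.univ.filter fun d : G => π ∣ d • π).card := by
        apply Finset.card_bij (fun h _ => g⁻¹ * h)
        · intro h hh
          rw [Finset.mem_filter] at hh ⊢
          refine ⟨Finset.mem_univ _, ?_⟩
          have := (smul_dvd_smul_iff g⁻¹ (g • π) (h • π)).mpr hh.2
          rwa [smul_smul, smul_smul, inv_mul_cancel, one_smul] at this
        · intro a _ b _ hab
          exact mul_left_cancel hab
        · intro d hd
          rw [Finset.mem_filter] at hd
          refine ⟨g * d, ?_, by simp⟩
          rw [Finset.mem_filter]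
          refine ⟨Finset.mem_univ _, ?_⟩
          rw [mul_smul]
          exact (smul_dvd_smul_iff g π (d • π)).mpr hd.2
      have h5 : g ∈ Finset.univ.filter fun h : G => g • π ∣ h • π := by
        rw [Finset.mem_filter]; exact ⟨Finset.mem_univ _, dvd_rfl⟩
      have h6 := Finset.card_le_card h3
      rw [Finset.card_erase_of_mem h5, h4] at h6
      have h7 : 0 < (Finset.univ.filter fun d : G => π ∣ d • π).card := by
        rw [← h4]; exact Finset.card_pos.mpr ⟨g, h5⟩
      omega

end Groth.Agent.Helper21.InvPrin
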