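import Mathlib
import Groth.Agent.Lib.Helper21.InvPrin6

/-!
# Helper21: main theorem on height-one primes of invariant rings (S16547)
-/

namespace Groth.Agent.Helper21.InvPrin

set_option linter.style.haveILetI false
set_option linter.unusedSectionVars false

open scoped Pointwise

universe u

variable {A B G : Type u} [CommRing A] [IsDomain A] [CommRing B] [Algebra B A] [FaithfulSMul B A]
  [Module.Finite B A] [Group G] [Fintype G] [MulSemiringAction G A] [FaithfulSMul G A]
  [SMulCommClass G B A] [Algebra.IsInvariant B A G]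

variable (G) in
include G in
/-- A prime of the UFD `A` lying over a height-one prime of `B = A^G` is principal. -/
theorem exists_prime_span_eq [UniqueFactorizationMonoid A] (q : Ideal B) [q.IsPrime]
    (hq : q.height = 1) (p : Ideal A) [p.IsPrime] [p.LiesOver q] :
    ∃ π : A, Prime π ∧ p = Ideal.span {π} := by
  haveI : IsDomain B := IsDomain.of_faithfulSMul B A
  have hinj : Function.Injective (algebraMap B A) := FaithfulSMul.algebraMap_injective B A
  have hqp : q = p.under B := Ideal.LiesOver.over
  have hq0 : q ≠ ⊥ := Ideal.ne_bot_of_height_eq_one hq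
  have hp0 : p ≠ ⊥ := by
    rintro rfl
    apply hq0
    rw [hqp, eq_bot_iff]
    intro x hx
    rw [Ideal.under_def, Ideal.mem_comap, Ideal.mem_bot] at hx
    exact (Ideal.mem_bot).mpr (hinj (hx.trans (map_zero _).symm))
  obtain ⟨π, hπp, hπ⟩ := Ideal.IsPrime.exists_mem_prime_of_ne_bot ‹p.IsPrime› hp0
  refine ⟨π, hπ, ?_⟩
  haveI hP' : (Ideal.span {π}).IsPrime := (Ideal.span_singleton_prime hπ.ne_zero).mpr hπ
  have hle : Ideal.span {π} ≤ p := (Ideal.span_singleton_le_iff_mem _).mpr hπp
  -- the contraction of (π)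
  set q' : Ideal B := (Ideal.span {π}).comap (algebraMap B A) with hq'
  haveI : q'.IsPrime := Ideal.comap_isPrime _ _
  have hq'le : q' ≤ q := by
    rw [hqp]; exact Ideal.comap_mono hle
  have hq'0 : q' ≠ ⊥ := by
    obtain ⟨f, hf⟩ := exists_norm (B := B) (G := G) π
    have hfmem : f ∈ q' := by
      rw [hq', Ideal.mem_comap, hf, Ideal.mem_span_singleton]
      have : (1 : G) • π ∣ ∏ g : G, g • π := Finset.dvd_prod_of_mem _ (Finset.mem_univ 1)
      rwa [one_smul] at this
    have hf0 : f ≠ 0 := by
      intro h0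
      rw [h0, map_zero] at hf
      have := Finset.prod_eq_zero_iff.mp hf.symm
      obtain ⟨g, _, hg⟩ := this
      exact hπ.ne_zero ((smul_eq_zero_iff_eq g).mp hg)
    intro h
    rw [h] at hfmem
    exact hf0 ((Ideal.mem_bot).mp hfmem)
  have hq'eq : q' = q := by
    by_contra hne
    have hlt : q' < q := lt_of_le_of_ne hq'le hne
    haveI : q'.FiniteHeight := by
      rw [Ideal.finiteHeight_iff]
      right
      have := (Ideal.height_mono hq'le)
      rw [hq] at this
      exact ne_top_of_le_ne_top (by simp) this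
    have := Ideal.height_strict_mono_of_isPrime hlt
    rw [hq] at this
    have h0 : q'.height = 0 := by
      exact Order.lt_one_iff.mp this
    exact hq'0 (Ideal.height_eq_zero_iff_eq_bot.mp h0)
  by_contra hne
  have hlt : Ideal.span {π} < p := lt_of_le_of_ne hle (Ne.symm hne)
  have := Ideal.IsIntegral.comap_lt_comap (R := B) hlt
  rw [← hq', hq'eq, hqp] at this
  exact lt_irrefl _ this

/-- For `p = (π)`, `g` stabilises `p` iff `π ∣ g • π`. -/
theorem mem_stabilizer_iff_dvd {π : A} (hπ : Prime π) (p : Ideal A) (hp : p = Ideal.span {π})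
    (g : G) : g ∈ MulAction.stabilizer G p ↔ π ∣ g • π := by
  rw [MulAction.mem_stabilizer_iff]
  have hsm : g • p = Ideal.span {g • π} := by
    rw [hp, Ideal.pointwise_smul_def, Ideal.map_span, Set.image_singleton]
    rfl
  constructor
  · intro h
    have h1 : g • π ∈ g • p := Ideal.smul_mem_pointwise_smul_iff.mpr
      (by rw [hp]; exact Ideal.subset_span rfl)
    rw [h, hp, Ideal.mem_span_singleton] at h1
    exact h1
  · intro h
    rw [hsm, hp]
    obtain ⟨u, hu⟩ := h
    have hunit : IsUnit u := by
      have hirr := (prime_smul hπ g).irreducible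
      rw [hu] at hirr
      exact (hirr.isUnit_or_isUnit rfl).resolve_left hπ.not_isUnit
    rw [hu]
    exact Ideal.span_singleton_mul_right_unit hunit π

variable (G) in
include G in
/-- **Main step**: `q` is generated by the norm of `π`. -/
theorem isPrincipal_of_residue_trivial [UniqueFactorizationMonoid A] (q : Ideal B) [q.IsPrime]
    (hq : q.height = 1) (p : Ideal A) [p.IsPrime] [p.LiesOver q]
    (hres : ∀ a : A, ∃ b c : B, c ∉ q ∧ algebraMap B A c * a - algebraMap B A b ∈ p) :
    ∃ f : B, f ≠ 0 ∧ q = Ideal.span {f} := by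
  classical
  haveI : IsDomain B := IsDomain.of_faithfulSMul B A
  have hinj : Function.Injective (algebraMap B A) := FaithfulSMul.algebraMap_injective B A
  have hqp : q = p.under B := Ideal.LiesOver.over
  obtain ⟨π, hπ, hp⟩ := exists_prime_span_eq G q hq p
  obtain ⟨f, hf⟩ := exists_norm (B := B) (G := G) π
  have hf0 : f ≠ 0 := by
    intro h0
    rw [h0, map_zero] at hf
    obtain ⟨g, _, hg⟩ := Finset.prod_eq_zero_iff.mp hf.symm
    exact hπ.ne_zero ((smul_eq_zero_iff_eq g).mp hg)
  have hfq : f ∈ q := by
    rw [hqp, Ideal.under_def, Ideal.mem_comap, hf, hp, Ideal.mem_span_singleton]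
    have : (1 : G) • π ∣ ∏ g : G, g • π := Finset.dvd_prod_of_mem _ (Finset.mem_univ 1)
    rwa [one_smul] at this
  refine ⟨f, hf0, le_antisymm ?_ ((Ideal.span_singleton_le_iff_mem _).mpr hfq)⟩
  -- the inequality k₀ ≤ e
  have hdeg := inertiaDeg_eq_one_of_residue_trivial q p hres
  have hstab := card_stabilizer_le_ramificationIdx (G := G) q p hdeg
  have hk₀ : Nat.card (MulAction.stabilizer G p) =
      (Finset.univ.filter (fun g : G => π ∣ g • π)).card := by
    rw [Nat.card_eq_fintype_card, ← Fintype.card_subtype]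
    apply Fintype.card_congr
    exact Equiv.subtypeEquivRight (fun g => mem_stabilizer_iff_dvd hπ p hp g)
  intro b hb
  by_cases hb0 : b = 0
  · rw [hb0]; exact Ideal.zero_mem _
  have hβ0 : algebraMap B A b ≠ 0 := fun h => hb0 (hinj (h.trans (map_zero _).symm))
  obtain ⟨m, a, hna, hma⟩ := WfDvdMonoid.max_power_factor hβ0 hπ.irreducible
  have hap : a ∉ p := by
    rw [hp, Ideal.mem_span_singleton]; exact hna
  have hem := ramificationIdx_le_of_eq_pow_mul p π hp b (hqp ▸ hb) m a hap hma
  have hkm : (Finset.univ.filter (fun g : G => π ∣ g • π)).card ≤ m := by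
    rw [← hk₀]; exact hstab.trans hem
  have hinv : ∀ g : G, g • algebraMap B A b = algebraMap B A b := fun g => smul_algebraMap g b
  have hdvd : ∏ g : G, g • π ∣ algebraMap B A b :=
    prod_smul_dvd π hπ _ hinv m hkm ⟨a, hma⟩
  rw [← hf] at hdvd
  obtain ⟨c, hc⟩ := hdvd
  have hcinv : ∀ g : G, g • c = c := by
    intro g
    have h1 := congrArg (g • ·) hc
    simp only [smul_mul', smul_algebraMap] at h1
    rw [hc] at h1
    exact (mul_left_cancel₀ (fun h => hf0 (hinj (h.trans (map_zero _).symm))) h1).symm
  obtain ⟨c', rfl⟩ := Algebra.IsInvariant.isInvariant (A := B) (G := G) c hcinv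
  rw [← map_mul] at hc
  rw [hinj hc]
  exact Ideal.mul_mem_right _ _ (Ideal.subset_span rfl)

end Groth.Agent.Helper21.InvPrin
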