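import Mathlib
import Groth.Agent.Lib.Helper21.InvPrin7

/-!
# Helper21: S16547
-/

namespace Groth.Agent.Helper21.InvPrin

set_option linter.style.haveILetI false
set_option linter.unusedSectionVars false

universe u

/-- The ring of invariants of a finite group acting on a local ring is local. -/
theorem isLocalRing_of_isInvariant {A B G : Type u} [CommRing A] [IsLocalRing A] [CommRing B]
    [Nontrivial B] [Algebra B A] [FaithfulSMul B A] [Group G] [MulSemiringAction G A]
    [SMulCommClass G B A] [Algebra.IsInvariant B A G] : IsLocalRing B := by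
  have hinj : Function.Injective (algebraMap B A) := FaithfulSMul.algebraMap_injective B A
  have hunit : ∀ b : B, IsUnit (algebraMap B A b) → IsUnit b := by
    intro b hb
    obtain ⟨u, hu⟩ := hb
    have hinv : ∀ g : G, g • (↑u⁻¹ : A) = ↑u⁻¹ := by
      intro g
      have h1 : g • ((u : A) * ↑u⁻¹) = 1 := by rw [Units.mul_inv, smul_one]
      rw [smul_mul', hu, smul_algebraMap, ← hu] at h1
      exact Units.eq_inv_of_mul_eq_one_left h1
    obtain ⟨b', hb'⟩ := Algebra.IsInvariant.isInvariant (A := B) (G := G) (↑u⁻¹ : A) hinv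
    refine IsUnit.of_mul_eq_one b' (hinj ?_)
    rw [map_mul, map_one, hb', ← hu, Units.mul_inv]
  apply IsLocalRing.of_nonunits_add
  intro a b ha hb
  have ha' : algebraMap B A a ∈ nonunits A := fun h => ha (hunit a h)
  have hb' : algebraMap B A b ∈ nonunits A := fun h => hb (hunit b h)
  have := IsLocalRing.nonunits_add ha' hb'
  rw [← map_add] at this
  exact fun h => this (h.map _)

theorem main16547 {A B G : Type u} [CommRing A] [IsDomain A] [IsNoetherianRing A] [IsLocalRing A]
    [UniqueFactorizationMonoid A]
    [CommRing B] [Algebra B A] [FaithfulSMul B A] [Module.Finite B A]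
    [Group G] [Finite G] [MulSemiringAction G A] [FaithfulSMul G A] [SMulCommClass G B A]
    [Algebra.IsInvariant B A G]
    (q : Ideal B) [q.IsPrime] (hq : q.height = 1) (p : Ideal A) [p.IsPrime] [p.LiesOver q]
    (hres : ∀ a : A, ∃ b c : B, c ∉ q ∧ algebraMap B A c * a - algebraMap B A b ∈ p) :
    Submodule.IsPrincipal q ∧ (IsRegularLocalRing (B ⧸ q) → IsRegularLocalRing B) := by
  classical
  letI : Fintype G := Fintype.ofFinite G
  haveI : IsDomain B := IsDomain.of_faithfulSMul B A
  have hinj : Function.Injective (algebraMap B A) := FaithfulSMul.algebraMap_injective B A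
  obtain ⟨f, hf0, hqf⟩ := isPrincipal_of_residue_trivial G q hq p hres
  refine ⟨⟨f, by rw [hqf]⟩, ?_⟩
  intro hreg
  haveI : IsLocalRing B := isLocalRing_of_isInvariant (A := A) (G := G)
  haveI : IsNoetherianRing B := isNoetherianRing_of_finite_of_injective B A hinj
  haveI : IsRegularLocalRing (B ⧸ Ideal.span ({f} : Set B)) :=
    IsRegularLocalRing.of_ringEquiv (Ideal.quotEquivOfEq hqf)
  have hfm : f ∈ IsLocalRing.maximalIdeal B := by
    have : q ≤ IsLocalRing.maximalIdeal B := IsLocalRing.le_maximalIdeal (Ideal.IsPrime.ne_top ‹_›)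
    apply this
    rw [hqf]; exact Ideal.subset_span rfl
  exact Groth.Agent.Lead.RLR.of_quotient_regular f hfm (mem_nonZeroDivisors_of_ne_zero hf0)

end Groth.Agent.Helper21.InvPrin
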