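import Mathlib
import Groth.Agent.S9456

/-!
# Kernels of surjections onto flat finitely presented modules

* `fp_ker_of_presentation`: (Schanuel) if `H` admits one surjection from a finite projective module
  with finitely presented kernel, then the kernel of any surjection from a finitely presented
  module onto `H` is finitely presented.
* `baseChange_injective_of_flat`: Tor-vanishing across a pushout square.
* `fp_ker_of_flat`: `A → B` of finite presentation, `H` a finitely presented `B`-module flat over `A`,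
  `G` finitely presented, `p : G → H` surjective; then `ker p` is finitely presented.
-/

set_option autoImplicit false
universe u
open TensorProduct

namespace Groth.Agent.Helper21.KerFP

section Schanuel

variable {B : Type*} [CommRing B] {F G H : Type*} [AddCommGroup F] [Module B F]
  [AddCommGroup G] [Module B G] [AddCommGroup H] [Module B H]

/-- Schanuel-type lemma. -/
theorem fp_ker_of_presentation [Module.Projective B F] [Module.Finite B F]
    (π : F →ₗ[B] H) (hπ : Function.Surjective π)
    [Module.FinitePresentation B (LinearMap.ker π)]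
    [Module.FinitePresentation B G] (p : G →ₗ[B] H) (hp : Function.Surjective p) :
    Module.FinitePresentation B (LinearMap.ker p) := by
  -- the pullback
  let P : Submodule B (F × G) := LinearMap.ker (π.coprod (-p))
  have hmem : ∀ z : F × G, z ∈ P ↔ π z.1 = p z.2 := by
    intro z
    simp only [P, LinearMap.mem_ker, LinearMap.coprod_apply, LinearMap.neg_apply,
      ← sub_eq_add_neg, sub_eq_zero]
  let q₁ : P →ₗ[B] F := LinearMap.fst B F G ∘ₗ P.subtype
  let q₂ : P →ₗ[B] G := LinearMap.snd B F G ∘ₗ P.subtype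
  have hq₁ : Function.Surjective q₁ := by
    intro x
    obtain ⟨g, hg⟩ := hp (π x)
    exact ⟨⟨(x, g), (hmem _).2 hg.symm⟩, rfl⟩
  have hq₂ : Function.Surjective q₂ := by
    intro g
    obtain ⟨x, hx⟩ := hπ (p g)
    exact ⟨⟨(x, g), (hmem _).2 hx⟩, rfl⟩
  -- `ker π → P`
  let j₁ : LinearMap.ker π →ₗ[B] P :=
    LinearMap.codRestrict P (LinearMap.inl B F G ∘ₗ (LinearMap.ker π).subtype) (by
      intro x
      rw [hmem]
      simp)
  have hj₁ : Function.Injective j₁ := by
    intro x y hxy
    have := congrArg (fun z : P => z.1.1) hxy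
    exact Subtype.ext this
  have hr₁ : LinearMap.range j₁ = LinearMap.ker q₂ := by
    ext z
    constructor
    · rintro ⟨x, rfl⟩
      rfl
    · intro hz
      have hz2 : z.1.2 = 0 := hz
      have hz1 : π z.1.1 = 0 := by
        rw [(hmem _).1 z.2, hz2, map_zero]
      refine ⟨⟨z.1.1, hz1⟩, ?_⟩
      apply Subtype.ext
      apply Prod.ext
      · rfl
      · exact hz2.symm
  have e₁ : LinearMap.ker π ≃ₗ[B] LinearMap.ker q₂ :=
    (LinearEquiv.ofInjective j₁ hj₁).trans
      (LinearEquiv.ofEq (LinearMap.range j₁) (LinearMap.ker q₂) hr₁)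
  haveI : Module.FinitePresentation B (LinearMap.ker q₂) :=
    @Module.FinitePresentation.of_equiv B (LinearMap.ker π) (LinearMap.ker q₂) _ _ _ _ _ e₁ _
  haveI : Module.FinitePresentation B P := Module.finitePresentation_of_ker q₂ hq₂
  -- `ker p → P`
  let j₂ : LinearMap.ker p →ₗ[B] P :=
    LinearMap.codRestrict P (LinearMap.inr B F G ∘ₗ (LinearMap.ker p).subtype) (by
      intro y
      rw [hmem]
      simp)
  have hj₂ : Function.Injective j₂ := by
    intro x y hxy
    have := congrArg (fun z : P => z.1.2) hxy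
    exact Subtype.ext this
  have hex : Function.Exact j₂ q₁ := by
    intro z
    constructor
    · intro hz
      have hz1 : z.1.1 = 0 := hz
      have hz2 : p z.1.2 = 0 := by
        rw [← (hmem _).1 z.2, hz1, map_zero]
      refine ⟨⟨z.1.2, hz2⟩, ?_⟩
      apply Subtype.ext
      apply Prod.ext
      · exact hz1.symm
      · rfl
    · rintro ⟨y, rfl⟩
      rfl
  exact Module.finitePresentation_of_projective_of_exact j₂ q₁ hj₂ hq₁ hex

end Schanuel

section Pushout

variable {R₀ A S₀ B : Type*} [CommRing R₀] [CommRing A] [CommRing S₀] [CommRing B]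
  [Algebra R₀ A] [Algebra R₀ S₀] [Algebra A B] [Algebra S₀ B] [Algebra R₀ B]
  [IsScalarTower R₀ A B] [IsScalarTower R₀ S₀ B] [Algebra.IsPushout R₀ A S₀ B]
  {N₁ N₂ M₀ : Type*} [AddCommGroup N₁] [Module S₀ N₁] [Module R₀ N₁] [IsScalarTower R₀ S₀ N₁]
  [AddCommGroup N₂] [Module S₀ N₂] [Module R₀ N₂] [IsScalarTower R₀ S₀ N₂]
  [AddCommGroup M₀] [Module S₀ M₀] [Module R₀ M₀] [IsScalarTower R₀ S₀ M₀]

theorem cancel_symm_lTensor (g : N₁ →ₗ[S₀] N₂) (y : A ⊗[R₀] N₁) :
    g.baseChange B ((Algebra.IsPushout.cancelBaseChange R₀ A S₀ B N₁).symm y) =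
      (Algebra.IsPushout.cancelBaseChange R₀ A S₀ B N₂).symm
        ((g.restrictScalars R₀).lTensor A y) := by
  induction y with
  | zero => simp
  | add x y hx hy => simp only [map_add, hx, hy]
  | tmul a n =>
    simp [Algebra.IsPushout.cancelBaseChange_symm_tmul]

/-- Tor-vanishing across a pushout square: if `0 → N₁ → N₂ → M₀ → 0` is an exact sequence of
`S₀`-modules with `M₀` flat over `R₀`, then `B ⊗[S₀] N₁ → B ⊗[S₀] N₂` is injective for
`B = A ⊗[R₀] S₀`. -/
theorem baseChange_injective_of_flat (A : Type*) [CommRing A] [Algebra R₀ A] [Algebra A B]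
    [IsScalarTower R₀ A B] [Algebra.IsPushout R₀ A S₀ B] [Module.Flat R₀ M₀] (g : N₁ →ₗ[S₀] N₂) (π₀ : N₂ →ₗ[S₀] M₀)
    (hg : Function.Injective g) (hπ₀ : Function.Surjective π₀) (H : Function.Exact g π₀) :
    Function.Injective (g.baseChange B) := by
  have hinj : Function.Injective ((g.restrictScalars R₀).lTensor A) :=
    LinearMap.lTensor_injective_of_exact_of_flat (π₀.restrictScalars R₀) hπ₀
      (g.restrictScalars R₀) hg H A
  rw [injective_iff_map_eq_zero]
  intro x hx
  obtain ⟨y, rfl⟩ := (Algebra.IsPushout.cancelBaseChange R₀ A S₀ B N₁).symm.surjective x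
  rw [cancel_symm_lTensor, LinearEquiv.map_eq_zero_iff] at hx
  have hy : y = 0 := by
    apply hinj
    rw [hx, map_zero]
  rw [hy, map_zero]

end Pushout

end Groth.Agent.Helper21.KerFP
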