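import Mathlib
import Groth.Agent.S9456
import Groth.Agent.Lib.Helper21.KerFP1

/-!
# Kernels of surjections onto flat finitely presented modules (main ring-level statement)
-/

set_option autoImplicit false
universe u
open TensorProduct

namespace Groth.Agent.Helper21.KerFP

/-- `A → B` of finite presentation, `H` a finitely presented `B`-module flat over `A`: there is a
finite free `B`-module surjecting onto `H` with finitely presented kernel. -/
theorem exists_good_presentation (A B : Type u) [CommRing A] [CommRing B] [Algebra A B]
    [Algebra.FinitePresentation A B]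
    (H : Type u) [AddCommGroup H] [Module B H] [Module A H]
    [IsScalarTower A B H] [Module.FinitePresentation B H]
    [Module.Flat A H] :
    ∃ (F : Type u) (_ : AddCommGroup F) (_ : Module B F) (_ : Module.Free B F)
      (_ : Module.Finite B F) (π : F →ₗ[B] H), Function.Surjective π ∧
        Module.FinitePresentation B (LinearMap.ker π) := by
  obtain ⟨R₀, _, _, S₀, _, _, _, _, _, _, M₀, _, _, _, _, _, _, f, hR₀, hS₀, hM₀, hflat, hpo, hbc⟩ :=
    Groth.Agent.S9456.result A B H
  haveI : IsNoetherianRing R₀ := Algebra.FiniteType.isNoetherianRing ℤ R₀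
  haveI : IsNoetherianRing S₀ := Algebra.FiniteType.isNoetherianRing R₀ S₀
  obtain ⟨n, π₀, hπ₀⟩ := Module.Finite.exists_fin' S₀ M₀
  let g : LinearMap.ker π₀ →ₗ[S₀] (Fin n → S₀) := (LinearMap.ker π₀).subtype
  have hinj : Function.Injective (g.baseChange B) :=
    baseChange_injective_of_flat (R₀ := R₀) (S₀ := S₀) (B := B) A g π₀
      (Submodule.injective_subtype _) hπ₀ (LinearMap.exact_subtype_ker_map π₀)
  have hex : Function.Exact (g.baseChange B) (π₀.baseChange B) :=
    lTensor_exact B (LinearMap.exact_subtype_ker_map π₀) hπ₀
  let π : B ⊗[S₀] (Fin n → S₀) →ₗ[B] H := hbc.equiv.toLinearMap ∘ₗ π₀.baseChange B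
  have hπ : Function.Surjective π :=
    hbc.equiv.surjective.comp (LinearMap.lTensor_surjective B hπ₀)
  have hker : LinearMap.ker π = LinearMap.range (g.baseChange B) := by
    rw [LinearEquiv.ker_comp, LinearMap.exact_iff.mp hex]
  haveI : Module.FinitePresentation S₀ (LinearMap.ker π₀) :=
    Module.finitePresentation_of_finite S₀ _
  have e : B ⊗[S₀] (LinearMap.ker π₀) ≃ₗ[B] LinearMap.ker π :=
    (LinearEquiv.ofInjective (g.baseChange B) hinj).trans
      (LinearEquiv.ofEq (LinearMap.range (g.baseChange B)) (LinearMap.ker π) hker.symm)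
  have hfp : Module.FinitePresentation B (LinearMap.ker π) :=
    @Module.FinitePresentation.of_equiv B (B ⊗[S₀] (LinearMap.ker π₀)) (LinearMap.ker π)
      _ _ _ _ _ e _
  exact ⟨B ⊗[S₀] (Fin n → S₀), inferInstance, inferInstance, inferInstance, inferInstance, π, hπ,
    hfp⟩

/-- Let `A → B` be of finite presentation, `G`, `H` finitely presented `B`-modules with `H` flat
over `A`, and `p : G → H` a surjection. Then `ker p` is a finitely presented `B`-module. -/
theorem fp_ker_of_flat (A B : Type u) [CommRing A] [CommRing B] [Algebra A B]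
    [Algebra.FinitePresentation A B]
    (G H : Type u) [AddCommGroup G] [Module B G] [AddCommGroup H] [Module B H] [Module A H]
    [IsScalarTower A B H] [Module.FinitePresentation B G] [Module.FinitePresentation B H]
    [Module.Flat A H] (p : G →ₗ[B] H) (hp : Function.Surjective p) :
    Module.FinitePresentation B (LinearMap.ker p) := by
  obtain ⟨F, _, _, _, _, π, hπ, hfp⟩ := exists_good_presentation A B H
  exact fp_ker_of_presentation π hπ p hp

/-- Ring-hom form of `fp_ker_of_flat`. -/
theorem fp_ker_of_flat_ringHom {A B : Type u} [CommRing A] [CommRing B] (φ : A →+* B)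
    (hφ : φ.FinitePresentation)
    (G H : Type u) [AddCommGroup G] [Module B G] [AddCommGroup H] [Module B H]
    [Module.FinitePresentation B G] [Module.FinitePresentation B H]
    (hfl : @Module.Flat A H _ _ (Module.compHom H φ)) (p : G →ₗ[B] H)
    (hp : Function.Surjective p) :
    Module.FinitePresentation B (LinearMap.ker p) := by
  letI := φ.toAlgebra
  letI : Module A H := Module.compHom H φ
  haveI : IsScalarTower A B H := IsScalarTower.of_algebraMap_smul (fun _ _ => rfl)
  haveI : Algebra.FinitePresentation A B := hφ
  exact fp_ker_of_flat A B G H p hp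

end Groth.Agent.Helper21.KerFP
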