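import Mathlib
import Groth.Prelude.Def_FlatMod2
import Groth.Prelude.Def_CohB1
import Groth.Prelude.Def_Coh
import Groth.Agent.Lib.Helper13.FinPresAffine
import Groth.Agent.Lib.Helper13.QCohKer
import Groth.Agent.Lib.Helper15.RelFP6
import Groth.Agent.Lib.Helper13.FlatOverAffine
import Groth.Agent.Lib.Helper21.KerFP2

/-!
# Kernel of an epimorphism onto a flat finitely presented module (scheme form)
-/

set_option autoImplicit false
universe u
open CategoryTheory CategoryTheory.Limits AlgebraicGeometry Opposite TopologicalSpace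

namespace Groth.Agent.Helper21.KerFP

open Groth.Agent.Helper15.RelFP

theorem isFP_kernel {X Y : Scheme.{u}} (f : X ⟶ Y) [LocallyOfFinitePresentation f]
    (G H : X.Modules) [G.IsQuasicoherent] [H.IsQuasicoherent]
    (hG : SheafOfModules.IsFinitePresentation (R := X.ringCatSheaf) G)
    (hH : SheafOfModules.IsFinitePresentation (R := X.ringCatSheaf) H)
    (hflat : FlatMod.IsFlatOver f H) (p : G ⟶ H) [Epi p] :
    SheafOfModules.IsFinitePresentation (R := X.ringCatSheaf) (kernel p) := by
  have hK : (kernel p).IsQuasicoherent := Groth.Agent.Helper13.QCohLocal.isQuasicoherent_kernel p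
  refine @Groth.Agent.Helper13.LocFree.isFinitePresentation_of_finitePresentation_sections X
    (kernel p) hK ?_
  intro x
  obtain ⟨V, hV, hxV, -⟩ := Opens.isBasis_iff_nbhd.mp Y.isBasis_affineOpens
    (show f x ∈ (⊤ : Y.Opens) from trivial)
  obtain ⟨U, hU, hxU, hUV⟩ := Opens.isBasis_iff_nbhd.mp X.isBasis_affineOpens
    (show x ∈ f ⁻¹ᵁ V from hxV)
  refine ⟨U, hU, hxU, ?_⟩
  have hφ : (f.appLE V U hUV).hom.FinitePresentation :=
    HasRingHomProperty.appLE (P := @LocallyOfFinitePresentation) f inferInstance ⟨V, hV⟩ ⟨U, hU⟩ hUV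
  haveI := Groth.Agent.Helper13.LocFree.finitePresentation_sections_of_isFinitePresentation G hU
  haveI := Groth.Agent.Helper13.LocFree.finitePresentation_sections_of_isFinitePresentation H hU
  have hfl := Groth.Agent.Helper13.FlatOver.flat_sections_of_isFlatOverAt f H hU hV hUV
    (fun x _ => hflat x)
  have hp : Function.Surjective (appLin p U) := app_surjective_of_epi p hU
  have key := fp_ker_of_flat_ringHom (f.appLE V U hUV).hom hφ Γ(G, U) Γ(H, U) hfl (appLin p U) hp
  -- identification of the sections of the kernel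
  let E : ShortComplex X.Modules := ShortComplex.mk (kernel.ι p) p (kernel.condition p)
  have hE : E.ShortExact :=
    ShortComplex.ShortExact.mk' (ShortComplex.exact_of_f_is_kernel _ (kernelIsKernel p))
      (inferInstanceAs (Mono (kernel.ι p))) (inferInstanceAs (Epi p))
  have hinj := appLin_injective E hE U
  have hex := appLin_exact E hE U
  have e : Γ(kernel p, U) ≃ₗ[Γ(X, U)] LinearMap.ker (appLin p U) :=
    (LinearEquiv.ofInjective (appLin E.f U) hinj).trans
      (LinearEquiv.ofEq (LinearMap.range (appLin E.f U)) (LinearMap.ker (appLin p U))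
        (LinearMap.exact_iff.mp hex).symm)
  exact @Module.FinitePresentation.of_equiv Γ(X, U) (LinearMap.ker (appLin p U)) Γ(kernel p, U)
    _ _ _ _ _ e.symm key

end Groth.Agent.Helper21.KerFP
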