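import Mathlib

/-! Kummer extensions over the fraction field of a Dedekind domain (S14178): helper lemmas. -/

namespace Groth.Agent.Helper21.KD
open Polynomial IntermediateField
open scoped nonZeroDivisors

/-- In an integrally closed domain, a fractional ideal with `J ^ m = 1`, `m > 0`, is trivial. -/
theorem fracIdeal_eq_one_of_pow_eq_one {A K : Type*} [CommRing A] [IsDomain A]
    [IsIntegrallyClosed A] [Field K] [Algebra A K] [IsFractionRing A K]
    (J : FractionalIdeal A⁰ K) (m : ℕ) (hm : 0 < m) (h : J ^ m = 1) : J = 1 := by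
  have hpow : ∀ (J' : FractionalIdeal A⁰ K) (x : K), x ∈ J' → ∀ k : ℕ, x ^ k ∈ J' ^ k := by
    intro J' x hx k
    induction k with
    | zero => rw [pow_zero, pow_zero]; exact FractionalIdeal.one_mem_one _
    | succ k ih => rw [pow_succ, pow_succ]; exact FractionalIdeal.mul_mem_mul ih hx
  have key : ∀ J' : FractionalIdeal A⁰ K, J' ^ m = 1 → J' ≤ 1 := by
    intro J' h' x hx
    have h1 := hpow J' x hx m
    rw [h', FractionalIdeal.mem_one_iff] at h1
    obtain ⟨a, ha⟩ := h1
    have h2 : IsIntegral A (x ^ m) := ha ▸ isIntegral_algebraMap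
    obtain ⟨y, hy⟩ := IsIntegrallyClosed.exists_algebraMap_eq_of_isIntegral_pow hm h2
    exact (FractionalIdeal.mem_one_iff A⁰).mpr ⟨y, hy⟩
  apply le_antisymm (key J h)
  have h3 : (J ^ (m - 1)) ^ m = 1 := by rw [← pow_mul, mul_comm, pow_mul, h, one_pow]
  have h4 : J ^ (m - 1) ≤ 1 := key _ h3
  calc (1 : FractionalIdeal A⁰ K) = J * J ^ (m - 1) := by
        rw [← pow_succ', Nat.sub_add_cancel hm, h]
    _ ≤ J * 1 := mul_le_mul_right h4 J
    _ = J := mul_one J

/-- If `α ^ n = f ∈ K` and `K` contains a primitive `n`-th root of unity, then `α ^ d ∈ K`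
for `d` the degree of the minimal polynomial of `α`. -/
theorem exists_algebraMap_eq_pow_natDegree_minpoly {K L : Type*} [Field K] [Field L] [Algebra K L]
    (n : ℕ) (hn : 0 < n) (ζ : K) (hζ : IsPrimitiveRoot ζ n) (f : K) (hf : f ≠ 0) (α : L)
    (hα : α ^ n = algebraMap K L f) :
    ∃ c : K, algebraMap K L c = α ^ (minpoly K α).natDegree := by
  classical
  have : NeZero n := ⟨hn.ne'⟩
  have hroot : Polynomial.aeval α (X ^ n - C f : K[X]) = 0 := by simp [hα]
  have hαint : IsIntegral K α := ⟨X ^ n - C f, monic_X_pow_sub_C f hn.ne', hroot⟩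
  have hα0 : α ≠ 0 := by
    rintro rfl
    rw [zero_pow hn.ne'] at hα
    exact hf ((map_eq_zero (algebraMap K L)).mp hα.symm)
  have hf' : algebraMap K L f ≠ 0 := (map_ne_zero (algebraMap K L)).mpr hf
  have hPm : (minpoly K α).Monic := minpoly.monic hαint
  have hdvd : minpoly K α ∣ X ^ n - C f := minpoly.dvd K α hroot
  have hζL' : IsPrimitiveRoot (algebraMap K L ζ) n :=
    hζ.map_of_injective (algebraMap K L).injective
  have hmapeq : (X ^ n - C f : K[X]).map (algebraMap K L) = X ^ n - C (algebraMap K L f) := by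
    rw [Polynomial.map_sub, Polynomial.map_pow, Polynomial.map_X, Polynomial.map_C]
  have hsplit0 : ((X ^ n - C f : K[X]).map (algebraMap K L)).Splits := by
    rw [hmapeq]
    exact X_pow_sub_C_splits_of_isPrimitiveRoot hζL' hα
  have hne0 : (X ^ n - C f : K[X]).map (algebraMap K L) ≠ 0 := by
    rw [hmapeq]
    exact X_pow_sub_C_ne_zero hn _
  have hsplit : ((minpoly K α).map (algebraMap K L)).Splits :=
    hsplit0.of_dvd hne0 (Polynomial.map_dvd _ hdvd)
  have hPLm : ((minpoly K α).map (algebraMap K L)).Monic := hPm.map _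
  have hcoeff := hsplit.coeff_zero_eq_prod_roots_of_monic hPLm
  rw [Polynomial.coeff_map, hPm.natDegree_map] at hcoeff
  have hcard : ((minpoly K α).map (algebraMap K L)).roots.card = (minpoly K α).natDegree := by
    rw [← hsplit.natDegree_eq_card_roots, hPm.natDegree_map]
  have hmem : ∀ r ∈ ((minpoly K α).map (algebraMap K L)).roots,
      r / α ∈ (algebraMap K L).range := by
    intro r hr
    have hr0 : ((minpoly K α).map (algebraMap K L)).IsRoot r :=
      (Polynomial.mem_roots hPLm.ne_zero).mp hr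
    have hr1 : r ^ n = algebraMap K L f := by
      have h2 : ((X ^ n - C f : K[X]).map (algebraMap K L)).IsRoot r :=
        hr0.dvd (Polynomial.map_dvd _ hdvd)
      rw [hmapeq] at h2
      simpa [sub_eq_zero] using h2
    have h1 : (r / α) ^ n = 1 := by rw [div_pow, hr1, hα, div_self hf']
    obtain ⟨i, _, hi⟩ := hζL'.eq_pow_of_pow_eq_one h1
    rw [← hi, ← map_pow]
    exact ⟨ζ ^ i, rfl⟩
  have hprod : ((minpoly K α).map (algebraMap K L)).roots.prod
      = (((minpoly K α).map (algebraMap K L)).roots.map (fun r => r / α)).prod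
        * α ^ (minpoly K α).natDegree := by
    rw [← hcard, ← Multiset.prod_replicate, ← Multiset.map_const', ← Multiset.prod_map_mul]
    congr 1
    rw [Multiset.map_congr rfl (fun r _ => div_mul_cancel₀ r hα0), Multiset.map_id']
  have hmem2 : (((minpoly K α).map (algebraMap K L)).roots.map (fun r => r / α)).prod
      ∈ (algebraMap K L).range := by
    apply Subring.multiset_prod_mem
    intro x hx
    obtain ⟨r, hr, rfl⟩ := Multiset.mem_map.mp hx
    exact hmem r hr
  obtain ⟨u, hu⟩ := hmem2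
  have hc0 : (minpoly K α).coeff 0 ≠ 0 := minpoly.coeff_zero_ne_zero hαint hα0
  have hu0 : algebraMap K L u ≠ 0 := by
    intro h0
    rw [hprod, ← hu, h0, zero_mul, mul_zero] at hcoeff
    exact hc0 ((map_eq_zero (algebraMap K L)).mp hcoeff)
  refine ⟨(-1) ^ (minpoly K α).natDegree * (minpoly K α).coeff 0 / u, ?_⟩
  rw [map_div₀, map_mul, map_pow, map_neg, map_one, hcoeff, hprod, ← hu, ← mul_assoc,
    ← mul_pow, neg_mul_neg, one_mul, one_pow, one_mul]
  exact mul_div_cancel_left₀ _ hu0

universe u v w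

theorem kummer_main {A : Type u} {K : Type v} {L : Type w} [CommRing A] [IsDedekindDomain A]
    [Field K] [Algebra A K] [IsFractionRing A K]
    [Field L] [Algebra K L]
    (n : ℕ) (hn : IsUnit (n : A)) (ζ : K) (hζ : IsPrimitiveRoot ζ n) (f : K) (hf : f ≠ 0)
    (I : (FractionalIdeal A⁰ K)ˣ)
    (hI : FractionalIdeal.spanSingleton A⁰ f = (I : FractionalIdeal A⁰ K) ^ n)
    (hord : orderOf (ClassGroup.mk K I) = n)
    (α : L) (hα : α ^ n = algebraMap K L f) (hgen : IntermediateField.adjoin K {α} = ⊤) :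
    IsGalois K L ∧ IsCyclic (L ≃ₐ[K] L) ∧ Module.finrank K L = n := by
  classical
  have hn0 : n ≠ 0 := by
    rintro rfl
    simp at hn
  have hnpos : 0 < n := Nat.pos_of_ne_zero hn0
  have hroot : Polynomial.aeval α (X ^ n - C f : K[X]) = 0 := by simp [hα]
  have hαint : IsIntegral K α := ⟨X ^ n - C f, monic_X_pow_sub_C f hn0, hroot⟩
  have hα0 : α ≠ 0 := by
    rintro rfl
    rw [zero_pow hn0] at hα
    exact hf ((map_eq_zero (algebraMap K L)).mp hα.symm)
  have hfd : FiniteDimensional K L := by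
    have h1 : FiniteDimensional K (IntermediateField.adjoin K {α}) :=
      IntermediateField.adjoin.finiteDimensional hαint
    rw [hgen] at h1
    exact (IntermediateField.topEquiv : (⊤ : IntermediateField K L) ≃ₐ[K] L).toLinearEquiv.finiteDimensional
  have hfinrank : Module.finrank K L = (minpoly K α).natDegree := by
    rw [← IntermediateField.adjoin.finrank hαint, hgen, IntermediateField.finrank_top']
  obtain ⟨c, hc⟩ := exists_algebraMap_eq_pow_natDegree_minpoly n hnpos ζ hζ f hf α hα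
  have hd_pos : 0 < (minpoly K α).natDegree := minpoly.natDegree_pos hαint
  have hdvd : minpoly K α ∣ X ^ n - C f := minpoly.dvd K α hroot
  have hd_le : (minpoly K α).natDegree ≤ n := by
    have := natDegree_le_of_dvd hdvd (X_pow_sub_C_ne_zero hnpos f)
    rwa [natDegree_X_pow_sub_C] at this
  obtain ⟨d, hd⟩ : ∃ d, d = (minpoly K α).natDegree := ⟨_, rfl⟩
  rw [← hd] at hfinrank hc hd_pos hd_le
  have hc0 : c ≠ 0 := by
    rintro rfl
    rw [map_zero] at hc
    exact pow_ne_zero _ hα0 hc.symm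
  obtain ⟨e, he⟩ : ∃ e, e = Nat.gcd d n := ⟨_, rfl⟩
  have hed : e ∣ d := he ▸ Nat.gcd_dvd_left d n
  have hen : e ∣ n := he ▸ Nat.gcd_dvd_right d n
  obtain ⟨g', hg'⟩ : ∃ g' : K, algebraMap K L g' = α ^ e := by
    refine ⟨c ^ (Nat.gcdA d n) * f ^ (Nat.gcdB d n), ?_⟩
    have h1 : algebraMap K L (c ^ (Nat.gcdA d n) * f ^ (Nat.gcdB d n))
        = α ^ ((d : ℤ) * Nat.gcdA d n + (n : ℤ) * Nat.gcdB d n) := by
      rw [zpow_add₀ hα0, zpow_mul, zpow_mul, zpow_natCast, zpow_natCast, ← hc, hα,
        ← map_zpow₀, ← map_zpow₀, ← map_mul]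
    rw [h1, ← Nat.gcd_eq_gcd_ab, zpow_natCast, he]
  have hg0 : g' ≠ 0 := by
    rintro rfl
    rw [map_zero] at hg'
    exact pow_ne_zero _ hα0 hg'.symm
  obtain ⟨m, hnem⟩ := hen
  have hmpos : 0 < m := by
    apply Nat.pos_of_ne_zero
    rintro rfl
    rw [mul_zero] at hnem
    exact hn0 hnem
  have hgm : g' ^ m = f := by
    apply (algebraMap K L).injective
    rw [map_pow, hg', ← pow_mul, ← hnem, hα]
  have hJ : ((I : FractionalIdeal A⁰ K) ^ e * FractionalIdeal.spanSingleton A⁰ g'⁻¹) ^ m = 1 := by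
    rw [mul_pow, ← pow_mul, ← hnem, ← hI, FractionalIdeal.spanSingleton_pow,
      FractionalIdeal.spanSingleton_mul_spanSingleton, inv_pow, hgm, mul_inv_cancel₀ hf,
      FractionalIdeal.spanSingleton_one]
  have hJ1 := fracIdeal_eq_one_of_pow_eq_one _ m hmpos hJ
  have hIe : (I : FractionalIdeal A⁰ K) ^ e = FractionalIdeal.spanSingleton A⁰ g' := by
    have h5 : FractionalIdeal.spanSingleton A⁰ g'⁻¹ * FractionalIdeal.spanSingleton A⁰ g' = 1 := by
      rw [FractionalIdeal.spanSingleton_mul_spanSingleton, inv_mul_cancel₀ hg0,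
        FractionalIdeal.spanSingleton_one]
    calc (I : FractionalIdeal A⁰ K) ^ e
        = (I : FractionalIdeal A⁰ K) ^ e * (FractionalIdeal.spanSingleton A⁰ g'⁻¹
            * FractionalIdeal.spanSingleton A⁰ g') := by rw [h5, mul_one]
      _ = ((I : FractionalIdeal A⁰ K) ^ e * FractionalIdeal.spanSingleton A⁰ g'⁻¹)
            * FractionalIdeal.spanSingleton A⁰ g' := by rw [mul_assoc]
      _ = FractionalIdeal.spanSingleton A⁰ g' := by rw [hJ1, one_mul]
  have hcl : (ClassGroup.mk K I) ^ e = 1 := by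
    rw [← map_pow, ClassGroup.mk_eq_one_iff]
    refine ⟨⟨g', ?_⟩⟩
    rw [Units.val_pow_eq_pow_val, hIe, FractionalIdeal.coe_spanSingleton]
  have hne : n ∣ e := hord ▸ orderOf_dvd_of_pow_eq_one hcl
  have hdn : d = n := Nat.le_antisymm hd_le (Nat.le_of_dvd hd_pos (dvd_trans hne hed))
  have hfin : Module.finrank K L = n := by rw [hfinrank]; exact hdn
  subst hfin
  have hK : (primitiveRoots (Module.finrank K L) K).Nonempty :=
    ⟨ζ, (mem_primitiveRoots hnpos).mpr hζ⟩
  have H := irreducible_X_pow_sub_C_of_root_adjoin_eq_top hα hgen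
  have hsf := isSplittingField_X_pow_sub_C_of_root_adjoin_eq_top hK hα hgen
  have : NeZero (Module.finrank K L) := ⟨hn0⟩
  exact ⟨isGalois_of_isSplittingField_X_pow_sub_C hK H L,
    isCyclic_of_isSplittingField_X_pow_sub_C hK H L, rfl⟩

end Groth.Agent.Helper21.KD
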