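import Mathlib

/-! Integral closure of a Dedekind domain in a Kummer extension `K(ⁿ√f)` with `(f) = Iⁿ`
is finite étale (S14177). -/

namespace Groth.Agent.Helper21.KE
open Polynomial IntermediateField
open scoped nonZeroDivisors

attribute [local instance] FractionRing.liftAlgebra FractionRing.isScalarTower_liftAlgebra

theorem exists_scalar {A K : Type*} [CommRing A] [IsDedekindDomain A] [Field K] [Algebra A K]
    [IsFractionRing A K]
    (n : ℕ) (hn0 : n ≠ 0) (f : K) (hf : f ≠ 0) (I : FractionalIdeal A⁰ K)
    (hI : FractionalIdeal.spanSingleton A⁰ f = I ^ n) (p : Ideal A) [hp : p.IsPrime] :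
    ∃ (c : K) (a : A), c ≠ 0 ∧ algebraMap A K a = c ^ n * f ∧ a ∉ p := by
  have hI0 : I ≠ 0 := by
    rintro rfl
    rw [zero_pow hn0] at hI
    exact hf (FractionalIdeal.spanSingleton_eq_zero_iff.mp hI)
  have hIJ : I * I⁻¹ = 1 := mul_inv_cancel₀ hI0
  have hne : (p : FractionalIdeal A⁰ K) * I⁻¹ ≠ I⁻¹ := by
    intro h
    have h1 : (p : FractionalIdeal A⁰ K) = 1 := by
      calc (p : FractionalIdeal A⁰ K) = (p : FractionalIdeal A⁰ K) * (I⁻¹ * I) := by
            rw [inv_mul_cancel₀ hI0, mul_one]
        _ = ((p : FractionalIdeal A⁰ K) * I⁻¹) * I := by rw [mul_assoc]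
        _ = 1 := by rw [h, inv_mul_cancel₀ hI0]
    have h2 : p = 1 := FractionalIdeal.coeIdeal_eq_one.mp h1
    exact hp.ne_top (by rwa [Ideal.one_eq_top] at h2)
  have hle : (p : FractionalIdeal A⁰ K) * I⁻¹ ≤ I⁻¹ := by
    calc (p : FractionalIdeal A⁰ K) * I⁻¹ ≤ 1 * I⁻¹ :=
          mul_le_mul_left FractionalIdeal.coeIdeal_le_one _
      _ = I⁻¹ := one_mul _
  obtain ⟨c, hcJ, hcp⟩ : ∃ c ∈ I⁻¹, c ∉ (p : FractionalIdeal A⁰ K) * I⁻¹ := by
    by_contra hcon
    push Not at hcon
    exact hne (le_antisymm hle (fun x hx => hcon x hx))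
  have hc0 : c ≠ 0 := by
    rintro rfl
    exact hcp (FractionalIdeal.zero_mem _)
  have h𝔞 : FractionalIdeal.spanSingleton A⁰ c * I ≤ 1 := by
    calc FractionalIdeal.spanSingleton A⁰ c * I ≤ I⁻¹ * I :=
          mul_le_mul_left (FractionalIdeal.spanSingleton_le_iff_mem.mpr hcJ) _
      _ = 1 := inv_mul_cancel₀ hI0
  obtain ⟨𝔞₀, h𝔞₀⟩ := FractionalIdeal.le_one_iff_exists_coeIdeal.mp h𝔞
  have hpow : FractionalIdeal.spanSingleton A⁰ (c ^ n * f) =
      ((𝔞₀ ^ n : Ideal A) : FractionalIdeal A⁰ K) := by
    rw [FractionalIdeal.coeIdeal_pow, h𝔞₀, mul_pow, FractionalIdeal.spanSingleton_pow, ← hI,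
      FractionalIdeal.spanSingleton_mul_spanSingleton]
  have hmem : c ^ n * f ∈ ((𝔞₀ ^ n : Ideal A) : FractionalIdeal A⁰ K) := by
    rw [← hpow]; exact FractionalIdeal.mem_spanSingleton_self _ _
  obtain ⟨a, ha, hac⟩ := (FractionalIdeal.mem_coeIdeal _).mp hmem
  refine ⟨c, a, hc0, hac, ?_⟩
  intro hap
  have h3 : (𝔞₀ ^ n : Ideal A) = Ideal.span {a} := by
    apply FractionalIdeal.coeIdeal_injective (K := K)
    show ((𝔞₀ ^ n : Ideal A) : FractionalIdeal A⁰ K)
      = ((Ideal.span {a} : Ideal A) : FractionalIdeal A⁰ K)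
    rw [FractionalIdeal.coeIdeal_span_singleton, hac, hpow]
  have h4 : 𝔞₀ ^ n ≤ p := by
    rw [h3, Ideal.span_singleton_le_iff_mem]; exact hap
  have h5 : 𝔞₀ ≤ p := Ideal.IsPrime.le_of_pow_le h4
  apply hcp
  have h6 : FractionalIdeal.spanSingleton A⁰ c
      = (FractionalIdeal.spanSingleton A⁰ c * I) * I⁻¹ := by
    rw [mul_assoc, hIJ, mul_one]
  have h7 : FractionalIdeal.spanSingleton A⁰ c ≤ (p : FractionalIdeal A⁰ K) * I⁻¹ := by
    rw [h6, ← h𝔞₀]
    exact mul_le_mul_left ((FractionalIdeal.coeIdeal_le_coeIdeal K).mpr h5) _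
  exact FractionalIdeal.spanSingleton_le_iff_mem.mp h7

universe u v w

theorem etale_main {A : Type u} {K : Type v} {L : Type w} [CommRing A] [IsDedekindDomain A]
    [Field K] [Algebra A K] [IsFractionRing A K]
    [Field L] [Algebra K L] [Algebra A L] [IsScalarTower A K L]
    (n : ℕ) (hn : IsUnit (n : A)) (f : K) (hf : f ≠ 0)
    (I : FractionalIdeal A⁰ K) (hI : FractionalIdeal.spanSingleton A⁰ f = I ^ n)
    (α : L) (hα : α ^ n = algebraMap K L f) (hgen : IntermediateField.adjoin K {α} = ⊤) :
    Algebra.Etale A (integralClosure A L) ∧ Module.Finite A (integralClosure A L) := by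
  classical
  have hn0 : n ≠ 0 := by
    rintro rfl
    simp at hn
  have hnK : (n : K) ≠ 0 := by
    have := hn.map (algebraMap A K)
    rw [map_natCast] at this
    exact this.ne_zero
  have hroot : Polynomial.aeval α (X ^ n - C f : K[X]) = 0 := by simp [hα]
  have hαint : IsIntegral K α := ⟨X ^ n - C f, monic_X_pow_sub_C f hn0, hroot⟩
  have hfd : FiniteDimensional K L := by
    have h1 : FiniteDimensional K (IntermediateField.adjoin K {α}) :=
      IntermediateField.adjoin.finiteDimensional hαint
    rw [hgen] at h1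
    exact (IntermediateField.topEquiv : (⊤ : IntermediateField K L) ≃ₐ[K] L).toLinearEquiv.finiteDimensional
  have hsepα : IsSeparable K α :=
    (Polynomial.separable_X_pow_sub_C f hnK hf).of_dvd (minpoly.dvd K α hroot)
  have hsep : Algebra.IsSeparable K L := by
    have h1 : Algebra.IsSeparable K (IntermediateField.adjoin K {α}) :=
      (IntermediateField.isSeparable_adjoin_simple_iff_isSeparable K L).mpr hsepα
    rw [hgen] at h1
    exact (IntermediateField.isSeparable_top K L).mp h1
  have hTF_L : Module.IsTorsionFree A L := by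
    rw [Module.isTorsionFree_iff_algebraMap_injective, IsScalarTower.algebraMap_eq A K L]
    exact (algebraMap K L).injective.comp (IsFractionRing.injective A K)
  have hDB : IsDedekindDomain (integralClosure A L) := integralClosure.isDedekindDomain A K L
  have hFB : IsFractionRing (integralClosure A L) L :=
    IsIntegralClosure.isFractionRing_of_finite_extension A K L (integralClosure A L)
  have hfin : Module.Finite A (integralClosure A L) :=
    IsIntegralClosure.finite A K L (integralClosure A L)
  have hTF : Module.IsTorsionFree A (integralClosure A L) := inferInstance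
  have hflat : Module.Flat A (integralClosure A L) := inferInstance
  have hfp : Algebra.FinitePresentation A (integralClosure A L) :=
    Algebra.FinitePresentation.of_finiteType.mp inferInstance
  have H : RingHom.comp (algebraMap (FractionRing A) (FractionRing (integralClosure A L)))
      ↑(FractionRing.algEquiv A K).symm.toRingEquiv =
        RingHom.comp ↑(FractionRing.algEquiv (integralClosure A L) L).symm.toRingEquiv
          (algebraMap K L) := by
    apply IsLocalization.ringHom_ext A⁰
    ext
    simp only [RingHom.coe_comp, RingHom.coe_coe,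
      AlgEquiv.coe_ringEquiv, Function.comp_apply, AlgEquiv.commutes,
      ← IsScalarTower.algebraMap_apply]
    rw [IsScalarTower.algebraMap_apply A (integralClosure A L) L, AlgEquiv.commutes,
      ← IsScalarTower.algebraMap_apply]
  have hsepFr : Algebra.IsSeparable (FractionRing A) (FractionRing (integralClosure A L)) :=
    Algebra.IsSeparable.of_equiv_equiv _ _ H
  have hunr : Algebra.FormallyUnramified A (integralClosure A L) := by
    rw [Algebra.formallyUnramified_iff_forall]
    intro q
    have hqp : q.asIdeal.IsPrime := q.isPrime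
    rw [← not_dvd_differentIdeal_iff, Ideal.dvd_iff_le]
    intro hle
    obtain ⟨c, a, hc0, hac, hap⟩ := exists_scalar n hn0 f hf I hI (q.asIdeal.under A)
    have hxn : (algebraMap K L c * α) ^ n = algebraMap A L a := by
      rw [mul_pow, hα, ← map_pow, ← map_mul, ← hac, ← IsScalarTower.algebraMap_apply]
    have hxint : IsIntegral A (algebraMap K L c * α) := by
      refine ⟨X ^ n - C a, monic_X_pow_sub_C a hn0, ?_⟩
      simp [hxn]
    obtain ⟨x, hx⟩ : ∃ x : integralClosure A L, (x : L) = algebraMap K L c * α :=
      ⟨⟨_, hxint⟩, rfl⟩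
    have hxgen : Algebra.adjoin K {algebraMap (integralClosure A L) L x} = ⊤ := by
      change Algebra.adjoin K {(x : L)} = ⊤
      rw [hx]
      have h1 : IntermediateField.adjoin K {algebraMap K L c * α} = ⊤ := by
        rw [eq_top_iff, ← hgen, IntermediateField.adjoin_le_iff, Set.singleton_subset_iff]
        have h2 : algebraMap K L c⁻¹ * (algebraMap K L c * α) = α := by
          rw [← mul_assoc, ← map_mul, inv_mul_cancel₀ hc0, map_one, one_mul]
        have h4 : algebraMap K L c⁻¹ * (algebraMap K L c * α)
            ∈ IntermediateField.adjoin K {algebraMap K L c * α} :=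
          mul_mem (IntermediateField.algebraMap_mem _ _)
            (IntermediateField.mem_adjoin_simple_self K _)
        rwa [h2] at h4
      have h3 := IntermediateField.adjoin_simple_toSubalgebra_of_isAlgebraic (F := K)
        (α := algebraMap K L c * α) (Algebra.IsAlgebraic.isAlgebraic _)
      rw [h1] at h3
      exact h3.symm.trans IntermediateField.top_toSubalgebra
    have hmem := aeval_derivative_mem_differentIdeal A K L x hxgen
    have hmemq := hle hmem
    have hxB : x ^ n = algebraMap A (integralClosure A L) a := by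
      apply Subtype.ext
      rw [SubmonoidClass.coe_pow, hx]
      exact hxn
    have haeval : Polynomial.aeval x (X ^ n - C a : A[X]) = 0 := by simp [hxB]
    have hxintB : IsIntegral A x := IsIntegralClosure.isIntegral A L x
    obtain ⟨k, hk⟩ := minpoly.isIntegrallyClosed_dvd hxintB haeval
    have hder : Polynomial.aeval x (derivative (X ^ n - C a : A[X]))
        = Polynomial.aeval x (derivative (minpoly A x)) * Polynomial.aeval x k := by
      rw [hk, derivative_mul, map_add, map_mul, map_mul, minpoly.aeval, zero_mul, add_zero]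
    have hder2 : Polynomial.aeval x (derivative (X ^ n - C a : A[X]))
        = (n : integralClosure A L) * x ^ (n - 1) := by
      simp [derivative_X_pow]
    have h8 : (n : integralClosure A L) * x ^ (n - 1) ∈ q.asIdeal := by
      rw [← hder2, hder]; exact Ideal.mul_mem_right _ _ hmemq
    have hnB : IsUnit (n : integralClosure A L) := by
      have := hn.map (algebraMap A (integralClosure A L)); rwa [map_natCast] at this
    have h9 : x ^ (n - 1) ∈ q.asIdeal := by
      obtain ⟨u, hu⟩ := hnB
      have : (↑u⁻¹ : integralClosure A L) * ((n : integralClosure A L) * x ^ (n - 1))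
          ∈ q.asIdeal := Ideal.mul_mem_left _ _ h8
      rwa [← mul_assoc, ← hu, Units.inv_mul, one_mul] at this
    have h10 : x ∈ q.asIdeal := hqp.mem_of_pow_mem _ h9
    have h11 : algebraMap A (integralClosure A L) a ∈ q.asIdeal := by
      rw [← hxB]; exact Ideal.pow_mem_of_mem _ h10 n (Nat.pos_of_ne_zero hn0)
    exact hap (Ideal.mem_comap.mpr h11)
  exact ⟨Algebra.Etale.of_formallyUnramified_of_flat, hfin⟩

end Groth.Agent.Helper21.KE
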