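import Mathlib
import Groth.Agent.Lib.Helper21.MCPF11
import Groth.Agent.Lib.Helper21.FL1

/-!
# Fibrewise regular elements on flat finitely presented modules (helper21)

* `isSMulRegular_of_fibres`: `B` finitely presented over `A`, `M` a finitely presented `B`-module
  flat over `A`, `a ∈ B` regular on every fibre module; then `a` is regular on `M`.
* `isSMulRegular_of_noEmbedded`: the same when the fibre modules have no embedded associated
  primes and `a` avoids the minimal primes of their supports.
-/

set_option autoImplicit false
set_option linter.style.haveILetI false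
set_option linter.unusedSectionVars false

universe u

open TensorProduct Function Pointwise

namespace Groth.Agent.Helper21.MCPF

set_option maxHeartbeats 6400000 in
set_option synthInstance.maxHeartbeats 400000 in
/-- An element which is regular on every fibre module of a flat finitely presented module is
regular. -/
theorem isSMulRegular_of_fibres (A B M : Type u) [CommRing A] [CommRing B] [Algebra A B]
    [Algebra.FinitePresentation A B] [AddCommGroup M] [Module B M] [Module A M]
    [IsScalarTower A B M] [Module.FinitePresentation B M] [Module.Flat A M] (a : B)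
    (hfib : ∀ (p : Ideal A) [p.IsPrime],
      IsSMulRegular ((B ⊗[A] p.ResidueField) ⊗[B] M) (a ⊗ₜ[A] (1 : p.ResidueField))) :
    IsSMulRegular M a := by
  classical
  have key : ∀ m : M, a • m = 0 → m = 0 := by
    intro m hm
    refine Module.eq_zero_of_localization_maximal (R := B) (M := M)
      (fun (P : Ideal B) _ => LocalizedModule P.primeCompl M)
      (fun (P : Ideal B) _ => LocalizedModule.mkLinearMap P.primeCompl M) m (fun q hq => ?_)
    haveI : q.IsPrime := hq.isPrime
    have h0 : a • (LocalizedModule.mkLinearMap q.primeCompl M m) = 0 := by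
      rw [← map_smul, hm, map_zero]
    by_cases haq : a ∈ q
    · haveI : IsScalarTower A B (Localization.AtPrime q) := IsScalarTower.of_algebraMap_eq' rfl
      haveI tALN : IsScalarTower A (Localization.AtPrime q) (LocalizedModule q.primeCompl M) := IsScalarTower.of_algebraMap_smul fun r n => by
        rw [IsScalarTower.algebraMap_apply A B (Localization.AtPrime q), algebraMap_smul, algebraMap_smul]
      let f : M →ₗ[B] (LocalizedModule q.primeCompl M) := LocalizedModule.mkLinearMap q.primeCompl M
      haveI : Module.Flat A (LocalizedModule q.primeCompl M) := FL.flat_of_isLocalizedModule q.primeCompl f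
      have hF := hfib (Ideal.comap (algebraMap A B) q)
      have hsm : ∀ z : (B ⊗[A] (Ideal.comap (algebraMap A B) q).ResidueField) ⊗[B] M, (a ⊗ₜ[A] (1 : (Ideal.comap (algebraMap A B) q).ResidueField)) • z = a • z := fun z => by
        rw [← algebraMap_smul (B ⊗[A] (Ideal.comap (algebraMap A B) q).ResidueField) a z]
        rfl
      have hF' : IsSMulRegular ((B ⊗[A] (Ideal.comap (algebraMap A B) q).ResidueField) ⊗[B] M) a := by
        intro z₁ z₂ hz
        have hz' : a • z₁ = a • z₂ := hz
        apply hF
        change (a ⊗ₜ[A] (1 : (Ideal.comap (algebraMap A B) q).ResidueField)) • z₁ = (a ⊗ₜ[A] (1 : (Ideal.comap (algebraMap A B) q).ResidueField)) • z₂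
        rw [hsm z₁, hsm z₂]
        exact hz'
      let γ : (B ⊗[A] (Ideal.comap (algebraMap A B) q).ResidueField) ⊗[B] M ≃ₗ[B] M ⊗[A] (Ideal.comap (algebraMap A B) q).ResidueField :=
        (TensorProduct.comm B (B ⊗[A] (Ideal.comap (algebraMap A B) q).ResidueField) M) ≪≫ₗ (AlgebraTensorModule.cancelBaseChange A B B M (Ideal.comap (algebraMap A B) q).ResidueField)
      have hM : IsSMulRegular (M ⊗[A] (Ideal.comap (algebraMap A B) q).ResidueField) a := (γ.isSMulRegular_congr a).mp hF'
      have hN : IsSMulRegular ((LocalizedModule q.primeCompl M) ⊗[A] (Ideal.comap (algebraMap A B) q).ResidueField) (algebraMap B (Localization.AtPrime q) a) :=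
        IsSMulRegular.of_flat_of_isBaseChange (S := (Localization.AtPrime q))
          (f := AlgebraTensorModule.rTensor A (Ideal.comap (algebraMap A B) q).ResidueField f)
          (IsLocalizedModule.isBaseChange q.primeCompl (Localization.AtPrime q) _) hM
      have hreg : ∀ n : (LocalizedModule q.primeCompl M),
          a • n ∈ ((Ideal.comap (algebraMap A B) q).map (algebraMap A (Localization.AtPrime q))) • (⊤ : Submodule (Localization.AtPrime q) (LocalizedModule q.primeCompl M)) →
          n ∈ ((Ideal.comap (algebraMap A B) q).map (algebraMap A (Localization.AtPrime q))) • (⊤ : Submodule (Localization.AtPrime q) (LocalizedModule q.primeCompl M)) := by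
        intro n hn
        apply mem_map_smul_top_of_tmul_one_eq_zero q
        apply hN
        change (algebraMap B (Localization.AtPrime q) a) • (n ⊗ₜ[A] (1 : (Ideal.comap (algebraMap A B) q).ResidueField)) =
          (algebraMap B (Localization.AtPrime q) a) • (0 : (LocalizedModule q.primeCompl M) ⊗[A] (Ideal.comap (algebraMap A B) q).ResidueField)
        rw [smul_zero, TensorProduct.smul_tmul', algebraMap_smul]
        exact tmul_one_eq_zero_of_mem q (a • n) hn
      have hreg₀ : IsSMulRegular (LocalizedModule q.primeCompl M) (algebraMap B (Localization.AtPrime q) a) := (slice_mod q f a haq hreg).1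
      apply hreg₀
      change (algebraMap B (Localization.AtPrime q) a) • (LocalizedModule.mkLinearMap q.primeCompl M m) =
        (algebraMap B (Localization.AtPrime q) a) • (0 : (LocalizedModule q.primeCompl M))
      rw [smul_zero, algebraMap_smul]
      exact h0
    · have hu := IsLocalizedModule.map_units (LocalizedModule.mkLinearMap q.primeCompl M)
        (⟨a, haq⟩ : q.primeCompl)
      have hinj : Function.Injective (algebraMap B (Module.End B (LocalizedModule q.primeCompl M)) a) :=
        ((Module.End.isUnit_iff _).mp hu).1
      apply hinj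
      rw [map_zero]
      exact h0
  intro m₁ m₂ h
  have h' : a • m₁ = a • m₂ := h
  exact sub_eq_zero.mp (key _ (by rw [smul_sub, h', sub_self]))

set_option maxHeartbeats 3200000 in
set_option synthInstance.maxHeartbeats 400000 in
/-- An element avoiding the minimal primes of the supports of the fibre modules, all of whose
associated primes are minimal, is regular. -/
theorem isSMulRegular_of_noEmbedded (A B M : Type u) [CommRing A] [CommRing B] [Algebra A B]
    [Algebra.FinitePresentation A B] [AddCommGroup M] [Module B M] [Module A M]
    [IsScalarTower A B M] [Module.FinitePresentation B M] [Module.Flat A M]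
    (hS1 : ∀ (p : Ideal A) [p.IsPrime],
      associatedPrimes (B ⊗[A] p.ResidueField) ((B ⊗[A] p.ResidueField) ⊗[B] M) ⊆
        (Module.annihilator (B ⊗[A] p.ResidueField)
          ((B ⊗[A] p.ResidueField) ⊗[B] M)).minimalPrimes)
    (a : B)
    (ha : ∀ (p : Ideal A) [p.IsPrime],
      ∀ P ∈ (Module.annihilator (B ⊗[A] p.ResidueField)
          ((B ⊗[A] p.ResidueField) ⊗[B] M)).minimalPrimes,
        a ⊗ₜ[A] (1 : p.ResidueField) ∉ P) :
    IsSMulRegular M a := by
  refine isSMulRegular_of_fibres A B M a (fun p _ => ?_)
  haveI : IsNoetherianRing (B ⊗[A] p.ResidueField) := by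
    haveI : Algebra.FiniteType p.ResidueField (p.ResidueField ⊗[A] B) := inferInstance
    haveI : IsNoetherianRing (p.ResidueField ⊗[A] B) :=
      Algebra.FiniteType.isNoetherianRing p.ResidueField _
    exact isNoetherianRing_of_ringEquiv _
      (Algebra.TensorProduct.comm A p.ResidueField B).toRingEquiv
  by_contra hnr
  have hmem : (a ⊗ₜ[A] (1 : p.ResidueField)) ∈
      ({r | IsSMulRegular ((B ⊗[A] p.ResidueField) ⊗[B] M) r}ᶜ :
        Set (B ⊗[A] p.ResidueField)) := hnr
  rw [← biUnion_associatedPrimes_eq_compl_regular (B ⊗[A] p.ResidueField)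
    ((B ⊗[A] p.ResidueField) ⊗[B] M)] at hmem
  obtain ⟨P, hP, haP⟩ := Set.mem_iUnion₂.mp hmem
  exact ha p P (hS1 p hP) haP

end Groth.Agent.Helper21.MCPF
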