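import Mathlib
import Groth.Agent.Lib.Helper21.ModFlat2
import Groth.Agent.Lib.Helper21.ModFlat3

/-!
# EGA IV 11.3.2 for schemes (helper21)

`isOpen_setOf_forall_generization_flat`: `f : X ⟶ Y` quasi-compact, `f`, `g : Y ⟶ Z` locally of
finite presentation, `F` quasi-coherent of finite presentation on `X`. The set of `y ∈ Y` such that
`F` is `(f ≫ g)`-flat at all points of `X` over generizations of `y` is open.
-/

set_option autoImplicit false
set_option linter.style.haveILetI false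
set_option linter.unusedSectionVars false

open CategoryTheory AlgebraicGeometry Limits Opposite TopologicalSpace TensorProduct

universe u

namespace Groth.Agent.Helper21.ModFlat

open Groth.Agent.Helper13.QCoh Groth.Agent.Helper13.QCohLoc

theorem specializes_iff_primeIdealOf_le {Y : Scheme.{u}} {V : Y.Opens} (hV : IsAffineOpen V)
    (y' y₁ : Y) (hy' : y' ∈ V) (hy₁ : y₁ ∈ V) :
    y' ⤳ y₁ ↔
      (hV.primeIdealOf ⟨y', hy'⟩).asIdeal ≤ (hV.primeIdealOf ⟨y₁, hy₁⟩).asIdeal := by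
  have h1 : (hV.primeIdealOf ⟨y', hy'⟩).asIdeal ≤ (hV.primeIdealOf ⟨y₁, hy₁⟩).asIdeal ↔
      hV.primeIdealOf ⟨y', hy'⟩ ⤳ hV.primeIdealOf ⟨y₁, hy₁⟩ :=
    PrimeSpectrum.le_iff_specializes _ _
  rw [h1]
  change _ ↔ hV.isoSpec.hom ⟨y', hy'⟩ ⤳ hV.isoSpec.hom ⟨y₁, hy₁⟩
  rw [hV.isoSpec.hom.isOpenEmbedding.isInducing.specializes_iff,
    ← V.ι.isOpenEmbedding.isInducing.specializes_iff]
  rfl

section

variable {X Y Z : Scheme.{u}} (f : X ⟶ Y) (g : Y ⟶ Z) [LocallyOfFinitePresentation f]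
  [LocallyOfFinitePresentation g]
  (F : X.Modules) [F.IsQuasicoherent]
  [hF : SheafOfModules.IsFinitePresentation (R := X.ringCatSheaf) F]
  {Z₀ : Z.Opens} (hZ₀ : IsAffineOpen Z₀) {V : Y.Opens} (hV : IsAffineOpen V) (eV : V ≤ g ⁻¹ᵁ Z₀)
  {W : X.Opens} (hW : IsAffineOpen W) (eW : W ≤ f ⁻¹ᵁ V)

include hZ₀ hV eV hW eW in
set_option maxHeartbeats 1600000 in
set_option synthInstance.maxHeartbeats 400000 in
theorem isOpen_setOf_forall_specializes_flat :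
    IsOpen {y₁ : Y | y₁ ∈ V ∧ ∀ x ∈ W, f x ⤳ y₁ → FlatMod.IsFlatOverAt (f ≫ g) F x} := by
  have hfpg : (g.appLE Z₀ V eV).hom.FinitePresentation :=
    HasRingHomProperty.appLE @LocallyOfFinitePresentation g inferInstance ⟨Z₀, hZ₀⟩ ⟨V, hV⟩ eV
  have hfpf : (f.appLE V W eW).hom.FinitePresentation :=
    HasRingHomProperty.appLE @LocallyOfFinitePresentation f inferInstance ⟨V, hV⟩ ⟨W, hW⟩ eW
  have hcomp := Scheme.Hom.appLE_comp_appLE f g Z₀ V W eV eW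
  algebraize [(g.appLE Z₀ V eV).hom, (f.appLE V W eW).hom,
    (f.appLE V W eW).hom.comp (g.appLE Z₀ V eV).hom]
  letI mB : Module Γ(Y, V) Γ(F, W) := Module.compHom Γ(F, W) (f.appLE V W eW).hom
  letI mA : Module Γ(Z, Z₀) Γ(F, W) :=
    Module.compHom Γ(F, W) ((f.appLE V W eW).hom.comp (g.appLE Z₀ V eV).hom)
  haveI : IsScalarTower Γ(Y, V) Γ(X, W) Γ(F, W) :=
    IsScalarTower.of_algebraMap_smul (fun _ _ => rfl)
  haveI : IsScalarTower Γ(Z, Z₀) Γ(X, W) Γ(F, W) :=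
    IsScalarTower.of_algebraMap_smul (fun _ _ => rfl)
  haveI : IsScalarTower Γ(Z, Z₀) Γ(Y, V) Γ(F, W) :=
    IsScalarTower.of_algebraMap_smul (fun _ _ => rfl)
  haveI : Module.FinitePresentation Γ(X, W) Γ(F, W) :=
    Groth.Agent.Helper13.LocFree.finitePresentation_sections_of_isFinitePresentation F hW
  have hopen := isOpen_setOf_flat_localizedModule_base (A := Γ(Z, Z₀)) (B := Γ(Y, V))
    (C := Γ(X, W)) Γ(F, W)
  have eW' : W ≤ (f ≫ g) ⁻¹ᵁ Z₀ := eW.trans ((Opens.map f.base).map (homOfLE eV)).le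
  have halg : algebraMap Γ(Z, Z₀) Γ(X, W) = ((f ≫ g).appLE Z₀ W eW').hom := by
    rw [← hcomp]
    rfl
  have key : ∀ (y₁ : Y) (hy₁ : y₁ ∈ V), hV.primeIdealOf ⟨y₁, hy₁⟩ ∈
      {q : PrimeSpectrum Γ(Y, V) | Module.Flat Γ(Z, Z₀)
        (LocalizedModule q.asIdeal.primeCompl Γ(F, W))} ↔
      ∀ x ∈ W, f x ⤳ y₁ → FlatMod.IsFlatOverAt (f ≫ g) F x := by
    intro y₁ hy₁
    constructor
    · intro hflat x hxW hsp
      haveI : Module.Flat Γ(Z, Z₀)
          (LocalizedModule (hV.primeIdealOf ⟨y₁, hy₁⟩).asIdeal.primeCompl Γ(F, W)) := hflat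
      rw [isFlatOverAt_iff (f ≫ g) F hW hZ₀ eW' halg x hxW]
      apply flat_localizedModule_of_comap_le (A := Γ(Z, Z₀)) (M := Γ(F, W))
        (hV.primeIdealOf ⟨y₁, hy₁⟩).asIdeal
      have h3 := IsAffineOpen.comap_primeIdealOf_appLE (f := f) V hV W hW eW hxW
      have h4 : (hW.primeIdealOf ⟨x, hxW⟩).asIdeal.comap (algebraMap Γ(Y, V) Γ(X, W)) =
          (hV.primeIdealOf ⟨f x, eW hxW⟩).asIdeal := congr($(h3).1)
      rw [h4]
      exact (specializes_iff_primeIdealOf_le hV (f x) y₁ (eW hxW) hy₁).mp hsp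
    · intro h
      apply flat_localizedModule_of_forall (C := Γ(X, W))
      intro Q _ hQle
      have hxmem : hW.fromSpec ⟨Q, inferInstance⟩ ∈ W := by
        have : hW.fromSpec ⟨Q, inferInstance⟩ ∈ hW.fromSpec.opensRange := ⟨_, rfl⟩
        rwa [hW.opensRange_fromSpec] at this
      have hQ : hW.primeIdealOf ⟨hW.fromSpec ⟨Q, inferInstance⟩, hxmem⟩ = ⟨Q, inferInstance⟩ :=
        Groth.Agent.Helper13.FlatOver.primeIdealOf_fromSpec' hW _ _
      have hsp : f (hW.fromSpec ⟨Q, inferInstance⟩) ⤳ y₁ := by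
        rw [specializes_iff_primeIdealOf_le hV _ y₁ (eW hxmem) hy₁]
        have h3 := IsAffineOpen.comap_primeIdealOf_appLE (f := f) V hV W hW eW hxmem
        have h4 : (hW.primeIdealOf ⟨_, hxmem⟩).asIdeal.comap (algebraMap Γ(Y, V) Γ(X, W)) =
            (hV.primeIdealOf ⟨f _, eW hxmem⟩).asIdeal := congr($(h3).1)
        rw [← h4, hQ]
        exact hQle
      have := (isFlatOverAt_iff (f ≫ g) F hW hZ₀ eW' halg _ hxmem).mp (h _ hxmem hsp)
      rw [hQ] at this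
      exact this
  have hset : {y₁ : Y | y₁ ∈ V ∧ ∀ x ∈ W, f x ⤳ y₁ → FlatMod.IsFlatOverAt (f ≫ g) F x} =
      (Scheme.Opens.ι V) '' ((IsAffineOpen.isoSpec hV).hom ⁻¹'
        {q : PrimeSpectrum Γ(Y, V) | Module.Flat Γ(Z, Z₀)
          (LocalizedModule q.asIdeal.primeCompl Γ(F, W))}) := by
    ext y₁
    constructor
    · rintro ⟨hy₁, hP⟩
      exact ⟨⟨y₁, hy₁⟩, (key y₁ hy₁).mpr hP, rfl⟩
    · rintro ⟨y', hy', rfl⟩
      exact ⟨y'.2, (key _ y'.2).mp hy'⟩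
  rw [hset]
  exact (Scheme.Opens.ι V).isOpenEmbedding.isOpenMap _
    (hopen.preimage (IsAffineOpen.isoSpec hV).hom.continuous)

end

/-- **EGA IV 11.3.2.** -/
theorem isOpen_setOf_forall_generization_flat {X Y Z : Scheme.{u}} (f : X ⟶ Y) (g : Y ⟶ Z)
    [LocallyOfFinitePresentation f] [LocallyOfFinitePresentation g] [QuasiCompact f]
    (F : X.Modules) [F.IsQuasicoherent]
    [hF : SheafOfModules.IsFinitePresentation (R := X.ringCatSheaf) F] :
    IsOpen {y : Y | ∀ y' : Y, y' ⤳ y → ∀ x : X, f x = y' →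
      FlatMod.IsFlatOverAt (f ≫ g) F x} := by
  classical
  rw [isOpen_iff_forall_mem_open]
  intro y hy
  obtain ⟨Z₀, hZ₀, hgy, -⟩ := Opens.isBasis_iff_nbhd.mp Z.isBasis_affineOpens
    (Opens.mem_top (g y))
  obtain ⟨V, hV, hyV, eV⟩ := Opens.isBasis_iff_nbhd.mp Y.isBasis_affineOpens
    (show y ∈ g ⁻¹ᵁ Z₀ from hgy)
  have hcpt : IsCompact ((f ⁻¹ᵁ V : X.Opens) : Set X) :=
    QuasiCompact.isCompact_preimage (f := f) _ V.isOpen hV.isCompact
  obtain ⟨s, hsfin, hs⟩ := (isCompact_iff_finite_and_eq_biUnion_affineOpens).mp hcpt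
  have hle : ∀ W ∈ s, (W : X.Opens) ≤ f ⁻¹ᵁ V := fun W hW => by
    rw [hs]
    exact le_iSup₂ (f := fun (i : X.affineOpens) (_ : i ∈ s) => (i : X.Opens)) W hW
  let O : Set Y := ⋂ W ∈ s, {y₁ : Y | y₁ ∈ V ∧ ∀ x ∈ (W : X.Opens), f x ⤳ y₁ →
    FlatMod.IsFlatOverAt (f ≫ g) F x}
  have hO : IsOpen (O ∩ V) :=
    (hsfin.isOpen_biInter fun W hW =>
      isOpen_setOf_forall_specializes_flat f g F hZ₀ hV eV W.2 (hle W hW)).inter V.isOpen
  have hchar : ∀ y₁ ∈ V, (y₁ ∈ O ↔ ∀ y' : Y, y' ⤳ y₁ → ∀ x : X, f x = y' →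
      FlatMod.IsFlatOverAt (f ≫ g) F x) := by
    intro y₁ hy₁
    simp only [O, Set.mem_iInter, Set.mem_ofPred_eq]
    constructor
    · intro h y' hsp x hx
      subst hx
      have hxV : f x ∈ V := hsp.mem_open V.isOpen hy₁
      have hxpre : x ∈ f ⁻¹ᵁ V := hxV
      rw [hs] at hxpre
      simp only [Opens.mem_iSup] at hxpre
      obtain ⟨W, hWs, hxW⟩ := hxpre
      exact (h W hWs).2 x hxW hsp
    · intro h W hWs
      exact ⟨hy₁, fun x _ hsp => h (f x) hsp x rfl⟩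
  refine ⟨O ∩ V, ?_, hO, ?_⟩
  · rintro y₁ ⟨hy₁O, hy₁V⟩
    exact (hchar y₁ hy₁V).mp hy₁O
  · exact ⟨(hchar y hyV).mpr hy, hyV⟩

end Groth.Agent.Helper21.ModFlat
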