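import Mathlib

/-! Enough injectives for `ℕᵒᵖ ⥤ A` (S14023). -/

namespace Groth.Agent.Helper21.NI
open CategoryTheory Limits Opposite

universe v u
variable {A : Type u} [Category.{v} A] [Abelian A]

/-- `P I (op m) = ∏_{k ≤ m} I k`. -/
noncomputable abbrev P (I : ℕ → A) : ℕᵒᵖ ⥤ A where
  obj m := ∏ᶜ (fun k : Fin (m.unop + 1) => I k.val)
  map {m' m} f := Pi.lift (fun k : Fin (m.unop + 1) =>
    Pi.π (fun k' : Fin (m'.unop + 1) => I k'.val)
      (Fin.castLE (Nat.succ_le_succ (leOfHom f.unop)) k))
  map_id m := by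
    apply Pi.hom_ext; intro k
    simp
  map_comp f g := by
    apply Pi.hom_ext; intro k
    simp
    rfl

lemma P_map_π (I : ℕ → A) {m' m : ℕᵒᵖ} (f : m' ⟶ m) (k : Fin (m.unop + 1)) :
    (P I).map f ≫ Pi.π (fun k : Fin (m.unop + 1) => I k.val) k =
      Pi.π (fun k' : Fin (m'.unop + 1) => I k'.val)
        (Fin.castLE (Nat.succ_le_succ (leOfHom f.unop)) k) := by
  simp [P]

theorem P_injective (I : ℕ → A) [∀ n, Injective (I n)] : Injective (P I) where
  factors {G H} g α _ := by
    have hmono : ∀ n, Mono (α.app n) := (NatTrans.mono_iff_mono_app α).mp inferInstance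
    have hex : ∀ n : ℕ, ∃ t : H.obj (op n) ⟶ I n, α.app (op n) ≫ t =
        g.app (op n) ≫ Pi.π (fun k : Fin (n + 1) => I k.val) (Fin.last n) :=
      fun n => Injective.factors _ _
    choose t ht using hex
    have hmapH : ∀ {a b c : ℕ} (h1 : b ≤ a) (h2 : c ≤ b),
        H.map (homOfLE h1).op ≫ H.map (homOfLE h2).op = H.map (homOfLE (h2.trans h1)).op := by
      intro a b c h1 h2
      rw [← H.map_comp]
      rfl
    have hmapG : ∀ {a b c : ℕ} (h1 : b ≤ a) (h2 : c ≤ b),
        G.map (homOfLE h1).op ≫ G.map (homOfLE h2).op = G.map (homOfLE (h2.trans h1)).op := by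
      intro a b c h1 h2
      rw [← G.map_comp]
      rfl
    refine ⟨{ app := fun m => Pi.lift (fun k : Fin (m.unop + 1) =>
                H.map (homOfLE (Nat.le_of_lt_succ k.isLt)).op ≫ t k.val),
              naturality := ?_ }, ?_⟩
    · intro m' m f
      apply Pi.hom_ext; intro k
      rw [Category.assoc, Category.assoc, Pi.lift_π, P_map_π, Pi.lift_π]
      have hf : f = (homOfLE (leOfHom f.unop)).op := Subsingleton.elim _ _
      rw [hf, ← Category.assoc, hmapH]
      rfl
    · ext m k
      rw [NatTrans.comp_app, Category.assoc, Pi.lift_π, ← Category.assoc, ← α.naturality,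
        Category.assoc, ht, ← Category.assoc, g.naturality, Category.assoc, P_map_π]
      rfl

theorem enough_of_enough [EnoughInjectives A] : EnoughInjectives (ℕᵒᵖ ⥤ A) where
  presentation F := by
    let I : ℕ → A := fun n => Injective.under (F.obj (op n))
    have hI : ∀ n, Injective (I n) := fun n => inferInstanceAs (Injective (Injective.under _))
    let ι : F ⟶ P I :=
      { app := fun m => Pi.lift (fun k : Fin (m.unop + 1) =>
          F.map (homOfLE (Nat.le_of_lt_succ k.isLt)).op ≫ Injective.ι (F.obj (op k.val)))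
        naturality := by
          intro m' m f
          apply Pi.hom_ext; intro k
          rw [Category.assoc, Category.assoc, Pi.lift_π, P_map_π, Pi.lift_π]
          have hf : f = (homOfLE (leOfHom f.unop)).op := Subsingleton.elim _ _
          rw [hf, ← Category.assoc, ← F.map_comp]
          rfl }
    have hmono : Mono ι := by
      have : ∀ m, Mono (ι.app m) := by
        intro m
        have hid : ∀ g : m ⟶ m, F.map g = 𝟙 (F.obj m) := fun g => by
          rw [Subsingleton.elim g (𝟙 m), F.map_id]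
        have h1 : ι.app m ≫ Pi.π (fun k : Fin (m.unop + 1) => I k.val) (Fin.last m.unop)
            = Injective.ι (F.obj m) := by
          dsimp only [ι]
          rw [Pi.lift_π]
          exact (congrArg (· ≫ Injective.ι (F.obj m)) (hid _)).trans (Category.id_comp _)
        exact mono_of_mono_fac h1
      exact NatTrans.mono_of_mono_app ι
    exact ⟨⟨P I, P_injective I, ι, hmono⟩⟩

theorem enough_of_functor [EnoughInjectives (ℕᵒᵖ ⥤ A)] : EnoughInjectives A := by
  classical
  have hfb : HasFiniteBiproducts A := Abelian.hasFiniteBiproducts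
  have hp : (evaluationLeftAdjoint A (op (0 : ℕ))).PreservesMonomorphisms := by
    constructor
    intro X Y f hf
    have : ∀ t : ℕᵒᵖ, Mono (((evaluationLeftAdjoint A (op (0 : ℕ))).map f).app t) := by
      intro t
      have h : ((evaluationLeftAdjoint A (op (0 : ℕ))).map f).app t
          = Limits.Sigma.map (fun _ : (op 0 ⟶ t) => f) := by
        rw [evaluationLeftAdjoint_map_app]
        apply Sigma.hom_ext
        intro g
        simp
      rw [h]
      have hm : ∀ j : (op (0 : ℕ) ⟶ t), Mono ((fun _ : (op (0 : ℕ) ⟶ t) => f) j) := fun _ => hf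
      exact @Limits.Sigma.map_mono _ _ _ _ _ _ _ _ (fun _ : (op (0 : ℕ) ⟶ t) => f) hm
    exact NatTrans.mono_of_mono_app _
  have hr : (evaluationLeftAdjoint A (op (0 : ℕ))).ReflectsMonomorphisms := by
    constructor
    intro X Y f hf
    have h0 : Mono (((evaluationLeftAdjoint A (op (0 : ℕ))).map f).app (op 0)) :=
      (NatTrans.mono_iff_mono_app _).mp hf _
    have hcomm : Sigma.ι (fun _ : (op (0 : ℕ) ⟶ op 0) => X) (𝟙 _) ≫
        ((evaluationLeftAdjoint A (op (0 : ℕ))).map f).app (op 0)
        = f ≫ Sigma.ι (fun _ : (op (0 : ℕ) ⟶ op 0) => Y) (𝟙 _) := by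
      rw [evaluationLeftAdjoint_map_app]
      exact Sigma.ι_desc (fun h => f ≫ Sigma.ι (fun _ : (op (0 : ℕ) ⟶ op 0) => Y) h) (𝟙 _)
    have h1 : Mono (Sigma.ι (fun _ : (op (0 : ℕ) ⟶ op 0) => X) (𝟙 _)) := inferInstance
    have : Mono (f ≫ Sigma.ι (fun _ : (op (0 : ℕ) ⟶ op 0) => Y) (𝟙 _)) := by
      rw [← hcomm]; exact @mono_comp _ _ _ _ _ _ h1 _ h0
    exact mono_of_mono f (Sigma.ι (fun _ : (op (0 : ℕ) ⟶ op 0) => Y) (𝟙 _))
  exact EnoughInjectives.of_adjunction (adj := evaluationAdjunctionRight A (op (0 : ℕ)))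

end Groth.Agent.Helper21.NI
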