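import Mathlib
import Groth.Agent.S2735
import Groth.Agent.S9762

/-!
# fppf coverings are refined by (elementary étale) ∘ (finite flat surjective)

`local_refinement`: for `g : Y ⟶ X` flat, locally of finite presentation and `y : Y` there are an
étale `e : U ⟶ X` with a point `pt ↦ g y` with trivial residue field extension, a finite flat
surjective `v : V ⟶ U` and `r : V ⟶ Y` with `r ≫ g = v ≫ e`.
(Quasi-finite flat refinement S2735 + elementary étale splitting S9762.)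
-/

set_option autoImplicit false
set_option backward.isDefEq.respectTransparency false
set_option backward.isDefEq.respectTransparency.types false
universe u
open CategoryTheory CategoryTheory.Limits AlgebraicGeometry

namespace Groth.Agent.Helper21.NisFppf

theorem mem_of_ι {X : Scheme.{u}} (U : X.Opens) (y : (U : Scheme.{u})) : U.ι y ∈ U := by
  have h2 : U.ι y ∈ U.ι.opensRange := ⟨y, rfl⟩
  rwa [Scheme.Opens.opensRange_ι] at h2

theorem exists_of_mem {X : Scheme.{u}} (U : X.Opens) {x : X} (hx : x ∈ U) :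
    ∃ y : (U : Scheme.{u}), U.ι y = x := by
  have h2 : x ∈ U.ι.opensRange := by rwa [Scheme.Opens.opensRange_ι]
  exact h2

theorem surjective_restrict_range {X Y : Scheme.{u}} (g : Y ⟶ X) (O : X.Opens)
    (hO : (O : Set X) = Set.range g.base) : Surjective (g ∣_ O) := by
  refine ⟨fun y => ?_⟩
  have hy : O.ι y ∈ (O : Set X) := mem_of_ι O y
  rw [hO] at hy
  obtain ⟨z, hz⟩ := hy
  have hzU : z ∈ g ⁻¹ᵁ O := by
    change g z ∈ O
    rw [hz]; exact mem_of_ι O y
  obtain ⟨z', hz'⟩ := exists_of_mem _ hzU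
  refine ⟨z', ?_⟩
  apply O.ι.isOpenEmbedding.injective
  have := congrArg (fun k => k z') (morphismRestrict_ι g O)
  simp only [Scheme.Hom.comp_apply] at this
  rw [this, hz', hz]

theorem local_refinement {X Y : Scheme.{u}} (g : Y ⟶ X) [Flat g] [LocallyOfFinitePresentation g]
    (y : Y) :
    ∃ (U V : Scheme.{u}) (e : U ⟶ X) (v : V ⟶ U) (pt : U), Etale e ∧ e pt = g y ∧
      IsIso (e.residueFieldMap pt) ∧ IsFinite v ∧ Flat v ∧ Surjective v ∧
      ∃ r : V ⟶ Y, r ≫ g = v ≫ e := by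
  obtain ⟨O, hO⟩ : ∃ O : X.Opens, (O : Set X) = Set.range g.base :=
    ⟨⟨_, g.isOpenMap.isOpen_range⟩, rfl⟩
  have hxO : g y ∈ O := by
    change g y ∈ (O : Set X)
    rw [hO]; exact ⟨y, rfl⟩
  haveI : Surjective (g ∣_ O) := surjective_restrict_range g O hO
  obtain ⟨S₂, g₂, h, hh, hfl, hfp, hqf, hsurj, -⟩ := Groth.Agent.S2735.result (g ∣_ O)
  haveI := hfl; haveI := hfp; haveI := hqf; haveI := hsurj
  obtain ⟨x', hx'⟩ := exists_of_mem O hxO
  obtain ⟨x₂, hx₂⟩ := g₂.surjective x'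
  obtain ⟨X', hX', hxX'⟩ : ∃ X' : (O : Scheme.{u}).Opens, IsAffineOpen X' ∧ x' ∈ X' := by
    obtain ⟨X', hX', hxX', -⟩ := TopologicalSpace.Opens.isBasis_iff_nbhd.mp
      (O : Scheme.{u}).isBasis_affineOpens (TopologicalSpace.Opens.mem_top x')
    exact ⟨X', hX', hxX'⟩
  obtain ⟨S₂', hS₂', hxS₂', hle⟩ : ∃ S₂' : S₂.Opens, IsAffineOpen S₂' ∧ x₂ ∈ S₂' ∧
      S₂' ≤ g₂ ⁻¹ᵁ X' := by
    obtain ⟨S₂', hS₂', hxS₂', hle⟩ := TopologicalSpace.Opens.isBasis_iff_nbhd.mp
      S₂.isBasis_affineOpens (show x₂ ∈ g₂ ⁻¹ᵁ X' from by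
        change g₂ x₂ ∈ X'
        rw [hx₂]; exact hxX')
    exact ⟨S₂', hS₂', hxS₂', hle⟩
  haveI : IsAffine (S₂' : Scheme.{u}) := hS₂'
  haveI : IsAffine (X' : Scheme.{u}) := hX'
  obtain ⟨f, hf⟩ : ∃ f : (S₂' : Scheme.{u}) ⟶ (X' : Scheme.{u}), f = g₂.resLE X' S₂' hle :=
    ⟨_, rfl⟩
  have hfι : f ≫ X'.ι = S₂'.ι ≫ g₂ := by rw [hf]; exact Scheme.Hom.resLE_comp_ι _ _
  haveI : Flat f := by rw [hf]; infer_instance
  haveI : LocallyOfFinitePresentation f := by rw [hf]; infer_instance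
  haveI : LocallyQuasiFinite f := by rw [hf]; infer_instance
  obtain ⟨s'', hs''⟩ := exists_of_mem X' hxX'
  obtain ⟨z₂, hz₂⟩ := exists_of_mem S₂' hxS₂'
  have hfz : f z₂ = s'' := by
    apply X'.ι.isOpenEmbedding.injective
    have := congrArg (fun k => k z₂) hfι
    simp only [Scheme.Hom.comp_apply] at this
    rw [this, hz₂, hx₂, hs'']
  haveI : Finite (f.fiber s'') := inferInstance
  obtain ⟨U, gU, u, hnb, V, hVclopen, hVfin, hVall⟩ :=
    Groth.Agent.S9762.result f s'' (Set.toFinite _)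
  haveI := hnb.etale
  obtain ⟨w₀, hw1, hw2⟩ := Scheme.Pullback.exists_preimage_pullback (f := f) (g := gU) z₂ u
    (hfz.trans hnb.base_eq.symm)
  have hw₀V : w₀ ∈ V := by
    by_contra hn
    have hmem : w₀ ∈ (pullback.snd f gU) ⁻¹' {u} := hw2
    rw [← Scheme.Hom.range_fiberι] at hmem
    obtain ⟨wt, hwt⟩ := hmem
    refine hVall wt (by rw [hwt]; exact hn) ?_
    haveI : DiscreteTopology ((pullback.snd f gU).fiber u) :=
      (IsArtinianScheme.iff_isNoetherian_and_discreteTopology.mp inferInstance).2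
    exact isOpen_discrete _
  obtain ⟨φ, hφ⟩ : ∃ φ : (V : Scheme.{u}) ⟶ U, φ = V.ι ≫ pullback.snd f gU := ⟨_, rfl⟩
  haveI : IsFinite φ := hφ ▸ hVfin
  haveI : Flat φ := by rw [hφ]; infer_instance
  haveI : LocallyOfFinitePresentation φ := by rw [hφ]; infer_instance
  obtain ⟨U', hU'⟩ : ∃ U' : U.Opens, (U' : Set U) = Set.range φ.base :=
    ⟨⟨Set.range φ.base, φ.isOpenMap.isOpen_range⟩, rfl⟩
  have huU' : u ∈ U' := by
    change u ∈ (U' : Set U)
    rw [hU']
    refine ⟨⟨w₀, hw₀V⟩, ?_⟩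
    rw [hφ, Scheme.Hom.comp_apply]
    exact hw2
  obtain ⟨pt, hpt⟩ := exists_of_mem U' huU'
  haveI : Surjective (φ ∣_ U') := surjective_restrict_range φ U' hU'
  refine ⟨U', (φ ⁻¹ᵁ U' : Scheme.{u}), U'.ι ≫ gU ≫ X'.ι ≫ O.ι, φ ∣_ U', pt, inferInstance, ?_, ?_,
    inferInstance, inferInstance, inferInstance,
    (φ ⁻¹ᵁ U').ι ≫ V.ι ≫ pullback.fst f gU ≫ S₂'.ι ≫ h ≫ (g ⁻¹ᵁ O).ι, ?_⟩
  · simp only [Scheme.Hom.comp_apply]
    rw [hpt, hnb.base_eq, hs'', hx']
  · have hb : Function.Bijective (gU.residueFieldMap (U'.ι pt)) := by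
      rw [hpt]; exact hnb.residue_bijective
    haveI : IsIso (gU.residueFieldMap (U'.ι pt)) :=
      (ConcreteCategory.isIso_iff_bijective _).mpr hb
    rw [Scheme.residueFieldMap_comp, Scheme.residueFieldMap_comp,
      Scheme.residueFieldMap_comp]
    infer_instance
  · simp only [Category.assoc]
    rw [← morphismRestrict_ι g O, reassoc_of% hh, ← reassoc_of% hfι, pullback.condition_assoc,
      ← Category.assoc V.ι, ← hφ, ← morphismRestrict_ι_assoc]

end Groth.Agent.Helper21.NisFppf
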