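import Mathlib

/-! A non-Noetherianity criterion (S14048): helper lemmas. -/

namespace Groth.Agent.Helper21.NN
universe u
open TensorProduct Polynomial

set_option linter.unusedSectionVars false

variable {A : Type u} [CommRing A] [IsDomain A] (t : A)
  (h1 : Function.Bijective (Polynomial.aeval (R := ℚ) ((1 : ℚ) ⊗ₜ[ℤ] t : ℚ ⊗[ℤ] A)))

include h1 in
theorem charZero : CharZero A := by
  refine charZero_of_inj_zero (fun n hn => ?_)
  by_contra hn0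
  have hq : (n : ℚ) ≠ 0 := by exact_mod_cast hn0
  have h10 : (1 : ℚ ⊗[ℤ] A) = 0 := by
    have e1 : (1 : ℚ ⊗[ℤ] A) = ((n : ℤ) • (n : ℚ)⁻¹) ⊗ₜ[ℤ] (1 : A) := by
      rw [Algebra.TensorProduct.one_def]
      congr 1
      rw [zsmul_eq_mul]
      push_cast
      field_simp
    rw [e1, TensorProduct.smul_tmul, zsmul_eq_mul, mul_one]
    push_cast
    rw [hn, TensorProduct.tmul_zero]
  have hX : (Polynomial.aeval (R := ℚ) ((1 : ℚ) ⊗ₜ[ℤ] t : ℚ ⊗[ℤ] A)) (X : ℚ[X])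
      = (Polynomial.aeval (R := ℚ) ((1 : ℚ) ⊗ₜ[ℤ] t : ℚ ⊗[ℤ] A)) 0 := by
    rw [← mul_one ((Polynomial.aeval (R := ℚ) ((1 : ℚ) ⊗ₜ[ℤ] t : ℚ ⊗[ℤ] A)) (X : ℚ[X])),
      ← mul_one ((Polynomial.aeval (R := ℚ) ((1 : ℚ) ⊗ₜ[ℤ] t : ℚ ⊗[ℤ] A)) (0 : ℚ[X])), h10,
      mul_zero, mul_zero]
  exact Polynomial.X_ne_zero (h1.1 hX)

/-- the isomorphism `ℚ[X] ≃ ℚ ⊗ A` -/
noncomputable def Psi : ℚ[X] ≃ₐ[ℚ] ℚ ⊗[ℤ] A :=
  AlgEquiv.ofBijective (Polynomial.aeval (R := ℚ) ((1 : ℚ) ⊗ₜ[ℤ] t : ℚ ⊗[ℤ] A)) h1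

/-- the embedding `A → ℚ[X]` -/
noncomputable def phi : A →+* ℚ[X] :=
  ((Psi t h1).symm : (ℚ ⊗[ℤ] A) →+* ℚ[X]).comp
    ((Algebra.TensorProduct.includeRight : A →ₐ[ℤ] ℚ ⊗[ℤ] A) : A →+* ℚ ⊗[ℤ] A)

theorem phi_apply (a : A) : phi t h1 a = (Psi t h1).symm ((1 : ℚ) ⊗ₜ[ℤ] a) := rfl

theorem Psi_phi (a : A) : Psi t h1 (phi t h1 a) = (1 : ℚ) ⊗ₜ[ℤ] a := by
  rw [phi_apply, AlgEquiv.apply_symm_apply]

theorem phi_t : phi t h1 t = X := by
  rw [phi_apply, AlgEquiv.symm_apply_eq]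
  show _ = (Polynomial.aeval (R := ℚ) ((1 : ℚ) ⊗ₜ[ℤ] t : ℚ ⊗[ℤ] A)) X
  rw [Polynomial.aeval_X]

theorem isLoc : IsLocalizedModule (nonZeroDivisors ℤ) (TensorProduct.mk ℤ ℚ A 1) :=
  (isLocalizedModule_iff_isBaseChange (nonZeroDivisors ℤ) ℚ (TensorProduct.mk ℤ ℚ A 1)).mpr
    (TensorProduct.isBaseChange ℤ A ℚ)

theorem phi_injective : Function.Injective (phi t h1) := by
  have hc := charZero t h1
  rw [injective_iff_map_eq_zero]
  intro a ha
  have h2 : (1 : ℚ) ⊗ₜ[ℤ] a = 0 := by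
    rw [← Psi_phi t h1 a, ha, map_zero]
  have h3 : (TensorProduct.mk ℤ ℚ A 1) a = 0 := h2
  have := isLoc (A := A)
  rw [IsLocalizedModule.eq_zero_iff (nonZeroDivisors ℤ)] at h3
  obtain ⟨⟨m, hm⟩, hma⟩ := h3
  have hm0 : m ≠ 0 := nonZeroDivisors.ne_zero hm
  have h4 : (m : A) * a = 0 := by
    have : m • a = 0 := hma
    rwa [zsmul_eq_mul] at this
  rcases mul_eq_zero.mp h4 with h5 | h5
  · exact absurd (by exact_mod_cast h5) hm0
  · exact h5

theorem phi_surj (g : ℚ[X]) : ∃ (m : ℤ) (a : A), m ≠ 0 ∧ (m : ℚ[X]) * g = phi t h1 a := by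
  have := isLoc (A := A)
  obtain ⟨⟨a, ⟨m, hm⟩⟩, hma⟩ := IsLocalizedModule.surj (nonZeroDivisors ℤ)
    (TensorProduct.mk ℤ ℚ A 1) (Psi t h1 g)
  refine ⟨m, a, nonZeroDivisors.ne_zero hm, ?_⟩
  have h2 : m • (Psi t h1 g) = (1 : ℚ) ⊗ₜ[ℤ] a := hma
  have h3 : (Psi t h1).symm (m • (Psi t h1 g)) = phi t h1 a := by rw [h2]; rfl
  rw [← h3, map_zsmul, AlgEquiv.symm_apply_apply, zsmul_eq_mul]

variable (s : A →+* Localization.Away (2 : ℤ)) (hs : s t = 1) (h2 : IsUnit (2 : A))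

/-- the canonical map `ℤ[1/2] → ℚ` -/
noncomputable def jmap : Localization.Away (2 : ℤ) →+* ℚ :=
  IsLocalization.Away.lift (2 : ℤ) (g := Int.castRingHom ℚ) (by norm_num)

/-- the canonical map `ℤ[1/2] → A` -/
noncomputable def sig : Localization.Away (2 : ℤ) →+* A :=
  IsLocalization.Away.lift (2 : ℤ) (g := Int.castRingHom A) (by simpa using h2)

theorem s_sig (u : Localization.Away (2 : ℤ)) : s (sig h2 u) = u := by
  have h : (s.comp (sig h2)) = RingHom.id _ :=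
    IsLocalization.ringHom_ext (Submonoid.powers (2 : ℤ)) (Subsingleton.elim _ _)
  exact RingHom.congr_fun h u

theorem phi_sig (u : Localization.Away (2 : ℤ)) : phi t h1 (sig h2 u) = C (jmap u) := by
  have h : ((phi t h1).comp (sig h2)) = (C : ℚ →+* ℚ[X]).comp jmap :=
    IsLocalization.ringHom_ext (Submonoid.powers (2 : ℤ)) (Subsingleton.elim _ _)
  exact RingHom.congr_fun h u

theorem jmap_mem (u : Localization.Away (2 : ℤ)) : ∃ (k : ℕ) (z : ℤ), jmap u * (2 : ℚ) ^ k = z := by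
  obtain ⟨⟨z, ⟨w, ⟨k, hk⟩⟩⟩, hz⟩ := IsLocalization.surj (Submonoid.powers (2 : ℤ)) u
  refine ⟨k, z, ?_⟩
  have h3 := congrArg jmap hz
  simp only [map_mul] at h3
  have h4 : ∀ m : ℤ, jmap (algebraMap ℤ (Localization.Away (2 : ℤ)) m) = (m : ℚ) := by
    intro m
    have := IsLocalization.Away.lift_eq (S := Localization.Away (2 : ℤ)) (2 : ℤ)
      (g := Int.castRingHom ℚ) (by norm_num) m
    simpa [jmap] using this
  rw [h4, h4] at h3
  rw [← h3, ← hk]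
  push_cast
  rfl

include hs in
theorem eval_phi (a : A) : (phi t h1 a).eval 1 = jmap (s a) := by
  let R₁ : ℚ ⊗[ℤ] A →ₐ[ℚ] ℚ :=
    Algebra.TensorProduct.lift (Algebra.ofId ℚ ℚ) ((jmap.comp s).toIntAlgHom)
      (fun _ _ => Commute.all _ _)
  have hR : R₁.comp (Psi t h1).toAlgHom = Polynomial.aeval (1 : ℚ) := by
    apply Polynomial.algHom_ext
    show R₁ ((Polynomial.aeval (R := ℚ) ((1 : ℚ) ⊗ₜ[ℤ] t : ℚ ⊗[ℤ] A)) X) = _
    rw [Polynomial.aeval_X, Polynomial.aeval_X, Algebra.TensorProduct.lift_tmul]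
    simp [hs]
  have h3 : R₁ ((1 : ℚ) ⊗ₜ[ℤ] a) = jmap (s a) := by
    rw [Algebra.TensorProduct.lift_tmul]
    simp
  have h4 : R₁ (Psi t h1 (phi t h1 a)) = Polynomial.aeval (1 : ℚ) (phi t h1 a) :=
    congrArg (fun f => f (phi t h1 a)) hR
  rw [Psi_phi, h3] at h4
  rw [h4, Polynomial.coe_aeval_eq_eval]

include hs h1 in
theorem exists_N [IsNoetherianRing A] :
    ∃ N : ℤ, N ≠ 0 ∧ ∀ x ∈ RingHom.ker s, ∃ y, (N : A) * x = (t - 1) * y := by
  classical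
  have hpt : ∀ x ∈ RingHom.ker s, ∃ N : ℤ, N ≠ 0 ∧ ∃ y, (N : A) * x = (t - 1) * y := by
    intro x hx
    have h3 : (phi t h1 x).eval 1 = 0 := by
      rw [eval_phi t h1 s hs, (RingHom.mem_ker).mp hx, map_zero]
    obtain ⟨g, hg⟩ := Polynomial.dvd_iff_isRoot.mpr h3
    obtain ⟨m, a, hm, hma⟩ := phi_surj t h1 g
    refine ⟨m, hm, a, ?_⟩
    apply phi_injective t h1
    rw [map_mul, map_mul, map_sub, map_one, phi_t, map_intCast, hg, ← hma, map_one]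
    ring
  obtain ⟨S, hS⟩ := (isNoetherianRing_iff_ideal_fg A).mp inferInstance (RingHom.ker s)
  choose! Nf hNf using hpt
  refine ⟨∏ x ∈ S, Nf x, ?_, ?_⟩
  · rw [Finset.prod_ne_zero_iff]
    intro x hx
    exact (hNf x (by rw [← hS]; exact Ideal.subset_span hx)).1
  · intro x hx
    rw [← hS] at hx
    have key : ((∏ x ∈ S, Nf x : ℤ) : A) * x ∈ Ideal.span {t - 1} := by
      refine Submodule.span_induction (p := fun x _ =>
        ((∏ x ∈ S, Nf x : ℤ) : A) * x ∈ Ideal.span {t - 1}) ?_ ?_ ?_ ?_ hx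
      · intro x hxS
        obtain ⟨y, hy⟩ := (hNf x (by rw [← hS]; exact Ideal.subset_span hxS)).2
        obtain ⟨c, hc⟩ := Finset.dvd_prod_of_mem Nf hxS
        rw [hc]
        push_cast
        rw [mul_right_comm, hy, Ideal.mem_span_singleton]
        exact ⟨y * (c : A), by ring⟩
      · rw [mul_zero]; exact zero_mem _
      · intro x y _ _ hx hy
        rw [mul_add]; exact Ideal.add_mem _ hx hy
      · intro c x _ hx
        rw [smul_eq_mul, mul_left_comm]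
        exact Ideal.mul_mem_left _ _ hx
    obtain ⟨y, hy⟩ := Ideal.mem_span_singleton.mp key
    exact ⟨y, hy⟩

/-- the subring `ℤ[1/M]` of `ℚ` -/
def Lam (M : ℤ) : Subring ℚ where
  carrier := {q | ∃ (k : ℕ) (z : ℤ), q * (M : ℚ) ^ k = z}
  mul_mem' := by
    rintro q₁ q₂ ⟨k₁, z₁, h₁⟩ ⟨k₂, z₂, h₂⟩
    exact ⟨k₁ + k₂, z₁ * z₂, by push_cast; rw [pow_add, ← h₁, ← h₂]; ring⟩
  one_mem' := ⟨0, 1, by simp⟩
  add_mem' := by
    rintro q₁ q₂ ⟨k₁, z₁, h₁⟩ ⟨k₂, z₂, h₂⟩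
    exact ⟨k₁ + k₂, z₁ * M ^ k₂ + z₂ * M ^ k₁, by push_cast; rw [pow_add, ← h₁, ← h₂]; ring⟩
  zero_mem' := ⟨0, 0, by simp⟩
  neg_mem' := by
    rintro q ⟨k, z, h⟩
    exact ⟨k, -z, by push_cast; rw [← h]; ring⟩

theorem mem_Lam {M : ℤ} {q : ℚ} : q ∈ Lam M ↔ ∃ (k : ℕ) (z : ℤ), q * (M : ℚ) ^ k = z := Iff.rfl

theorem C_mem_lifts {M : ℤ} {q : ℚ} (hq : q ∈ Lam M) :
    (C q : ℚ[X]) ∈ Polynomial.lifts (Lam M).subtype :=
  Polynomial.C_mem_lifts (Lam M).subtype ⟨q, hq⟩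

include hs h2 in
theorem phi_mem_lifts (N : ℤ) (hN : N ≠ 0)
    (hNP : ∀ x ∈ RingHom.ker s, ∃ y, (N : A) * x = (t - 1) * y) :
    ∀ n : ℕ, ∀ a : A, (phi t h1 a).natDegree ≤ n →
      phi t h1 a ∈ Polynomial.lifts (Lam (2 * N)).subtype := by
  have hc : ∀ a : A, jmap (s a) ∈ Lam (2 * N) := by
    intro a
    obtain ⟨k, z, hz⟩ := jmap_mem (s a)
    exact ⟨k, z * N ^ k, by push_cast; rw [mul_pow, ← hz]; ring⟩
  have hdec : ∀ a : A, ∃ y, (N : ℚ[X]) * (phi t h1 a - C (jmap (s a))) = (X - C 1) * phi t h1 y := by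
    intro a
    have hx : a - sig h2 (s a) ∈ RingHom.ker s := by
      rw [RingHom.mem_ker, map_sub, s_sig, sub_self]
    obtain ⟨y, hy⟩ := hNP _ hx
    refine ⟨y, ?_⟩
    have := congrArg (phi t h1) hy
    rw [map_mul, map_mul, map_sub, map_sub, map_one, phi_t, map_intCast, phi_sig] at this
    rw [this, map_one]
  intro n
  induction n with
  | zero =>
    intro a ha
    have h3 := Polynomial.eq_C_of_natDegree_le_zero ha
    have h4 : (phi t h1 a).coeff 0 = jmap (s a) := by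
      rw [← eval_phi t h1 s hs a]
      conv_rhs => rw [h3]
      rw [Polynomial.eval_C]
    rw [h3, h4]
    exact C_mem_lifts (hc a)
  | succ n ih =>
    intro a ha
    obtain ⟨y, hy⟩ := hdec a
    have hyl : phi t h1 y ∈ Polynomial.lifts (Lam (2 * N)).subtype := by
      by_cases hy0 : phi t h1 y = 0
      · rw [hy0]; exact zero_mem _
      · apply ih
        have h5 : ((X - C 1) * phi t h1 y).natDegree = 1 + (phi t h1 y).natDegree := by
          rw [Polynomial.natDegree_mul (Polynomial.X_sub_C_ne_zero 1) hy0,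
            Polynomial.natDegree_X_sub_C]
        have h6 : ((N : ℚ[X]) * (phi t h1 a - C (jmap (s a)))).natDegree ≤ n + 1 := by
          refine (Polynomial.natDegree_mul_le).trans ?_
          rw [Polynomial.natDegree_intCast, zero_add]
          refine (Polynomial.natDegree_sub_le _ _).trans ?_
          rw [Polynomial.natDegree_C]
          exact max_le ha (Nat.zero_le _)
        rw [hy, h5] at h6
        omega
    have hNq : (C ((N : ℚ)⁻¹) : ℚ[X]) * (N : ℚ[X]) = 1 := by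
      rw [← map_intCast (C : ℚ →+* ℚ[X]), ← C_mul, inv_mul_cancel₀ (by exact_mod_cast hN), C_1]
    have h7 : phi t h1 a = C (jmap (s a)) + C ((N : ℚ)⁻¹) * ((X + C (-1)) * phi t h1 y) := by
      rw [map_neg, ← sub_eq_add_neg]
      linear_combination (-(phi t h1 a - C (jmap (s a)))) * hNq + C ((N : ℚ)⁻¹) * hy
    rw [h7]
    have hNinv : (N : ℚ)⁻¹ ∈ Lam (2 * N) :=
      ⟨1, 2, by push_cast; field_simp⟩
    exact add_mem (C_mem_lifts (hc a)) (mul_mem (C_mem_lifts hNinv)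
      (mul_mem (add_mem (Polynomial.X_mem_lifts _) (C_mem_lifts (neg_mem (one_mem _)))) hyl))

include hs h2 h1 in
theorem not_noetherian
    (h0 : ∀ p : ℕ, p.Prime → IsUnit ((p : ℕ) : A ⧸ Ideal.span ({t} : Set A))) :
    ¬ IsNoetherianRing A := by
  intro hNoeth
  obtain ⟨N, hN, hNP⟩ := exists_N t h1 s hs
  have hM : (2 * N) ≠ 0 := mul_ne_zero two_ne_zero hN
  obtain ⟨p, hpge, hp⟩ := Nat.exists_infinite_primes ((2 * N).natAbs + 1)
  obtain ⟨abar, habar⟩ := isUnit_iff_exists_inv.mp (h0 p hp)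
  obtain ⟨a, rfl⟩ := Ideal.Quotient.mk_surjective abar
  have h3 : (p : A) * a - 1 ∈ Ideal.span ({t} : Set A) := by
    rw [← Ideal.Quotient.eq_zero_iff_mem, map_sub, map_mul, map_natCast, map_one, habar, sub_self]
  obtain ⟨b, hb⟩ := Ideal.mem_span_singleton'.mp h3
  have h4 := congrArg (phi t h1) hb
  rw [map_mul, map_sub, map_mul, map_natCast, map_one, phi_t] at h4
  have h5 := congrArg (fun f : ℚ[X] => f.coeff 0) h4
  simp only [Polynomial.coeff_mul_X_zero, Polynomial.coeff_sub, Polynomial.coeff_one_zero] at h5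
  rw [← map_natCast (C : ℚ →+* ℚ[X]), Polynomial.coeff_C_mul] at h5
  have hl := phi_mem_lifts t h1 s hs h2 N hN hNP _ a le_rfl
  rw [Polynomial.lifts_iff_coeff_lifts] at hl
  obtain ⟨⟨q, k, z, hq⟩, hq0⟩ := hl 0
  have hq1 : q = (phi t h1 a).coeff 0 := hq0
  rw [← hq1] at h5
  have h6 : ((p : ℤ) : ℚ) * z = ((2 * N : ℤ) : ℚ) ^ k := by
    rw [← hq]
    push_cast
    have : (p : ℚ) * q = 1 := by linarith
    calc (p : ℚ) * (q * (2 * (N : ℚ)) ^ k) = ((p : ℚ) * q) * (2 * (N : ℚ)) ^ k := by ring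
      _ = (2 * (N : ℚ)) ^ k := by rw [this, one_mul]
  have h7 : (p : ℤ) * z = (2 * N) ^ k := by exact_mod_cast h6
  have hpz : Prime (p : ℤ) := Nat.prime_iff_prime_int.mp hp
  have h8 : (p : ℤ) ∣ (2 * N) ^ k := ⟨z, h7.symm⟩
  have h9 : (p : ℤ) ∣ 2 * N := hpz.dvd_of_dvd_pow h8
  have h10 : p ∣ (2 * N).natAbs := Int.natCast_dvd.mp h9
  have h11 : p ≤ (2 * N).natAbs := Nat.le_of_dvd (Int.natAbs_pos.mpr hM) h10
  omega

end Groth.Agent.Helper21.NN
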