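import Mathlib
import Groth.Agent.Lib.Helper11.TowerUH

/-!
Universal homeomorphisms in characteristic `p`: every element has a `p`-power in the image,
and the comparison with perfect closures.
-/

namespace Groth.Agent.Helper21.PUH

open Groth.Agent.Helper11.UH

universe u

section L1

variable {A B : Type u} [CommRing A] [CommRing B] [Algebra A B] (p : ℕ) [Fact p.Prime] [CharP B p]

/-- The subalgebra of elements having a `p`-power in the image of `A`. -/
def powSub : Subalgebra A B where
  carrier := {b | ∃ n : ℕ, b ^ p ^ n ∈ (algebraMap A B).range}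
  mul_mem' := by
    rintro x y ⟨n, a, ha⟩ ⟨m, c, hc⟩
    have hx : x ^ p ^ (n + m) = algebraMap A B (a ^ p ^ m) := by
      rw [pow_add, pow_mul, ← ha, map_pow]
    have hy : y ^ p ^ (n + m) = algebraMap A B (c ^ p ^ n) := by
      rw [add_comm, pow_add, pow_mul, ← hc, map_pow]
    refine ⟨n + m, a ^ p ^ m * c ^ p ^ n, ?_⟩
    rw [map_mul, mul_pow, hx, hy]
  add_mem' := by
    rintro x y ⟨n, a, ha⟩ ⟨m, c, hc⟩
    have hx : x ^ p ^ (n + m) = algebraMap A B (a ^ p ^ m) := by
      rw [pow_add, pow_mul, ← ha, map_pow]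
    have hy : y ^ p ^ (n + m) = algebraMap A B (c ^ p ^ n) := by
      rw [add_comm, pow_add, pow_mul, ← hc, map_pow]
    refine ⟨n + m, a ^ p ^ m + c ^ p ^ n, ?_⟩
    rw [map_add, add_pow_char_pow, hx, hy]
  algebraMap_mem' := fun a => ⟨0, a, by simp⟩

theorem mem_powSub (b : B) : b ∈ powSub (A := A) p ↔ ∃ n : ℕ, b ^ p ^ n ∈ (algebraMap A B).range :=
  Iff.rfl

theorem pow_mem_powSub (b : B) (h : b ^ p ∈ powSub (A := A) p) : b ∈ powSub (A := A) p := by
  obtain ⟨n, a, ha⟩ := h
  refine ⟨n + 1, a, ?_⟩
  rw [ha, ← pow_mul, ← pow_succ']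

theorem powSub_eq_top (h : UHom (algebraMap A B)) : powSub (A := A) (B := B) p = ⊤ := by
  by_contra hT
  obtain ⟨b, hb, hst⟩ := hKL401 h (powSub (A := A) (B := B) p) hT
  have hp : p.Prime := Fact.out
  apply hb
  rcases hst with ⟨h2, h3⟩ | ⟨ℓ, hℓ, h1, h2⟩
  · apply pow_mem_powSub p b
    -- `b ^ p ∈ T` as `p ≥ 2`
    have key : ∀ k : ℕ, b ^ (k + 2) ∈ powSub (A := A) (B := B) p := by
      intro k
      induction k using Nat.strong_induction_on with
      | _ k ih =>
        rcases k with _ | _ | k
        · simpa using h2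
        · simpa using h3
        · have := ih k (by omega)
          have h4 : b ^ (k + 1 + 1 + 2) = b ^ (k + 2) * b ^ 2 := by
            rw [← pow_add]
          rw [h4]
          exact Subalgebra.mul_mem _ this h2
    have hk : p - 2 + 2 = p := by have := hp.two_le; omega
    have := key (p - 2)
    rwa [hk] at this
  · by_cases hℓp : ℓ = p
    · subst hℓp
      exact pow_mem_powSub ℓ b h2
    · -- `ℓ` is a unit modulo `p`
      have hcop : Nat.Coprime ℓ p := (Nat.coprime_primes hℓ hp).mpr hℓp
      have hbez : (Nat.gcdA ℓ p : ℤ) * ℓ + Nat.gcdB ℓ p * p = 1 := by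
        have := Nat.gcd_eq_gcd_ab ℓ p
        rw [hcop.gcd_eq_one] at this
        push_cast at this
        linarith
      have hB : ((Nat.gcdA ℓ p : ℤ) : B) * (ℓ : B) = 1 := by
        have := congrArg (Int.cast : ℤ → B) hbez
        push_cast at this
        rw [CharP.cast_eq_zero B p, mul_zero, add_zero] at this
        exact this
      have hbb : b = ((Nat.gcdA ℓ p : ℤ) : B) * ((ℓ : B) * b) := by
        rw [← mul_assoc, hB, one_mul]
      rw [hbb]
      exact Subalgebra.mul_mem _ (Subalgebra.intCast_mem _ _) h1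

theorem exists_pow_mem_range (h : UHom (algebraMap A B)) (b : B) :
    ∃ n : ℕ, b ^ p ^ n ∈ (algebraMap A B).range := by
  have : b ∈ powSub (A := A) (B := B) p := by
    rw [powSub_eq_top p h]
    exact Algebra.mem_top
  exact this

end L1

section RingHom

variable {A B : Type u} [CommRing A] [CommRing B] (p : ℕ) [Fact p.Prime] [CharP B p]

theorem exists_pow_mem_range' (φ : A →+* B) (h : UHom φ) (b : B) :
    ∃ n : ℕ, b ^ p ^ n ∈ φ.range := by
  letI := φ.toAlgebra
  exact exists_pow_mem_range p (A := A) (B := B) h b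

/-- Converse: `p`-radicial surjective-on-kernel maps are universal homeomorphisms. -/
theorem uhom_of_pow_mem (φ : A →+* B) (hker : ∀ a, φ a = 0 → IsNilpotent a)
    (hpow : ∀ b : B, ∃ n : ℕ, b ^ p ^ n ∈ φ.range) : UHom φ := by
  have hp : p.Prime := Fact.out
  have hint : φ.IsIntegral := by
    intro b
    obtain ⟨n, a, ha⟩ := hpow b
    refine ⟨Polynomial.X ^ p ^ n - Polynomial.C a,
      Polynomial.monic_X_pow_sub_C a (pow_ne_zero _ hp.ne_zero), ?_⟩
    simp [Polynomial.eval₂_sub, ha]
  refine ⟨hint, ?_, ?_⟩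
  · intro P
    letI := φ.toAlgebra
    haveI : Algebra.IsIntegral A B := ⟨hint⟩
    have hle : (⊥ : Ideal B).comap (algebraMap A B) ≤ P.asIdeal := by
      intro a ha
      have h0 : φ a = 0 := ha
      exact nilradical_le_prime P.asIdeal (hker a h0)
    obtain ⟨Q, -, hQ, hQp⟩ := Ideal.exists_ideal_over_prime_of_isIntegral P.asIdeal
      (⊥ : Ideal B) hle
    exact ⟨⟨Q, hQ⟩, PrimeSpectrum.ext hQp⟩
  · intro K _ g₁ g₂ hg
    have h0K : ((p : ℕ) : K) = 0 := by
      have := congrArg g₁ (CharP.cast_eq_zero B p)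
      rwa [map_natCast, map_zero] at this
    haveI : CharP K p := (CharP.charP_iff_prime_eq_zero hp).mpr h0K
    ext b
    obtain ⟨n, a, ha⟩ := hpow b
    apply iterateFrobenius_inj K p n
    rw [iterateFrobenius_def, iterateFrobenius_def, ← map_pow, ← map_pow, ← ha]
    exact congrFun (congrArg DFunLike.coe hg) a

end RingHom

section Perfect

variable {A B : Type u} [CommRing A] [CommRing B] (p : ℕ) [Fact p.Prime]

theorem bijective_pow_pow {R : Type u} [CommRing R] (h : Function.Bijective fun s : R => s ^ p)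
    (n : ℕ) : Function.Bijective fun s : R => s ^ p ^ n := by
  induction n with
  | zero =>
    have : (fun s : R => s ^ p ^ 0) = id := by
      funext s
      simp
    rw [this]
    exact Function.bijective_id
  | succ n ih =>
    have : (fun s : R => s ^ p ^ (n + 1)) = (fun s : R => s ^ p) ∘ (fun s : R => s ^ p ^ n) := by
      funext s
      simp only [Function.comp_apply]
      rw [pow_succ, pow_mul]
    rw [this]
    exact h.comp ih

/-- A universal homeomorphism between perfect rings of characteristic `p` is bijective. -/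
theorem bijective_of_uhom_of_perfect
    (hA0 : ((p : ℕ) : A) = 0) (hA : Function.Bijective fun s : A => s ^ p)
    (hB0 : ((p : ℕ) : B) = 0) (hB : Function.Bijective fun s : B => s ^ p)
    (φ : A →+* B) (h : UHom φ) : Function.Bijective φ := by
  have hp : p.Prime := Fact.out
  rcases subsingleton_or_nontrivial B with hBs | hBn
  · have hAs : Subsingleton A := by
      by_contra hA'
      rw [not_subsingleton_iff_nontrivial] at hA'
      obtain ⟨P, hP⟩ := Ideal.exists_maximal A
      obtain ⟨Q, -⟩ := h.2.1 ⟨P, hP.isPrime⟩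
      exact Q.2.ne_top (Subsingleton.elim _ _)
    exact ⟨fun x y _ => Subsingleton.elim x y, fun b => ⟨0, Subsingleton.elim _ _⟩⟩
  · haveI : Nontrivial A := φ.domain_nontrivial
    haveI : CharP A p := (CharP.charP_iff_prime_eq_zero hp).mpr hA0
    haveI : CharP B p := (CharP.charP_iff_prime_eq_zero hp).mpr hB0
    have hAn := bijective_pow_pow p hA
    have hBn' := bijective_pow_pow p hB
    have hpow := exists_pow_mem_range' p φ h
    have hkerφ : ∀ a, φ a = 0 → a = 0 := by
      intro a ha
      have hnil : IsNilpotent a := by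
        rw [nilpotent_iff_mem_prime]
        intro P hP
        obtain ⟨Q, hQ⟩ := h.2.1 ⟨P, hP⟩
        have : a ∈ (PrimeSpectrum.comap φ Q).asIdeal := by
          show φ a ∈ Q.asIdeal
          rw [ha]; exact zero_mem _
        rw [hQ] at this
        exact this
      obtain ⟨k, hk⟩ := hnil
      have hk' : a ^ p ^ k = 0 := by
        have hle : k ≤ p ^ k := (Nat.lt_pow_self hp.one_lt).le
        rw [← Nat.sub_add_cancel hle, pow_add, hk, mul_zero]
      apply (hAn k).1
      show a ^ p ^ k = (0 : A) ^ p ^ k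
      rw [hk', zero_pow (pow_ne_zero _ hp.ne_zero)]
    refine ⟨(injective_iff_map_eq_zero φ).mpr hkerφ, ?_⟩
    intro b
    obtain ⟨n, a, ha⟩ := hpow b
    obtain ⟨c, hc⟩ := (hAn n).2 a
    refine ⟨c, ?_⟩
    apply (hBn' n).1
    show (φ c) ^ p ^ n = b ^ p ^ n
    rw [← map_pow, ← ha]
    exact congrArg φ hc

end Perfect

end Groth.Agent.Helper21.PUH
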