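import Mathlib
import Groth.Agent.Lib.Helper11.UHRing
import Groth.Agent.Lib.Helper21.PerfUH

/-!
Universal homeomorphisms that are isomorphisms after inverting a prime `p`.
-/

namespace Groth.Agent.Helper21.PUH2

open Groth.Agent.Helper11.UH Groth.Agent.Helper21.PUH

universe u

variable {A B : Type u} [CommRing A] [CommRing B]

/-- `UHom` passes to quotients. -/
theorem uhom_quotientMap (ψ : A →+* B) (hU : UHom ψ) (I : Ideal A) :
    UHom (Ideal.quotientMap (I.map ψ) ψ Ideal.le_comap_map) := by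
  have hqm_mk : ∀ a, (Ideal.quotientMap (I.map ψ) ψ Ideal.le_comap_map) (Ideal.Quotient.mk I a) =
      Ideal.Quotient.mk (I.map ψ) (ψ a) := fun a => Ideal.quotientMap_mk
  refine ⟨?_, ?_, ?_⟩
  · intro z
    obtain ⟨b, rfl⟩ := Ideal.Quotient.mk_surjective z
    obtain ⟨P, hP, hPb⟩ := hU.1 b
    refine ⟨P.map (Ideal.Quotient.mk I), hP.map _, ?_⟩
    rw [Polynomial.eval₂_map]
    have : (Ideal.quotientMap (I.map ψ) ψ Ideal.le_comap_map).comp (Ideal.Quotient.mk I) =
        (Ideal.Quotient.mk (I.map ψ)).comp ψ := by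
      ext a; exact hqm_mk a
    rw [this, ← Polynomial.hom_eval₂, hPb, map_zero]
  · intro P
    obtain ⟨Q, hQ⟩ := hU.2.1 (PrimeSpectrum.comap (Ideal.Quotient.mk I) P)
    have hIP : I ≤ (PrimeSpectrum.comap (Ideal.Quotient.mk I) P).asIdeal := by
      intro a ha
      show Ideal.Quotient.mk I a ∈ P.asIdeal
      rw [Ideal.Quotient.eq_zero_iff_mem.mpr ha]; exact zero_mem _
    have hmemQ : ∀ a, ψ a ∈ Q.asIdeal ↔ Ideal.Quotient.mk I a ∈ P.asIdeal := by
      intro a
      have : (PrimeSpectrum.comap ψ Q).asIdeal =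
          (PrimeSpectrum.comap (Ideal.Quotient.mk I) P).asIdeal := by rw [hQ]
      exact (Ideal.ext_iff.mp this) a
    have hJQ : I.map ψ ≤ Q.asIdeal := by
      rw [Ideal.map_le_iff_le_comap]
      intro a ha
      exact (hmemQ a).mpr (hIP ha)
    have hker : RingHom.ker (Ideal.Quotient.mk (I.map ψ)) ≤ Q.asIdeal := by rwa [Ideal.mk_ker]
    have hprime : (Q.asIdeal.map (Ideal.Quotient.mk (I.map ψ))).IsPrime :=
      Ideal.map_isPrime_of_surjective Ideal.Quotient.mk_surjective hker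
    refine ⟨⟨_, hprime⟩, ?_⟩
    apply PrimeSpectrum.ext
    ext z
    obtain ⟨a, rfl⟩ := Ideal.Quotient.mk_surjective z
    show (Ideal.quotientMap (I.map ψ) ψ Ideal.le_comap_map) (Ideal.Quotient.mk I a) ∈
      Q.asIdeal.map (Ideal.Quotient.mk (I.map ψ)) ↔ Ideal.Quotient.mk I a ∈ P.asIdeal
    rw [hqm_mk, Ideal.mem_quotient_iff_mem hJQ]
    exact hmemQ a
  · intro K _ g₁ g₂ hg
    have h1 : (g₁.comp (Ideal.Quotient.mk (I.map ψ))).comp ψ =
        (g₂.comp (Ideal.Quotient.mk (I.map ψ))).comp ψ := by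
      ext a
      have := congrArg (fun f => f (Ideal.Quotient.mk I a)) hg
      simpa [hqm_mk] using this
    have h2 := hU.2.2 K _ _ h1
    exact Ideal.Quotient.ringHom_ext h2

/-- Kernel of a `UHom` is nil. -/
theorem isNilpotent_of_uhom (φ : A →+* B) (hU : UHom φ) (a : A) (ha : φ a = 0) : IsNilpotent a := by
  rw [← mem_nilradical, nilradical_eq_sInf, Ideal.mem_sInf]
  intro P hP
  obtain ⟨Q, hQ⟩ := hU.2.1 ⟨P, hP⟩
  have h1 : a ∈ (PrimeSpectrum.comap φ Q).asIdeal := by
    show φ a ∈ Q.asIdeal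
    rw [ha]; exact zero_mem _
  rw [hQ] at h1
  exact h1

theorem pow_mem_range_of_le (φ : A →+* B) (p : ℕ) (b : B) {n m : ℕ} (hnm : n ≤ m)
    (h : b ^ p ^ n ∈ φ.range) : b ^ p ^ m ∈ φ.range := by
  obtain ⟨a, ha⟩ := h
  obtain ⟨k, rfl⟩ := Nat.exists_eq_add_of_le hnm
  exact ⟨a ^ p ^ k, by rw [map_pow, ha, ← pow_mul, ← pow_add]⟩

theorem mul_mem_range_of_le (φ : A →+* B) (p : ℕ) (b : B) {n m : ℕ} (hnm : n ≤ m)
    (h : (p ^ n : B) * b ∈ φ.range) : (p ^ m : B) * b ∈ φ.range := by
  obtain ⟨a, ha⟩ := h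
  obtain ⟨k, rfl⟩ := Nat.exists_eq_add_of_le hnm
  exact ⟨(p : A) ^ k * a, by rw [map_mul, map_pow, map_natCast, ha, ← mul_assoc, ← pow_add,
    add_comm]⟩

/-- The hard step: from `p`-power multiples to `p`-power powers. -/
theorem exists_pow_mem_range_mixed (φ : A →+* B) (p : ℕ) [hpF : Fact p.Prime] (hU : UHom φ)
    (hmul : ∀ b : B, ∃ m : ℕ, (p ^ m : B) * b ∈ φ.range) (b : B) :
    ∃ n : ℕ, b ^ p ^ n ∈ φ.range := by
  have hp : p.Prime := hpF.out
  letI := φ.toAlgebra
  have hbint : IsIntegral A b := hU.1 b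
  have hfg : (Algebra.adjoin A {b}).toSubmodule.FG := hbint.fg_adjoin_singleton
  have hb0 : b ∈ Algebra.adjoin A {b} := Algebra.self_mem_adjoin_singleton A b
  obtain ⟨M, hM⟩ : ∃ M : ℕ, ∀ x ∈ Algebra.adjoin A {b}, (p ^ M : B) * x ∈ φ.range := by
    obtain ⟨s, hs⟩ := hfg
    choose m hm using hmul
    refine ⟨s.sup m, ?_⟩
    intro x hx
    have hx' : x ∈ Submodule.span A (s : Set B) := by rw [hs]; exact hx
    clear hx
    induction hx' using Submodule.span_induction with
    | mem y hy =>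
      exact mul_mem_range_of_le φ p y (Finset.le_sup hy) (hm y)
    | zero => exact ⟨0, by simp⟩
    | add y z _ _ hy hz =>
      obtain ⟨a, ha⟩ := hy
      obtain ⟨c, hc⟩ := hz
      exact ⟨a + c, by rw [map_add, ha, hc, mul_add]⟩
    | smul r y _ hy =>
      obtain ⟨a, ha⟩ := hy
      refine ⟨r * a, ?_⟩
      rw [map_mul, ha, Algebra.smul_def]
      show φ r * (_ * y) = _ * (φ r * y)
      ring
  have hψU : UHom (algebraMap A (Algebra.adjoin A {b})) :=
    uhom_of_comp (algebraMap A (Algebra.adjoin A {b})) (Algebra.adjoin A {b}).val.toRingHom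
      Subtype.val_injective (by
        have : ((Algebra.adjoin A {b}).val.toRingHom).comp
            (algebraMap A (Algebra.adjoin A {b})) = φ := by
          ext a; rfl
        rw [this]; exact hU)
  by_cases hunit : IsUnit ((p : ℕ) : Algebra.adjoin A {b})
  · refine ⟨0, ?_⟩
    obtain ⟨u, hu⟩ := hunit
    have hb' : b = (p ^ M : B) *
        (((((u⁻¹ : (Algebra.adjoin A {b})ˣ) : Algebra.adjoin A {b}) ^ M *
          (⟨b, hb0⟩ : Algebra.adjoin A {b}) : Algebra.adjoin A {b})) : B) := by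
      have h1 : ((p : ℕ) : Algebra.adjoin A {b}) ^ M *
          (((u⁻¹ : (Algebra.adjoin A {b})ˣ) : Algebra.adjoin A {b}) ^ M *
            (⟨b, hb0⟩ : Algebra.adjoin A {b})) = ⟨b, hb0⟩ := by
        rw [← mul_assoc, ← mul_pow, ← hu, Units.mul_inv, one_pow, one_mul]
      have h2 := congrArg (Subtype.val) h1
      simpa using h2.symm
    rw [pow_zero, pow_one, hb']
    exact hM _ (Subtype.mem _)
  · set I : Ideal A := Ideal.span {((p : ℕ) : A)} with hI
    have hImap : I.map (algebraMap A (Algebra.adjoin A {b})) =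
        Ideal.span {((p : ℕ) : Algebra.adjoin A {b})} := by
      rw [hI, Ideal.map_span, Set.image_singleton, map_natCast]
    have hJne : I.map (algebraMap A (Algebra.adjoin A {b})) ≠ ⊤ := by
      rw [hImap, Ne, Ideal.span_singleton_eq_top]; exact hunit
    haveI : Nontrivial (Algebra.adjoin A {b} ⧸ I.map (algebraMap A (Algebra.adjoin A {b}))) :=
      Ideal.Quotient.nontrivial_iff.mpr hJne
    haveI : CharP (Algebra.adjoin A {b} ⧸ I.map (algebraMap A (Algebra.adjoin A {b}))) p := by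
      rw [CharP.charP_iff_prime_eq_zero hp,
        ← map_natCast (Ideal.Quotient.mk (I.map (algebraMap A (Algebra.adjoin A {b})))),
        Ideal.Quotient.eq_zero_iff_mem, hImap]
      exact Ideal.mem_span_singleton_self _
    have hUq := uhom_quotientMap (algebraMap A (Algebra.adjoin A {b})) hψU I
    obtain ⟨n, ā, hā⟩ := exists_pow_mem_range' p _ hUq
      (Ideal.Quotient.mk _ (⟨b, hb0⟩ : Algebra.adjoin A {b}))
    obtain ⟨a, rfl⟩ := Ideal.Quotient.mk_surjective ā
    have hdvd : ((p : ℕ) : Algebra.adjoin A {b}) ∣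
        (⟨b, hb0⟩ : Algebra.adjoin A {b}) ^ p ^ n - algebraMap A (Algebra.adjoin A {b}) a := by
      rw [← Ideal.mem_span_singleton, ← hImap, ← Ideal.Quotient.eq_zero_iff_mem, map_sub, map_pow,
        ← hā, Ideal.quotientMap_mk, sub_self]
    obtain ⟨c, hc⟩ := dvd_sub_pow_of_dvd_sub hdvd M
    refine ⟨n + M, ?_⟩
    have hval := congrArg (Subtype.val) hc
    have hB : b ^ p ^ (n + M) = φ (a ^ p ^ M) + (p ^ M : B) * ((p : B) * (c : B)) := by
      have h3' : (b ^ p ^ n) ^ p ^ M - (algebraMap A B a) ^ p ^ M =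
          (p : B) ^ (M + 1) * (c : B) := by
        simpa using hval
      have h3 : (b ^ p ^ n) ^ p ^ M - (φ a) ^ p ^ M = (p : B) ^ (M + 1) * (c : B) := h3'
      rw [pow_add, pow_mul, map_pow]
      have : (b ^ p ^ n) ^ p ^ M = (φ a) ^ p ^ M + (p : B) ^ (M + 1) * (c : B) := by
        rw [← h3]; ring
      rw [this, pow_succ]; ring
    rw [hB]
    refine Subring.add_mem _ ⟨_, rfl⟩ (hM _ ?_)
    exact Subalgebra.mul_mem _ (Subalgebra.natCast_mem _ p) c.2

theorem main (φ : A →+* B) (p : ℕ) (hp : p.Prime)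
    (h : Function.Bijective (Localization.awayMap φ (p : A))) :
    UHom φ ↔ (∀ a ∈ RingHom.ker φ, IsNilpotent a) ∧
      ∀ b : B, ∃ n : ℕ, (p ^ n : B) * b ∈ φ.range ∧ b ^ (p ^ n) ∈ φ.range := by
  haveI : Fact p.Prime := ⟨hp⟩
  constructor
  · intro hU
    refine ⟨fun a ha => isNilpotent_of_uhom φ hU a ha, ?_⟩
    have hmul : ∀ b : B, ∃ m : ℕ, (p ^ m : B) * b ∈ φ.range := by
      intro b
      obtain ⟨z, hz⟩ := h.2 (algebraMap B (Localization.Away (φ (p : A))) b)
      obtain ⟨n, a, hza⟩ := IsLocalization.Away.surj (p : A) z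
      have h1 := congrArg (Localization.awayMap φ (p : A)) hza
      rw [map_mul, hz, map_pow] at h1
      have e1 : Localization.awayMap φ (p : A) (algebraMap A _ (p : A)) =
          algebraMap B (Localization.Away (φ (p : A))) (φ (p : A)) := by
        simp [Localization.awayMap, IsLocalization.Away.map]
      have e2 : Localization.awayMap φ (p : A) (algebraMap A _ a) =
          algebraMap B (Localization.Away (φ (p : A))) (φ a) := by
        simp [Localization.awayMap, IsLocalization.Away.map]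
      rw [e1, e2, ← map_pow, ← map_mul] at h1
      obtain ⟨⟨_, j, rfl⟩, hj⟩ := (IsLocalization.eq_iff_exists (Submonoid.powers (φ (p : A)))
        (Localization.Away (φ (p : A)))).mp h1
      refine ⟨j + n, (p : A) ^ j * a, ?_⟩
      simp only at hj
      rw [map_mul, map_pow, ← hj, map_natCast]
      ring
    intro b
    obtain ⟨m, hm⟩ := hmul b
    obtain ⟨n, hn⟩ := exists_pow_mem_range_mixed φ p hU hmul b
    exact ⟨max m n, mul_mem_range_of_le φ p b (le_max_left _ _) hm,
      pow_mem_range_of_le φ p b (le_max_right _ _) hn⟩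
  · rintro ⟨hker, hpow⟩
    have hint : φ.IsIntegral := by
      intro b
      obtain ⟨n, -, a, ha⟩ := hpow b
      refine ⟨Polynomial.X ^ p ^ n - Polynomial.C a,
        Polynomial.monic_X_pow_sub_C a (pow_ne_zero _ hp.ne_zero), ?_⟩
      simp [Polynomial.eval₂_sub, ha]
    refine ⟨hint, ?_, ?_⟩
    · intro P
      letI := φ.toAlgebra
      haveI : Algebra.IsIntegral A B := ⟨hint⟩
      have hle : (⊥ : Ideal B).comap (algebraMap A B) ≤ P.asIdeal := by
        intro a ha
        have h0 : φ a = 0 := ha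
        exact nilradical_le_prime P.asIdeal (hker a h0)
      obtain ⟨Q, -, hQ, hQp⟩ := Ideal.exists_ideal_over_prime_of_isIntegral P.asIdeal
        (⊥ : Ideal B) hle
      exact ⟨⟨Q, hQ⟩, PrimeSpectrum.ext hQp⟩
    · intro K _ g₁ g₂ hg
      ext b
      obtain ⟨n, ⟨a, ha⟩, ⟨c, hc⟩⟩ := hpow b
      by_cases h0K : ((p : ℕ) : K) = 0
      · haveI : CharP K p := (CharP.charP_iff_prime_eq_zero hp).mpr h0K
        apply iterateFrobenius_inj K p n
        rw [iterateFrobenius_def, iterateFrobenius_def, ← map_pow, ← map_pow, ← hc]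
        exact congrFun (congrArg DFunLike.coe hg) c
      · have h1 : g₁ ((p ^ n : B) * b) = g₂ ((p ^ n : B) * b) := by
          rw [← ha]; exact congrFun (congrArg DFunLike.coe hg) a
        rw [map_mul, map_mul, map_pow, map_pow, map_natCast, map_natCast] at h1
        exact mul_left_cancel₀ (pow_ne_zero n h0K) h1

end Groth.Agent.Helper21.PUH2
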