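import Mathlib
import Groth.Agent.Lib.Helper21.TorRes

/-!
# Projective dimension of a finite module over a Noetherian local ring via `Tor(k, M)`
-/

set_option autoImplicit false
universe u
open CategoryTheory CategoryTheory.Limits MonoidalCategory TensorProduct

namespace Groth.Agent.Helper21.PDT

open Groth.Agent.Helper18.TorLib

theorem pd_of_tor (A : Type u) [CommRing A] [IsLocalRing A] [IsNoetherianRing A] :
    ∀ (n : ℕ) (M : Type u) [AddCommGroup M] [Module A M] [Module.Finite A M],
      IsZero (((Tor (ModuleCat.{u} A) (n + 1)).obj
        (ModuleCat.of A (IsLocalRing.ResidueField A))).obj (ModuleCat.of A M)) →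
      HasProjectiveDimensionLT (ModuleCat.of A M) (n + 1) := by
  intro n
  induction n with
  | zero =>
    intro M _ _ _ h
    have hfp : Module.FinitePresentation A M := Module.finitePresentation_of_finite A M
    have hinj : Function.Injective ((IsLocalRing.maximalIdeal A).subtype.rTensor M) :=
      (isZero_tor_one_iff_injective (M := M) (IsLocalRing.maximalIdeal A).subtype
        (IsLocalRing.maximalIdeal A).mkQ (Submodule.injective_subtype _)
        (LinearMap.exact_subtype_mkQ _) (Submodule.mkQ_surjective _)).mp h
    have hfree : Module.Free A M := Module.free_of_maximalIdeal_rTensor_injective hinj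
    have hproj : Projective (ModuleCat.of A M) :=
      (IsProjective.iff_projective (R := A) (P := M)).mp inferInstance
    exact projective_iff_hasProjectiveDimensionLT_one.mp hproj
  | succ n ih =>
    intro M _ _ _ h
    obtain ⟨r, f, hf⟩ := Module.Finite.exists_fin' A M
    let K : Submodule A (Fin r → A) := LinearMap.ker f
    let S : ShortComplex (ModuleCat.{u} A) :=
      ModuleCat.shortComplexOfCompEqZero K.subtype f (LinearMap.ext fun x => x.2)
    have hS : S.ShortExact :=
      ModuleCat.shortComplex_shortExact S (LinearMap.exact_subtype_ker_map f)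
        (Submodule.injective_subtype K) hf
    have : Module.Flat A S.X₂ := inferInstanceAs (Module.Flat A (Fin r → A))
    have hK := (Groth.Agent.Helper21.TRF.shift hS
      (ModuleCat.of A (IsLocalRing.ResidueField A)) (n + 1) (by omega)).mp h
    have h1 : HasProjectiveDimensionLT (ModuleCat.of A K) (n + 1) := ih K hK
    have hproj : Projective S.X₂ :=
      (IsProjective.iff_projective (R := A) (P := (Fin r → A))).mp inferInstance
    have h2 : HasProjectiveDimensionLT S.X₂ (n + 1 + 1) :=
      hasProjectiveDimensionLT_of_ge S.X₂ 1 (n + 1 + 1) (by omega)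
    exact hS.hasProjectiveDimensionLT_X₃ (n + 1) h1 h2

end Groth.Agent.Helper21.PDT
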