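import Mathlib

/-! Core algebra for S14261: a compact perfect algebra is the perfection of a finitely presented one.
`core`: from a section `s` of `c : W → R` (where `W` is "the perfection of `B[X]/I`") one finds a
finitely generated ideal `I' ≤ ker π` with `ker π ≤ rad I'`. -/

namespace Groth.Agent.Helper21.PerfFP

open MvPolynomial

section Core

variable (p : ℕ) [Fact p.Prime]
variable {B R W : Type*} [CommRing B] [CommRing R] [CommRing W] [CharP B p] [CharP W p] [Algebra B R]
variable {ι : Type*} [Finite ι] (a : ι → R)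

theorem core (I : Ideal (MvPolynomial ι B)) (hIfg : I.FG)
    (hIK : I ≤ RingHom.ker (aeval a : MvPolynomial ι B →ₐ[B] R))
    (j : MvPolynomial ι B →+* W)
    (hj1 : ∀ w : W, ∃ (n : ℕ) (g : MvPolynomial ι B), j g = w ^ p ^ n)
    (hj2 : ∀ g, j g = 0 → ∃ N : ℕ, g ^ N ∈ I)
    (c : W →+* R) (hc : c.comp j = (aeval a : MvPolynomial ι B →ₐ[B] R).toRingHom)
    (s : R →+* W) (hcs : c.comp s = RingHom.id R) (hs : s.comp (algebraMap B R) = j.comp C) :
    ∃ I' : Ideal (MvPolynomial ι B), I'.FG ∧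
      I' ≤ RingHom.ker (aeval a : MvPolynomial ι B →ₐ[B] R) ∧
      ∀ g ∈ RingHom.ker (aeval a : MvPolynomial ι B →ₐ[B] R), ∃ N : ℕ, g ^ N ∈ I' := by
  classical
  cases nonempty_fintype ι
  have hcj : ∀ g, c (j g) = aeval a g := fun g => congr($hc g)
  have h1 : ∀ x : ι, ∃ (M : ℕ) (k : MvPolynomial ι B),
      k ∈ RingHom.ker (aeval a : MvPolynomial ι B →ₐ[B] R) ∧
        (s (a x) - j (X x)) ^ p ^ M = j k := by
    intro x
    obtain ⟨n, g, hg⟩ := hj1 (s (a x) - j (X x))
    refine ⟨n, g, ?_, hg.symm⟩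
    rw [RingHom.mem_ker, ← hcj, hg, map_pow, map_sub]
    have h2 : c (s (a x)) = a x := congr($hcs (a x))
    have h3 : c (j (X x)) = a x := by rw [hcj]; simp
    rw [h2, h3, sub_self, zero_pow (pow_ne_zero _ (Fact.out : p.Prime).ne_zero)]
  choose M₀ k₀ hk₀ hM₀ using h1
  obtain ⟨M, hMle⟩ : ∃ M, ∀ x, M₀ x ≤ M := ⟨Finset.univ.sup M₀, fun x => Finset.le_sup (Finset.mem_univ x)⟩
  let k : ι → MvPolynomial ι B := fun x => k₀ x ^ p ^ (M - M₀ x)
  have hk : ∀ x, k x ∈ RingHom.ker (aeval a : MvPolynomial ι B →ₐ[B] R) := fun x =>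
    Ideal.pow_mem_of_mem _ (hk₀ x) _ (pow_pos (Fact.out : p.Prime).pos _)
  have hM : ∀ x, (s (a x) - j (X x)) ^ p ^ M = j (k x) := by
    intro x
    have e : p ^ M = p ^ M₀ x * p ^ (M - M₀ x) := by
      rw [← pow_add, Nat.add_sub_cancel' (hMle x)]
    rw [e, pow_mul, hM₀, map_pow]
  let θ : MvPolynomial ι B →+* MvPolynomial ι B :=
    eval₂Hom (C.comp (iterateFrobenius B p M)) (fun x => X x ^ p ^ M + k x)
  have hθC : ∀ b, θ (C b) = C (b ^ p ^ M) := fun b => by simp [θ, iterateFrobenius_def]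
  have hθX : ∀ x, θ (X x) = X x ^ p ^ M + k x := fun x => by simp [θ]
  have c1 : ∀ g : MvPolynomial ι B, (s (aeval a g)) ^ p ^ M = j (θ g) := by
    have : (iterateFrobenius W p M).comp (s.comp (aeval a : MvPolynomial ι B →ₐ[B] R).toRingHom)
        = j.comp θ := by
      apply MvPolynomial.ringHom_ext
      · intro b
        have hsb : s (algebraMap B R b) = j (C b) := congr($hs b)
        simp only [RingHom.comp_apply, iterateFrobenius_def, hθC, AlgHom.toRingHom_eq_coe,
          RingHom.coe_coe, aeval_C, hsb]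
        rw [← map_pow, ← map_pow]
      · intro x
        simp only [RingHom.comp_apply, iterateFrobenius_def, hθX, AlgHom.toRingHom_eq_coe,
          RingHom.coe_coe, aeval_X, map_add, map_pow]
        rw [← hM x, sub_pow_char_pow]
        ring
    intro g
    simpa [iterateFrobenius_def] using congr($this g)
  let I' : Ideal (MvPolynomial ι B) := I ⊔ Ideal.span (Set.range k)
  have c3 : ∀ g : MvPolynomial ι B,
      (Ideal.Quotient.mk I') (θ g) = (Ideal.Quotient.mk I') (g ^ p ^ M) := by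
    have : (Ideal.Quotient.mk I').comp θ =
        (Ideal.Quotient.mk I').comp (iterateFrobenius (MvPolynomial ι B) p M) := by
      apply MvPolynomial.ringHom_ext
      · intro b
        simp only [RingHom.comp_apply, hθC, iterateFrobenius_def]
        rw [← map_pow C]
      · intro x
        simp only [RingHom.comp_apply, hθX, iterateFrobenius_def, map_add]
        rw [add_eq_left]
        exact Ideal.Quotient.eq_zero_iff_mem.2 (Ideal.mem_sup_right (Ideal.subset_span ⟨x, rfl⟩))
    intro g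
    simpa [iterateFrobenius_def] using congr($this g)
  refine ⟨I', Submodule.FG.sup hIfg ⟨Finset.univ.image k, by simp⟩,
    sup_le hIK (Ideal.span_le.2 (by rintro _ ⟨x, rfl⟩; exact hk x)), ?_⟩
  intro g hg
  have c2 : j (θ g) = 0 := by
    rw [← c1 g, (RingHom.mem_ker).1 hg, map_zero, zero_pow (pow_ne_zero _ (Fact.out : p.Prime).ne_zero)]
  obtain ⟨N, hN⟩ := hj2 _ c2
  refine ⟨p ^ M * N, ?_⟩
  rw [← Ideal.Quotient.eq_zero_iff_mem, pow_mul, map_pow, ← c3, ← map_pow,
    Ideal.Quotient.eq_zero_iff_mem]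
  exact Ideal.mem_sup_left hN

end Core

end Groth.Agent.Helper21.PerfFP
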