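import Mathlib

/-! Categorical glue for S14261: a directed system of perfect `B`-algebras with colimit `A`
(checked by hand through its universal property) and `A` compact ⇒ the identity of `A` factors
through a stage. -/

namespace Groth.Agent.Helper21.PerfFP

universe u
open CategoryTheory Limits

/-- The object property of perfect `B`-algebras of characteristic `p`. -/
abbrev PP (p : ℕ) (B : CommRingCat.{u}) : ObjectProperty (Under B) :=
  fun Y => (p : Y.right) = 0 ∧ Function.Bijective fun y : Y.right => y ^ p

/-- A directed system of perfect `B`-algebras mapping to `A`. -/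
structure Sys (p : ℕ) (B : CommRingCat.{u}) (A : (PP p B).FullSubcategory) (J : Type u)
    [Preorder J] where
  R : J → Type u
  [ring : ∀ j, CommRing (R j)]
  φ : ∀ j, B →+* R j
  h0 : ∀ j, (p : R j) = 0
  hb : ∀ j, Function.Bijective fun y : R j => y ^ p
  t : ∀ {i j : J}, i ≤ j → (R i →+* R j)
  tφ : ∀ {i j : J} (h : i ≤ j), (t h).comp (φ i) = φ j
  t_refl : ∀ i, t (le_refl i) = RingHom.id _
  t_trans : ∀ {i j k : J} (h : i ≤ j) (h' : j ≤ k), (t h').comp (t h) = t (h.trans h')
  c : ∀ j, R j →+* A.obj.right
  cφ : ∀ j, (c j).comp (φ j) = A.obj.hom.hom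
  ct : ∀ {i j : J} (h : i ≤ j), (c j).comp (t h) = c i

attribute [instance] Sys.ring

namespace Sys

variable {p : ℕ} {B : CommRingCat.{u}} {A : (PP p B).FullSubcategory} {J : Type u} [Preorder J]
  (D : Sys p B A J)

/-- The objects of the system. -/
def obj (j : J) : (PP p B).FullSubcategory :=
  ⟨Under.mk (CommRingCat.ofHom (D.φ j)), D.h0 j, D.hb j⟩

/-- The system as a functor. -/
def functor : J ⥤ (PP p B).FullSubcategory where
  obj := D.obj
  map {i j} f := ObjectProperty.homMk (Under.homMk (CommRingCat.ofHom (D.t (leOfHom f))) (by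
    ext x; exact congr($(D.tφ (leOfHom f)) x)))
  map_id i := by
    ext x
    exact congr($(D.t_refl i) x)
  map_comp {i j k} f g := by
    ext x
    exact (congr($(D.t_trans (leOfHom f) (leOfHom g)) x)).symm

/-- The cocone with point `A`. -/
def cocone : Cocone D.functor where
  pt := A
  ι :=
    { app := fun j => ObjectProperty.homMk (Under.homMk (CommRingCat.ofHom (D.c j)) (by
        ext x; exact congr($(D.cφ j) x)))
      naturality := fun i j f => by
        ext x
        exact congr($(D.ct (leOfHom f)) x) }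

/-- The ring hom to a subsingleton ring. -/
def toSubsingleton (R S : Type*) [CommRing R] [CommRing S] [Subsingleton S] : R →+* S where
  toFun _ := 0
  map_one' := Subsingleton.elim _ _
  map_mul' _ _ := Subsingleton.elim _ _
  map_zero' := rfl
  map_add' _ _ := Subsingleton.elim _ _

theorem isColimit_cocone
    (UP : ∀ (Z : (PP p B).FullSubcategory) [Nontrivial Z.obj.right]
      (f : ∀ j, D.R j →+* Z.obj.right),
      (∀ j, (f j).comp (D.φ j) = Z.obj.hom.hom) →
      (∀ {i j : J} (h : i ≤ j), (f j).comp (D.t h) = f i) →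
      ∃ g : A.obj.right →+* Z.obj.right, g.comp A.obj.hom.hom = Z.obj.hom.hom ∧
        ∀ j, g.comp (D.c j) = f j)
    (UQ : ∀ (Z : (PP p B).FullSubcategory) [Nontrivial Z.obj.right]
      (g g' : A.obj.right →+* Z.obj.right),
      (∀ j, g.comp (D.c j) = g'.comp (D.c j)) → g = g') :
    Nonempty (IsColimit D.cocone) := by
  refine ⟨IsColimit.ofExistsUnique fun s => ?_⟩
  by_cases hZ : Nontrivial s.pt.obj.right
  · obtain ⟨g, hg1, hg2⟩ := UP s.pt (fun j => (s.ι.app j).hom.right.hom)
      (fun j => by
        ext x
        exact congr($(Under.w (s.ι.app j).hom).hom x))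
      (fun {i j} h => by
        ext x
        exact congr($(s.w (homOfLE h)).hom.right.hom x))
    refine ⟨ObjectProperty.homMk (Under.homMk (CommRingCat.ofHom g) (by
      ext x; exact congr($hg1 x))), fun j => ?_, fun l hl => ?_⟩
    · ext x
      exact congr($(hg2 j) x)
    · have : l.hom.right.hom = g := by
        apply UQ s.pt
        intro j
        rw [hg2 j]
        ext x
        exact congr($(hl j).hom.right.hom x)
      ext x
      exact congr($this x)
  · rw [not_nontrivial_iff_subsingleton] at hZ
    refine ⟨ObjectProperty.homMk (Under.homMk (CommRingCat.ofHom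
      (toSubsingleton A.obj.right s.pt.obj.right)) (by
      ext x; exact Subsingleton.elim _ _)), fun j => ?_, fun l hl => ?_⟩
    · ext x
      exact Subsingleton.elim _ _
    · ext x
      exact Subsingleton.elim _ _

theorem exists_section [IsDirected J (· ≤ ·)] [Nonempty J] [IsFinitelyPresentable.{u} A]
    (UP : ∀ (Z : (PP p B).FullSubcategory) [Nontrivial Z.obj.right]
      (f : ∀ j, D.R j →+* Z.obj.right),
      (∀ j, (f j).comp (D.φ j) = Z.obj.hom.hom) →
      (∀ {i j : J} (h : i ≤ j), (f j).comp (D.t h) = f i) →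
      ∃ g : A.obj.right →+* Z.obj.right, g.comp A.obj.hom.hom = Z.obj.hom.hom ∧
        ∀ j, g.comp (D.c j) = f j)
    (UQ : ∀ (Z : (PP p B).FullSubcategory) [Nontrivial Z.obj.right]
      (g g' : A.obj.right →+* Z.obj.right),
      (∀ j, g.comp (D.c j) = g'.comp (D.c j)) → g = g') :
    ∃ (j : J) (s : A.obj.right →+* D.R j),
      s.comp A.obj.hom.hom = D.φ j ∧ (D.c j).comp s = RingHom.id _ := by
  obtain ⟨hc⟩ := D.isColimit_cocone UP UQ
  obtain ⟨j, q, hq⟩ := IsFinitelyPresentable.exists_hom_of_isColimit hc (𝟙 A)
  refine ⟨j, q.hom.right.hom, ?_, ?_⟩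
  · ext x
    exact congr($(Under.w q.hom).hom x)
  · ext x
    exact congr($(hq).hom.right.hom x)

end Sys

end Groth.Agent.Helper21.PerfFP
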