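import Groth.Agent.Lib.Helper21.PerfFP1
import Groth.Agent.Lib.Helper21.PerfFP2

/-! Step 1 for S14261: a compact perfect `B`-algebra is `p`-radical over a finitely generated
subalgebra. -/

namespace Groth.Agent.Helper21.PerfFP

universe u
open CategoryTheory Limits

section PRad

variable (p : ℕ) [Fact p.Prime] {B R : Type*} [CommRing B] [CommRing R] [Algebra B R] [CharP R p]

/-- The `p`-radical closure of a subalgebra. -/
def pRad (U : Subalgebra B R) : Subalgebra B R where
  carrier := {a | ∃ n : ℕ, a ^ p ^ n ∈ U}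
  mul_mem' := by
    rintro a b ⟨n, ha⟩ ⟨m, hb⟩
    refine ⟨n + m, ?_⟩
    rw [mul_pow, pow_add, pow_mul, pow_mul']
    exact U.mul_mem (U.pow_mem ha _) (U.pow_mem hb _)
  add_mem' := by
    rintro a b ⟨n, ha⟩ ⟨m, hb⟩
    refine ⟨n + m, ?_⟩
    rw [add_pow_char_pow, pow_add, pow_mul, pow_mul']
    exact U.add_mem (U.pow_mem ha _) (U.pow_mem hb _)
  algebraMap_mem' b := ⟨0, by simpa using U.algebraMap_mem b⟩

theorem mem_pRad {U : Subalgebra B R} {a : R} : a ∈ pRad p U ↔ ∃ n : ℕ, a ^ p ^ n ∈ U := Iff.rfl

theorem le_pRad (U : Subalgebra B R) : U ≤ pRad p U := fun a ha => ⟨0, by simpa using ha⟩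

theorem pRad_mono {U V : Subalgebra B R} (h : U ≤ V) : pRad p U ≤ pRad p V :=
  fun _ ⟨n, hn⟩ => ⟨n, h hn⟩

theorem natCast_pRad_eq_zero (U : Subalgebra B R) : (p : pRad p U) = 0 :=
  Subtype.ext (by simp [CharP.cast_eq_zero])

theorem bijective_pow_pRad (U : Subalgebra B R) (hb : Function.Bijective fun y : R => y ^ p) :
    Function.Bijective fun y : pRad p U => y ^ p := by
  constructor
  · intro x y hxy
    apply Subtype.ext
    apply hb.1
    exact congr(($hxy : R))
  · rintro ⟨x, n, hn⟩
    obtain ⟨y, hy⟩ := hb.2 x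
    refine ⟨⟨y, n + 1, ?_⟩, Subtype.ext hy⟩
    rw [pow_succ', pow_mul]
    simpa [← hy] using hn

end PRad

section Step1

variable (p : ℕ) (B : CommRingCat.{u}) (A : (PP p B).FullSubcategory)

/-- The `B`-algebra structure of `A`. -/
@[reducible] def algA : Algebra B A.obj.right := A.obj.hom.hom.toAlgebra

attribute [local instance] algA

variable {p B A}

/-- The system attached to a monotone family of perfect subalgebras. -/
noncomputable def Sys.ofSubalgebras {J : Type u} [Preorder J] (U : J → Subalgebra B A.obj.right)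
    (hU : Monotone U) (h0 : ∀ j, (p : U j) = 0)
    (hb : ∀ j, Function.Bijective fun y : U j => y ^ p) : Sys p B A J where
  R j := U j
  φ j := algebraMap B (U j)
  h0 := h0
  hb := hb
  t h := (Subalgebra.inclusion (hU h)).toRingHom
  tφ h := by ext b; rfl
  t_refl i := by ext x; rfl
  t_trans h h' := by ext x; rfl
  c j := (U j).val.toRingHom
  cφ j := by ext b; rfl
  ct h := by ext x; rfl

theorem exists_eq_top {J : Type u} [Preorder J] [IsDirected J (· ≤ ·)] [Nonempty J]
    [IsFinitelyPresentable.{u} A]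
    (U : J → Subalgebra B A.obj.right)
    (hU : Monotone U) (h0 : ∀ j, (p : U j) = 0)
    (hb : ∀ j, Function.Bijective fun y : U j => y ^ p)
    (hcov : ∀ a : A.obj.right, ∃ j, a ∈ U j) :
    ∃ j, ∀ a : A.obj.right, a ∈ U j := by
  refine (fun H => ?_) ((Sys.ofSubalgebras U hU h0 hb).exists_section ?_ ?_)
  · obtain ⟨j, s, -, hs⟩ := H
    refine ⟨j, fun a => ?_⟩
    have hmem : ((show U j from s a) : A.obj.right) ∈ U j := (show U j from s a).2
    have : ((show U j from s a) : A.obj.right) = a := congr($hs a)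
    rwa [this] at hmem
  · intro Z _ f hfφ hft
    change ∀ j, U j →+* Z.obj.right at f
    change ∀ j, (f j).comp (algebraMap B (U j)) = Z.obj.hom.hom at hfφ
    change ∀ {i j : J} (h : i ≤ j),
      (f j).comp (Subalgebra.inclusion (hU h)).toRingHom = f i at hft
    choose jj hjj using hcov
    let g0 : A.obj.right → Z.obj.right := fun a => f (jj a) ⟨a, hjj a⟩
    have key : ∀ (j : J) (x : U j), f j x = g0 x.1 := by
      intro j x
      obtain ⟨k, hk1, hk2⟩ := exists_ge_ge j (jj x.1)
      have e1 : f j x = f k (Subalgebra.inclusion (hU hk1) x) := (congr($(hft hk1) x)).symm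
      have e2 : f (jj x.1) ⟨x.1, hjj x.1⟩ =
          f k (Subalgebra.inclusion (hU hk2) ⟨x.1, hjj x.1⟩) := (congr($(hft hk2) _)).symm
      rw [e1]
      show _ = f (jj x.1) ⟨x.1, hjj x.1⟩
      rw [e2]
      rfl
    have hpair : ∀ a b : A.obj.right, ∃ (j : J) (a' b' : U j), a'.1 = a ∧ b'.1 = b := by
      intro a b
      obtain ⟨k, hk1, hk2⟩ := exists_ge_ge (jj a) (jj b)
      exact ⟨k, ⟨a, hU hk1 (hjj a)⟩, ⟨b, hU hk2 (hjj b)⟩, rfl, rfl⟩
    obtain ⟨j0⟩ := ‹Nonempty J›
    let g : A.obj.right →+* Z.obj.right :=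
      { toFun := g0
        map_one' := by
          have := key j0 1
          rw [map_one] at this
          exact this.symm
        map_mul' := fun a b => by
          obtain ⟨j, a', b', rfl, rfl⟩ := hpair a b
          have := key j (a' * b')
          rw [map_mul, key, key] at this
          exact this.symm
        map_zero' := by
          have := key j0 0
          rw [map_zero] at this
          exact this.symm
        map_add' := fun a b => by
          obtain ⟨j, a', b', rfl, rfl⟩ := hpair a b
          have := key j (a' + b')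
          rw [map_add, key, key] at this
          exact this.symm }
    refine ⟨g, ?_, fun j => ?_⟩
    · ext b
      have h1 : f j0 (algebraMap B (U j0) b) = Z.obj.hom.hom b := congr($(hfφ j0) b)
      rw [← h1, key]
      rfl
    · ext x
      exact (key j x).symm
  · intro Z _ g g' h
    ext a
    obtain ⟨j, hj⟩ := hcov a
    exact congr($(h j) ⟨a, hj⟩)

theorem charP_A (p : ℕ) [Fact p.Prime] (A : (PP p B).FullSubcategory) [Nontrivial A.obj.right] :
    CharP A.obj.right p :=
  (CharP.charP_iff_prime_eq_zero Fact.out).2 A.property.1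

theorem step1 (p : ℕ) [Fact p.Prime] (A : (PP p B).FullSubcategory) [Nontrivial A.obj.right]
    [IsFinitelyPresentable.{u} A] :
    ∃ S : Finset A.obj.right, ∀ a : A.obj.right,
      ∃ n : ℕ, a ^ p ^ n ∈ Algebra.adjoin B (S : Set A.obj.right) := by
  classical
  haveI := charP_A p A
  exact exists_eq_top (fun S : Finset A.obj.right => pRad p (Algebra.adjoin B (S : Set A.obj.right)))
    (fun S S' h => pRad_mono p (Algebra.adjoin_mono (Finset.coe_subset.2 h)))
    (fun S => natCast_pRad_eq_zero p _) (fun S => bijective_pow_pRad p _ A.property.2)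
    (fun a => ⟨{a}, le_pRad p _ (Algebra.subset_adjoin (by simp))⟩)

end Step1

end Groth.Agent.Helper21.PerfFP
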