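import Groth.Agent.Lib.Helper21.PerfFP3

/-! Step 2 for S14261: the system of perfections of `P ⧸ I`, `I` running over the finitely
generated subideals of `ker (P → A)`. -/

namespace Groth.Agent.Helper21.PerfFP

universe u
open CategoryTheory Limits

section W

variable (p : ℕ) [Fact p.Prime] {P : Type*} [CommRing P] (I : Ideal P) [CharP (P ⧸ I) p]

/-- The canonical map `P → (P/I)_perf`. -/
noncomputable def jW : P →+* PerfectClosure (P ⧸ I) p :=
  (PerfectClosure.of (P ⧸ I) p).comp (Ideal.Quotient.mk I)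

theorem jW_pow_mem (w : PerfectClosure (P ⧸ I) p) : ∃ (n : ℕ) (g : P), jW p I g = w ^ p ^ n := by
  obtain ⟨n, y, hy⟩ := IsPRadical.pow_mem (PerfectClosure.of (P ⧸ I) p) p w
  obtain ⟨g, rfl⟩ := Ideal.Quotient.mk_surjective y
  exact ⟨n, g, hy⟩

theorem jW_eq_zero {g : P} (h : jW p I g = 0) : ∃ N : ℕ, g ^ N ∈ I := by
  have h1 : Ideal.Quotient.mk I g ∈ RingHom.ker (PerfectClosure.of (P ⧸ I) p) := h
  have h2 := IsPRadical.ker_le (PerfectClosure.of (P ⧸ I) p) p h1
  rw [pNilradical_prime Fact.out, mem_nilradical] at h2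
  obtain ⟨N, hN⟩ := h2
  exact ⟨N, by rwa [← map_pow, Ideal.Quotient.eq_zero_iff_mem] at hN⟩

theorem jW_mem {g : P} (h : g ∈ I) : jW p I g = 0 := by
  simp [jW, Ideal.Quotient.eq_zero_iff_mem.2 h]

variable {M : Type*} [CommRing M] [CharP M p] [PerfectRing M p]

/-- The universal property of `(P/I)_perf`. -/
noncomputable def liftW (f : P →+* M) (hf : I ≤ RingHom.ker f) :
    PerfectClosure (P ⧸ I) p →+* M :=
  PerfectRing.lift (PerfectClosure.of (P ⧸ I) p) (Ideal.Quotient.lift I f (fun _ ha => hf ha)) p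

theorem liftW_comp (f : P →+* M) (hf : I ≤ RingHom.ker f) :
    (liftW p I f hf).comp (jW p I) = f := by
  ext x
  simp [liftW, jW, PerfectRing.lift_comp_apply]

theorem homW_ext {f g : PerfectClosure (P ⧸ I) p →+* M}
    (h : f.comp (jW p I) = g.comp (jW p I)) : f = g := by
  apply IsPRadical.injective_comp_of_perfect M (PerfectClosure.of (P ⧸ I) p) p
  apply Ideal.Quotient.ringHom_ext
  exact h

end W

section Step2

variable {p : ℕ} [Fact p.Prime] {B : CommRingCat.{u}} {A : (PP p B).FullSubcategory}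
  [CharP A.obj.right p] [PerfectRing A.obj.right p]

/-- The system of the `(P/I_j)_perf`. -/
noncomputable def Sys.ofIdeals {J : Type u} [Preorder J] {P : Type u} [CommRing P]
    (φP : B →+* P) (π : P →+* A.obj.right) (hπ : π.comp φP = A.obj.hom.hom)
    (I : J → Ideal P) (hI : Monotone I) (hIK : ∀ j, I j ≤ RingHom.ker π)
    [∀ j, CharP (P ⧸ I j) p] : Sys p B A J where
  R j := PerfectClosure (P ⧸ I j) p
  φ j := (jW p (I j)).comp φP
  h0 j := CharP.cast_eq_zero _ p
  hb j := PerfectRing.bijective_frobenius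
  t {i j} h := liftW p (I i) (jW p (I j)) (fun x hx => jW_mem p (I j) (hI h hx))
  tφ h := by rw [← RingHom.comp_assoc, liftW_comp]
  t_refl i := homW_ext p (I i) (by rw [liftW_comp]; rfl)
  t_trans h h' := homW_ext p _ (by rw [RingHom.comp_assoc, liftW_comp, liftW_comp, liftW_comp])
  c j := liftW p (I j) π (hIK j)
  cφ j := by rw [← RingHom.comp_assoc, liftW_comp, hπ]
  ct h := homW_ext p _ (by rw [RingHom.comp_assoc, liftW_comp, liftW_comp, liftW_comp])

omit [CharP A.obj.right p] [PerfectRing A.obj.right p] in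
theorem charP_quot {P R : Type*} [CommRing P] [CommRing R] [Nontrivial R] [CharP P p]
    (π : P →+* R) (I : Ideal P) (hI : I ≤ RingHom.ker π) : CharP (P ⧸ I) p := by
  haveI : Nontrivial (P ⧸ I) := (Ideal.Quotient.lift I π (fun _ h => hI h)).domain_nontrivial
  exact (CharP.charP_iff_prime_eq_zero Fact.out).2
    (by rw [← map_natCast (Ideal.Quotient.mk I), CharP.cast_eq_zero, map_zero])

omit [Fact p.Prime] [CharP A.obj.right p] [PerfectRing A.obj.right p] in
theorem isPRadical_kerLift {P R : Type*} [CommRing P] [CommRing R] (π : P →+* R)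
    (hrad : ∀ x : R, ∃ (n : ℕ) (g : P), π g = x ^ p ^ n) : IsPRadical (RingHom.kerLift π) p :=
  ⟨fun x => by
    obtain ⟨n, g, hg⟩ := hrad x
    exact ⟨n, Ideal.Quotient.mk _ g, hg⟩, by
    rw [(RingHom.injective_iff_ker_eq_bot _).1 (RingHom.kerLift_injective π)]
    exact bot_le⟩

theorem step2 {J : Type u} [Preorder J] [IsDirected J (· ≤ ·)] [Nonempty J]
    [IsFinitelyPresentable.{u} A] [Nontrivial A.obj.right]
    {P : Type u} [CommRing P] [CharP P p] (φP : B →+* P) (π : P →+* A.obj.right)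
    (hπ : π.comp φP = A.obj.hom.hom)
    (I : J → Ideal P) (hI : Monotone I) (hIK : ∀ j, I j ≤ RingHom.ker π)
    [∀ j, CharP (P ⧸ I j) p]
    (hcov : ∀ k ∈ RingHom.ker π, ∃ j, k ∈ I j)
    (hrad : ∀ x : A.obj.right, ∃ (n : ℕ) (g : P), π g = x ^ p ^ n) :
    ∃ (j : J) (s : A.obj.right →+* PerfectClosure (P ⧸ I j) p),
      s.comp A.obj.hom.hom = (jW p (I j)).comp φP ∧
        (liftW p (I j) π (hIK j)).comp s = RingHom.id _ := by
  haveI : CharP (P ⧸ RingHom.ker π) p := charP_quot π _ le_rfl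
  haveI : IsPRadical (RingHom.kerLift π) p := isPRadical_kerLift π hrad
  refine (Sys.ofIdeals φP π hπ I hI hIK).exists_section ?_ ?_
  · intro Z _ f hfφ hft
    change ∀ j, PerfectClosure (P ⧸ I j) p →+* Z.obj.right at f
    change ∀ j, (f j).comp ((jW p (I j)).comp φP) = Z.obj.hom.hom at hfφ
    change ∀ {i j : J} (h : i ≤ j), (f j).comp (liftW p (I i) (jW p (I j))
      (fun x hx => jW_mem p (I j) (hI h hx))) = f i at hft
    haveI : CharP Z.obj.right p := (CharP.charP_iff_prime_eq_zero Fact.out).2 Z.property.1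
    haveI : PerfectRing Z.obj.right p := ⟨Z.property.2⟩
    obtain ⟨j₀⟩ := ‹Nonempty J›
    have hψ : ∀ {i j : J} (h : i ≤ j),
        (f j).comp (jW p (I j)) = (f i).comp (jW p (I i)) := by
      intro i j h
      rw [← hft h, RingHom.comp_assoc, liftW_comp]
    have hψ' : ∀ j, (f j).comp (jW p (I j)) = (f j₀).comp (jW p (I j₀)) := by
      intro j
      obtain ⟨k, h1, h2⟩ := exists_ge_ge j j₀
      rw [← hψ h1, hψ h2]
    have hψK : ∀ k ∈ RingHom.ker π, ((f j₀).comp (jW p (I j₀))) k = 0 := by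
      intro k hk
      obtain ⟨j, hj⟩ := hcov k hk
      rw [← hψ' j, RingHom.comp_apply, jW_mem p _ hj, map_zero]
    let g : A.obj.right →+* Z.obj.right := PerfectRing.lift (RingHom.kerLift π)
      (Ideal.Quotient.lift (RingHom.ker π) ((f j₀).comp (jW p (I j₀))) hψK) p
    have hgπ : g.comp π = (f j₀).comp (jW p (I j₀)) := by
      ext x
      exact PerfectRing.lift_comp_apply (RingHom.kerLift π) _ p (Ideal.Quotient.mk _ x)
    refine ⟨g, ?_, fun j => ?_⟩
    · rw [← hπ, ← RingHom.comp_assoc, hgπ, RingHom.comp_assoc]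
      exact hfφ j₀
    · apply homW_ext p (I j)
      change (g.comp (liftW p (I j) π (hIK j))).comp (jW p (I j)) = _
      rw [RingHom.comp_assoc, liftW_comp, hgπ, hψ' j]
  · intro Z _ g g' h
    haveI : CharP Z.obj.right p := (CharP.charP_iff_prime_eq_zero Fact.out).2 Z.property.1
    haveI : PerfectRing Z.obj.right p := ⟨Z.property.2⟩
    obtain ⟨j₀⟩ := ‹Nonempty J›
    have h0 : g.comp (liftW p (I j₀) π (hIK j₀)) = g'.comp (liftW p (I j₀) π (hIK j₀)) := h j₀
    have h1 : g.comp π = g'.comp π := by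
      have := congr(RingHom.comp $h0 (jW p (I j₀)))
      simpa only [RingHom.comp_assoc, liftW_comp] using this
    apply IsPRadical.injective_comp_of_perfect Z.obj.right (RingHom.kerLift π) p
    apply Ideal.Quotient.ringHom_ext
    ext x
    exact congr($h1 x)

end Step2

end Groth.Agent.Helper21.PerfFP
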