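import Groth.Agent.Lib.Helper21.PerfFP4

/-! Final assembly for S14261. -/

namespace Groth.Agent.Helper21.PerfFP

universe u
open CategoryTheory Limits MvPolynomial

attribute [local instance] algA

theorem main_subsingleton (p : ℕ) [Fact p.Prime] (B : CommRingCat.{u})
    (A : (PP p B).FullSubcategory) [Subsingleton A.obj.right] :
    ∃ (A₀ : Type u) (_ : CommRing A₀) (_ : Algebra B A₀) (_ : Algebra.FinitePresentation B A₀)
      (k : A₀ →+* A.obj.right), k.comp (algebraMap B A₀) = A.obj.hom.hom ∧ IsPRadical k p := by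
  haveI : Subsingleton (B ⧸ (⊤ : Ideal B)) := Ideal.Quotient.subsingleton_iff.2 rfl
  refine ⟨B ⧸ (⊤ : Ideal B), inferInstance, inferInstance,
    Algebra.FinitePresentation.quotient ⟨{1}, by simp⟩,
    Ideal.Quotient.lift ⊤ A.obj.hom.hom (fun a _ => Subsingleton.elim _ _),
    RingHom.ext fun b => Subsingleton.elim _ _,
    ⟨fun x => ⟨0, 0, Subsingleton.elim _ _⟩, fun x _ => ?_⟩⟩
  rw [Subsingleton.elim x 0]
  exact Ideal.zero_mem _

theorem main_nontrivial (p : ℕ) [Fact p.Prime] (B : CommRingCat.{u}) [CharP B p]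
    (A : (PP p B).FullSubcategory) [IsFinitelyPresentable.{u} A] [Nontrivial A.obj.right] :
    ∃ (A₀ : Type u) (_ : CommRing A₀) (_ : Algebra B A₀) (_ : Algebra.FinitePresentation B A₀)
      (k : A₀ →+* A.obj.right), k.comp (algebraMap B A₀) = A.obj.hom.hom ∧ IsPRadical k p := by
  haveI := charP_A p A
  haveI : PerfectRing A.obj.right p := ⟨A.property.2⟩
  obtain ⟨S, hS⟩ := step1 p A
  let a : ↥S → A.obj.right := Subtype.val
  let π : MvPolynomial (↥S) B →ₐ[B] A.obj.right := aeval a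
  have hrange : Algebra.adjoin B (S : Set A.obj.right) = π.range := by
    rw [← Algebra.adjoin_range_eq_range_aeval]
    congr 1
    ext x
    simp [a]
  have hrad : ∀ x : A.obj.right, ∃ (n : ℕ) (g : MvPolynomial (↥S) B), π.toRingHom g = x ^ p ^ n := by
    intro x
    obtain ⟨n, hn⟩ := hS x
    rw [hrange] at hn
    obtain ⟨g, hg⟩ := hn
    exact ⟨n, g, hg⟩
  let J : Type u := {I : Ideal (MvPolynomial (↥S) B) // I.FG ∧ I ≤ RingHom.ker π.toRingHom}
  haveI : IsDirected J (· ≤ ·) :=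
    ⟨fun x y => ⟨⟨x.1 ⊔ y.1, Submodule.FG.sup x.2.1 y.2.1, sup_le x.2.2 y.2.2⟩,
      show x.1 ≤ x.1 ⊔ y.1 from le_sup_left, show y.1 ≤ x.1 ⊔ y.1 from le_sup_right⟩⟩
  haveI : Nonempty J := ⟨⟨⊥, Submodule.fg_bot, bot_le⟩⟩
  haveI : ∀ j : J, CharP (MvPolynomial (↥S) B ⧸ j.1) p := fun j => charP_quot π.toRingHom j.1 j.2.2
  have hπ : π.toRingHom.comp (C : B →+* MvPolynomial (↥S) B) = A.obj.hom.hom := by
    ext b
    simp [π]
    rfl
  obtain ⟨j, s, hs1, hs2⟩ := step2 (J := J) (C : B →+* MvPolynomial (↥S) B) π.toRingHom hπ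
    (fun j => j.1) (fun _ _ h => h) (fun j => j.2.2)
    (fun k hk => ⟨⟨Ideal.span {k}, ⟨{k}, by simp⟩, by
      rw [Ideal.span_le]; simpa using hk⟩, Ideal.subset_span rfl⟩) hrad
  obtain ⟨I', hfg, hle, hnil⟩ := core p a j.1 j.2.1 j.2.2 (jW p j.1) (jW_pow_mem p j.1)
    (fun g h => jW_eq_zero p j.1 h) (liftW p j.1 π.toRingHom j.2.2) (liftW_comp p j.1 _ _) s hs2 hs1
  refine ⟨MvPolynomial (↥S) B ⧸ I', inferInstance, inferInstance,
    Algebra.FinitePresentation.quotient hfg,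
    Ideal.Quotient.lift I' π.toRingHom hle, ?_, ⟨fun x => ?_, fun y hy => ?_⟩⟩
  · ext b
    have : algebraMap B (MvPolynomial (↥S) B ⧸ I') b = Ideal.Quotient.mk I' (C b) := rfl
    rw [RingHom.comp_apply, this, Ideal.Quotient.lift_mk]
    exact congr($hπ b)
  · obtain ⟨n, g, hg⟩ := hrad x
    exact ⟨n, Ideal.Quotient.mk I' g, by rw [Ideal.Quotient.lift_mk]; exact hg⟩
  · obtain ⟨g, rfl⟩ := Ideal.Quotient.mk_surjective y
    have hg : g ∈ RingHom.ker π.toRingHom := by
      rw [RingHom.mem_ker, Ideal.Quotient.lift_mk] at hy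
      exact hy
    obtain ⟨N, hN⟩ := hnil g hg
    rw [pNilradical_prime Fact.out, mem_nilradical]
    exact ⟨N, by rw [← map_pow, Ideal.Quotient.eq_zero_iff_mem]; exact hN⟩

theorem main (p : ℕ) [Fact p.Prime] (B : CommRingCat.{u}) [CharP B p]
    (A : (PP p B).FullSubcategory) [IsFinitelyPresentable.{u} A] :
    ∃ (A₀ : Type u) (_ : CommRing A₀) (_ : Algebra B A₀) (_ : Algebra.FinitePresentation B A₀)
      (k : A₀ →+* A.obj.right), k.comp (algebraMap B A₀) = A.obj.hom.hom ∧ IsPRadical k p := by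
  rcases subsingleton_or_nontrivial A.obj.right with h | h
  · exact main_subsingleton p B A
  · exact main_nontrivial p B A

end Groth.Agent.Helper21.PerfFP
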