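import Mathlib

/-! Perfection of a (faithfully) flat ring map is (faithfully) flat (S14255, S14260). -/

namespace Groth.Agent.Helper21.PF

universe u

section
variable (p : ℕ) [Fact p.Prime]

omit [Fact p.Prime] in
theorem common_exp {R R' : Type u} [CommRing R] [CommRing R'] (ι : R →+* R') [IsPRadical ι p]
    {l : ℕ} (s : Fin l → R') :
    ∃ N, ∀ M, N ≤ M → ∀ k, ∃ y, ι y = (s k) ^ p ^ M := by
  have hex : ∀ k, ∃ n : ℕ, ∃ y : R, ι y = (s k) ^ p ^ n := fun k => IsPRadical.pow_mem ι p (s k)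
  choose n y hy using hex
  refine ⟨Finset.univ.sup n, fun M hM k => ⟨(y k) ^ p ^ (M - n k), ?_⟩⟩
  have hle : n k ≤ M := (Finset.le_sup (Finset.mem_univ k)).trans hM
  rw [map_pow, hy k, ← pow_mul, ← pow_add, Nat.add_sub_cancel' hle]

variable {A B A' B' : Type u} [CommRing A] [CommRing B] [CommRing A'] [CommRing B']
    [CharP A p] [CharP B p] [CharP A' p] [CharP B' p] [PerfectRing A' p] [PerfectRing B' p]

theorem flat_main
    (φ : A →+* B) (hflat : φ.Flat) (i : A →+* A') (j : B →+* B') [IsPerfectClosure i p]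
    [IsPerfectClosure j p]
    (φ' : A' →+* B') (hφ : φ'.comp i = j.comp φ) : φ'.Flat := by
  have hp : p.Prime := Fact.out
  have hφ' : ∀ z, φ' (i z) = j (φ z) := fun z => by
    have := congrArg (fun g => g z) hφ
    simpa only [RingHom.comp_apply] using this
  let algAB : Algebra A B := φ.toAlgebra
  let algA'B' : Algebra A' B' := φ'.toAlgebra
  have hflatAB : Module.Flat A B := hflat
  have hsmulB : ∀ (a : A) (b : B), a • b = φ a * b := fun _ _ => rfl
  have hsmulB' : ∀ (a : A') (b : B'), a • b = φ' a * b := fun _ _ => rfl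
  change Module.Flat A' B'
  apply Module.Flat.of_forall_isTrivialRelation
  intro l a' b' hrel
  have hrel' : ∑ k, φ' (a' k) * b' k = 0 := by
    rw [← hrel]
    exact Finset.sum_congr rfl fun k _ => (hsmulB' _ _).symm
  obtain ⟨N₁, hN₁⟩ := common_exp p i a'
  obtain ⟨N₂, hN₂⟩ := common_exp p j b'
  have ha0 := hN₁ (max N₁ N₂) (le_max_left _ _)
  have hb0 := hN₂ (max N₁ N₂) (le_max_right _ _)
  choose a0 ha0 using ha0
  choose b0 hb0 using hb0
  have hje : j (∑ k, φ (a0 k) * b0 k) = 0 := by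
    rw [map_sum]
    have hterm : ∀ k, j (φ (a0 k) * b0 k) = (φ' (a' k) * b' k) ^ p ^ (max N₁ N₂) := by
      intro k
      rw [map_mul, mul_pow, ← map_pow, ← ha0 k, ← hb0 k, hφ']
    rw [Finset.sum_congr rfl fun k _ => hterm k, ← sum_pow_char_pow, hrel',
      zero_pow (pow_pos hp.pos _).ne']
  have hnil := IsPRadical.ker_le j p (RingHom.mem_ker.mpr hje)
  rw [mem_pNilradical] at hnil
  obtain ⟨M, hM⟩ := hnil
  have hia : ∀ k, i ((a0 k) ^ p ^ M) = (a' k) ^ p ^ (max N₁ N₂ + M) := by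
    intro k
    rw [map_pow, ha0 k, ← pow_mul, ← pow_add]
  have hjb : ∀ k, j ((b0 k) ^ p ^ M) = (b' k) ^ p ^ (max N₁ N₂ + M) := by
    intro k
    rw [map_pow, hb0 k, ← pow_mul, ← pow_add]
  have hsum : ∑ k, ((a0 k) ^ p ^ M) • ((b0 k) ^ p ^ M) = 0 := by
    rw [← hM, sum_pow_char_pow]
    refine Finset.sum_congr rfl fun k _ => ?_
    rw [hsmulB, map_pow, mul_pow]
  obtain ⟨κ, c, y, h1, h2⟩ := Module.Flat.isTrivialRelation_of_sum_smul_eq_zero (R := A) (M := B)
    (f := fun k => (a0 k) ^ p ^ M) (x := fun k => (b0 k) ^ p ^ M) hsum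
  replace h1 : ∀ k, (b0 k) ^ p ^ M = ∑ jj, c k jj • y jj := h1
  replace h2 : ∀ jj, ∑ k, (a0 k) ^ p ^ M * c k jj = 0 := h2
  have hFA : ∀ z : A', ((iterateFrobeniusEquiv A' p (max N₁ N₂ + M)).symm z)
      ^ p ^ (max N₁ N₂ + M) = z := fun z => by
    rw [← iterateFrobeniusEquiv_def, RingEquiv.apply_symm_apply]
  have hFB : ∀ z : B', ((iterateFrobeniusEquiv B' p (max N₁ N₂ + M)).symm z)
      ^ p ^ (max N₁ N₂ + M) = z := fun z => by
    rw [← iterateFrobeniusEquiv_def, RingEquiv.apply_symm_apply]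
  have hinjA : ∀ (a b : A'), a ^ p ^ (max N₁ N₂ + M) = b ^ p ^ (max N₁ N₂ + M) → a = b := by
    intro a b hab
    apply (iterateFrobeniusEquiv A' p (max N₁ N₂ + M)).injective
    rw [iterateFrobeniusEquiv_def, iterateFrobeniusEquiv_def]
    exact hab
  have hinjB : ∀ (a b : B'), a ^ p ^ (max N₁ N₂ + M) = b ^ p ^ (max N₁ N₂ + M) → a = b := by
    intro a b hab
    apply (iterateFrobeniusEquiv B' p (max N₁ N₂ + M)).injective
    rw [iterateFrobeniusEquiv_def, iterateFrobeniusEquiv_def]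
    exact hab
  refine ⟨κ, fun k jj => (iterateFrobeniusEquiv A' p (max N₁ N₂ + M)).symm (i (c k jj)),
    fun jj => (iterateFrobeniusEquiv B' p (max N₁ N₂ + M)).symm (j (y jj)), ?_, ?_⟩
  · intro k
    beta_reduce
    apply hinjB
    rw [← hjb k, h1 k, map_sum, sum_pow_char_pow]
    refine Finset.sum_congr rfl fun jj _ => ?_
    rw [hsmulB, hsmulB', map_mul, mul_pow, hFB, ← map_pow, hFA, hφ']
  · intro jj
    beta_reduce
    apply hinjA
    rw [sum_pow_char_pow, zero_pow (pow_pos hp.pos _).ne']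
    have : ∀ k, (a' k * (iterateFrobeniusEquiv A' p (max N₁ N₂ + M)).symm (i (c k jj)))
        ^ p ^ (max N₁ N₂ + M) = i ((a0 k) ^ p ^ M * c k jj) := by
      intro k
      rw [mul_pow, hFA, map_mul, hia k]
    rw [Finset.sum_congr rfl fun k _ => this k, ← map_sum, h2 jj, map_zero]

theorem faithfullyFlat_main
    (φ : A →+* B) (hflat : φ.FaithfullyFlat) (i : A →+* A') (j : B →+* B') [IsPerfectClosure i p]
    [IsPerfectClosure j p]
    (φ' : A' →+* B') (hφ : φ'.comp i = j.comp φ) : φ'.FaithfullyFlat := by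
  have hp : p.Prime := Fact.out
  have hφ' : ∀ z, φ' (i z) = j (φ z) := fun z => by
    have := congrArg (fun g => g z) hφ
    simpa only [RingHom.comp_apply] using this
  have hfl' : φ'.Flat := flat_main p φ hflat.flat i j φ' hφ
  let algAB : Algebra A B := φ.toAlgebra
  let algA'B' : Algebra A' B' := φ'.toAlgebra
  have hffAB : Module.FaithfullyFlat A B := hflat
  have hsmulB' : ∀ (a : A') (b : B'), a • b = φ' a * b := fun _ _ => rfl
  change Module.FaithfullyFlat A' B'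
  rw [Module.FaithfullyFlat.iff_flat_and_ideal_smul_eq_top]
  refine ⟨hfl', fun I' hI' => ?_⟩
  have key : ∀ x : B', x ∈ I' • (⊤ : Submodule A' B') →
      ∃ (N : ℕ) (e : B), e ∈ (I'.comap i).map φ ∧ j e = x ^ p ^ N := by
    intro x hx
    refine Submodule.smul_induction_on hx ?_ ?_
    · intro a ha b _
      obtain ⟨n₁, a₀, ha₀⟩ := IsPRadical.pow_mem i p a
      obtain ⟨n₂, b₀, hb₀⟩ := IsPRadical.pow_mem j p b
      have e1 : i (a₀ ^ p ^ n₂) = a ^ p ^ (n₁ + n₂) := by
        rw [map_pow, ha₀, ← pow_mul, ← pow_add]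
      have e2 : j (b₀ ^ p ^ n₁) = b ^ p ^ (n₁ + n₂) := by
        rw [map_pow, hb₀, ← pow_mul, ← pow_add, add_comm]
      refine ⟨n₁ + n₂, φ (a₀ ^ p ^ n₂) * b₀ ^ p ^ n₁, ?_, ?_⟩
      · apply Ideal.mul_mem_right
        apply Ideal.mem_map_of_mem
        rw [Ideal.mem_comap, e1]
        exact Ideal.pow_mem_of_mem _ ha _ (pow_pos hp.pos _)
      · rw [map_mul, ← hφ', e1, e2, hsmulB', mul_pow, map_pow]
    · rintro x y ⟨N, e, he, hje⟩ ⟨M, e', he', hje'⟩
      refine ⟨N + M, e ^ p ^ M + e' ^ p ^ N, ?_, ?_⟩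
      · exact Ideal.add_mem _ (Ideal.pow_mem_of_mem _ he _ (pow_pos hp.pos _))
          (Ideal.pow_mem_of_mem _ he' _ (pow_pos hp.pos _))
      · rw [map_add, map_pow, map_pow, hje, hje', ← pow_mul, ← pow_mul, ← pow_add, ← pow_add,
          add_comm M N, add_pow_char_pow]
  have h1 : (1 : B') ∈ I' • (⊤ : Submodule A' B') := by rw [hI']; trivial
  obtain ⟨N, e, he, hje⟩ := key 1 h1
  rw [one_pow] at hje
  have hker : 1 - e ∈ RingHom.ker j := by
    rw [RingHom.mem_ker, map_sub, map_one, hje, sub_self]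
  have hnil := IsPRadical.ker_le j p hker
  rw [mem_pNilradical] at hnil
  obtain ⟨M, hM⟩ := hnil
  have hnil' : IsNilpotent (1 - e) := ⟨p ^ M, hM⟩
  have hunit : IsUnit e := by
    have := hnil'.isUnit_one_sub
    rwa [sub_sub_cancel] at this
  have htop : (I'.comap i).map φ = ⊤ := Ideal.eq_top_of_isUnit_mem _ he hunit
  have hJ : (I'.comap i) • (⊤ : Submodule A B) = ⊤ := by
    rw [Ideal.smul_top_eq_map]
    change ((I'.comap i).map φ).restrictScalars A = ⊤
    rw [htop, Submodule.restrictScalars_top]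
  have hfin := ((Module.FaithfullyFlat.iff_flat_and_ideal_smul_eq_top A B).mp hffAB).2 _ hJ
  rw [Ideal.eq_top_iff_one] at hfin ⊢
  rw [Ideal.mem_comap, map_one] at hfin
  exact hfin

end

end Groth.Agent.Helper21.PF
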