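import Mathlib

set_option backward.isDefEq.respectTransparency false
set_option backward.isDefEq.respectTransparency.types false

universe u

open CategoryTheory CategoryTheory.Limits AlgebraicGeometry

namespace Groth.Agent.Helper21.PhExt

/-- Ring-level extension of a finite algebra over `R_c` to a finite algebra over `R`,
with surjectivity on spectra preserved. -/
theorem exists_finite_extension (R : Type u) [CommRing R] (c : R) (A : Type u) [CommRing A]
    [Algebra R A] [IsLocalization.Away c A] (C : Type u) [CommRing C] [Algebra A C] [Algebra R C]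
    [IsScalarTower R A C] [Module.Finite A C]
    (hsurj : Function.Surjective (PrimeSpectrum.comap (algebraMap A C))) :
    ∃ (C' : Type u) (_ : CommRing C') (_ : Algebra R C') (ψ : C' →ₐ[R] C), Module.Finite R C' ∧
      Function.Surjective (PrimeSpectrum.comap (algebraMap R C')) ∧
      @IsLocalization.Away C' _ (algebraMap R C' c) C _ ψ.toRingHom.toAlgebra := by
  classical
  obtain ⟨s, hs⟩ := (Module.Finite.fg_top : (⊤ : Submodule A C).FG)
  have hint : ∀ g : C, ∃ m : Submonoid.powers c, IsIntegral R (m • g) := fun g =>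
    IsIntegral.exists_multiple_integral_of_isLocalization (Rₘ := A) (Submonoid.powers c) g
      (Algebra.IsIntegral.isIntegral (R := A) g)
  choose m hm using hint
  let gens : Set C := (fun g => m g • g) '' (s : Set C)
  have hgfin : gens.Finite := s.finite_toSet.image _
  have hgint : ∀ x ∈ gens, IsIntegral R x := by
    rintro _ ⟨g, -, rfl⟩
    exact hm g
  let C₁ : Subalgebra R C := Algebra.adjoin R gens
  have hfg : (Subalgebra.toSubmodule C₁).FG := fg_adjoin_of_finite hgfin hgint
  haveI : Module.Finite R C₁ := Module.Finite.iff_fg.mpr hfg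
  -- every element of `C` has a `c`-multiple in `C₁`
  have hcunit : IsUnit (algebraMap R A c) := IsLocalization.Away.algebraMap_isUnit c
  have key : ∀ z : C, ∃ n : ℕ, c ^ n • z ∈ C₁ := by
    let N : Submodule A C :=
      { carrier := {z | ∃ n : ℕ, c ^ n • z ∈ C₁}
        add_mem' := by
          rintro z z' ⟨n, hn⟩ ⟨n', hn'⟩
          refine ⟨n + n', ?_⟩
          have e : c ^ (n + n') • (z + z') = c ^ n' • (c ^ n • z) + c ^ n • (c ^ n' • z') := by
            rw [smul_add, smul_smul, smul_smul, pow_add, mul_comm (c ^ n) (c ^ n')]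
          rw [e]
          exact C₁.add_mem (C₁.smul_mem hn _) (C₁.smul_mem hn' _)
        zero_mem' := ⟨0, by simp⟩
        smul_mem' := by
          rintro a z ⟨n, hn⟩
          obtain ⟨⟨r, ⟨_, k, rfl⟩⟩, hrk⟩ := IsLocalization.surj (Submonoid.powers c) a
          refine ⟨n + k, ?_⟩
          have e : c ^ (n + k) • (a • z) = r • (c ^ n • z) := by
            simp only at hrk
            rw [pow_add, mul_smul, smul_comm r, ← algebraMap_smul A (c ^ k) (a • z), smul_smul,
              mul_comm, hrk, algebraMap_smul]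
          rw [e]
          exact C₁.smul_mem hn _ }
    have hsN : (s : Set C) ⊆ N := by
      intro g hg
      obtain ⟨k, hk⟩ := (m g).2
      refine ⟨k, ?_⟩
      have : c ^ k • g = m g • g := by
        rw [Submonoid.smul_def, ← hk]
      rw [this]
      exact Algebra.subset_adjoin ⟨g, hg, rfl⟩
    have hN : N = ⊤ := by
      rw [eq_top_iff, ← hs]
      exact Submodule.span_le.mpr hsN
    intro z
    have : z ∈ N := by rw [hN]; trivial
    exact this
  let I : Ideal R := Ideal.span {c}
  let C' := C₁ × (R ⧸ I)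
  let ψ : C' →ₐ[R] C := C₁.val.comp (AlgHom.fst R C₁ (R ⧸ I))
  refine ⟨C', inferInstance, inferInstance, ψ, inferInstance, ?_, ?_⟩
  · -- surjectivity on spectra
    intro p
    by_cases hc : c ∈ p.asIdeal
    · have hI : I ≤ p.asIdeal := (Ideal.span_singleton_le_iff_mem _).mpr hc
      let fac : R ⧸ I →+* R ⧸ p.asIdeal := Ideal.Quotient.factor hI
      let P₀ : PrimeSpectrum (R ⧸ I) := ⟨RingHom.ker fac, RingHom.ker_isPrime fac⟩
      refine ⟨PrimeSpectrum.comap (RingHom.snd C₁ (R ⧸ I)) P₀, ?_⟩
      ext x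
      change fac ((algebraMap R C' x).2) = 0 ↔ x ∈ p.asIdeal
      have : (algebraMap R C' x).2 = Ideal.Quotient.mk I x := rfl
      rw [this]
      simp [fac, Ideal.Quotient.eq_zero_iff_mem]
    · have hmem : p ∈ Set.range (PrimeSpectrum.comap (algebraMap R A)) := by
        rw [PrimeSpectrum.localization_away_comap_range A c]
        exact hc
      obtain ⟨p', hp'⟩ := hmem
      obtain ⟨P, hP⟩ := hsurj p'
      refine ⟨PrimeSpectrum.comap ψ.toRingHom P, ?_⟩
      rw [← hp', ← hP]
      ext x
      change ψ (algebraMap R C' x) ∈ P.asIdeal ↔ algebraMap A C (algebraMap R A x) ∈ P.asIdeal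
      rw [AlgHom.commutes, IsScalarTower.algebraMap_apply R A C]
  · -- localization
    letI : Algebra C' C := ψ.toRingHom.toAlgebra
    have hψc : ψ (algebraMap R C' c) = algebraMap A C (algebraMap R A c) := by
      rw [AlgHom.commutes, IsScalarTower.algebraMap_apply R A C]
    refine (isLocalization_iff _ _).mpr ⟨?_, ?_, ?_⟩
    · rintro ⟨_, n, rfl⟩
      change IsUnit (ψ ((algebraMap R C' c) ^ n))
      rw [map_pow, hψc]
      exact (hcunit.map (algebraMap A C)).pow n
    · intro z
      obtain ⟨n, hn⟩ := key z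
      refine ⟨(((⟨c ^ n • z, hn⟩ : C₁), 0), ⟨(algebraMap R C' c) ^ n, n, rfl⟩), ?_⟩
      change z * ψ ((algebraMap R C' c) ^ n) = c ^ n • z
      rw [map_pow, AlgHom.commutes, ← map_pow, Algebra.smul_def, mul_comm]
    · rintro ⟨a, b⟩ ⟨a', b'⟩ hab
      have haa' : a = a' := Subtype.ext hab
      refine ⟨⟨algebraMap R C' c, 1, pow_one _⟩, ?_⟩
      subst haa'
      obtain ⟨r, rfl⟩ := Ideal.Quotient.mk_surjective b
      obtain ⟨r', rfl⟩ := Ideal.Quotient.mk_surjective b'
      have h0 : ∀ t : R, Ideal.Quotient.mk I (c * t) = 0 := fun t =>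
        Ideal.Quotient.eq_zero_iff_mem.mpr (Ideal.mul_mem_right _ _ (Ideal.mem_span_singleton_self c))
      refine Prod.ext rfl ?_
      change Ideal.Quotient.mk I c * Ideal.Quotient.mk I r = Ideal.Quotient.mk I c * Ideal.Quotient.mk I r'
      rw [← map_mul, ← map_mul, h0, h0]


/-- A finite surjective morphism to the basic open `D(c)` of `Spec R` extends to a finite
surjective morphism to `Spec R`. -/
theorem exists_extension_Spec (R : CommRingCat.{u}) (c : R) {Q : Scheme.{u}}
    (q : Q ⟶ Spec (CommRingCat.of (Localization.Away c))) [IsFinite q] [Surjective q] :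
    ∃ (Q' : Scheme.{u}) (q' : Q' ⟶ Spec R) (j : Q ⟶ Q'), IsFinite q' ∧ Surjective q' ∧
      IsOpenImmersion j ∧
      j ≫ q' = q ≫ Spec.map (CommRingCat.ofHom (algebraMap R (Localization.Away c))) ∧
      ∀ y : Q', q' y ∈ (PrimeSpectrum.basicOpen c : Set (PrimeSpectrum R)) → y ∈ Set.range j := by
  haveI : IsAffine Q := isAffine_of_isAffineHom q
  let A := Localization.Away c
  let C : CommRingCat.{u} := Γ(Q, ⊤)
  let φ : CommRingCat.of A ⟶ C := (Scheme.ΓSpecIso (CommRingCat.of A)).inv ≫ q.appTop
  have hq : q = Q.isoSpec.hom ≫ Spec.map φ := by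
    have h1 := Scheme.isoSpec_hom_naturality q
    have h2 : (Spec (CommRingCat.of A)).isoSpec.hom ≫
        Spec.map (Scheme.ΓSpecIso (CommRingCat.of A)).inv = 𝟙 _ := by
      rw [Scheme.isoSpec_Spec_hom, ← Spec.map_comp, Iso.inv_hom_id, Spec.map_id]
    calc q = q ≫ (Spec (CommRingCat.of A)).isoSpec.hom ≫
        Spec.map (Scheme.ΓSpecIso (CommRingCat.of A)).inv := by rw [h2, Category.comp_id]
      _ = Q.isoSpec.hom ≫ Spec.map φ := by
        rw [← reassoc_of% h1, ← Spec.map_comp]
  haveI : IsFinite (Spec.map φ) := by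
    have : IsFinite (Q.isoSpec.hom ≫ Spec.map φ) := hq ▸ inferInstance
    exact (MorphismProperty.cancel_left_of_respectsIso @IsFinite Q.isoSpec.hom _).mp this
  haveI : Surjective (Spec.map φ) := by
    have : Surjective (Q.isoSpec.hom ≫ Spec.map φ) := hq ▸ inferInstance
    exact (MorphismProperty.cancel_left_of_respectsIso @Surjective Q.isoSpec.hom _).mp this
  letI : Algebra A C := φ.hom.toAlgebra
  letI : Algebra R C := (φ.hom.comp (algebraMap R A)).toAlgebra
  haveI : IsScalarTower R A C := IsScalarTower.of_algebraMap_eq fun _ => rfl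
  haveI : Module.Finite A C := (IsFinite.SpecMap_iff φ).mp inferInstance
  have hsurj : Function.Surjective (PrimeSpectrum.comap (algebraMap A C)) :=
    (inferInstance : Surjective (Spec.map φ)).surj
  obtain ⟨C', _, _, ψ, hfin, hsurj', hloc⟩ := exists_finite_extension R c A C hsurj
  letI : Algebra C' C := ψ.toRingHom.toAlgebra
  haveI : IsLocalization.Away (algebraMap R C' c) C := hloc
  have hψ : ψ.toRingHom.comp (algebraMap R C') = φ.hom.comp (algebraMap R A) :=
    ψ.comp_algebraMap
  refine ⟨Spec (CommRingCat.of C'), Spec.map (CommRingCat.ofHom (algebraMap R C')),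
    Q.isoSpec.hom ≫ Spec.map (CommRingCat.ofHom (algebraMap C' C)), ?_, ?_, ?_, ?_, ?_⟩
  · rw [IsFinite.SpecMap_iff]
    exact RingHom.finite_algebraMap.mpr hfin
  · exact ⟨hsurj'⟩
  · haveI : IsOpenImmersion (Spec.map (CommRingCat.ofHom (algebraMap C' C))) :=
      IsOpenImmersion.of_isLocalization (algebraMap R C' c)
    infer_instance
  · rw [hq, Category.assoc, Category.assoc, ← Spec.map_comp, ← Spec.map_comp]
    congr 2
    ext x
    exact congrArg (fun f => f x) hψ
  · intro y hy
    have hy' : y ∈ (PrimeSpectrum.basicOpen (algebraMap R C' c) : Set (PrimeSpectrum C')) := hy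
    rw [← PrimeSpectrum.localization_away_comap_range C (algebraMap R C' c)] at hy'
    obtain ⟨P, hP⟩ := hy'
    refine ⟨Q.isoSpec.inv P, ?_⟩
    rw [← hP, ← Scheme.Hom.comp_apply, Iso.inv_hom_id_assoc]
    rfl

end Groth.Agent.Helper21.PhExt
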