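import Mathlib
import Groth.Agent.Lib.Helper21.PhExt
import Groth.Agent.Lib.Helper21.FppfTower
import Groth.Prelude.Def_HTop

set_option backward.isDefEq.respectTransparency false
set_option backward.isDefEq.respectTransparency.types false

universe w v u

open CategoryTheory CategoryTheory.Limits AlgebraicGeometry

namespace Groth.Agent.Helper21.PhCov

variable {S : Scheme.{u}} (E : PreZeroHypercover.{w} S)

/-- `p : Y ⟶ S` factors through a member of `E` on an open neighbourhood of `y`. -/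
def LocAt {Y : Scheme.{u}} (p : Y ⟶ S) (y : Y) : Prop :=
  ∃ (W : Scheme.{u}) (j : W ⟶ Y) (i : E.I₀) (h : W ⟶ E.X i),
    IsOpenImmersion j ∧ y ∈ Set.range j ∧ h ≫ E.f i = j ≫ p

theorem LocAt.comp {Z Y : Scheme.{u}} (φ : Z ⟶ Y) (p : Y ⟶ S) (z : Z)
    (h : LocAt E p (φ z)) : LocAt E (φ ≫ p) z := by
  obtain ⟨W, j, i, h, hj, hy, e⟩ := h
  refine ⟨pullback φ j, pullback.fst φ j, i, pullback.snd φ j ≫ h, inferInstance, ?_, ?_⟩
  · rw [Scheme.Pullback.range_fst]
    exact hy
  · rw [Category.assoc, e, ← Category.assoc, ← pullback.condition, Category.assoc]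

theorem LocAt.of_openImmersion {V Y : Scheme.{u}} (k : V ⟶ Y) [IsOpenImmersion k] (p : Y ⟶ S)
    (v : V) (h : LocAt E (k ≫ p) v) : LocAt E p (k v) := by
  obtain ⟨W, j, i, h, hj, ⟨w, rfl⟩, e⟩ := h
  refine ⟨W, j ≫ k, i, h, inferInstance, ⟨w, rfl⟩, ?_⟩
  rw [e, Category.assoc]

/-- `p : X ⟶ S` admits a finite surjective `Q ⟶ X` that locally factors through `E`. -/
def Good {X : Scheme.{u}} (p : X ⟶ S) : Prop :=
  ∃ (Q : Scheme.{u}) (q : Q ⟶ X), IsFinite q ∧ Surjective q ∧ ∀ x : Q, LocAt E (q ≫ p) x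

theorem Good.baseChange {X' X : Scheme.{u}} (l : X' ⟶ X) (p : X ⟶ S) (h : Good E p) :
    Good E (l ≫ p) := by
  obtain ⟨Q, q, hfin, hsurj, hloc⟩ := h
  refine ⟨pullback q l, pullback.snd q l, inferInstance, inferInstance, fun x => ?_⟩
  have : pullback.snd q l ≫ l ≫ p = pullback.fst q l ≫ q ≫ p := by
    rw [← Category.assoc, ← pullback.condition, Category.assoc]
  rw [this]
  exact LocAt.comp E _ _ _ (hloc _)

theorem Good.of_finite_surjective {X' X : Scheme.{u}} (π : X' ⟶ X) [IsFinite π] [Surjective π]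
    (p : X ⟶ S) (h : Good E (π ≫ p)) : Good E p := by
  obtain ⟨Q, q, hfin, hsurj, hloc⟩ := h
  refine ⟨Q, q ≫ π, inferInstance, inferInstance, fun x => ?_⟩
  rw [Category.assoc]
  exact hloc x

theorem Good.of_locAt {X : Scheme.{u}} (p : X ⟶ S) (h : ∀ x, LocAt E p x) : Good E p :=
  ⟨X, 𝟙 X, inferInstance, inferInstance, fun x => by rw [Category.id_comp]; exact h x⟩

/-- Finite fibre products of finite surjective morphisms. -/
theorem exists_fibre_product {X : Scheme.{u}} {ι : Type v} (Qs : ι → Scheme.{u})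
    (qs : ∀ k, Qs k ⟶ X) (hfin : ∀ k, IsFinite (qs k)) (hsurj : ∀ k, Surjective (qs k))
    (t : Finset ι) :
    ∃ (Q : Scheme.{u}) (q : Q ⟶ X), IsFinite q ∧ Surjective q ∧
      ∀ k ∈ t, ∃ pr : Q ⟶ Qs k, pr ≫ qs k = q := by
  classical
  induction t using Finset.induction_on with
  | empty => exact ⟨X, 𝟙 X, inferInstance, inferInstance, fun k hk => by simp at hk⟩
  | insert a t _ ih =>
    obtain ⟨Q, q, hQfin, hQsurj, hpr⟩ := ih
    haveI := hfin a
    haveI := hsurj a
    refine ⟨pullback q (qs a), pullback.fst q (qs a) ≫ q, inferInstance, inferInstance, ?_⟩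
    intro k hk
    rcases Finset.mem_insert.mp hk with rfl | hk
    · exact ⟨pullback.snd q (qs k), pullback.condition.symm⟩
    · obtain ⟨pr, hpr⟩ := hpr k hk
      exact ⟨pullback.fst q (qs a) ≫ pr, by rw [Category.assoc, hpr]⟩


/-- Gluing `Good` over an open cover of `Spec R`. -/
theorem Good.glue_Spec (R : CommRingCat.{u}) (p : Spec R ⟶ S)
    (H : ∀ x : Spec R, ∃ (V : Scheme.{u}) (k : V ⟶ Spec R),
      IsOpenImmersion k ∧ x ∈ Set.range k ∧ Good E (k ≫ p)) : Good E p := by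
  -- Step 1: local extended covers
  have H1 : ∀ x : Spec R, ∃ (c : R) (Q' : Scheme.{u}) (q' : Q' ⟶ Spec R),
      x ∈ (PrimeSpectrum.basicOpen c : Set (PrimeSpectrum R)) ∧ IsFinite q' ∧ Surjective q' ∧
      ∀ y : Q', q' y ∈ (PrimeSpectrum.basicOpen c : Set (PrimeSpectrum R)) →
        LocAt E (q' ≫ p) y := by
    intro x
    obtain ⟨V, k, hk, hx, hgood⟩ := H x
    obtain ⟨_, ⟨_, ⟨c, rfl⟩, rfl⟩, hxc, hcV⟩ :=
      PrimeSpectrum.isBasis_basic_opens.exists_subset_of_mem_open
      hx k.isOpenEmbedding.isOpen_range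
    let ι₀ : Spec (CommRingCat.of (Localization.Away c)) ⟶ Spec R :=
      Spec.map (CommRingCat.ofHom (algebraMap R (Localization.Away c)))
    have hrange : Set.range ι₀ ⊆ Set.range k := by
      refine subset_trans ?_ hcV
      rintro _ ⟨z, rfl⟩
      have := PrimeSpectrum.localization_away_comap_range (Localization.Away c) c
      rw [← this]
      exact ⟨z, rfl⟩
    let l := IsOpenImmersion.lift k ι₀ hrange
    have hl : l ≫ k = ι₀ := IsOpenImmersion.lift_fac k ι₀ hrange
    have hg : Good E (ι₀ ≫ p) := by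
      rw [← hl, Category.assoc]
      exact Good.baseChange E l _ hgood
    obtain ⟨Q, q, hfin, hsurj, hloc⟩ := hg
    obtain ⟨Q', q', j, hfin', hsurj', hj, hjq, hjr⟩ := PhExt.exists_extension_Spec R c q
    refine ⟨c, Q', q', hxc, hfin', hsurj', fun y hy => ?_⟩
    obtain ⟨z, rfl⟩ := hjr y hy
    apply LocAt.of_openImmersion
    have : j ≫ q' ≫ p = q ≫ ι₀ ≫ p := by rw [← Category.assoc, hjq, Category.assoc]
    rw [this]
    exact hloc z
  choose c Q' q' hxc hfin hsurj hloc using H1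
  -- Step 2: compactness
  obtain ⟨t, ht⟩ := isCompact_univ.elim_finite_subcover
    (fun x : Spec R => (PrimeSpectrum.basicOpen (c x) : Set (PrimeSpectrum R)))
    (fun x => (PrimeSpectrum.basicOpen (c x)).isOpen)
    (fun x _ => Set.mem_iUnion.mpr ⟨x, hxc x⟩)
  -- Step 3: fibre product
  obtain ⟨Q, q, hQfin, hQsurj, hpr⟩ := exists_fibre_product Q' q' hfin hsurj t
  refine ⟨Q, q, hQfin, hQsurj, fun x => ?_⟩
  have hx := ht (Set.mem_univ (q x))
  simp only [Set.mem_iUnion] at hx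
  obtain ⟨k, hk, hxk⟩ := hx
  obtain ⟨pr, hprk⟩ := hpr k hk
  have h1 : LocAt E (q' k ≫ p) (pr x) := by
    apply hloc k
    rw [← Scheme.Hom.comp_apply, hprk]
    exact hxk
  have h2 := LocAt.comp E pr _ x h1
  rwa [← Category.assoc, hprk] at h2

/-- Gluing `Good` over an open cover of an affine scheme. -/
theorem Good.glue {X : Scheme.{u}} [IsAffine X] (p : X ⟶ S)
    (H : ∀ x : X, ∃ (V : Scheme.{u}) (k : V ⟶ X),
      IsOpenImmersion k ∧ x ∈ Set.range k ∧ Good E (k ≫ p)) : Good E p := by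
  apply Good.of_finite_surjective E X.isoSpec.inv
  apply Good.glue_Spec
  intro x'
  obtain ⟨V, k, hk, hx, hgood⟩ := H (X.isoSpec.inv x')
  refine ⟨pullback X.isoSpec.inv k, pullback.fst X.isoSpec.inv k, inferInstance, ?_, ?_⟩
  · rw [Scheme.Pullback.range_fst]
    exact hx
  · have : pullback.fst X.isoSpec.inv k ≫ X.isoSpec.inv ≫ p =
        pullback.snd X.isoSpec.inv k ≫ k ≫ p := by
      rw [← Category.assoc, pullback.condition, Category.assoc]
    rw [this]
    exact Good.baseChange E _ _ hgood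


/-- **Theorem A**: any morphism from an affine scheme to the base of an fppf covering admits a
finite surjective cover that factors through the covering Zariski locally. -/
theorem good_of_affine {T : Scheme.{u}} (E : PreZeroHypercover.{w} T)
    (hflat : ∀ i, Flat (E.f i)) (hfp : ∀ i, LocallyOfFinitePresentation (E.f i))
    (hsurj : ∀ t : T, ∃ (i : E.I₀) (x : E.X i), E.f i x = t)
    {A : Scheme.{u}} [IsAffine A] (a : A ⟶ T) : Good E a := by
  apply Good.glue
  intro x
  obtain ⟨U, W, π, hsU, ⟨hfin, hflatπ, hfpπ⟩, hsurjπ, hloc⟩ :=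
    FppfTower.main7198 E hflat hfp hsurj (a x)
  obtain ⟨(V' : A.Opens), hV', hxV', hV'U⟩ := (TopologicalSpace.Opens.isBasis_iff_nbhd.mp
    A.isBasis_affineOpens) (show x ∈ a ⁻¹ᵁ U from hsU)
  haveI : IsAffine (V' : Scheme.{u}) := hV'
  have hrange : Set.range (V'.ι ≫ a) ⊆ Set.range U.ι := by
    rintro _ ⟨y, rfl⟩
    rw [Scheme.Opens.range_ι]
    exact hV'U (FppfTower.mem_of_ι V' y)
  let l : (V' : Scheme.{u}) ⟶ (U : Scheme.{u}) := IsOpenImmersion.lift U.ι (V'.ι ≫ a) hrange
  have hl : l ≫ U.ι = V'.ι ≫ a := IsOpenImmersion.lift_fac _ _ hrange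
  refine ⟨V', V'.ι, inferInstance, ?_, ?_⟩
  · rw [Scheme.Opens.range_ι]
    exact hxV'
  haveI := hfin
  haveI := hsurjπ
  haveI : IsAffine (pullback π l) := isAffine_of_isAffineHom (pullback.snd π l)
  apply Good.of_finite_surjective E (pullback.snd π l)
  apply Good.glue
  intro w'
  obtain ⟨W', T', ρ, i, r, hwW', ⟨hρfin, _, _⟩, hρsurj, hr⟩ := hloc (pullback.fst π l w')
  refine ⟨pullback (pullback.fst π l) W'.ι, pullback.fst _ _, inferInstance, ?_, ?_⟩
  · rw [Scheme.Pullback.range_fst, Scheme.Opens.range_ι]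
    exact hwW'
  · have e : pullback.fst (pullback.fst π l) W'.ι ≫ pullback.snd π l ≫ V'.ι ≫ a =
        pullback.snd (pullback.fst π l) W'.ι ≫ (W'.ι ≫ π ≫ U.ι) := by
      rw [← hl, ← Category.assoc (pullback.snd π l), ← pullback.condition (f := π) (g := l),
        Category.assoc, ← Category.assoc (pullback.fst (pullback.fst π l) W'.ι),
        pullback.condition, Category.assoc]
    rw [e]
    apply Good.baseChange
    haveI := hρfin
    haveI := hρsurj
    apply Good.of_finite_surjective E ρ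
    apply Good.of_locAt
    intro t
    exact ⟨T', 𝟙 T', i, r, inferInstance, ⟨t, rfl⟩, by rw [Category.id_comp, hr]⟩

/-- The standard ph covering refining an fppf covering over an affine scheme. -/
theorem exists_standardPh {T : Scheme.{u}} (E : PreZeroHypercover.{w} T)
    (hflat : ∀ i, Flat (E.f i)) (hfp : ∀ i, LocallyOfFinitePresentation (E.f i))
    (hsurj : ∀ t : T, ∃ (i : E.I₀) (x : E.X i), E.f i x = t)
    {A : Scheme.{u}} [IsAffine A] (a : A ⟶ T) :
    ∃ F : PreZeroHypercover.{0} A, HTop.IsStandardPh F ∧ HTop.RefinesOver a F E := by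
  obtain ⟨Q, q, hfin, hsurjq, hloc⟩ := good_of_affine E hflat hfp hsurj a
  haveI : IsAffine Q := isAffine_of_isAffineHom q
  have H : ∀ x : Q, ∃ (B : Scheme.{u}) (b : B ⟶ Q) (i : E.I₀) (h : B ⟶ E.X i),
      IsAffine B ∧ IsOpenImmersion b ∧ x ∈ Set.range b ∧ h ≫ E.f i = b ≫ q ≫ a := by
    intro x
    obtain ⟨W, j, i, h, hj, ⟨w, rfl⟩, e⟩ := hloc x
    obtain ⟨(W₀ : W.Opens), hW₀, hwW₀, -⟩ := (TopologicalSpace.Opens.isBasis_iff_nbhd.mp
      W.isBasis_affineOpens) (show w ∈ (⊤ : W.Opens) from trivial)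
    refine ⟨W₀, W₀.ι ≫ j, i, W₀.ι ≫ h, hW₀, inferInstance, ⟨⟨w, hwW₀⟩, rfl⟩, ?_⟩
    rw [Category.assoc, e, Category.assoc]
  choose B b i h hB hb hx e using H
  obtain ⟨t, ht⟩ := isCompact_univ.elim_finite_subcover (fun x : Q => Set.range (b x))
    (fun x => (b x).isOpenEmbedding.isOpen_range) (fun x _ => Set.mem_iUnion.mpr ⟨x, hx x⟩)
  let idx : Fin t.card → Q := fun n => (t.equivFin.symm n).1
  let F : PreZeroHypercover.{0} A :=
    { I₀ := Fin t.card, X := fun n => B (idx n), f := fun n => b (idx n) ≫ q }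
  refine ⟨F, ⟨inferInstance, (inferInstance : Finite (Fin t.card)), fun n => hB _,
    ⟨Q, q, fun n => b (idx n), inferInstance, hsurjq, fun n => hb _, fun n => rfl, ?_⟩⟩, ?_⟩
  · intro x
    have hxt := ht (Set.mem_univ x)
    simp only [Set.mem_iUnion] at hxt
    obtain ⟨k, hk, hxk⟩ := hxt
    refine ⟨t.equivFin ⟨k, hk⟩, ?_⟩
    change x ∈ Set.range (b (idx (t.equivFin ⟨k, hk⟩)))
    have : idx (t.equivFin ⟨k, hk⟩) = k := by simp [idx]
    rw [this]
    exact hxk
  · intro n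
    exact ⟨i (idx n), h (idx n), by rw [e]; rfl⟩

end Groth.Agent.Helper21.PhCov
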