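import Mathlib.Algebra.Group.Basic
import Mathlib.Algebra.Module.Basic
import Mathlib.Tactic

set_option autoImplicit false
universe u v

namespace Groth.Agent.Helper21.PtDeg

theorem int_const {G : Type v} (d : ℤ → G) (h : ∀ n, d (n + 1) = d n) : ∀ n, d n = d 0 := by
  intro n
  induction n using Int.induction_on with
  | zero => rfl
  | succ i ih => rw [h, ih]
  | pred i ih =>
    have := h (-(i : ℤ) - 1)
    rw [sub_add_cancel] at this
    rw [← this]; exact ih

/-- triangular number -/
def T (n : ℤ) : ℤ := n * (n + 1) / 2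

theorem two_T (n : ℤ) : 2 * T n = n * (n + 1) :=
  Int.two_mul_ediv_two_of_even (Int.even_mul_succ_self n)

theorem T_succ (n : ℤ) : T (n + 1) = 2 * T n - T (n - 1) + 1 := by
  have h1 : 2 * T (n + 1) = n * n + 3 * n + 2 := by rw [two_T]; ring
  have h2 : 2 * T n = n * n + n := by rw [two_T]; ring
  have h3 : 2 * T (n - 1) = n * n - n := by rw [two_T]; ring
  linarith

theorem T_sub (n : ℤ) : T n - T (n - 1) = n := by
  have h2 : 2 * T n = n * n + n := by rw [two_T]; ring
  have h3 : 2 * T (n - 1) = n * n - n := by rw [two_T]; ring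
  linarith

theorem T_zero : T 0 = 0 := by simp [T]
theorem T_one : T 1 = 1 := by simp [T]
theorem T_neg_one : T (-1) = 0 := by simp [T]

section
variable {A : Type u} {G : Type v} [AddCommGroup A] [AddCommGroup G]
    (f : A → G) (hf : ∀ x y z : A, f (x + y + z) + f x + f y + f z = f (x + y) + f (x + z) + f (y + z))
include hf

theorem f_zero : f 0 = 0 := by
  have := hf 0 0 0
  simp only [add_zero] at this
  have h2 : f 0 + f 0 + f 0 + f 0 = f 0 + f 0 + f 0 + 0 := by rw [this]; abel
  exact add_left_cancel h2

theorem rec_step (x : A) (n : ℤ) :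
    f ((n + 1) • x) + f ((n - 1) • x) = 2 • f (n • x) + f x + f (-x) := by
  have := hf (n • x) x (-x)
  have e1 : n • x + x + -x = n • x := by abel
  have e2 : n • x + x = (n + 1) • x := by rw [add_smul, one_smul]
  have e3 : n • x + -x = (n - 1) • x := by rw [sub_smul, one_smul, sub_eq_add_neg]
  have e4 : x + -x = 0 := by abel
  rw [e1, e2, e3, e4, f_zero f hf] at this
  rw [two_smul]
  rw [add_zero] at this
  rw [← this]

theorem formula (n : ℤ) (x : A) : f (n • x) = T n • f x + T (n - 1) • f (-x) := by
  set g : ℤ → G := fun n => f (n • x) - T n • f x - T (n - 1) • f (-x) with hg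
  have hrec : ∀ n : ℤ, g (n + 1) + g (n - 1) = 2 • g n := by
    intro n
    simp only [hg]
    have h1 := rec_step f hf x n
    have e1 : T (n + 1) = 2 * T n - T (n - 1) + 1 := T_succ n
    have e2 : T (n + 1 - 1) = 2 * T (n - 1) - T (n - 1 - 1) + 1 := by
      have := T_succ (n - 1)
      rw [sub_add_cancel] at this
      rw [add_sub_cancel_right]; exact this
    have e3 : f ((n + 1) • x) = 2 • f (n • x) + f x + f (-x) - f ((n - 1) • x) := by
      rw [← h1]; abel
    rw [e1, e2, e3]
    module
  have g0 : g 0 = 0 := by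
    simp only [hg]
    rw [zero_smul, f_zero f hf, T_zero]
    have : T (0 - 1) = 0 := by rw [zero_sub]; exact T_neg_one
    rw [this]; simp
  have g1 : g 1 = 0 := by
    simp only [hg]
    rw [one_smul, T_one, sub_self, T_zero]; simp
  have hd : ∀ n : ℤ, g (n + 1) - g n = g (0 + 1) - g 0 := by
    apply int_const (fun n => g (n + 1) - g n)
    intro n
    have := hrec (n + 1)
    rw [add_sub_cancel_right] at this
    show g (n + 1 + 1) - g (n + 1) = g (n + 1) - g n
    rw [two_smul] at this
    rw [sub_eq_sub_iff_add_eq_add]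
    rw [this]
  have hconst : ∀ n : ℤ, g n = g 0 := by
    apply int_const g
    intro n
    have := hd n
    rw [zero_add, g1, g0, sub_zero] at this
    exact sub_eq_zero.mp this
  have := hconst n
  rw [g0] at this
  simp only [hg] at this
  rw [sub_sub, sub_eq_zero] at this
  exact this

theorem torsion_aux (n : ℤ) (hn : ∀ x : A, n • x = 0) (x : A) :
    n • f x + n • f (-x) = 0 ∧ T n • (f x + f (-x)) = n • f (-x) := by
  have h0 := formula f hf n x
  have h1 := formula f hf (n + 1) x
  rw [add_sub_cancel_right] at h1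
  have e1 : (n + 1) • x = x := by rw [add_smul, hn, one_smul, zero_add]
  rw [hn, f_zero f hf] at h0
  rw [e1, T_succ] at h1
  have hs := T_sub n
  have eT : T (n - 1) = T n - n := by linarith
  rw [eT] at h0 h1
  constructor
  · have : n • f x + n • f (-x) = (2 * T n - (T n - n) + 1) • f x + T n • f (-x)
        - (T n • f x + (T n - n) • f (-x)) - f x := by module
    rw [this, ← h0, ← h1]; simp
  · have : T n • (f x + f (-x)) = (T n • f x + (T n - n) • f (-x)) + n • f (-x) := by module
    rw [this, ← h0, zero_add]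

theorem two_n_smul (n : ℤ) (hn : ∀ x : A, n • x = 0) (x : A) : (2 * n) • f x = 0 := by
  obtain ⟨h1, h2⟩ := torsion_aux f hf n hn x
  obtain ⟨h3, h4⟩ := torsion_aux f hf n hn (-x)
  rw [neg_neg] at h3 h4
  have : n • f x = n • f (-x) := by
    rw [← h2, ← h4, add_comm]
  rw [← this] at h1
  have h5 : (2 * n) • f x = n • f x + n • f x := by module
  rw [h5]; exact h1

theorem n_smul_of_odd (n : ℤ) (hn : ∀ x : A, n • x = 0) (hodd : Odd n) (x : A) : n • f x = 0 := by
  obtain ⟨h1, h2⟩ := torsion_aux f hf n hn x
  obtain ⟨h3, h4⟩ := torsion_aux f hf n hn (-x)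
  rw [neg_neg] at h3 h4
  obtain ⟨m, hm⟩ := hodd
  have hT : T n = n * (m + 1) := by
    have := two_T n
    have h : 2 * T n = 2 * (n * (m + 1)) := by rw [this]; rw [hm]; ring
    linarith
  rw [add_comm] at h4
  rw [← h4, hT, mul_comm, mul_smul, smul_add, h1, smul_zero]

end

end Groth.Agent.Helper21.PtDeg
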