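import Mathlib
import Groth.Agent.S0568
import Groth.Agent.S0503

/-!
# Ring-level ingredients for S2904 (helper21)
-/

set_option autoImplicit false
set_option backward.isDefEq.respectTransparency false
set_option backward.isDefEq.respectTransparency.types false
set_option linter.style.haveILetI false

universe u

namespace Groth.Agent.Helper21.UOpen

open IsLocalRing

/-- The normalization of a component of a complete Noetherian local ring. -/
theorem exists_normalization (B : Type u) [CommRing B] [IsNoetherianRing B] [IsLocalRing B]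
    [IsAdicComplete (maximalIdeal B) B] (p : Ideal B) [p.IsPrime] :
    ∃ (C : Type u) (_ : CommRing C) (_ : Algebra B C), IsDomain C ∧ IsIntegrallyClosed C ∧
      Module.Finite B C ∧ ∀ q : PrimeSpectrum B, p ≤ q.asIdeal →
        q ∈ Set.range (PrimeSpectrum.comap (algebraMap B C)) := by
  have hN := Groth.Agent.S0568.result B
  have hN2 : CAlg.IsN2 (B ⧸ p) := hN.2 p
  have hfin1 : Module.Finite (B ⧸ p) (integralClosure (B ⧸ p) (FractionRing (B ⧸ p))) :=
    hN2 (FractionRing (B ⧸ p)) inferInstance
  letI : Algebra B (integralClosure (B ⧸ p) (FractionRing (B ⧸ p))) :=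
    ((algebraMap (B ⧸ p) (integralClosure (B ⧸ p) (FractionRing (B ⧸ p)))).comp
      (algebraMap B (B ⧸ p))).toAlgebra
  haveI : IsScalarTower B (B ⧸ p) (integralClosure (B ⧸ p) (FractionRing (B ⧸ p))) :=
    IsScalarTower.of_algebraMap_eq fun _ => rfl
  haveI : Module.Finite B (B ⧸ p) :=
    Module.Finite.of_surjective (Ideal.Quotient.mkₐ B p).toLinearMap Ideal.Quotient.mk_surjective
  haveI : IsIntegrallyClosed (integralClosure (B ⧸ p) (FractionRing (B ⧸ p))) :=
    integralClosure.isIntegrallyClosedOfFiniteExtension (FractionRing (B ⧸ p))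
  refine ⟨integralClosure (B ⧸ p) (FractionRing (B ⧸ p)), inferInstance, inferInstance,
    inferInstance, inferInstance, Module.Finite.trans (B ⧸ p) _, ?_⟩
  intro q hpq
  have hker : RingHom.ker (Ideal.Quotient.mk p) ≤ q.asIdeal := by rw [Ideal.mk_ker]; exact hpq
  haveI : (Ideal.map (Ideal.Quotient.mk p) q.asIdeal).IsPrime :=
    Ideal.map_isPrime_of_surjective Ideal.Quotient.mk_surjective hker
  have hinj : Function.Injective
      (algebraMap (B ⧸ p) (integralClosure (B ⧸ p) (FractionRing (B ⧸ p)))) := by
    intro a b hab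
    have := congrArg Subtype.val hab
    exact IsFractionRing.injective (B ⧸ p) (FractionRing (B ⧸ p)) this
  obtain ⟨Q, hQ, hQc⟩ := Ideal.exists_ideal_over_prime_of_isIntegral_of_isDomain
    (S := integralClosure (B ⧸ p) (FractionRing (B ⧸ p)))
    (Ideal.map (Ideal.Quotient.mk p) q.asIdeal)
    (by rw [(RingHom.injective_iff_ker_eq_bot _).mp hinj]; exact bot_le)
  refine ⟨⟨Q, hQ⟩, ?_⟩
  ext x
  change algebraMap (B ⧸ p) _ (Ideal.Quotient.mk p x) ∈ Q ↔ x ∈ q.asIdeal
  have h1 : algebraMap (B ⧸ p) _ (Ideal.Quotient.mk p x) ∈ Q ↔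
      Ideal.Quotient.mk p x ∈ Ideal.map (Ideal.Quotient.mk p) q.asIdeal := by
    rw [← hQc]; rfl
  rw [h1]
  constructor
  · intro hx
    have := Ideal.comap_map_of_surjective (Ideal.Quotient.mk p) Ideal.Quotient.mk_surjective
      q.asIdeal
    have hx' : x ∈ Ideal.comap (Ideal.Quotient.mk p) (Ideal.map (Ideal.Quotient.mk p) q.asIdeal) :=
      hx
    rw [this, ← RingHom.ker_eq_comap_bot, sup_of_le_left hker] at hx'
    exact hx'
  · intro hx
    exact Ideal.mem_map_of_mem _ hx

/-- A domain which is quasi-finite of finite type over a henselian local ring and has a prime over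
the closed point is finite. -/
theorem finite_of_domain_quasiFinite (B : Type u) [CommRing B] [HenselianLocalRing B]
    (A : Type u) [CommRing A] [IsDomain A] [Algebra B A] [Algebra.FiniteType B A]
    [Algebra.QuasiFinite B A] (t : Ideal A) [ht' : t.IsPrime]
    (ht : maximalIdeal B ≤ t.comap (algebraMap B A)) : Module.Finite B A := by
  obtain ⟨e, he, hfin, htop⟩ := Groth.Agent.S0503.result B A
  rcases IsIdempotentElem.iff_eq_zero_or_one.mp he with rfl | rfl
  · exfalso
    have h1 : Ideal.map (algebraMap B (A ⧸ Ideal.span ({0} : Set A))) (maximalIdeal B) ≤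
        Ideal.map (Ideal.Quotient.mk (Ideal.span ({0} : Set A))) t := by
      rw [Ideal.map_le_iff_le_comap]
      intro b hb
      exact Ideal.mem_map_of_mem _ (ht hb)
    rw [htop, top_le_iff] at h1
    have h2 := Ideal.comap_map_of_surjective (Ideal.Quotient.mk (Ideal.span ({0} : Set A)))
      Ideal.Quotient.mk_surjective t
    rw [h1, Ideal.comap_top, ← RingHom.ker_eq_comap_bot, Ideal.mk_ker] at h2
    have h3 : Ideal.span ({0} : Set A) = ⊥ := by simp
    rw [h3, sup_bot_eq] at h2
    exact ht'.ne_top h2.symm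
  · have h0 : (Ideal.span ({1 - 1} : Set A)) = ⊥ := by simp
    let eq1 : (A ⧸ Ideal.span ({1 - 1} : Set A)) ≃ₗ[A] A := Submodule.quotEquivOfEqBot _ h0
    exact Module.Finite.equiv (eq1.restrictScalars B)

end Groth.Agent.Helper21.UOpen
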