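import Mathlib
import Groth.Agent.S4945
import Groth.Agent.S9812

/-!
# Quasi-sections of universally open morphisms over a normal Noetherian domain (helper21)
-/

set_option autoImplicit false
set_option backward.isDefEq.respectTransparency false
set_option backward.isDefEq.respectTransparency.types false
set_option linter.style.haveILetI false

universe u

open CategoryTheory CategoryTheory.Limits AlgebraicGeometry

namespace Groth.Agent.Helper21.UOpen

theorem isGeomUnibranch_stalk (C : Type u) [CommRing C] [IsDomain C] [IsIntegrallyClosed C]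
    (y : Spec (CommRingCat.of C)) :
    CAlg2.IsGeomUnibranch ((Spec (CommRingCat.of C)).presheaf.stalk y) := by
  letI k : Algebra C ((Spec (CommRingCat.of C)).presheaf.stalk y) :=
    StructureSheaf.stalkAlgebra C y
  haveI : IsLocalization.AtPrime ((Spec (CommRingCat.of C)).presheaf.stalk y) y.asIdeal :=
    StructureSheaf.IsLocalization.to_stalk C y
  haveI : IsIntegrallyClosed ((Spec (CommRingCat.of C)).presheaf.stalk y) :=
    isIntegrallyClosed_of_isLocalization (R := C) _ y.asIdeal.primeCompl
      y.asIdeal.primeCompl_le_nonZeroDivisors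
  haveI : IsDomain ((Spec (CommRingCat.of C)).presheaf.stalk y) :=
    IsLocalization.isDomain_of_le_nonZeroDivisors (R := C) (M := y.asIdeal.primeCompl) _
      y.asIdeal.primeCompl_le_nonZeroDivisors
  exact Groth.Agent.S9812.result _

theorem exists_quasiSection (C : Type u) [CommRing C] [IsDomain C] [IsIntegrallyClosed C]
    [IsNoetherianRing C] {Z : Scheme.{u}} (f : Z ⟶ Spec (CommRingCat.of C))
    [LocallyOfFiniteType f] [QuasiCompact f] [Surjective f] [UniversallyOpen f] :
    ∃ (T' : Scheme.{u}) (j : T' ⟶ Z) (t : T'), IsAffine T' ∧ IsIntegral T' ∧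
      LocallyOfFiniteType (j ≫ f) ∧ LocallyQuasiFinite (j ≫ f) ∧ IsDominant (j ≫ f) ∧
      ((j ≫ f) t).asIdeal.IsMaximal := by
  obtain ⟨m, hm⟩ := Ideal.exists_maximal C
  let y : Spec (CommRingCat.of C) := ⟨m, hm.isPrime⟩
  have hycl : IsClosed ({y} : Set (Spec (CommRingCat.of C))) :=
    (PrimeSpectrum.isClosed_singleton_iff_isMaximal y).mpr hm
  haveI : CompactSpace Z := QuasiCompact.compactSpace_of_compactSpace f
  have hfib : IsClosed (f ⁻¹' {y}) := hycl.preimage f.continuous
  have hne : (f ⁻¹' {y}).Nonempty := by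
    obtain ⟨x, hx⟩ := f.surjective y
    exact ⟨x, hx⟩
  obtain ⟨x, hxy, hxcl⟩ := hfib.exists_closed_singleton hne
  have hxy' : f x = y := hxy
  have hy := isGeomUnibranch_stalk C y
  haveI : IrreducibleSpace (Spec (CommRingCat.of C)) := inferInstance
  haveI : IsLocallyNoetherian (Spec (CommRingCat.of C)) := inferInstance
  have tfae := Groth.Agent.S4945.result f y hy
  have h0 : ∀ x : Z, f.base x = y → EGA43.IsUnivOpenAt f x := by
    intro x _ Y' g x' _
    intro U hU
    exact (pullback.snd f g).isOpenMap.image_mem_nhds hU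
  have h03 := tfae.out 0 3
  have h3 := h03.mp h0 x hxy' (fun x' _ hsp => by
    have : x' ∈ closure ({x} : Set Z) := hsp.mem_closure
    rw [hxcl.closure_eq] at this
    exact this)
  obtain ⟨T, i, hi, hTirr, hTred, ⟨t, ht⟩, hlft, hlqf, hqc, hdom⟩ := h3
  haveI := hi; haveI := hTirr; haveI := hTred; haveI := hlft; haveI := hlqf; haveI := hdom
  haveI : IsIntegral T := isIntegral_of_irreducibleSpace_of_isReduced T
  obtain ⟨(T' : T.Opens), hT', htT', -⟩ := TopologicalSpace.Opens.isBasis_iff_nbhd.mp
    T.isBasis_affineOpens (show t ∈ (⊤ : T.Opens) from trivial)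
  haveI : Nonempty T' := ⟨⟨t, htT'⟩⟩
  haveI : IsAffine (T' : Scheme.{u}) := hT'
  refine ⟨T', T'.ι ≫ i, ⟨t, htT'⟩, inferInstance, inferInstance, ?_, ?_, ?_, ?_⟩
  · rw [Category.assoc]; infer_instance
  · rw [Category.assoc]; infer_instance
  · rw [Category.assoc]
    haveI : IsDominant T'.ι := by
      refine ⟨?_⟩
      rw [DenseRange, Scheme.Opens.range_ι]
      exact (T'.isOpen.dense ⟨t, htT'⟩)
    infer_instance
  · rw [Category.assoc, Scheme.Hom.comp_apply]
    have : T'.ι ⟨t, htT'⟩ = t := rfl
    rw [this, Scheme.Hom.comp_apply, ht, hxy']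
    exact hm

end Groth.Agent.Helper21.UOpen
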