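import Mathlib
import Groth.Agent.Lib.Helper21.UOpen1
import Groth.Agent.Lib.Helper21.UOpen2
import Groth.Agent.Lib.Helper21.EtRef3

/-!
# S2904: finite type universally open surjective morphisms over a locally Noetherian base are of
effective descent for étale separated quasi-compact schemes (helper21)
-/

set_option autoImplicit false
set_option backward.isDefEq.respectTransparency false
set_option backward.isDefEq.respectTransparency.types false
set_option linter.style.haveILetI false
set_option linter.unusedSectionVars false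

universe u

open CategoryTheory CategoryTheory.Limits AlgebraicGeometry

namespace Groth.Agent.Helper21.UOpen

open IsLocalRing Groth.Agent.Helper21.EtRef

/-- One finite piece covering the component `V(p)`. -/
theorem exists_finite_piece (B : Type u) [CommRing B] [IsNoetherianRing B] [IsLocalRing B]
    [IsAdicComplete (maximalIdeal B) B] {X : Scheme.{u}} (gB : X ⟶ Spec (CommRingCat.of B))
    [LocallyOfFiniteType gB] [QuasiCompact gB] [Surjective gB] [UniversallyOpen gB]
    (p : Ideal B) [p.IsPrime] :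
    ∃ (A : Type u) (_ : CommRing A) (_ : Algebra B A) (r : Spec (CommRingCat.of A) ⟶ X),
      Module.Finite B A ∧ r ≫ gB = Spec.map (CommRingCat.ofHom (algebraMap B A)) ∧
      ∀ q : PrimeSpectrum B, p ≤ q.asIdeal → q ∈ Set.range (r ≫ gB) := by
  obtain ⟨C, _, _, hCdom, hCic, hCfin, hCrange⟩ := exists_normalization B p
  haveI := hCdom; haveI := hCic; haveI := hCfin
  haveI : IsNoetherianRing C := IsNoetherianRing.of_finite B C
  haveI : HenselianLocalRing B := henselianLocalRing_of_isAdicComplete B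
  obtain ⟨q₀, hq₀⟩ : ∃ q₀ : Spec (CommRingCat.of C) ⟶ Spec (CommRingCat.of B),
    q₀ = Spec.map (CommRingCat.ofHom (algebraMap B C)) := ⟨_, rfl⟩
  obtain ⟨T', j, t, hT'aff, hT'int, hlft, hlqf, hdom, hmax⟩ :=
    exists_quasiSection C (pullback.snd gB q₀)
  haveI := hT'aff; haveI := hT'int; haveI := hlft; haveI := hlqf; haveI := hdom
  obtain ⟨m, hmdef⟩ : ∃ m : T' ⟶ Spec (CommRingCat.of C), m = j ≫ pullback.snd gB q₀ := ⟨_, rfl⟩
  haveI : LocallyOfFiniteType m := by rw [hmdef]; infer_instance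
  haveI : LocallyQuasiFinite m := by rw [hmdef]; infer_instance
  haveI : IsDominant m := by rw [hmdef]; infer_instance
  obtain ⟨φ, hφdef⟩ : ∃ φ : CommRingCat.of C ⟶ Γ(T', ⊤),
    φ = (Scheme.ΓSpecIso (CommRingCat.of C)).inv ≫ m.appTop := ⟨_, rfl⟩
  have hm : m = T'.isoSpec.hom ≫ Spec.map φ := by
    have h1 := Scheme.isoSpec_hom_naturality m
    have h2 : m = T'.isoSpec.hom ≫ Spec.map m.appTop ≫
        (Spec (CommRingCat.of C)).isoSpec.inv := by
      rw [← Category.assoc, h1, Category.assoc, Iso.hom_inv_id, Category.comp_id]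
    rw [hφdef, Spec.map_comp, ← Scheme.isoSpec_Spec_inv]
    exact h2
  have hφ : Spec.map φ = T'.isoSpec.inv ≫ m := by rw [hm, Iso.inv_hom_id_assoc]
  haveI : LocallyOfFiniteType (Spec.map φ) := by rw [hφ]; infer_instance
  haveI : LocallyQuasiFinite (Spec.map φ) := by rw [hφ]; infer_instance
  haveI : IsDominant (Spec.map φ) := by rw [hφ]; infer_instance
  have hft : φ.hom.FiniteType :=
    (HasRingHomProperty.Spec_iff (P := @LocallyOfFiniteType)).mp inferInstance
  have hqf : φ.hom.QuasiFinite :=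
    (HasRingHomProperty.Spec_iff (P := @LocallyQuasiFinite)).mp inferInstance
  letI : Algebra C Γ(T', ⊤) := φ.hom.toAlgebra
  letI : Algebra B Γ(T', ⊤) := (φ.hom.comp (algebraMap B C)).toAlgebra
  haveI : IsScalarTower B C Γ(T', ⊤) := IsScalarTower.of_algebraMap_eq fun _ => rfl
  haveI : Algebra.FiniteType C Γ(T', ⊤) := hft
  haveI : Algebra.QuasiFinite C Γ(T', ⊤) := hqf
  haveI : Algebra.FiniteType B Γ(T', ⊤) := Algebra.FiniteType.trans (S := C) inferInstance inferInstance
  haveI : Algebra.QuasiFinite B Γ(T', ⊤) := Algebra.QuasiFinite.trans B C Γ(T', ⊤)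
  -- the prime over the closed point
  obtain ⟨𝔱, h𝔱⟩ : ∃ 𝔱 : PrimeSpectrum Γ(T', ⊤), 𝔱 = T'.isoSpec.hom t := ⟨_, rfl⟩
  have h𝔱m : Spec.map φ 𝔱 = m t := by
    rw [h𝔱, ← Scheme.Hom.comp_apply, ← hm]
  have hmmax : (m t).asIdeal.IsMaximal := by rw [hmdef]; exact hmax
  haveI : Algebra.IsIntegral B C := Algebra.IsIntegral.of_finite B C
  have hBmax : ((m t).asIdeal.comap (algebraMap B C)).IsMaximal :=
    Ideal.isMaximal_comap_of_isIntegral_of_isMaximal (R := B) (m t).asIdeal
  have hle : maximalIdeal B ≤ 𝔱.asIdeal.comap (algebraMap B Γ(T', ⊤)) := by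
    have h1 : 𝔱.asIdeal.comap (algebraMap B Γ(T', ⊤)) =
        (m t).asIdeal.comap (algebraMap B C) := by
      rw [← h𝔱m]; rfl
    rw [h1, IsLocalRing.eq_maximalIdeal hBmax]
  haveI : Module.Finite B Γ(T', ⊤) := finite_of_domain_quasiFinite B Γ(T', ⊤) 𝔱.asIdeal hle
  haveI : Module.Finite C Γ(T', ⊤) := Module.Finite.of_restrictScalars_finite B C Γ(T', ⊤)
  haveI : IsFinite (Spec.map φ) := (IsFinite.SpecMap_iff φ).mpr (RingHom.finite_algebraMap.mpr inferInstance)
  have hsurj : Function.Surjective (Spec.map φ) := by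
    have hcl : IsClosed (Set.range (Spec.map φ)) := (Spec.map φ).isClosedMap.isClosed_range
    have hd : DenseRange (Spec.map φ) := (Spec.map φ).denseRange
    intro z
    have : z ∈ closure (Set.range (Spec.map φ)) := hd z
    rwa [hcl.closure_eq] at this
  refine ⟨Γ(T', ⊤), inferInstance, inferInstance, T'.isoSpec.inv ≫ j ≫ pullback.fst gB q₀,
    inferInstance, ?_, ?_⟩
  · have e1 : (T'.isoSpec.inv ≫ j ≫ pullback.fst gB q₀) ≫ gB = Spec.map φ ≫ q₀ := by
      rw [Category.assoc, Category.assoc, pullback.condition, ← Category.assoc j, ← hmdef,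
        ← Category.assoc, ← hφ]
    rw [e1, hq₀, ← Spec.map_comp]
    rfl
  · intro q hq
    obtain ⟨Q, hQ⟩ := hCrange q hq
    obtain ⟨P, hP⟩ := hsurj Q
    have e1 : (T'.isoSpec.inv ≫ j ≫ pullback.fst gB q₀) ≫ gB = Spec.map φ ≫ q₀ := by
      rw [Category.assoc, Category.assoc, pullback.condition, ← Category.assoc j, ← hmdef,
        ← Category.assoc, ← hφ]
    refine ⟨P, ?_⟩
    rw [e1, Scheme.Hom.comp_apply]
    refine (congrArg (fun z => q₀ z) hP).trans ?_
    rw [hq₀]
    exact hQ

end Groth.Agent.Helper21.UOpen
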