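import Mathlib
import Groth.Agent.Lib.Helper21.UOpen3

/-!
# S2904 (continued): assembling the finite refinement and the descent argument (helper21)
-/

set_option autoImplicit false
set_option backward.isDefEq.respectTransparency false
set_option backward.isDefEq.respectTransparency.types false
set_option linter.style.haveILetI false
set_option linter.unusedSectionVars false

universe u

open CategoryTheory CategoryTheory.Limits AlgebraicGeometry

namespace Groth.Agent.Helper21.UOpen

open IsLocalRing Groth.Agent.Helper21.EtRef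
open Desc Groth.Agent.Helper21.DescA Groth.Agent.Helper21.EtLoc Groth.Agent.Helper21.EtFpqc
  Groth.Agent.Helper21.EtStalk Groth.Agent.Helper21.EtFin

theorem univSubmersive_of_univOpen_surj {X Y : Scheme.{u}} (p : X ⟶ Y) [UniversallyOpen p]
    [Surjective p] : SGA1.UnivSubmersive p := by
  intro X' Y' i₁ i₂ f' h
  have h1 : UniversallyOpen f' := MorphismProperty.of_isPullback h.flip inferInstance
  have h2 : Surjective f' := MorphismProperty.of_isPullback h.flip inferInstance
  exact f'.isOpenMap.isQuotientMap f'.continuous f'.surjective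

/-- Bundled form of `exists_finite_piece`. -/
theorem exists_finite_piece' (B : Type u) [CommRing B] [IsNoetherianRing B] [IsLocalRing B]
    [IsAdicComplete (maximalIdeal B) B] {X : Scheme.{u}} (gB : X ⟶ Spec (CommRingCat.of B))
    [LocallyOfFiniteType gB] [QuasiCompact gB] [Surjective gB] [UniversallyOpen gB]
    (p : Ideal B) [p.IsPrime] :
    ∃ (A : CommRingCat.{u}) (ψ : CommRingCat.of B ⟶ A) (r : Spec A ⟶ X),
      ψ.hom.Finite ∧ r ≫ gB = Spec.map ψ ∧
      ∀ q : PrimeSpectrum B, p ≤ q.asIdeal → q ∈ Set.range (r ≫ gB) := by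
  obtain ⟨A, _, _, r, hfin, hr, hrange⟩ := exists_finite_piece B gB p
  exact ⟨CommRingCat.of A, CommRingCat.ofHom (algebraMap B A), r,
    RingHom.finite_algebraMap.mpr hfin, hr, hrange⟩

/-- Over a complete Noetherian local ring, a surjective universally open morphism of finite type is
refined by a finite surjective morphism. -/
theorem exists_finite_refinement_uopen (B : Type u) [CommRing B] [IsNoetherianRing B]
    [IsLocalRing B] [IsAdicComplete (maximalIdeal B) B] {X : Scheme.{u}}
    (gB : X ⟶ Spec (CommRingCat.of B))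
    [LocallyOfFiniteType gB] [QuasiCompact gB] [Surjective gB] [UniversallyOpen gB] :
    ∃ (F : Scheme.{u}) (r : F ⟶ X), IsFinite (r ≫ gB) ∧ Surjective (r ≫ gB) := by
  classical
  have hfinite : (minimalPrimes B).Finite := minimalPrimes.finite_of_isNoetherianRing B
  haveI : Fintype (minimalPrimes B) := hfinite.fintype
  have hpiece : ∀ p : minimalPrimes B, ∃ (A : CommRingCat.{u}) (ψ : CommRingCat.of B ⟶ A)
      (r : Spec A ⟶ X), ψ.hom.Finite ∧ r ≫ gB = Spec.map ψ ∧
      ∀ q : PrimeSpectrum B, p.1 ≤ q.asIdeal → q ∈ Set.range (r ≫ gB) := fun p => by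
    haveI : p.1.IsPrime := p.2.1.1
    exact exists_finite_piece' B gB p.1
  choose A ψ r hfin hr hrange using hpiece
  letI : ∀ p, Algebra B (A p) := fun p => (ψ p).hom.toAlgebra
  haveI : ∀ p, Module.Finite B (A p) := fun p => hfin p
  obtain ⟨ψ', hψ'⟩ : ∃ ψ' : CommRingCat.of B ⟶ CommRingCat.of (Π p, A p),
    ψ' = CommRingCat.ofHom (algebraMap B (Π p, A p)) := ⟨_, rfl⟩
  have hψ'fin : ψ'.hom.Finite := by
    rw [hψ']
    exact RingHom.finite_algebraMap.mpr inferInstance
  have hψ'p : ∀ p, ψ' ≫ CommRingCat.ofHom (Pi.evalRingHom (fun p => A p) p) = ψ p := by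
    intro p
    rw [hψ']
    rfl
  haveI : IsIso (sigmaSpec A) := inferInstance
  have hkey : Sigma.desc r ≫ gB = sigmaSpec A ≫ Spec.map ψ' := by
    apply Sigma.hom_ext
    intro p
    rw [Sigma.ι_desc_assoc, hr, ι_sigmaSpec_assoc, ← Spec.map_comp, hψ'p]
  have htot : (inv (sigmaSpec A) ≫ Sigma.desc r) ≫ gB = Spec.map ψ' := by
    rw [Category.assoc, hkey, IsIso.inv_hom_id_assoc]
  refine ⟨Spec (CommRingCat.of (Π p, A p)), inv (sigmaSpec A) ≫ Sigma.desc r, ?_, ?_⟩
  · rw [htot]
    exact (IsFinite.SpecMap_iff ψ').mpr hψ'fin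
  · refine ⟨fun q => ?_⟩
    obtain ⟨p, hp, hpq⟩ := Ideal.exists_minimalPrimes_le (I := (⊥ : Ideal B)) (J := q.asIdeal) bot_le
    obtain ⟨z, hz⟩ := hrange ⟨p, hp⟩ q hpq
    refine ⟨(Sigma.ι (fun p => Spec (A p)) ⟨p, hp⟩ ≫ sigmaSpec A) z, ?_⟩
    rw [← Scheme.Hom.comp_apply, Category.assoc, Category.assoc, IsIso.hom_inv_id_assoc,
      Sigma.ι_desc_assoc]
    exact hz

/-- The local case: over a complete Noetherian local ring. -/
theorem exists_cone_of_uopen_complete (B : Type u) [CommRing B] [IsNoetherianRing B]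
    [IsLocalRing B] [IsAdicComplete (maximalIdeal B) B] {S' : Scheme.{u}}
    (gB : S' ⟶ Spec (CommRingCat.of B)) [QuasiCompact gB]
    [LocallyOfFiniteType gB] [Surjective gB] [UniversallyOpen gB]
    (D : SchDDFam (fun _ : PUnit.{1} => gB)) [Etale (D.obj PUnit.unit).hom]
    [IsSeparated (D.obj PUnit.unit).hom] [QuasiCompact (D.obj PUnit.unit).hom] :
    ∃ c : Cone D, Etale c.U.hom := by
  obtain ⟨F, r, hfin, hsurj⟩ := exists_finite_refinement_uopen B gB
  haveI := hfin
  haveI := hsurj
  haveI : LocallyOfFinitePresentation (r ≫ gB) := lfp_of_lft_of_locallyNoetherian _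
  haveI : Etale ((refineDD gB r D).obj PUnit.unit).hom :=
    inferInstanceAs (Etale (pullback.snd (D.obj PUnit.unit).hom r))
  haveI : IsSeparated ((refineDD gB r D).obj PUnit.unit).hom :=
    inferInstanceAs (IsSeparated (pullback.snd (D.obj PUnit.unit).hom r))
  haveI : QuasiCompact ((refineDD gB r D).obj PUnit.unit).hom :=
    inferInstanceAs (QuasiCompact (pullback.snd (D.obj PUnit.unit).hom r))
  obtain ⟨c', hc'⟩ := exists_cone_of_finite_surjective (r ≫ gB) (refineDD gB r D)
  obtain ⟨c, hc⟩ := exists_cone_of_refinement gB r D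
    (univSubmersive_of_univClosed_surj (r ≫ gB)) c' hc'
  exact ⟨c, hc ▸ hc'⟩

/-- **S2904**. -/
theorem main2904 {S' S : Scheme.{u}} [IsLocallyNoetherian S] (g : S' ⟶ S)
    [LocallyOfFiniteType g] [QuasiCompact g] [Surjective g] [UniversallyOpen g]
    (D : Desc.SchDD g) [QuasiCompact D.obj.hom] [IsSeparated D.obj.hom] [Etale D.obj.hom] :
    ∃ U : Over S, QuasiCompact U.hom ∧ IsSeparated U.hom ∧ Etale U.hom ∧
      Nonempty ((Desc.toDD g).obj U ≅ D) := by
  have hg : SGA1.UnivSubmersive g := univSubmersive_of_univOpen_surj g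
  haveI : LocallyOfFinitePresentation g := lfp_of_lft_of_locallyNoetherian g
  haveI : IsLocallyNoetherian S' := LocallyOfFiniteType.isLocallyNoetherian g
  haveI : QuasiSeparated g := inferInstance
  let D' : SchDDFam (fun _ : PUnit.{1} => g) := (SchDDFam.ofSchDD.{0} g).obj D
  haveI : Etale (D'.obj PUnit.unit).hom := inferInstanceAs (Etale D.obj.hom)
  haveI : IsSeparated (D'.obj PUnit.unit).hom := inferInstanceAs (IsSeparated D.obj.hom)
  haveI : QuasiCompact (D'.obj PUnit.unit).hom := inferInstanceAs (QuasiCompact D.obj.hom)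
  obtain ⟨U, hU, ⟨e⟩⟩ := (main5127 g hg D').mpr (fun B _ _ _ _ _ q => by
    haveI : Etale ((baseChange D' q).obj PUnit.unit).hom :=
      inferInstanceAs (Etale (pullback.snd (D'.obj PUnit.unit).hom (pullback.fst g q)))
    haveI : IsSeparated ((baseChange D' q).obj PUnit.unit).hom :=
      inferInstanceAs (IsSeparated (pullback.snd (D'.obj PUnit.unit).hom (pullback.fst g q)))
    haveI : QuasiCompact ((baseChange D' q).obj PUnit.unit).hom :=
      inferInstanceAs (QuasiCompact (pullback.snd (D'.obj PUnit.unit).hom (pullback.fst g q)))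
    obtain ⟨c, hc⟩ := exists_cone_of_uopen_complete B (pullback.snd g q) (baseChange D' q)
    exact ⟨c.U, hc, ⟨c.iso.symm⟩⟩)
  obtain ⟨c, hc⟩ := exists_cone_of_iso U e.symm
  subst hc
  have hpb : IsPullback D.obj.hom (c.π PUnit.unit) g c.U.hom := c.isPullback PUnit.unit
  have hsep : IsSeparated c.U.hom :=
    Groth.Agent.Helper21.SubmDesc.separated_descends.of_isPullback hpb hg inferInstance
  have hqc : QuasiCompact c.U.hom := quasiCompact_of_isPullback_surjective hpb
  exact ⟨c.U, hqc, hsep, hU, ⟨(SchDDFam.toSchDD.{0} g).mapIso c.iso.symm⟩⟩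

end Groth.Agent.Helper21.UOpen
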