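import Mathlib
import Groth.Prelude.Def_HTop
import Groth.Prelude.Def_SGA1
import Groth.Prelude.Def_CAlg2
import Groth.Agent.S4945
import Groth.Agent.Lib.Helper4.UOpen5
import Groth.Agent.Lib.Helper12.MonoImmB
import Groth.Agent.Lib.Helper22.SubtrNoeth
import Groth.Agent.Lib.Helper21.UOpen4

/-!
# qfh coverings of a geometrically unibranch irreducible Noetherian scheme (helper21)

A finite family of quasi-finite morphisms from irreducible schemes to a geometrically unibranch
irreducible Noetherian scheme is universally submersive iff its dominant members are jointly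
surjective.
-/

set_option autoImplicit false
set_option backward.isDefEq.respectTransparency false
set_option backward.isDefEq.respectTransparency.types false
set_option linter.unusedSectionVars false
set_option linter.unusedVariables false
set_option linter.style.haveILetI false
universe u
open CategoryTheory CategoryTheory.Limits AlgebraicGeometry

namespace Groth.Agent.Helper21.QfhCov

/-- A surjective closed immersion into an irreducible scheme has irreducible source. -/
theorem irreducibleSpace_of_surj {T X : Scheme.{u}} (i : T ⟶ X) [IsClosedImmersion i]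
    (hs : Function.Surjective i) [IrreducibleSpace X] : IrreducibleSpace T :=
  ((i.isClosedEmbedding.isEmbedding.toHomeomorphOfSurjective hs).irreducibleSpace_iff).mpr
    inferInstance

/-- A dominant quasi-finite morphism from an irreducible scheme to a geometrically unibranch
irreducible locally Noetherian scheme is universally open. -/
theorem universallyOpen_of_dominant {U X : Scheme.{u}} [IsLocallyNoetherian X] [IrreducibleSpace X]
    (hX : ∀ x : X, CAlg2.IsGeomUnibranch (X.presheaf.stalk x))
    (p : U ⟶ X) [LocallyOfFiniteType p] [QuasiCompact p] [LocallyQuasiFinite p]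
    [IrreducibleSpace U] [IsDominant p] : UniversallyOpen p := by
  apply Groth.Agent.Helper4.UOpen.universallyOpen_of_isUnivOpenAt
  intro x
  have tfae := Groth.Agent.S4945.result p (p.base x) (hX _)
  have h30 := tfae.out 3 0
  refine h30.mp ?_ x rfl
  intro x' hx' _
  let I := Scheme.IdealSheafData.vanishingIdeal (⊤ : TopologicalSpace.Closeds U)
  have hr : Set.range I.subschemeι = Set.univ := by
    rw [Groth.Agent.Helper12.MonoImm.range_subschemeι_vanishingIdeal]; rfl
  have hs : Function.Surjective I.subschemeι := Set.range_eq_univ.mp hr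
  haveI : Surjective I.subschemeι := ⟨hs⟩
  haveI : IsClosedImmersion I.subschemeι := inferInstance
  refine ⟨I.subscheme, I.subschemeι, inferInstance, irreducibleSpace_of_surj I.subschemeι hs,
    Groth.Agent.Helper12.MonoImm.isReduced_vanishingIdeal_subscheme _, hs x', inferInstance,
    inferInstance, inferInstance, inferInstance⟩

/-- If `g ≫ f` is universally submersive, so is `f`. -/
theorem univSubmersive_of_comp {X Y Z : Scheme.{u}} (g : X ⟶ Y) (f : Y ⟶ Z)
    (h : SGA1.UnivSubmersive (g ≫ f)) : SGA1.UnivSubmersive f := by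
  intro Y' Z' i₁ i₂ f' hpb
  have hp := (IsPullback.of_hasPullback i₁ g).paste_horiz hpb
  have hq : Topology.IsQuotientMap (pullback.fst i₁ g ≫ f') := h _ _ _ hp
  have he : ⇑(pullback.fst i₁ g ≫ f') = ⇑f' ∘ ⇑(pullback.fst i₁ g) := by
    ext a; exact Scheme.Hom.comp_apply _ _ _
  rw [he] at hq
  exact Topology.IsQuotientMap.of_comp (pullback.fst i₁ g).continuous f'.continuous hq

/-- A universally submersive morphism is a quotient map. -/
theorem isQuotientMap_of_univSubmersive {X Y : Scheme.{u}} (f : X ⟶ Y)
    (h : SGA1.UnivSubmersive f) : Topology.IsQuotientMap f :=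
  h (𝟙 X) (𝟙 Y) f (IsPullback.id_vert f)

theorem main {X : Scheme.{u}} [IsNoetherian X] [IrreducibleSpace ↥X]
    (hX : ∀ x : X, CAlg2.IsGeomUnibranch (X.presheaf.stalk x)) (E : PreZeroHypercover.{u} X)
    [Finite E.I₀] [∀ i, LocallyOfFiniteType (E.f i)] [∀ i, QuasiCompact (E.f i)]
    [∀ i, LocallyQuasiFinite (E.f i)] [∀ i, IrreducibleSpace ↥(E.X i)] :
    (SGA1.UnivSubmersive (Sigma.desc E.f) ↔
        ∀ x : X, ∃ (i : E.I₀) (u : E.X i), IsDominant (E.f i) ∧ E.f i u = x) ∧
      ((∀ x : X, ∃ (i : E.I₀) (u : E.X i), IsDominant (E.f i) ∧ E.f i u = x) →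
        SGA1.UnivSubmersive
          (Sigma.desc fun j : {i : E.I₀ // IsDominant (E.f i)} => E.f j.1)) := by
  have huo : ∀ i, IsDominant (E.f i) → UniversallyOpen (E.f i) := fun i hi =>
    haveI := hi; universallyOpen_of_dominant hX (E.f i)
  have hB : (∀ x : X, ∃ (i : E.I₀) (u : E.X i), IsDominant (E.f i) ∧ E.f i u = x) →
        SGA1.UnivSubmersive
          (Sigma.desc fun j : {i : E.I₀ // IsDominant (E.f i)} => E.f j.1) := by
    intro hcov
    haveI : ∀ j : {i : E.I₀ // IsDominant (E.f i)}, UniversallyOpen (E.f j.1) :=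
      fun j => huo j.1 j.2
    haveI : UniversallyOpen
        (Sigma.desc fun j : {i : E.I₀ // IsDominant (E.f i)} => E.f j.1) :=
      IsZariskiLocalAtSource.sigmaDesc (fun j => inferInstance)
    haveI : Surjective (Sigma.desc fun j : {i : E.I₀ // IsDominant (E.f i)} => E.f j.1) := by
      refine ⟨fun x => ?_⟩
      obtain ⟨i, u, hi, hu⟩ := hcov x
      refine ⟨(Sigma.ι (fun j : {i : E.I₀ // IsDominant (E.f i)} => E.X j.1) ⟨i, hi⟩) u, ?_⟩
      rw [← Scheme.Hom.comp_apply, Sigma.ι_desc]
      exact hu
    exact Groth.Agent.Helper21.UOpen.univSubmersive_of_univOpen_surj _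
  refine ⟨⟨fun hsub => ?_, fun hcov => ?_⟩, hB⟩
  · intro x
    by_contra hcon
    push Not at hcon
    obtain ⟨D, _, _, _, g, hgs, hgη⟩ :=
      Groth.Agent.Helper22.SubtrNoeth.exists_dvr_of_specializes (genericPoint_specializes x)
    have hq : Topology.IsQuotientMap (pullback.snd (Sigma.desc E.f) g) :=
      isQuotientMap_of_univSubmersive _
        (Groth.Agent.Helper22.SubtrNoeth.univSubmersive_pullback_snd _ g hsub)
    set s : PrimeSpectrum D := IsLocalRing.closedPoint D with hs
    set η : PrimeSpectrum D := ⟨⊥, Ideal.isPrime_bot⟩ with hη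
    have hcases : ∀ z : PrimeSpectrum D, z = η ∨ z = s := Groth.Agent.S14766.dvr_prime_cases D
    let W : Set ↥(∐ E.X) := ⋃ i : {i : E.I₀ // ¬ IsDominant (E.f i)}, Set.range (Sigma.ι E.X i.1)
    have hWo : IsOpen W :=
      isOpen_iUnion fun i => (Sigma.ι E.X i.1).isOpenEmbedding.isOpen_range
    have hpre : (pullback.snd (Sigma.desc E.f) g) ⁻¹' {s} =
        (pullback.fst (Sigma.desc E.f) g) ⁻¹' W := by
      ext p
      obtain ⟨i, u, hu⟩ := (sigmaOpenCover E.X).exists_eq (pullback.fst (Sigma.desc E.f) g p)
      have hu' : Sigma.ι E.X i u = pullback.fst (Sigma.desc E.f) g p := hu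
      have hfu : E.f i u = g (pullback.snd (Sigma.desc E.f) g p) := by
        rw [← Scheme.Hom.comp_apply, ← pullback.condition, Scheme.Hom.comp_apply, ← hu',
          ← Scheme.Hom.comp_apply, Sigma.ι_desc]
      constructor
      · intro hp
        have hp' : pullback.snd (Sigma.desc E.f) g p = s := hp
        rw [hp', hgs] at hfu
        have hnd : ¬ IsDominant (E.f i) := fun hd => hcon i u hd hfu
        exact Set.mem_iUnion.mpr ⟨⟨i, hnd⟩, u, hu'⟩
      · intro hp
        obtain ⟨⟨j, hj⟩, v, hv⟩ := Set.mem_iUnion.mp hp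
        have hv' : Sigma.ι E.X j v = pullback.fst (Sigma.desc E.f) g p := hv
        have hfv : E.f j v = g (pullback.snd (Sigma.desc E.f) g p) := by
          rw [← Scheme.Hom.comp_apply, ← pullback.condition, Scheme.Hom.comp_apply, ← hv',
            ← Scheme.Hom.comp_apply, Sigma.ι_desc]
        rcases hcases (pullback.snd (Sigma.desc E.f) g p) with h1 | h1
        · exfalso
          apply hj
          rw [h1, hgη] at hfv
          refine ⟨?_⟩
          have hd : Dense ({genericPoint X} : Set X) :=
            dense_iff_closure_eq.mpr (genericPoint_closure (α := X))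
          exact hd.mono (Set.singleton_subset_iff.mpr ⟨v, hfv⟩)
        · exact h1
    have hopen : IsOpen ({s} : Set (PrimeSpectrum D)) := by
      rw [← hq.isOpen_preimage, hpre]
      exact hWo.preimage (pullback.fst (Sigma.desc E.f) g).continuous
    have hsp : η ⤳ s := (PrimeSpectrum.le_iff_specializes η s).1 bot_le
    have hmem : η ∈ ({s} : Set (PrimeSpectrum D)) := hsp.mem_open hopen rfl
    have heq : η = s := hmem
    exact IsDiscreteValuationRing.not_a_field D (congrArg PrimeSpectrum.asIdeal heq).symm
  · have h1 := hB hcov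
    have h2 : (Sigma.desc fun j : {i : E.I₀ // IsDominant (E.f i)} => E.f j.1) =
        Sigma.desc (fun j : {i : E.I₀ // IsDominant (E.f i)} => Sigma.ι E.X j.1) ≫
          Sigma.desc E.f := by
      apply Sigma.hom_ext
      intro j
      rw [Sigma.ι_desc, Sigma.ι_desc_assoc, Sigma.ι_desc]
    rw [h2] at h1
    exact univSubmersive_of_comp _ _ h1

end Groth.Agent.Helper21.QfhCov
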