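import Mathlib
import Groth.Prelude.Def_HTop2
import Groth.Agent.Lib.Helper11.EvalBridge

/-!
Bridges between `HTop.ResidueFieldsIso` for maps of affine schemes and the ring-level `RFTriv`
(copied from helper20's `EtaSN` to keep imports light), and the comparison of weak and
semi-normalization under a `p`-root closedness hypothesis.
-/

namespace Groth.Agent.Helper21.RFI

open Groth.Agent.Helper11.UH
open CategoryTheory AlgebraicGeometry

universe u

variable {A C : Type u} [CommRing A] [CommRing C]

theorem residue_div_surjective (Q : PrimeSpectrum C) (z : Q.asIdeal.ResidueField) :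
    ∃ c d : C, d ∉ Q.asIdeal ∧ z = algebraMap C _ c / algebraMap C _ d := by
  obtain ⟨x, y, hy, hxy⟩ := IsFractionRing.div_surjective (A := C ⧸ Q.asIdeal) z
  obtain ⟨c, rfl⟩ := Ideal.Quotient.mk_surjective x
  obtain ⟨d, rfl⟩ := Ideal.Quotient.mk_surjective y
  refine ⟨c, d, ?_, ?_⟩
  · intro hd
    have : (Ideal.Quotient.mk Q.asIdeal d) = 0 := Ideal.Quotient.eq_zero_iff_mem.mpr hd
    exact nonZeroDivisors.ne_zero hy this
  · rw [← hxy, Ideal.algebraMap_quotient_residueField_mk, Ideal.algebraMap_quotient_residueField_mk]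

theorem residueFieldsIso_iff (ψ : A →+* C) :
    HTop.ResidueFieldsIso (Spec.map (CommRingCat.ofHom ψ)) ↔ RFTriv ψ := by
  rw [← rftriv_iff]
  constructor
  · intro h x
    have := h x
    exact ((ConcreteCategory.isIso_iff_bijective _).mp this).2
  · intro h x
    rw [ConcreteCategory.isIso_iff_bijective]
    exact ⟨((Spec.map (CommRingCat.ofHom ψ)).residueFieldMap x).hom.injective, h x⟩

theorem comap_injective_of_uhom (ψ : A →+* C) (h : UHom ψ) :
    Function.Injective (PrimeSpectrum.comap ψ) := by
  have h1 := (isUnivHomeo_spec_iff' ψ).mpr h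
  have h2 : UniversallyInjective (Spec.map (CommRingCat.ofHom ψ)) := ((isUnivHomeo_iff _).mp h1).2.1
  exact (Spec.map (CommRingCat.ofHom ψ)).injective

/-- Weak normalization equals seminormalization under a `p`-root closedness hypothesis. -/
theorem main (A B : Type u) [CommRing A] [CommRing B] [Algebra A B]
    (hpi : ∀ p : PrimeSpectrum A, ∃ q : PrimeSpectrum B,
      ∃ hq : p.asIdeal = Ideal.comap (algebraMap A B) q.asIdeal,
      ∀ x : q.asIdeal.ResidueField,
        (∃ n : ℕ, x ^ ringExpChar p.asIdeal.ResidueField ^ n ∈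
            Set.range (Ideal.ResidueField.map p.asIdeal q.asIdeal (algebraMap A B) hq)) →
        x ∈ Set.range (Ideal.ResidueField.map p.asIdeal q.asIdeal (algebraMap A B) hq))
    (C : Subalgebra A B) (hU : UHom (algebraMap A C)) : RFTriv (algebraMap A C) := by
  intro P c
  obtain ⟨q, hq, hcl⟩ := hpi (PrimeSpectrum.comap (algebraMap A C) P)
  have hqC : PrimeSpectrum.comap (algebraMap C B) q = P := by
    apply comap_injective_of_uhom _ hU
    apply PrimeSpectrum.ext
    show Ideal.comap (algebraMap A C) (Ideal.comap (algebraMap C B) q.asIdeal) =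
      (PrimeSpectrum.comap (algebraMap A C) P).asIdeal
    rw [hq]
    rfl
  have hmemP : ∀ z : C, z ∈ P.asIdeal ↔ algebraMap C B z ∈ q.asIdeal := by
    intro z
    rw [← hqC]
    rfl
  have hmemp : ∀ t : A, t ∈ (PrimeSpectrum.comap (algebraMap A C) P).asIdeal ↔
      algebraMap A C t ∈ P.asIdeal := fun t => Iff.rfl
  obtain ⟨ℓ, hℓ, n, a, s, hs, hsa⟩ := exists_pow_inK hU P c
  rcases hℓ with rfl | ⟨hprime, hℓP⟩
  · refine ⟨a, s, hs, ?_⟩
    simpa using hsa
  · -- characteristic `ℓ`
    set p : PrimeSpectrum A := PrimeSpectrum.comap (algebraMap A C) P with hp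
    have hℓp : ((ℓ : ℕ) : A) ∈ p.asIdeal := by
      rw [hmemp]
      exact hℓP
    have h0 : ((ℓ : ℕ) : p.asIdeal.ResidueField) = 0 := by
      have := (Ideal.algebraMap_residueField_eq_zero (I := p.asIdeal)).mpr hℓp
      rwa [map_natCast] at this
    haveI : CharP p.asIdeal.ResidueField ℓ := (CharP.charP_iff_prime_eq_zero hprime).mpr h0
    haveI : ExpChar p.asIdeal.ResidueField ℓ := ExpChar.prime hprime
    have hexp : ringExpChar p.asIdeal.ResidueField = ℓ := ringExpChar.eq _ ℓ
    -- the element `x`
    set x : q.asIdeal.ResidueField := algebraMap B q.asIdeal.ResidueField (c : B) with hx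
    have hsq : algebraMap A B s ∉ q.asIdeal := by
      intro h
      exact hs ((hmemP _).mpr h)
    have hs0 : algebraMap B q.asIdeal.ResidueField (algebraMap A B s) ≠ 0 := by
      rw [Ne, Ideal.algebraMap_residueField_eq_zero]
      exact hsq
    have hsaq : algebraMap A B s * (c : B) ^ (ℓ ^ n) - algebraMap A B a ∈ q.asIdeal := by
      have := (hmemP _).mp hsa
      simpa using this
    have hpow : x ^ ringExpChar p.asIdeal.ResidueField ^ n ∈
        Set.range (Ideal.ResidueField.map p.asIdeal q.asIdeal (algebraMap A B) hq) := by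
      rw [hexp]
      refine ⟨algebraMap A _ a / algebraMap A _ s, ?_⟩
      rw [map_div₀, Ideal.ResidueField.map_algebraMap, Ideal.ResidueField.map_algebraMap,
        div_eq_iff hs0]
      have := (Ideal.algebraMap_residueField_eq_zero (I := q.asIdeal)).mpr hsaq
      rw [map_sub, map_mul, map_pow, sub_eq_zero] at this
      rw [mul_comm, ← this]
    obtain ⟨w, hw⟩ := hcl x ⟨n, hpow⟩
    obtain ⟨a', s', hs', rfl⟩ := residue_div_surjective p w
    have hs'q : algebraMap A B s' ∉ q.asIdeal := by
      intro h
      apply hs'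
      rw [hq]
      exact h
    have hs'0 : algebraMap B q.asIdeal.ResidueField (algebraMap A B s') ≠ 0 := by
      rw [Ne, Ideal.algebraMap_residueField_eq_zero]
      exact hs'q
    rw [map_div₀, Ideal.ResidueField.map_algebraMap, Ideal.ResidueField.map_algebraMap,
      div_eq_iff hs'0] at hw
    refine ⟨a', s', ?_, ?_⟩
    · intro h
      exact hs'q ((hmemP _).mp h)
    · rw [hmemP]
      have h1 : algebraMap C B (algebraMap A C s' * c - algebraMap A C a') =
          algebraMap A B s' * (c : B) - algebraMap A B a' := by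
        simp
      rw [h1, ← Ideal.algebraMap_residueField_eq_zero, map_sub, map_mul, sub_eq_zero, hw,
        mul_comm]

end Groth.Agent.Helper21.RFI
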