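import Mathlib
import Groth.Agent.Lib.Helper7.InjFlatGlobal
import Groth.Agent.Lib.Helper3.ResTensor
import Groth.Agent.Lib.Helper21.FL1

/-!
# Universally injective restriction maps: ring level (helper21)

For an `A`-algebra `B`, a `B`-module `M` and a set `G ⊆ B` (describing the open `⋃ D(g)` of
`Spec B`), `TF0fib A M K G` says that on the fibre `K ⊗[A] M` an element killed by a power of every
`g ∈ G` is zero.
-/

set_option autoImplicit false
set_option linter.unusedSectionVars false
set_option linter.style.haveILetI false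

universe u

open TensorProduct Function

namespace Groth.Agent.Helper21.RI

section Basic

variable (A : Type u) {B : Type u} [CommRing A] [CommRing B] [Algebra A B]
  (M : Type u) [AddCommGroup M] [Module B M] [Module A M] [IsScalarTower A B M]

/-- multiplication by `b : B` on the fibre `K ⊗[A] M` -/
noncomputable def fibMul (K : Type u) [CommRing K] [Algebra A K] (b : B) :
    K ⊗[A] M →ₗ[K] K ⊗[A] M :=
  (DistribSMul.toLinearMap A M b).baseChange K

lemma fibMul_tmul (K : Type u) [CommRing K] [Algebra A K] (b : B) (x : K) (m : M) :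
    fibMul A M K b (x ⊗ₜ[A] m) = x ⊗ₜ[A] (b • m) := rfl

/-- on the fibre `K ⊗[A] M`, an element killed by a power of every `g ∈ G` is zero -/
def TF0fib (K : Type u) [CommRing K] [Algebra A K] (G : Set B) : Prop :=
  ∀ z : K ⊗[A] M, (∀ g ∈ G, ∃ k : ℕ, fibMul A M K (g ^ k) z = 0) → z = 0

/-- descent of `TF0fib` along a field extension (uses flatness of `M`) -/
theorem tf0fib_down [Module.Flat A M] {K L : Type u} [Field K] [CommRing L] [Nontrivial L]
    [Algebra A K] [Algebra A L] [Algebra K L] [IsScalarTower A K L] (G : Set B)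
    (h : TF0fib A M L G) : TF0fib A M K G := by
  intro z hz
  let ι : K →ₗ[A] L := (IsScalarTower.toAlgHom A K L).toLinearMap
  have hι : Injective ι := (algebraMap K L).injective
  have hinj : Injective (ι.rTensor M) := Module.Flat.rTensor_preserves_injective_linearMap ι hι
  have hcomm : ∀ (b : B) (w : K ⊗[A] M),
      ι.rTensor M (fibMul A M K b w) = fibMul A M L b (ι.rTensor M w) := by
    intro b w
    induction w using TensorProduct.induction_on with
    | zero => simp
    | tmul x m => rfl
    | add x y hx hy => rw [map_add, map_add, hx, hy, map_add, map_add]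
  apply hinj
  rw [map_zero]
  apply h
  intro g hg
  obtain ⟨k, hk⟩ := hz g hg
  exact ⟨k, by rw [← hcomm, hk, map_zero]⟩

/-- ascent of `TF0fib` along a field extension -/
theorem tf0fib_up {K L : Type u} [Field K] [Field L] [Algebra A K] [Algebra A L] [Algebra K L]
    [IsScalarTower A K L] (G : Set B) (h : TF0fib A M K G) : TF0fib A M L G := by
  classical
  intro z hz
  let ℬ := Module.Free.chooseBasis K L
  let c : L ⊗[K] (K ⊗[A] M) ≃ₗ[L] L ⊗[A] M := AlgebraTensorModule.cancelBaseChange A K L L M
  let e : L ⊗[K] (K ⊗[A] M) ≃ₗ[K] (_ →₀ (K ⊗[A] M)) := TensorProduct.equivFinsuppOfBasisLeft ℬ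
  have hc : ∀ (b : B) (w : L ⊗[K] (K ⊗[A] M)),
      c ((fibMul A M K b).baseChange L w) = fibMul A M L b (c w) := by
    intro b w
    induction w using TensorProduct.induction_on with
    | zero => simp
    | tmul l n =>
      induction n using TensorProduct.induction_on with
      | zero => simp
      | tmul x m =>
        simp only [c, LinearMap.baseChange_tmul, fibMul_tmul,
          AlgebraTensorModule.cancelBaseChange_tmul]
      | add x y hx hy => rw [tmul_add, map_add, map_add, hx, hy, map_add, map_add]
    | add x y hx hy => rw [map_add, map_add, hx, hy, map_add, map_add]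
  have he : ∀ (T : (K ⊗[A] M) →ₗ[K] (K ⊗[A] M)) (w : L ⊗[K] (K ⊗[A] M)) i,
      e (T.baseChange L w) i = T (e w i) := by
    intro T w i
    induction w using TensorProduct.induction_on with
    | zero => simp
    | tmul l n =>
      simp only [e, LinearMap.baseChange_tmul,
        TensorProduct.equivFinsuppOfBasisLeft_apply_tmul_apply, map_smul]
    | add x y hx hy => rw [map_add, map_add, Finsupp.add_apply, hx, hy, map_add,
        Finsupp.add_apply, map_add]
  obtain ⟨w, rfl⟩ := c.surjective z
  have hw : ∀ i, e w i = 0 := by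
    intro i
    apply h
    intro g hg
    obtain ⟨k, hk⟩ := hz g hg
    refine ⟨k, ?_⟩
    rw [← he]
    have h0 : (fibMul A M K (g ^ k)).baseChange L w = 0 := by
      apply c.injective
      rw [hc, map_zero]
      exact hk
    rw [h0, map_zero]
    rfl
  have hw0 : w = 0 := by
    apply e.injective
    rw [map_zero]
    ext i : 1
    exact hw i
  rw [hw0, map_zero]

end Basic

/-- finite reduction over a Noetherian ring -/
theorem exists_finset_tf0 {C N : Type*} [CommRing C] [IsNoetherianRing C] [AddCommGroup N]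
    [Module C N] (S : Set C) (h : ∀ n : N, (∀ c ∈ S, ∃ k : ℕ, c ^ k • n = 0) → n = 0) :
    ∃ S₀ : Finset C, (S₀ : Set C) ⊆ S ∧
      ∀ n : N, (∀ c ∈ S₀, ∃ k : ℕ, c ^ k • n = 0) → n = 0 := by
  obtain ⟨S₀, hS₀, hspan⟩ := (Submodule.fg_span_iff_fg_span_finset_subset S).mp
    (IsNoetherian.noetherian (Ideal.span S))
  refine ⟨S₀, hS₀, fun n hn => h n fun c hc => ?_⟩
  let I : Ideal C := LinearMap.ker (LinearMap.toSpanSingleton C N n)
  have hI : ∀ c : C, c ∈ I.radical ↔ ∃ k : ℕ, c ^ k • n = 0 := by
    intro c
    constructor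
    · rintro ⟨k, hk⟩
      exact ⟨k, by simpa [I] using hk⟩
    · rintro ⟨k, hk⟩
      exact ⟨k, by simpa [I] using hk⟩
  have h1 : Ideal.span (S₀ : Set C) ≤ I.radical :=
    Ideal.span_le.mpr fun c hc => (hI c).mpr (hn c hc)
  have h2 : c ∈ Ideal.span (S₀ : Set C) := by
    have : c ∈ Submodule.span C S := Submodule.subset_span hc
    rw [hspan] at this
    exact this
  exact (hI c).mp (h1 h2)

section Core

variable {A B : Type u} [CommRing A] [CommRing B] [Algebra A B]
  {M : Type u} [AddCommGroup M] [Module B M] [Module A M] [IsScalarTower A B M]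

lemma mem_map_smul_top_iff (p : Ideal A) (y : M) :
    y ∈ (p.map (algebraMap A B)) • (⊤ : Submodule B M) ↔ y ∈ p • (⊤ : Submodule A M) := by
  have h := Ideal.smul_restrictScalars p (⊤ : Submodule B M)
  rw [Submodule.restrictScalars_top] at h
  rw [← h]
  rfl

set_option maxHeartbeats 1600000 in
set_option synthInstance.maxHeartbeats 400000 in
/-- **Core**: fibrewise injectivity of `m ↦ (g ^ k • m)_{g ∈ G₀}` at a prime `Q` gives
injectivity at `Q` (via EGA IV 11.3.7). -/
theorem core [Algebra.FinitePresentation A B] [Module.FinitePresentation B M] [Module.Flat A M]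
    (Q : Ideal B) [Q.IsPrime] (G₀ : Finset B) (k : ℕ)
    (hfib : ∀ z : (Q.comap (algebraMap A B)).ResidueField ⊗[A] M,
      (∀ g ∈ G₀, fibMul A M _ (g ^ k) z = 0) → z = 0)
    (t : M) (ht : ∀ g ∈ G₀, g ^ k • t = 0) : ∃ s : B, s ∉ Q ∧ s • t = 0 := by
  classical
  let p := Q.comap (algebraMap A B)
  let u : M →ₗ[B] (G₀ → M) := LinearMap.pi fun g => LinearMap.lsmul B M ((g : B) ^ k)
  haveI : Module.Flat A (G₀ → M) :=
    Module.Flat.of_linearEquiv (DFinsupp.linearEquivFunOnFintype (R := A) (M := fun _ : G₀ => M)).symm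
  haveI : Module.Flat A (LocalizedModule Q.primeCompl (G₀ → M)) :=
    Groth.Agent.Helper21.FL.flat_of_isLocalizedModule Q.primeCompl
      (LocalizedModule.mkLinearMap Q.primeCompl (G₀ → M))
  have key := Groth.Agent.Helper7.InjFlatGlobal.global_inj_flat (R := A) u Q ?_
  · exact key.1 t (funext fun g => ht g g.2)
  · rintro x ⟨s, hsQ, hs⟩
    have h1 : (1 : p.ResidueField) ⊗ₜ[A] (s • x) = 0 := by
      apply hfib
      intro g hg
      rw [fibMul_tmul]
      have h2 : s • (g ^ k • x) ∈ (p.map (algebraMap A B)) • (⊤ : Submodule B M) := by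
        have h3 : (LinearMap.proj (R := B) (φ := fun _ : G₀ => M) ⟨g, hg⟩) (s • u x) ∈
            Submodule.map (LinearMap.proj (R := B) (φ := fun _ : G₀ => M) ⟨g, hg⟩)
              ((p.map (algebraMap A B)) • (⊤ : Submodule B (G₀ → M))) :=
          Submodule.mem_map_of_mem hs
        rw [Submodule.map_smul''] at h3
        exact Submodule.smul_mono le_rfl le_top h3
      rw [mem_map_smul_top_iff] at h2
      rw [smul_comm]
      exact Groth.Agent.Helper3.ResTensor.one_tmul_eq_zero_of_smul_mem p _ 1
        (fun h => Ideal.IsPrime.ne_top inferInstance ((Ideal.eq_top_iff_one _).mpr h))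
        (by rwa [one_smul])
    obtain ⟨a, hap, ha⟩ :=
      Groth.Agent.Helper3.ResTensor.exists_smul_mem_of_one_tmul_eq_zero p (s • x) h1
    refine ⟨algebraMap A B a * s, ?_, ?_⟩
    · intro hmem
      rcases Ideal.IsPrime.mem_or_mem inferInstance hmem with h | h
      · exact hap h
      · exact hsQ h
    · rw [mem_map_smul_top_iff, mul_smul, algebraMap_smul]
      exact ha

end Core

end Groth.Agent.Helper21.RI
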