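import Mathlib
import Groth.Agent.Lib.Helper21.RI1

/-!
# Universally injective restriction maps: the main ring level statement (helper21)

EGA IV 11.10.10 at ring level: fibrewise "torsion-freeness" with respect to the open `⋃ D(g)`
implies the same after every base change.
-/

set_option autoImplicit false
set_option linter.unusedSectionVars false
set_option linter.style.haveILetI false

universe u

open TensorProduct Function

namespace Groth.Agent.Helper21.RI

variable {A B : Type u} [CommRing A] [CommRing B] [Algebra A B]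
  {M : Type u} [AddCommGroup M] [Module B M] [Module A M] [IsScalarTower A B M]

set_option maxHeartbeats 1600000 in
set_option synthInstance.maxHeartbeats 400000 in
/-- the fibre of a base change, compared with the fibre of the original module -/
theorem tf0fib_baseChange {A' B' M' : Type u} [CommRing A'] [CommRing B'] [Algebra A A']
    [Algebra A' B'] [AddCommGroup M'] [Module B' M'] [Module A' M'] [IsScalarTower A' B' M']
    [Module A M'] [IsScalarTower A A' M']
    (φ : B →+* B') (j : M →ₗ[A] M') (hj : IsBaseChange A' j)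
    (hjφ : ∀ (b : B) (m : M), j (b • m) = φ b • j m)
    (L : Type u) [Field L] [Algebra A' L] [Algebra A L] [IsScalarTower A A' L]
    (G₀ : Finset B) (k : ℕ) (hT : TF0fib A M L (G₀ : Set B))
    (z : L ⊗[A'] M') (hz : ∀ g ∈ G₀, fibMul A' M' L (φ g ^ k) z = 0) : z = 0 := by
  classical
  let Θ : L ⊗[A] M ≃ₗ[L] L ⊗[A'] M' :=
    (AlgebraTensorModule.cancelBaseChange A A' L L M).symm ≪≫ₗ
      (AlgebraTensorModule.congr (LinearEquiv.refl L L) hj.equiv)
  have hΘ : ∀ (x : L) (m : M), Θ (x ⊗ₜ[A] m) = x ⊗ₜ[A'] j m := by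
    intro x m
    simp only [Θ, LinearEquiv.trans_apply, AlgebraTensorModule.cancelBaseChange_symm_tmul,
      AlgebraTensorModule.congr_tmul, LinearEquiv.refl_apply, IsBaseChange.equiv_tmul, one_smul]
  have hcomm : ∀ (b : B) (w : L ⊗[A] M),
      Θ (fibMul A M L b w) = fibMul A' M' L (φ b) (Θ w) := by
    intro b w
    induction w using TensorProduct.induction_on with
    | zero => simp
    | tmul x m => rw [fibMul_tmul, hΘ, hΘ, fibMul_tmul, hjφ]
    | add x y hx hy => rw [map_add, map_add, hx, hy, map_add, map_add]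
  obtain ⟨w, rfl⟩ := Θ.surjective z
  have hw : w = 0 := by
    apply hT
    intro g hg
    refine ⟨k, ?_⟩
    apply Θ.injective
    rw [hcomm, map_zero, map_pow]
    exact hz g hg
  rw [hw, map_zero]

set_option maxHeartbeats 3200000 in
set_option synthInstance.maxHeartbeats 400000 in
/-- **EGA IV 11.10.10, ring level.** -/
theorem main [Module.Flat A M] (G : Set B)
    (hfib : ∀ (p : Ideal A) [p.IsPrime], ∃ (K : Type u) (_ : CommRing K) (_ : Algebra A K),
      IsField K ∧ RingHom.ker (algebraMap A K) = p ∧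
        ∃ G₀ : Finset B, (G₀ : Set B) ⊆ G ∧ TF0fib A M K (G₀ : Set B))
    {A' B' M' : Type u} [CommRing A'] [CommRing B'] [Algebra A A'] [Algebra A' B']
    [Algebra.FinitePresentation A' B']
    [AddCommGroup M'] [Module B' M'] [Module A' M'] [IsScalarTower A' B' M']
    [Module A M'] [IsScalarTower A A' M'] [Module.FinitePresentation B' M']
    (φ : B →+* B') (j : M →ₗ[A] M') (hj : IsBaseChange A' j)
    (hjφ : ∀ (b : B) (m : M), j (b • m) = φ b • j m) :
    ∀ (h : B') (m : M'), (∀ g ∈ G, ∃ k : ℕ, (h * φ g) ^ k • m = 0) →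
      ∃ K : ℕ, h ^ K • m = 0 := by
  classical
  intro h m hm
  by_contra hcon
  push Not at hcon
  haveI : Module.Flat A' M' := Module.Flat.isBaseChange A A' M M' hj
  let I : Ideal B' := LinearMap.ker (LinearMap.toSpanSingleton B' M' m)
  have hI : ∀ x : B', x ∈ I ↔ x • m = 0 := fun x => by simp [I]
  have hdisj : Disjoint (I : Set B') (Submonoid.powers h : Set B') := by
    rw [Set.disjoint_left]
    rintro x hx ⟨K, rfl⟩
    exact hcon K ((hI _).mp hx)
  obtain ⟨Q, hQ, hIQ, hQd⟩ := Ideal.exists_le_prime_disjoint I (Submonoid.powers h) hdisj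
  haveI := hQ
  have hhQ : h ∉ Q := fun hh => Set.disjoint_left.mp hQd hh ⟨1, pow_one h⟩
  let p' : Ideal A' := Q.comap (algebraMap A' B')
  let p : Ideal A := p'.comap (algebraMap A A')
  obtain ⟨K, _, _, hKf, hker, G₀, hG₀, hT⟩ := hfib p
  haveI : Nontrivial K := hKf.nontrivial
  -- `κ(p) → K`
  let ψ : p.ResidueField →+* K := Ideal.ResidueField.lift p (algebraMap A K) (by rw [hker])
    (by
      intro a ha
      change IsUnit (algebraMap A K a)
      have h0 : algebraMap A K a ≠ 0 := by
        intro h0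
        have : a ∈ RingHom.ker (algebraMap A K) := h0
        rw [hker] at this
        exact ha this
      obtain ⟨b, hb⟩ := hKf.mul_inv_cancel h0
      exact IsUnit.of_mul_eq_one _ hb)
  letI : Algebra p.ResidueField K := ψ.toAlgebra
  haveI : IsScalarTower A p.ResidueField K := IsScalarTower.of_algebraMap_eq fun a =>
    (Ideal.ResidueField.lift_algebraMap p (algebraMap A K) _ _ a).symm
  have hT1 : TF0fib A M p.ResidueField (G₀ : Set B) := tf0fib_down A M (G₀ : Set B) hT
  -- `κ(p) → κ(p')`
  let χ : p.ResidueField →ₐ[A] p'.ResidueField :=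
    Ideal.ResidueField.mapₐ p p' (Algebra.ofId A A') rfl
  letI : Algebra p.ResidueField p'.ResidueField := χ.toRingHom.toAlgebra
  haveI : IsScalarTower A p.ResidueField p'.ResidueField :=
    IsScalarTower.of_algebraMap_eq fun a => (χ.commutes a).symm
  have hT2 : TF0fib A M p'.ResidueField (G₀ : Set B) := tf0fib_up A M (G₀ : Set B) hT1
  -- uniform exponent
  choose! kf hkf using hm
  let k := G₀.sup kf
  have hk : ∀ g ∈ G₀, (h * φ g) ^ k • m = 0 := fun g hg => by
    have hle : kf g ≤ k := Finset.le_sup hg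
    obtain ⟨d, hd⟩ := Nat.exists_eq_add_of_le hle
    rw [hd, pow_add, mul_comm, mul_smul, hkf g (hG₀ hg), smul_zero]
  have ht : ∀ g' ∈ G₀.image φ, g' ^ k • (h ^ k • m) = 0 := by
    intro g' hg'
    obtain ⟨g, hg, rfl⟩ := Finset.mem_image.mp hg'
    rw [← mul_smul, ← mul_pow, mul_comm]
    exact hk g hg
  obtain ⟨s, hsQ, hs⟩ := core (A := A') Q (G₀.image φ) k
    (fun z hz => tf0fib_baseChange φ j hj hjφ p'.ResidueField G₀ k hT2 z
      (fun g hg => hz (φ g) (Finset.mem_image_of_mem φ hg))) (h ^ k • m) ht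
  have hmem : s * h ^ k ∈ I := by
    rw [hI, mul_smul]
    exact hs
  rcases hQ.mem_or_mem (hIQ hmem) with h1 | h1
  · exact hsQ h1
  · exact hhQ (hQ.mem_of_pow_mem k h1)

end Groth.Agent.Helper21.RI
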