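import Mathlib
import Groth.Agent.Lib.Helper13.QCoh

/-!
# Injectivity of the restriction maps `Γ(V, F) → Γ(V ∩ U, F)` and its affine-local form (helper21)
-/

set_option autoImplicit false
set_option linter.unusedSectionVars false
set_option linter.style.haveILetI false

universe u

open CategoryTheory AlgebraicGeometry TopologicalSpace Opposite

namespace Groth.Agent.Helper21.RI

open Groth.Agent.Helper13.QCoh

variable {Y : Scheme.{u}} (F : Y.Modules) (U : Y.Opens)

/-- the restriction maps `Γ(V, F) → Γ(V ∩ U, F)` are injective -/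
def RInj : Prop :=
  ∀ V : Y.Opens, Function.Injective (F.presheaf.map (homOfLE (inf_le_left : V ⊓ U ≤ V)).op)

lemma res_res {V₁ V₂ V₃ : Y.Opens} (h₁₂ : V₂ ≤ V₁) (h₂₃ : V₃ ≤ V₂) (t : Γ(F, V₁)) :
    F.presheaf.map (homOfLE h₂₃).op (F.presheaf.map (homOfLE h₁₂).op t) =
      F.presheaf.map (homOfLE (h₂₃.trans h₁₂)).op t := by
  rw [← ConcreteCategory.comp_apply, ← F.presheaf.map_comp]
  rfl

lemma res_eq_zero_of_pow_smul {W : Y.Opens} (g : Γ(Y, W)) (z : Γ(F, W)) (k : ℕ)
    (hk : g ^ k • z = 0) : F.presheaf.map (homOfLE (Y.basicOpen_le g)).op z = 0 := by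
  have h3 := congrArg (F.presheaf.map (homOfLE (Y.basicOpen_le g)).op) hk
  rw [Scheme.Modules.map_smul, map_pow, map_zero] at h3
  have hunit : IsUnit (Y.presheaf.map (homOfLE (Y.basicOpen_le g)).op g) :=
    RingedSpace.isUnit_res_basicOpen _ g
  exact (hunit.pow k).smul_left_cancel.mp (h3.trans (smul_zero _).symm)

variable [F.IsQuasicoherent]

/-- **D1**: injectivity of the restriction maps gives the torsion-freeness on affine opens -/
theorem tf0_of_rinj (h : RInj F U) {W : Y.Opens} (G : Set Γ(Y, W))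
    (hG : ∀ x : Y, x ∈ W → x ∈ U → ∃ g ∈ G, x ∈ Y.basicOpen g)
    (z : Γ(F, W)) (hz : ∀ g ∈ G, ∃ k : ℕ, g ^ k • z = 0) : z = 0 := by
  apply h W
  rw [map_zero]
  refine TopCat.Presheaf.section_ext (F := ⟨F.presheaf, F.isSheaf⟩) (W ⊓ U) _ 0 (fun x hx => ?_)
  obtain ⟨g, hg, hxg⟩ := hG x hx.1 hx.2
  obtain ⟨k, hk⟩ := hz g hg
  have h1 := res_eq_zero_of_pow_smul F g z k hk
  have h2 := TopCat.Presheaf.germ_res_apply F.presheaf
    (homOfLE (inf_le_left : W ⊓ U ≤ W)) x hx z
  have h3 := TopCat.Presheaf.germ_res_apply F.presheaf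
    (homOfLE (Y.basicOpen_le g)) x hxg z
  rw [map_zero]
  change F.presheaf.germ (W ⊓ U) x hx _ = 0
  rw [h2, ← h3, h1, map_zero]

/-- **D2**: the affine-local torsion-freeness on a cover gives injectivity of the restriction
maps -/
theorem rinj_of_tf
    (H : ∀ x : Y, ∃ W : Y.Opens, IsAffineOpen W ∧ x ∈ W ∧ ∃ G : Set Γ(Y, W),
      (∀ g ∈ G, Y.basicOpen g ≤ U) ∧
      ∀ (h : Γ(Y, W)) (m : Γ(F, W)), (∀ g ∈ G, ∃ k : ℕ, (h * g) ^ k • m = 0) →
        ∃ K : ℕ, h ^ K • m = 0) :
    RInj F U := by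
  intro V
  rw [injective_iff_map_eq_zero]
  intro t ht
  refine TopCat.Presheaf.section_ext (F := ⟨F.presheaf, F.isSheaf⟩) V t 0 (fun x hx => ?_)
  obtain ⟨W, hW, hxW, G, hGU, HTF⟩ := H x
  obtain ⟨f, hfV, hxf⟩ := hW.exists_basicOpen_le (V := V) ⟨x, hx⟩ hxW
  have h1 : F.presheaf.map (homOfLE hfV).op t = 0 := by
    obtain ⟨n, c, hc⟩ := exists_pow_smul_eq_res F hW f (F.presheaf.map (homOfLE hfV).op t)
    have hyp : ∀ g ∈ G, ∃ k : ℕ, (f * g) ^ k • c = 0 := by
      intro g hg
      apply exists_pow_smul_eq_zero F hW (f * g) c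
      have e1 : Y.basicOpen (f * g) ≤ Y.basicOpen f := by
        rw [Y.basicOpen_mul]; exact inf_le_left
      have e2 : Y.basicOpen (f * g) ≤ V ⊓ U := by
        rw [Y.basicOpen_mul]; exact inf_le_inf hfV (hGU g hg)
      have e3 : F.presheaf.map (homOfLE e1).op (F.presheaf.map (homOfLE hfV).op t) = 0 := by
        rw [res_res]
        have : F.presheaf.map (homOfLE e2).op
            (F.presheaf.map (homOfLE (inf_le_left : V ⊓ U ≤ V)).op t) = 0 := by
          rw [ht, map_zero]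
        rw [res_res] at this
        exact this
      have e4 := congrArg (F.presheaf.map (homOfLE e1).op) hc
      rw [res_res, Scheme.Modules.map_smul, e3, smul_zero] at e4
      exact e4
    obtain ⟨K, hK⟩ := HTF f c hyp
    have h5 := res_eq_zero_of_pow_smul F f c K hK
    rw [hc] at h5
    have hunit : IsUnit (Y.presheaf.map (homOfLE (Y.basicOpen_le f)).op f) :=
      RingedSpace.isUnit_res_basicOpen _ f
    exact (hunit.pow n).smul_left_cancel.mp (h5.trans (smul_zero _).symm)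
  have h2 := TopCat.Presheaf.germ_res_apply F.presheaf (homOfLE hfV) x hxf t
  rw [map_zero]
  change F.presheaf.germ V x hx t = 0
  rw [← h2, h1, map_zero]

end Groth.Agent.Helper21.RI
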