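import Mathlib
import Groth.Agent.Lib.Helper21.RI2
import Groth.Agent.Lib.Helper21.RI3
import Groth.Agent.Lib.Helper7.ChartBC
import Groth.Agent.Lib.Helper7.SepGeom
import Groth.Agent.Lib.Helper13.PullbackLocal

/-!
# Universally injective restriction maps: the fibre hypothesis (helper21)
-/

set_option autoImplicit false
set_option linter.unusedSectionVars false
set_option linter.style.haveILetI false

universe u

open CategoryTheory AlgebraicGeometry TopologicalSpace Opposite Limits TensorProduct Function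

namespace Groth.Agent.Helper21.RI

section Ring

variable {A B : Type u} [CommRing A] [CommRing B] [Algebra A B]
  {M : Type u} [AddCommGroup M] [Module B M] [Module A M] [IsScalarTower A B M]

/-- transport of the torsion-freeness from an abstract base change to the tensor product -/
theorem tf0fib_of_isBaseChange {K C N : Type u} [CommRing K] [Algebra A K] [CommRing C]
    [AddCommGroup N] [Module C N] [Module K N] [Module A N] [IsScalarTower A K N]
    [SMulCommClass K C N]
    (φ : B →+* C) (j : M →ₗ[A] N) (hj : IsBaseChange K j)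
    (hjφ : ∀ (b : B) (m : M), j (b • m) = φ b • j m)
    (G : Set B) (h : ∀ n : N, (∀ g ∈ G, ∃ k : ℕ, φ g ^ k • n = 0) → n = 0) :
    TF0fib A M K G := by
  intro z hz
  have hcomm : ∀ (b : B) (w : K ⊗[A] M), hj.equiv (fibMul A M K b w) = φ b • hj.equiv w := by
    intro b w
    induction w using TensorProduct.induction_on with
    | zero => simp
    | tmul x m =>
      rw [fibMul_tmul, IsBaseChange.equiv_tmul, IsBaseChange.equiv_tmul, hjφ, smul_comm]
    | add x y hx hy => rw [map_add, map_add, hx, hy, map_add, smul_add]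
  apply hj.equiv.injective
  rw [map_zero]
  apply h
  intro g hg
  obtain ⟨k, hk⟩ := hz g hg
  exact ⟨k, by rw [← map_pow, ← hcomm, hk, map_zero]⟩

/-- the same with a finite reduction over a Noetherian ring -/
theorem exists_finset_tf0fib {K C N : Type u} [CommRing K] [Algebra A K] [CommRing C]
    [IsNoetherianRing C]
    [AddCommGroup N] [Module C N] [Module K N] [Module A N] [IsScalarTower A K N]
    [SMulCommClass K C N]
    (φ : B →+* C) (j : M →ₗ[A] N) (hj : IsBaseChange K j)
    (hjφ : ∀ (b : B) (m : M), j (b • m) = φ b • j m)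
    (G : Set B) (h : ∀ n : N, (∀ g ∈ G, ∃ k : ℕ, φ g ^ k • n = 0) → n = 0) :
    ∃ G₀ : Finset B, (G₀ : Set B) ⊆ G ∧ TF0fib A M K (G₀ : Set B) := by
  classical
  obtain ⟨S₀, hS₀, hS₀tf⟩ := exists_finset_tf0 (N := N) (φ '' G) (fun n hn => h n fun g hg =>
    hn (φ g) ⟨g, hg, rfl⟩)
  obtain ⟨G₀, hG₀, rfl⟩ := Finset.subset_set_image_iff.mp hS₀
  refine ⟨G₀, hG₀, tf0fib_of_isBaseChange φ j hj hjφ _ fun n hn => hS₀tf n fun c hc => ?_⟩
  obtain ⟨g, hg, rfl⟩ := Finset.mem_image.mp hc
  exact hn g hg

end Ring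

section Ker

variable {S : Scheme.{u}} {V : S.Opens} (hV : IsAffineOpen V)

lemma isField_gammaSpec' (R : CommRingCat.{u}) (hR : IsField R) : IsField Γ(Spec R, ⊤) :=
  MulEquiv.isField hR (Scheme.ΓSpecIso R).commRingCatIsoToRingEquiv.toMulEquiv

include hV in
/-- the kernel of `Γ(S, V) → Γ(Spec κ(s), ⊤)` is the prime corresponding to `s` -/
theorem ker_appLE_fromSpecResidueField (p : Ideal Γ(S, V)) [p.IsPrime]
    (e : (⊤ : (Spec (S.residueField (hV.fromSpec ⟨p, inferInstance⟩))).Opens) ≤
      (S.fromSpecResidueField (hV.fromSpec ⟨p, inferInstance⟩)) ⁻¹ᵁ V) :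
    RingHom.ker ((S.fromSpecResidueField (hV.fromSpec ⟨p, inferInstance⟩)).appLE V ⊤ e).hom =
      p := by
  set s : S := hV.fromSpec ⟨p, inferInstance⟩ with hs
  set q := S.fromSpecResidueField s with hq
  have hK : IsField Γ(Spec (S.residueField s), ⊤) :=
    isField_gammaSpec' _ (Field.toIsField (S.residueField s))
  let pt : Spec (S.residueField s) := IsLocalRing.closedPoint (S.residueField s)
  have hpt : q pt = s := Scheme.fromSpecResidueField_apply s pt
  have hmem : ∀ a : Γ(S, V), s ∈ S.basicOpen a ↔ a ∉ p := by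
    intro a
    have h1 := hV.fromSpec_preimage_basicOpen a
    have h2 : (⟨p, inferInstance⟩ : PrimeSpectrum Γ(S, V)) ∈
        hV.fromSpec ⁻¹ᵁ S.basicOpen a ↔ s ∈ S.basicOpen a := Iff.rfl
    rw [← h2, h1]
    exact Iff.rfl
  ext a
  rw [RingHom.mem_ker]
  have h3 := Scheme.basicOpen_appLE q ⊤ V e a
  constructor
  · intro h0
    by_contra hap
    have h4 : s ∈ S.basicOpen a := (hmem a).mpr hap
    have h5 : pt ∈ (Spec (S.residueField s)).basicOpen (q.appLE V ⊤ e a) := by
      rw [h3]
      exact ⟨trivial, by change q pt ∈ S.basicOpen a; rw [hpt]; exact h4⟩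
    have h6 : (q.appLE V ⊤ e).hom a = 0 := h0
    have h7 : q.appLE V ⊤ e a = 0 := h6
    rw [h7, Scheme.basicOpen_zero] at h5
    exact h5
  · intro hap
    by_contra h0
    have hunit : IsUnit (q.appLE V ⊤ e a) := by
      obtain ⟨b, hb⟩ := hK.mul_inv_cancel h0
      exact IsUnit.of_mul_eq_one _ hb
    have h5 : pt ∈ (Spec (S.residueField s)).basicOpen (q.appLE V ⊤ e a) := by
      rw [Scheme.basicOpen_of_isUnit _ hunit]
      trivial
    rw [h3] at h5
    have h6 : q pt ∈ S.basicOpen a := h5.2
    rw [hpt] at h6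
    exact (hmem a).mp h6 hap

end Ker

end Groth.Agent.Helper21.RI
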