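import Mathlib
import Groth.Agent.Lib.Helper21.RI4

/-!
# Universally injective restriction maps: the fibre hypothesis on an affine chart (helper21)
-/

set_option autoImplicit false
set_option linter.unusedSectionVars false
set_option linter.style.haveILetI false

universe u

open CategoryTheory AlgebraicGeometry TopologicalSpace Opposite Limits TensorProduct Function

namespace Groth.Agent.Helper21.RI

open Groth.Agent.Helper7.ChartBC

set_option maxHeartbeats 3200000 in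
set_option synthInstance.maxHeartbeats 400000 in
/-- the fibrewise hypothesis, on an affine chart, in ring form -/
theorem fib_hyp {X S : Scheme.{u}} (f : X ⟶ S) [LocallyOfFiniteType f] (F : X.Modules)
    [F.IsQuasicoherent] (U : X.Opens)
    (hfib : ∀ s : S, RInj ((Scheme.Modules.pullback (pullback.fst f (S.fromSpecResidueField s))).obj F)
      ((pullback.fst f (S.fromSpecResidueField s)) ⁻¹ᵁ U))
    {V : S.Opens} (hV : IsAffineOpen V) {W : X.Opens} (hW : IsAffineOpen W) (eWV : W ≤ f ⁻¹ᵁ V) :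
    letI := (f.appLE V W eWV).hom.toAlgebra
    letI : Module Γ(S, V) Γ(F, W) := Module.compHom _ (f.appLE V W eWV).hom
    haveI : IsScalarTower Γ(S, V) Γ(X, W) Γ(F, W) :=
      IsScalarTower.of_algebraMap_smul fun _ _ => rfl
    ∀ (p : Ideal Γ(S, V)) [p.IsPrime], ∃ (K : Type u) (_ : CommRing K) (_ : Algebra Γ(S, V) K),
      IsField K ∧ RingHom.ker (algebraMap Γ(S, V) K) = p ∧
        ∃ G₀ : Finset Γ(X, W), (G₀ : Set Γ(X, W)) ⊆ {g | X.basicOpen g ≤ U} ∧
          TF0fib Γ(S, V) Γ(F, W) K (G₀ : Set Γ(X, W)) := by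
  letI algAB : Algebra Γ(S, V) Γ(X, W) := (f.appLE V W eWV).hom.toAlgebra
  letI modAM : Module Γ(S, V) Γ(F, W) := Module.compHom _ (f.appLE V W eWV).hom
  haveI twABM : IsScalarTower Γ(S, V) Γ(X, W) Γ(F, W) :=
    IsScalarTower.of_algebraMap_smul fun _ _ => rfl
  intro p _
  set s : S := hV.fromSpec ⟨p, inferInstance⟩ with hs
  have hsV : s ∈ V := by
    have : s ∈ hV.fromSpec.opensRange := ⟨_, rfl⟩
    rwa [hV.opensRange_fromSpec] at this
  set q := S.fromSpecResidueField s with hq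
  have H : IsPullback (pullback.fst f q) (pullback.snd f q) f q := IsPullback.of_hasPullback f q
  have hV' : IsAffineOpen (⊤ : (Spec (S.residueField s)).Opens) := isAffineOpen_top _
  have eV' : (⊤ : (Spec (S.residueField s)).Opens) ≤ q ⁻¹ᵁ V := by
    intro y _
    change q y ∈ V
    rw [Scheme.fromSpecResidueField_apply]
    exact hsV
  have hW' := isAffineOpen_chart H hV hW eWV hV' eV'
  -- Noetherianity of the chart of the fibre
  haveI : IsLocallyNoetherian (pullback f q) :=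
    LocallyOfFiniteType.isLocallyNoetherian (pullback.snd f q)
  haveI hNoeth : IsNoetherianRing Γ(pullback f q, (pullback.fst f q) ⁻¹ᵁ W ⊓ (pullback.snd f q) ⁻¹ᵁ ⊤) :=
    IsLocallyNoetherian.component_noetherian ⟨_, hW'⟩
  -- instances
  letI algAK : Algebra Γ(S, V) Γ(Spec (S.residueField s), ⊤) := (q.appLE V ⊤ eV').hom.toAlgebra
  letI modKN : Module Γ(Spec (S.residueField s), ⊤)
      Γ((Scheme.Modules.pullback (pullback.fst f q)).obj F,
        (pullback.fst f q) ⁻¹ᵁ W ⊓ (pullback.snd f q) ⁻¹ᵁ ⊤) :=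
    Module.compHom _ ((pullback.snd f q).appLE ⊤ ((pullback.fst f q) ⁻¹ᵁ W ⊓ (pullback.snd f q) ⁻¹ᵁ ⊤)
      inf_le_right).hom
  letI modAN : Module Γ(S, V)
      Γ((Scheme.Modules.pullback (pullback.fst f q)).obj F,
        (pullback.fst f q) ⁻¹ᵁ W ⊓ (pullback.snd f q) ⁻¹ᵁ ⊤) :=
    Module.compHom _ (algebraMap Γ(S, V) Γ(Spec (S.residueField s), ⊤))
  haveI twAKN : IsScalarTower Γ(S, V) Γ(Spec (S.residueField s), ⊤)
      Γ((Scheme.Modules.pullback (pullback.fst f q)).obj F,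
        (pullback.fst f q) ⁻¹ᵁ W ⊓ (pullback.snd f q) ⁻¹ᵁ ⊤) :=
    IsScalarTower.of_algebraMap_smul fun _ _ => rfl
  haveI : SMulCommClass Γ(Spec (S.residueField s), ⊤)
      Γ(pullback f q, (pullback.fst f q) ⁻¹ᵁ W ⊓ (pullback.snd f q) ⁻¹ᵁ ⊤)
      Γ((Scheme.Modules.pullback (pullback.fst f q)).obj F,
        (pullback.fst f q) ⁻¹ᵁ W ⊓ (pullback.snd f q) ⁻¹ᵁ ⊤) :=
    ⟨fun x c n => by
      change ((pullback.snd f q).appLE ⊤ ((pullback.fst f q) ⁻¹ᵁ W ⊓ (pullback.snd f q) ⁻¹ᵁ ⊤)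
          inf_le_right).hom x • c • n =
        c • ((pullback.snd f q).appLE ⊤ ((pullback.fst f q) ⁻¹ᵁ W ⊓ (pullback.snd f q) ⁻¹ᵁ ⊤)
          inf_le_right).hom x • n
      exact smul_comm _ _ _⟩
  letI modBN : Module Γ(X, W)
      Γ((Scheme.Modules.pullback (pullback.fst f q)).obj F,
        (pullback.fst f q) ⁻¹ᵁ W ⊓ (pullback.snd f q) ⁻¹ᵁ ⊤) :=
    Module.compHom _ ((pullback.fst f q).appLE W
      ((pullback.fst f q) ⁻¹ᵁ W ⊓ (pullback.snd f q) ⁻¹ᵁ ⊤) inf_le_left).hom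
  obtain ⟨j, hj, hjm⟩ := exists_isBaseChange_chart H F hV hW eWV hV' eV'
  obtain ⟨j₀, hj₀, hj₀m⟩ := exists_isBaseChange_sections (pullback.fst f q) F hW hW' inf_le_left
  let φ : Γ(X, W) →+* Γ(pullback f q, (pullback.fst f q) ⁻¹ᵁ W ⊓ (pullback.snd f q) ⁻¹ᵁ ⊤) :=
    ((pullback.fst f q).appLE W
      ((pullback.fst f q) ⁻¹ᵁ W ⊓ (pullback.snd f q) ⁻¹ᵁ ⊤) inf_le_left).hom
  have hjφ : ∀ (b : Γ(X, W)) (m : Γ(F, W)), j (b • m) = φ b • j m := by
    intro b m
    rw [hjm, ← hj₀m, map_smul, hj₀m, ← hjm]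
    rfl
  -- the torsion-freeness on the chart of the fibre
  have htf : ∀ n : Γ((Scheme.Modules.pullback (pullback.fst f q)).obj F,
        (pullback.fst f q) ⁻¹ᵁ W ⊓ (pullback.snd f q) ⁻¹ᵁ ⊤),
      (∀ g ∈ {g : Γ(X, W) | X.basicOpen g ≤ U}, ∃ k : ℕ, φ g ^ k • n = 0) → n = 0 := by
    intro n hn
    refine tf0_of_rinj _ _ (hfib s) (φ '' {g : Γ(X, W) | X.basicOpen g ≤ U}) ?_ n ?_
    · intro x hxW' hxU
      have hxW : (pullback.fst f q) x ∈ W := hxW'.1
      obtain ⟨g, hgU, hxg⟩ := hW.exists_basicOpen_le (V := U) ⟨(pullback.fst f q) x, hxU⟩ hxW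
      refine ⟨φ g, ⟨g, hgU, rfl⟩, ?_⟩
      have h3 := Scheme.basicOpen_appLE (pullback.fst f q)
        ((pullback.fst f q) ⁻¹ᵁ W ⊓ (pullback.snd f q) ⁻¹ᵁ ⊤) W inf_le_left g
      change x ∈ (pullback f q).basicOpen ((pullback.fst f q).appLE W
        ((pullback.fst f q) ⁻¹ᵁ W ⊓ (pullback.snd f q) ⁻¹ᵁ ⊤) inf_le_left g)
      rw [h3]
      exact ⟨hxW', hxg⟩
    · rintro _ ⟨g, hg, rfl⟩
      exact hn g hg
  obtain ⟨G₀, hG₀, hT⟩ := exists_finset_tf0fib φ j hj hjφ _ htf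
  refine ⟨Γ(Spec (S.residueField s), ⊤), inferInstance, algAK,
    isField_gammaSpec' _ (Field.toIsField (S.residueField s)), ?_, G₀, hG₀, hT⟩
  exact ker_appLE_fromSpecResidueField hV p eV'

end Groth.Agent.Helper21.RI
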