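import Mathlib
import Groth.Prelude.Def_FlatMod2
import Groth.Agent.Lib.Helper21.RI5
import Groth.Agent.Lib.Helper13.FinPresAffine
import Groth.Agent.Lib.Helper13.FlatOverAffine

/-!
# Universally injective restriction maps: EGA IV 11.10.10 (helper21)
-/

set_option autoImplicit false
set_option linter.unusedSectionVars false
set_option linter.style.haveILetI false

universe u

open CategoryTheory AlgebraicGeometry TopologicalSpace Opposite Limits TensorProduct Function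

namespace Groth.Agent.Helper21.RI

open Groth.Agent.Helper7.ChartBC

set_option maxHeartbeats 3200000 in
set_option synthInstance.maxHeartbeats 400000 in
/-- the torsion-freeness on a chart of a base change -/
theorem chart_tf {X S S' : Scheme.{u}} (f : X ⟶ S) [LocallyOfFinitePresentation f] (F : X.Modules)
    [F.IsQuasicoherent] (hF : SheafOfModules.IsFinitePresentation (R := X.ringCatSheaf) F)
    (hflat : FlatMod.IsFlatOver f F) (U : X.Opens)
    (hfib : ∀ s : S, RInj ((Scheme.Modules.pullback (pullback.fst f (S.fromSpecResidueField s))).obj F)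
      ((pullback.fst f (S.fromSpecResidueField s)) ⁻¹ᵁ U))
    (g : S' ⟶ S)
    {V : S.Opens} (hV : IsAffineOpen V) {W : X.Opens} (hW : IsAffineOpen W) (eWV : W ≤ f ⁻¹ᵁ V)
    {V' : S'.Opens} (hV' : IsAffineOpen V') (eV' : V' ≤ g ⁻¹ᵁ V) :
    ∀ (h : Γ(pullback f g, (pullback.fst f g) ⁻¹ᵁ W ⊓ (pullback.snd f g) ⁻¹ᵁ V'))
      (m : Γ((Scheme.Modules.pullback (pullback.fst f g)).obj F,
        (pullback.fst f g) ⁻¹ᵁ W ⊓ (pullback.snd f g) ⁻¹ᵁ V')),
      (∀ g₁ ∈ {g₁ : Γ(X, W) | X.basicOpen g₁ ≤ U}, ∃ k : ℕ,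
        (h * ((pullback.fst f g).appLE W
          ((pullback.fst f g) ⁻¹ᵁ W ⊓ (pullback.snd f g) ⁻¹ᵁ V') inf_le_left).hom g₁) ^ k • m = 0) →
      ∃ K : ℕ, h ^ K • m = 0 := by
  have H : IsPullback (pullback.fst f g) (pullback.snd f g) f g := IsPullback.of_hasPullback f g
  have hW' := isAffineOpen_chart H hV hW eWV hV' eV'
  letI algAB : Algebra Γ(S, V) Γ(X, W) := (f.appLE V W eWV).hom.toAlgebra
  letI modAM : Module Γ(S, V) Γ(F, W) := Module.compHom _ (f.appLE V W eWV).hom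
  haveI twABM : IsScalarTower Γ(S, V) Γ(X, W) Γ(F, W) :=
    IsScalarTower.of_algebraMap_smul fun _ _ => rfl
  haveI hfl : Module.Flat Γ(S, V) Γ(F, W) :=
    Groth.Agent.Helper13.FlatOver.flat_sections_of_isFlatOverAt f F hW hV eWV (fun x _ => hflat x)
  haveI hfpM : Module.FinitePresentation Γ(X, W) Γ(F, W) :=
    Groth.Agent.Helper13.LocFree.finitePresentation_sections_of_isFinitePresentation F hW
  letI algAA' : Algebra Γ(S, V) Γ(S', V') := (g.appLE V V' eV').hom.toAlgebra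
  letI algA'B' : Algebra Γ(S', V')
      Γ(pullback f g, (pullback.fst f g) ⁻¹ᵁ W ⊓ (pullback.snd f g) ⁻¹ᵁ V') :=
    ((pullback.snd f g).appLE V' ((pullback.fst f g) ⁻¹ᵁ W ⊓ (pullback.snd f g) ⁻¹ᵁ V')
      inf_le_right).hom.toAlgebra
  haveI hfpB' : Algebra.FinitePresentation Γ(S', V')
      Γ(pullback f g, (pullback.fst f g) ⁻¹ᵁ W ⊓ (pullback.snd f g) ⁻¹ᵁ V') :=
    HasRingHomProperty.appLE (P := @LocallyOfFinitePresentation) (pullback.snd f g) inferInstance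
      ⟨V', hV'⟩ ⟨_, hW'⟩ inf_le_right
  letI modA'N : Module Γ(S', V')
      Γ((Scheme.Modules.pullback (pullback.fst f g)).obj F,
        (pullback.fst f g) ⁻¹ᵁ W ⊓ (pullback.snd f g) ⁻¹ᵁ V') :=
    Module.compHom _ ((pullback.snd f g).appLE V'
      ((pullback.fst f g) ⁻¹ᵁ W ⊓ (pullback.snd f g) ⁻¹ᵁ V') inf_le_right).hom
  haveI twA'B'N : IsScalarTower Γ(S', V')
      Γ(pullback f g, (pullback.fst f g) ⁻¹ᵁ W ⊓ (pullback.snd f g) ⁻¹ᵁ V')
      Γ((Scheme.Modules.pullback (pullback.fst f g)).obj F,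
        (pullback.fst f g) ⁻¹ᵁ W ⊓ (pullback.snd f g) ⁻¹ᵁ V') :=
    IsScalarTower.of_algebraMap_smul fun _ _ => rfl
  letI modAN : Module Γ(S, V)
      Γ((Scheme.Modules.pullback (pullback.fst f g)).obj F,
        (pullback.fst f g) ⁻¹ᵁ W ⊓ (pullback.snd f g) ⁻¹ᵁ V') :=
    Module.compHom _ (algebraMap Γ(S, V) Γ(S', V'))
  haveI twAA'N : IsScalarTower Γ(S, V) Γ(S', V')
      Γ((Scheme.Modules.pullback (pullback.fst f g)).obj F,
        (pullback.fst f g) ⁻¹ᵁ W ⊓ (pullback.snd f g) ⁻¹ᵁ V') :=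
    IsScalarTower.of_algebraMap_smul fun _ _ => rfl
  letI modBN : Module Γ(X, W)
      Γ((Scheme.Modules.pullback (pullback.fst f g)).obj F,
        (pullback.fst f g) ⁻¹ᵁ W ⊓ (pullback.snd f g) ⁻¹ᵁ V') :=
    Module.compHom _ ((pullback.fst f g).appLE W
      ((pullback.fst f g) ⁻¹ᵁ W ⊓ (pullback.snd f g) ⁻¹ᵁ V') inf_le_left).hom
  letI algBB' : Algebra Γ(X, W)
      Γ(pullback f g, (pullback.fst f g) ⁻¹ᵁ W ⊓ (pullback.snd f g) ⁻¹ᵁ V') :=
    ((pullback.fst f g).appLE W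
      ((pullback.fst f g) ⁻¹ᵁ W ⊓ (pullback.snd f g) ⁻¹ᵁ V') inf_le_left).hom.toAlgebra
  haveI twBB'N : IsScalarTower Γ(X, W)
      Γ(pullback f g, (pullback.fst f g) ⁻¹ᵁ W ⊓ (pullback.snd f g) ⁻¹ᵁ V')
      Γ((Scheme.Modules.pullback (pullback.fst f g)).obj F,
        (pullback.fst f g) ⁻¹ᵁ W ⊓ (pullback.snd f g) ⁻¹ᵁ V') :=
    IsScalarTower.of_algebraMap_smul fun _ _ => rfl
  obtain ⟨j, hj, hjm⟩ := exists_isBaseChange_chart H F hV hW eWV hV' eV'
  obtain ⟨j₀, hj₀, hj₀m⟩ := exists_isBaseChange_sections (pullback.fst f g) F hW hW' inf_le_left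
  haveI hfpN : Module.FinitePresentation
      Γ(pullback f g, (pullback.fst f g) ⁻¹ᵁ W ⊓ (pullback.snd f g) ⁻¹ᵁ V')
      Γ((Scheme.Modules.pullback (pullback.fst f g)).obj F,
        (pullback.fst f g) ⁻¹ᵁ W ⊓ (pullback.snd f g) ⁻¹ᵁ V') :=
    _root_.FinitePresentation.of_isBaseChange j₀ hj₀
  let φ : Γ(X, W) →+* Γ(pullback f g, (pullback.fst f g) ⁻¹ᵁ W ⊓ (pullback.snd f g) ⁻¹ᵁ V') :=
    ((pullback.fst f g).appLE W
      ((pullback.fst f g) ⁻¹ᵁ W ⊓ (pullback.snd f g) ⁻¹ᵁ V') inf_le_left).hom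
  have hjφ : ∀ (b : Γ(X, W)) (m : Γ(F, W)), j (b • m) = φ b • j m := by
    intro b m
    rw [hjm, ← hj₀m, map_smul, hj₀m, ← hjm]
    rfl
  exact main (A := Γ(S, V)) (B := Γ(X, W)) (M := Γ(F, W)) {g₁ : Γ(X, W) | X.basicOpen g₁ ≤ U}
    (fib_hyp f F U hfib hV hW eWV) φ j hj hjφ

set_option maxHeartbeats 1600000 in
/-- **EGA IV 11.10.10**: fibrewise injectivity of the restriction maps `Γ(V, F) → Γ(V ∩ U, F)`
implies their injectivity after every base change. -/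
theorem rinj_of_fibres {X S : Scheme.{u}} (f : X ⟶ S) [LocallyOfFinitePresentation f]
    (F : X.Modules) [F.IsQuasicoherent]
    (hF : SheafOfModules.IsFinitePresentation (R := X.ringCatSheaf) F)
    (hflat : FlatMod.IsFlatOver f F) (U : X.Opens)
    (hfib : ∀ s : S, RInj ((Scheme.Modules.pullback (pullback.fst f (S.fromSpecResidueField s))).obj F)
      ((pullback.fst f (S.fromSpecResidueField s)) ⁻¹ᵁ U))
    {S' : Scheme.{u}} (g : S' ⟶ S) :
    RInj ((Scheme.Modules.pullback (pullback.fst f g)).obj F) ((pullback.fst f g) ⁻¹ᵁ U) := by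
  apply rinj_of_tf
  intro x'
  have H : IsPullback (pullback.fst f g) (pullback.snd f g) f g := IsPullback.of_hasPullback f g
  obtain ⟨V, hV, hxV, -⟩ := Opens.isBasis_iff_nbhd.mp S.isBasis_affineOpens
    (show f ((pullback.fst f g) x') ∈ (⊤ : S.Opens) from trivial)
  obtain ⟨W, hW, hxW, eWV⟩ := Opens.isBasis_iff_nbhd.mp X.isBasis_affineOpens
    (show (pullback.fst f g) x' ∈ f ⁻¹ᵁ V from hxV)
  have hx2 : (pullback.snd f g) x' ∈ g ⁻¹ᵁ V := by
    change g ((pullback.snd f g) x') ∈ V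
    have hc : (pullback.fst f g ≫ f) x' = (pullback.snd f g ≫ g) x' := by
      rw [pullback.condition]
    exact hc ▸ hxV
  obtain ⟨V', hV', hxV', eV'⟩ := Opens.isBasis_iff_nbhd.mp S'.isBasis_affineOpens hx2
  refine ⟨(pullback.fst f g) ⁻¹ᵁ W ⊓ (pullback.snd f g) ⁻¹ᵁ V',
    isAffineOpen_chart H hV hW eWV hV' eV', ⟨hxW, hxV'⟩,
    ((pullback.fst f g).appLE W ((pullback.fst f g) ⁻¹ᵁ W ⊓ (pullback.snd f g) ⁻¹ᵁ V')
      inf_le_left).hom '' {g₁ : Γ(X, W) | X.basicOpen g₁ ≤ U}, ?_, ?_⟩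
  · rintro _ ⟨g₁, hg₁, rfl⟩
    have h3 := Scheme.basicOpen_appLE (pullback.fst f g)
      ((pullback.fst f g) ⁻¹ᵁ W ⊓ (pullback.snd f g) ⁻¹ᵁ V') W inf_le_left g₁
    change (pullback f g).basicOpen ((pullback.fst f g).appLE W
      ((pullback.fst f g) ⁻¹ᵁ W ⊓ (pullback.snd f g) ⁻¹ᵁ V') inf_le_left g₁) ≤ _
    rw [h3]
    exact inf_le_right.trans (fun y hy => hg₁ hy)
  · intro h m hyp
    exact chart_tf f F hF hflat U hfib g hV hW eWV hV' eV' h m
      (fun g₁ hg₁ => hyp _ ⟨g₁, hg₁, rfl⟩)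

end Groth.Agent.Helper21.RI
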