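import Mathlib
import Groth.Prelude.Def_CInt
import Groth.Agent.Lib.Helper21.RI6
import Groth.Agent.Lib.Helper13.PbUnit
import Groth.Agent.Lib.Helper18.PbCompat
import Groth.Agent.Lib.Helper13.QCohAss

/-!
# Universally schematically dense opens: EGA IV 11.10.10 for the structure sheaf (helper21)
-/

set_option autoImplicit false
set_option linter.unusedSectionVars false
set_option linter.style.haveILetI false

universe u

open CategoryTheory AlgebraicGeometry TopologicalSpace Opposite Limits TensorProduct Function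

namespace Groth.Agent.Helper21.RI

open Groth.Agent.Helper18.PbCompat Groth.Agent.Helper13

theorem rinj_of_iso {Y : Scheme.{u}} {F F' : Y.Modules} (e : F ≅ F') (U : Y.Opens)
    (h : RInj F U) : RInj F' U := by
  intro V
  rw [injective_iff_map_eq_zero]
  intro t ht
  have h1 : e.inv.app V t = 0 := by
    apply h V
    rw [map_zero, ← hom_naturality, ht, map_zero]
  have h2 := congrArg (e.hom.app V) h1
  rwa [iso_hom_inv_app, map_zero] at h2

theorem isFP_unit (X : Scheme.{u}) :
    SheafOfModules.IsFinitePresentation (R := X.ringCatSheaf) (Coh.structureModule X) := by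
  haveI : (Coh.structureModule X).IsQuasicoherent := QCoh.isQuasicoherent_unit X
  apply LocFree.isFinitePresentation_of_finitePresentation_sections
  intro x
  obtain ⟨_, ⟨V, hV, rfl⟩, hxV, -⟩ :=
      X.isBasis_affineOpens.exists_subset_of_mem_open (Set.mem_univ x) isOpen_univ
  refine ⟨V, hV, hxV, ?_⟩
  change Module.FinitePresentation Γ(X, V) Γ(X, V)
  infer_instance

theorem isFlatOver_unit {X S : Scheme.{u}} (f : X ⟶ S) [Flat f] :
    FlatMod.IsFlatOver f (Coh.structureModule X) := by
  haveI : (Coh.structureModule X).IsQuasicoherent := QCoh.isQuasicoherent_unit X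
  intro x
  obtain ⟨V, hV, hxV, -⟩ := Opens.isBasis_iff_nbhd.mp S.isBasis_affineOpens
    (show f x ∈ (⊤ : S.Opens) from trivial)
  obtain ⟨W, hW, hxW, eWV⟩ := Opens.isBasis_iff_nbhd.mp X.isBasis_affineOpens
    (show x ∈ f ⁻¹ᵁ V from hxV)
  refine FlatOver.isFlatOverAt_of_flat_sections f _ hW hV eWV ?_ x hxW
  have h1 : (f.appLE V W eWV).hom.Flat :=
    HasRingHomProperty.appLE (P := @Flat) f inferInstance ⟨V, hV⟩ ⟨W, hW⟩ eWV
  exact h1

/-- **EGA IV 11.10.10 for the structure sheaf.** -/
theorem dense_of_fibres {X S : Scheme.{u}} (f : X ⟶ S) [Flat f] [LocallyOfFinitePresentation f]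
    (U : X.Opens)
    (hfib : ∀ s : S, CInt.IsSchematicallyDense ((pullback.fst f (S.fromSpecResidueField s)) ⁻¹ᵁ U))
    {S' : Scheme.{u}} (g : S' ⟶ S) : CInt.IsSchematicallyDense ((pullback.fst f g) ⁻¹ᵁ U) := by
  haveI : (Coh.structureModule X).IsQuasicoherent := QCoh.isQuasicoherent_unit X
  have h1 := rinj_of_fibres f (Coh.structureModule X) (isFP_unit X) (isFlatOver_unit f) U
    (fun s => rinj_of_iso (PbUnit.pullbackUnitIso _).symm _ (hfib s)) g
  exact rinj_of_iso (PbUnit.pullbackUnitIso _) _ h1

end Groth.Agent.Helper21.RI
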