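import Mathlib

/-!
# Rank one modules at minimal primes of a reduced ring.
-/

set_option autoImplicit false
universe u

namespace Groth.Agent.Helper21.RO

theorem injective_of_surjective_of_finrank_one {K V W : Type*} [Field K] [AddCommGroup V]
    [Module K V] [AddCommGroup W] [Module K W] [Nontrivial W] (φ : V →ₗ[K] W)
    (hφ : Function.Surjective φ) (hV : Module.finrank K V = 1) : Function.Injective φ := by
  have hfinV : Module.Finite K V := Module.finite_of_finrank_pos (by omega)
  have h1 := LinearMap.finrank_range_add_finrank_ker φ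
  rw [LinearMap.range_eq_top.mpr hφ, finrank_top, hV] at h1
  have hfinW : Module.Finite K W := Module.Finite.of_surjective φ hφ
  have hW : 0 < Module.finrank K W := Module.finrank_pos
  have hk : Module.finrank K (LinearMap.ker φ) = 0 := by omega
  rw [← LinearMap.ker_eq_bot]
  exact Submodule.finrank_eq_zero.mp hk

theorem isField_localization_minimal (R : Type u) [CommRing R] [IsReduced R] (p : Ideal R)
    [p.IsPrime] (hp : p ∈ minimalPrimes R) : IsField (Localization.AtPrime p) := by
  rw [IsLocalRing.isField_iff_maximalIdeal_eq]
  have h := IsLocalization.AtPrime.radical_map_of_mem_minimalPrimes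
    (A := Localization.AtPrime p) p (⊥ : Ideal R) hp
  rw [Ideal.map_bot, IsLocalization.AtPrime.map_eq_maximalIdeal p (Localization.AtPrime p)] at h
  rw [← h]
  simp

theorem ker_eq_iInf (R : Type u) [CommRing R] [IsNoetherianRing R] [IsReduced R] (M : Type u)
    [AddCommGroup M] [Module R M]
    (hrk : ∀ p : PrimeSpectrum R, p.asIdeal ∈ minimalPrimes R →
      Module.finrank (Localization.AtPrime p.asIdeal)
        (LocalizedModule p.asIdeal.primeCompl M) = 1)
    (Q : Type u) [AddCommGroup Q] [Module R Q]
    (hQ : associatedPrimes R Q ⊆ minimalPrimes R) (g : M →ₗ[R] Q) (hg : Function.Surjective g) :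
    LinearMap.ker g = ⨅ p ∈ {p : PrimeSpectrum R | p.asIdeal ∈ minimalPrimes R ∧
      p ∈ Module.support R Q}, LinearMap.ker (LocalizedModule.mkLinearMap p.asIdeal.primeCompl M) := by
  classical
  apply le_antisymm
  · intro m hm
    simp only [Submodule.mem_iInf]
    rintro p ⟨hpmin, hpsupp⟩
    rw [LinearMap.mem_ker, LocalizedModule.mkLinearMap_apply]
    have hfield := isField_localization_minimal R p.asIdeal hpmin
    let _ : Field (Localization.AtPrime p.asIdeal) := hfield.toField
    have hnt : Nontrivial (LocalizedModule p.asIdeal.primeCompl Q) :=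
      Module.mem_support_iff.mp hpsupp
    have hinj := injective_of_surjective_of_finrank_one
      (LocalizedModule.map p.asIdeal.primeCompl g)
      (LocalizedModule.map_surjective p.asIdeal.primeCompl g hg) (hrk p hpmin)
    apply hinj
    rw [LocalizedModule.map_mk, map_zero, LinearMap.mem_ker.mp hm, LocalizedModule.zero_mk]
  · intro m hm
    simp only [Submodule.mem_iInf] at hm
    rw [LinearMap.mem_ker]
    by_contra hgm
    obtain ⟨q, hq, hle⟩ := exists_le_isAssociatedPrime_of_isNoetherianRing R (g m) hgm
    have hqprime : q.IsPrime := hq.isPrime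
    have hqmin : q ∈ minimalPrimes R := hQ hq
    have hqsupp : (⟨q, hqprime⟩ : PrimeSpectrum R) ∈ Module.support R Q := by
      rw [Module.mem_support_iff_exists_annihilator]
      refine ⟨g m, ?_⟩
      intro a ha
      apply hle
      rw [Submodule.mem_colon_singleton, Submodule.mem_bot]
      exact Submodule.mem_annihilator_span_singleton _ _ |>.mp ha
    have hmq := hm ⟨q, hqprime⟩ ⟨hqmin, hqsupp⟩
    rw [LinearMap.mem_ker] at hmq
    obtain ⟨s, hs⟩ := (IsLocalizedModule.eq_zero_iff q.primeCompl
      (LocalizedModule.mkLinearMap q.primeCompl M)).mp hmq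
    have hsq : (s : R) ∈ q := by
      apply hle
      rw [Submodule.mem_colon_singleton, Submodule.mem_bot, ← map_smul]
      have : (s : R) • m = 0 := hs
      rw [this, map_zero]
    exact s.2 hsq

end Groth.Agent.Helper21.RO
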