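import Mathlib
import Groth.Prelude.Def_RootCh

/-!
# RootCh library, part A1: signs, fundamental weights as a basis, closed chambers, root form
-/

set_option linter.unusedSectionVars false
set_option linter.unusedSimpArgs false

namespace Groth.Agent.Helper21.RC

open RootCh RootPairing Module

/-! ### sign helpers -/

lemma signType_cases (s : SignType) : s = 0 ∨ s = 1 ∨ s = -1 := by
  revert s; decide

section SignHelpers

variable {R : Type*} [Field R] [LinearOrder R] [IsStrictOrderedRing R]

lemma sign_eq_of_nonneg {a b : R} (ha : 0 ≤ a) (hb : 0 ≤ b) (e : 0 < a ↔ 0 < b) :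
    SignType.sign a = SignType.sign b := by
  rcases ha.lt_or_eq with h | h
  · rw [sign_pos h, sign_pos (e.1 h)]
  · have hb0 : b = 0 := by
      rcases hb.lt_or_eq with h' | h'
      · exact absurd (e.2 h') (by rw [← h]; exact lt_irrefl _)
      · exact h'.symm
    rw [← h, hb0]

lemma sign_eq_of_mul_eq {a c x y : R} (ha : 0 < a) (hc : 0 < c) (h : a * x = c * y) :
    SignType.sign x = SignType.sign y := by
  have h1 := congrArg SignType.sign h
  rwa [sign_mul, sign_mul, sign_pos ha, sign_pos hc, one_mul, one_mul] at h1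

end SignHelpers

variable {ι R M N : Type*} [Field R] [LinearOrder R] [IsStrictOrderedRing R]
  [AddCommGroup M] [Module R M] [AddCommGroup N] [Module R N]
  {P : RootPairing ι R M N}

/-! ### negation of indices -/

lemma coroot'_neg (ξ : M) (i : ι) : P.coroot' (P.reflectionPerm i i) ξ = - P.coroot' i ξ := by
  simp

lemma root'_neg (x : N) (i : ι) : P.root' (P.reflectionPerm i i) x = - P.root' i x := by
  change P.toLinearMap (P.root (P.reflectionPerm i i)) x = - P.toLinearMap (P.root i) x
  rw [show P.root (P.reflectionPerm i i) = -P.root i by simp, map_neg, LinearMap.neg_apply]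

lemma sgnVec_neg (ξ : M) (i : ι) : sgnVec P ξ (P.reflectionPerm i i) = - sgnVec P ξ i := by
  simp [sgnVec, Left.sign_neg]

lemma cosgnVec_neg (x : N) (i : ι) : cosgnVec P x (P.reflectionPerm i i) = - cosgnVec P x i := by
  simp only [cosgnVec]
  rw [root'_neg, Left.sign_neg]

lemma Facet.sgn_neg (F : Facet P) (i : ι) : F.sgn (P.reflectionPerm i i) = - F.sgn i := by
  obtain ⟨ξ, hξ⟩ := F.exists_sgnVec_eq
  rw [← hξ]; exact sgnVec_neg ξ i

/-! ### fundamental weights as a basis -/

section Weights

variable [P.IsRootSystem]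

lemma coroot'_fundWeight_same (b : P.Base) (i : b.support) :
    P.coroot' (i : ι) (fundWeight b i) = 1 := coroot'_fundWeight_self b i

lemma coroot'_fundWeight_ne (b : P.Base) (i : b.support) {k : ι} (hk : k ∈ b.support)
    (h : k ≠ i) : P.coroot' k (fundWeight b i) = 0 :=
  coroot'_fundWeight_of_ne b i ⟨k, hk⟩ (fun e => h (congrArg Subtype.val e))

lemma eq_of_forall_coroot' (b : P.Base) {ξ η : M}
    (h : ∀ i ∈ b.support, P.coroot' i ξ = P.coroot' i η) : ξ = η := by
  apply P.toPerfPair.injective
  apply b.toCoweightBasis.ext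
  intro i
  simpa using h i i.2

/-- The fundamental weights of a base as a basis of `M`. -/
noncomputable def fwBasis (b : P.Base) : Basis b.support R M := by
  classical exact b.toCoweightBasis.dualBasis.map P.toPerfPair.symm

lemma fwBasis_apply (b : P.Base) (i : b.support) : fwBasis b i = fundWeight b i := by
  classical
  simp [fwBasis, fundWeight, Basis.coe_dualBasis]

lemma fwBasis_repr (b : P.Base) (ξ : M) (i : b.support) :
    (fwBasis b).repr ξ i = P.coroot' i ξ := by
  classical
  simp [fwBasis, Basis.map_repr, Basis.dualBasis_repr]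

lemma sum_coroot'_smul_fundWeight (b : P.Base) (ξ : M) :
    ∑ i : b.support, P.coroot' i ξ • fundWeight b i = ξ := by
  have := (fwBasis b).sum_repr ξ
  simpa only [fwBasis_repr, fwBasis_apply] using this

lemma coroot'_eq_sum (b : P.Base) (ξ : M) (j : ι) :
    P.coroot' j ξ = ∑ i : b.support, P.coroot' i ξ * P.coroot' j (fundWeight b i) := by
  conv_lhs => rw [← sum_coroot'_smul_fundWeight b ξ]
  simp only [map_sum, map_smul, smul_eq_mul]

lemma toLinearMap_eq_sum (b : P.Base) (ξ : M) (x : N) :
    P.toLinearMap ξ x = ∑ i : b.support, P.coroot' i ξ * P.toLinearMap (fundWeight b i) x := by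
  conv_lhs => rw [← sum_coroot'_smul_fundWeight b ξ]
  simp only [map_sum, map_smul, smul_eq_mul, LinearMap.sum_apply, LinearMap.smul_apply]

lemma fundWeight_injective (b : P.Base) : Function.Injective (fundWeight b) := by
  intro i j h
  have := (fwBasis b).injective
  apply this
  rw [fwBasis_apply, fwBasis_apply, h]

lemma fundWeight_ne_zero (b : P.Base) (i : b.support) : fundWeight b i ≠ 0 := by
  intro h
  have := coroot'_fundWeight_same b i
  rw [h, map_zero] at this
  exact zero_ne_one this

lemma fundWeight_mem_closedChamber (b : P.Base) (i : b.support) :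
    fundWeight b i ∈ closedChamber b := by
  intro k hk
  by_cases h : k = i
  · subst h; rw [coroot'_fundWeight_same]; exact zero_le_one
  · rw [coroot'_fundWeight_ne b i hk h]

end Weights

/-! ### pairing with elements of the positive cone of simple coroots -/

lemma nonneg_of_mem_closure {b : P.Base} {ξ : M} (hξ : ξ ∈ closedChamber b) {x : N}
    (hx : x ∈ AddSubmonoid.closure (P.coroot '' b.support)) : 0 ≤ P.toLinearMap ξ x := by
  induction hx using AddSubmonoid.closure_induction with
  | mem x hx =>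
    obtain ⟨i, hi, rfl⟩ := hx
    simpa using hξ i hi
  | zero => simp
  | add x y _ _ hx hy => rw [map_add]; exact add_nonneg hx hy

lemma coroot'_nonneg_or_nonpos (b : P.Base) (j : ι) :
    (∀ ξ ∈ closedChamber b, 0 ≤ P.coroot' j ξ) ∨ (∀ ξ ∈ closedChamber b, P.coroot' j ξ ≤ 0) := by
  rcases b.coroot_mem_or_neg_mem j with h | h
  · left; intro ξ hξ; simpa using nonneg_of_mem_closure hξ h
  · right; intro ξ hξ
    have := nonneg_of_mem_closure hξ h
    simpa using this

section Chamber

variable [P.IsRootSystem]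

lemma coroot'_pos_iff_of_mem_closedChamber (b : P.Base) {ξ : M} (hξ : ξ ∈ closedChamber b)
    (j : ι) (hj : ∀ η ∈ closedChamber b, 0 ≤ P.coroot' j η) :
    0 < P.coroot' j ξ ↔
      ∃ i : b.support, 0 < P.coroot' i ξ ∧ 0 < P.coroot' j (fundWeight b i) := by
  rw [coroot'_eq_sum b ξ j, Finset.sum_pos_iff_of_nonneg]
  · constructor
    · rintro ⟨i, -, hi⟩
      have h1 : 0 ≤ P.coroot' i ξ := hξ i i.2
      rcases pos_and_pos_or_neg_and_neg_of_mul_pos hi with ⟨ha, hb⟩ | ⟨ha, -⟩
      · exact ⟨i, ha, hb⟩
      · exact absurd ha (not_lt.mpr h1)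
    · rintro ⟨i, h1, h2⟩
      exact ⟨i, Finset.mem_univ _, mul_pos h1 h2⟩
  · intro i _
    exact mul_nonneg (hξ i i.2) (hj _ (fundWeight_mem_closedChamber b i))

/-- Two vectors of the closed chamber of `b` which are positive on the same simple coroots
have the same sign vector. -/
lemma sgnVec_eq_of_closedChamber (b : P.Base) {ξ ξ' : M} (hξ : ξ ∈ closedChamber b)
    (hξ' : ξ' ∈ closedChamber b)
    (h : ∀ i ∈ b.support, (0 < P.coroot' i ξ ↔ 0 < P.coroot' i ξ')) :
    sgnVec P ξ = sgnVec P ξ' := by
  have key : ∀ j : ι, (∀ η ∈ closedChamber b, 0 ≤ P.coroot' j η) →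
      sgnVec P ξ j = sgnVec P ξ' j := by
    intro j hj
    have e : 0 < P.coroot' j ξ ↔ 0 < P.coroot' j ξ' := by
      rw [coroot'_pos_iff_of_mem_closedChamber b hξ j hj,
        coroot'_pos_iff_of_mem_closedChamber b hξ' j hj]
      exact exists_congr fun i => and_congr_left' (h i i.2)
    exact sign_eq_of_nonneg (hj ξ hξ) (hj ξ' hξ') e
  funext j
  rcases coroot'_nonneg_or_nonpos b j with hj | hj
  · exact key j hj
  · have hj' : ∀ η ∈ closedChamber b, 0 ≤ P.coroot' (P.reflectionPerm j j) η := by
      intro η hη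
      rw [coroot'_neg]
      exact neg_nonneg.mpr (hj η hη)
    have := key _ hj'
    rw [sgnVec_neg, sgnVec_neg] at this
    exact neg_inj.mp this

lemma Facet.mem_cham_iff (F : Facet P) (b : P.Base) :
    b ∈ F.cham ↔ ∀ i ∈ b.support, F.sgn i ≠ -1 := by
  constructor
  · intro h i hi
    obtain ⟨ξ, hξ⟩ := F.exists_sgnVec_eq
    have h1 : ξ ∈ closedChamber b := h hξ
    have h2 := h1 i hi
    rw [← hξ]
    simp only [sgnVec, ne_eq, sign_eq_neg_one_iff, not_lt]
    exact h2
  · intro h ξ hξ i hi
    have h1 := h i hi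
    rw [← (show sgnVec P ξ = F.sgn from hξ)] at h1
    simpa only [sgnVec, ne_eq, sign_eq_neg_one_iff, not_lt] using h1

lemma Facet.cham_nonempty_of_mem (F : Facet P) {b : P.Base} {ξ : M} (hξ : ξ ∈ F.carrier)
    (hb : ξ ∈ closedChamber b) : b ∈ F.cham := by
  rw [Facet.mem_cham_iff]
  intro i hi
  have h2 := hb i hi
  rw [← (show sgnVec P ξ = F.sgn from hξ)]
  simp only [sgnVec, ne_eq, sign_eq_neg_one_iff, not_lt]
  exact h2

lemma Facet.sgn_eq_one_of_ne_zero (F : Facet P) {b : P.Base} (hb : b ∈ F.cham) {i : ι}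
    (hi : i ∈ b.support) (h0 : F.sgn i ≠ 0) : F.sgn i = 1 := by
  have h2 := (Facet.mem_cham_iff F b).1 hb i hi
  rcases signType_cases (F.sgn i) with h | h | h
  · exact absurd h h0
  · exact h
  · exact absurd h h2

lemma Facet.mem_carrier_iff_of_mem_cham (F : Facet P) {b : P.Base} (hb : b ∈ F.cham) (ξ : M) :
    ξ ∈ F.carrier ↔
      ξ ∈ closedChamber b ∧ ∀ i ∈ b.support, (0 < P.coroot' i ξ ↔ F.sgn i = 1) := by
  constructor
  · intro hξ
    refine ⟨hb hξ, fun i _ => ?_⟩
    rw [← (show sgnVec P ξ = F.sgn from hξ)]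
    simp only [sgnVec, sign_eq_one_iff]
  · rintro ⟨hξ, h⟩
    obtain ⟨ξ₀, hξ₀⟩ := F.exists_sgnVec_eq
    have h0 : ξ₀ ∈ closedChamber b := hb hξ₀
    show sgnVec P ξ = F.sgn
    rw [← hξ₀]
    apply sgnVec_eq_of_closedChamber b hξ h0
    intro i hi
    rw [h i hi, ← hξ₀]
    simp only [sgnVec, sign_eq_one_iff]

lemma Facet.mem_closure_iff_of_mem_cham (F : Facet P) {b : P.Base} (hb : b ∈ F.cham) (ξ : M) :
    ξ ∈ F.closure ↔
      ξ ∈ closedChamber b ∧ ∀ i ∈ b.support, F.sgn i = 0 → P.coroot' i ξ = 0 := by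
  constructor
  · intro hξ
    refine ⟨fun i hi => ?_, fun i hi h0 => ?_⟩
    · have h2 := (Facet.mem_cham_iff F b).1 hb i hi
      have h3 : sgnVec P ξ i ≠ -1 := by
        rcases hξ i with h | h
        · rw [h]; decide
        · rw [h]; exact h2
      simpa only [sgnVec, ne_eq, sign_eq_neg_one_iff, not_lt] using h3
    · have h3 : sgnVec P ξ i = 0 := by
        rcases hξ i with h | h
        · exact h
        · rw [h, h0]
      simpa only [sgnVec, sign_eq_zero_iff] using h3
  · rintro ⟨hξ, hz⟩
    obtain ⟨ξ₀, hξ₀⟩ := F.exists_sgnVec_eq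
    have hξ₀c : ξ₀ ∈ closedChamber b := hb hξ₀
    have key : ∀ j' : ι, (∀ η ∈ closedChamber b, 0 ≤ P.coroot' j' η) →
        0 < P.coroot' j' ξ → 0 < P.coroot' j' ξ₀ := by
      intro j' hj' hpos
      rw [coroot'_pos_iff_of_mem_closedChamber b hξ j' hj'] at hpos
      rw [coroot'_pos_iff_of_mem_closedChamber b hξ₀c j' hj']
      obtain ⟨i, hi1, hi2⟩ := hpos
      refine ⟨i, ?_, hi2⟩
      have h1 : F.sgn i ≠ 0 := fun h0 => by
        rw [hz i i.2 h0] at hi1; exact lt_irrefl _ hi1
      have h3 : F.sgn i = 1 := Facet.sgn_eq_one_of_ne_zero F hb i.2 h1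
      rw [← hξ₀] at h3
      exact sign_eq_one_iff.1 h3
    intro j
    rcases coroot'_nonneg_or_nonpos b j with hj | hj
    · rcases (hj ξ hξ).lt_or_eq with h | h
      · right
        have h' := key j hj h
        rw [← hξ₀]
        simp only [sgnVec]
        rw [sign_pos h, sign_pos h']
      · left
        simp only [sgnVec]
        rw [← h]; exact sign_zero
    · have hj' : ∀ η ∈ closedChamber b, 0 ≤ P.coroot' (P.reflectionPerm j j) η := by
        intro η hη
        rw [coroot'_neg]
        exact neg_nonneg.mpr (hj η hη)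
      rcases (hj ξ hξ).lt_or_eq with h | h
      · right
        have h1 : 0 < P.coroot' (P.reflectionPerm j j) ξ := by
          rw [coroot'_neg]; exact neg_pos.mpr h
        have h' := key _ hj' h1
        rw [coroot'_neg] at h'
        rw [← hξ₀]
        simp only [sgnVec]
        rw [sign_neg h, sign_neg (neg_pos.mp h')]
      · left
        simp only [sgnVec]
        rw [h]; exact sign_zero

lemma Facet.closure_subset_closedChamber (F : Facet P) {b : P.Base} (hb : b ∈ F.cham) :
    F.closure ⊆ closedChamber b := fun ξ hξ =>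
  ((Facet.mem_closure_iff_of_mem_cham F hb ξ).1 hξ).1

end Chamber

/-! ### the canonical bilinear form -/

section Form

variable [Fintype ι]

lemma rootForm_root_self_pos (j : ι) : 0 < P.RootForm (P.root j) (P.root j) := by
  rw [P.rootForm_root_self]
  have h1 : P.pairing j j * P.pairing j j ≤ ∑ i, P.pairing j i * P.pairing j i :=
    Finset.single_le_sum (f := fun i => P.pairing j i * P.pairing j i)
      (fun i _ => mul_self_nonneg _) (Finset.mem_univ j)
  rw [P.pairing_same] at h1
  linarith

lemma nrm_mul_coroot' (k : ι) (ξ : M) :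
    P.RootForm (P.root k) (P.root k) * P.coroot' k ξ = 2 * P.RootForm (P.root k) ξ := by
  have h := congrArg (P.toLinearMap ξ) (P.rootForm_self_smul_coroot k)
  rw [map_smul, map_nsmul, P.toLinearMap_apply_apply_Polarization] at h
  simpa using h

lemma nrm_mul_coroot'_add {i j k : ι} (h : P.root k = P.root i + P.root j) (ξ : M) :
    P.RootForm (P.root k) (P.root k) * P.coroot' k ξ =
      P.RootForm (P.root i) (P.root i) * P.coroot' i ξ +
        P.RootForm (P.root j) (P.root j) * P.coroot' j ξ := by
  rw [nrm_mul_coroot', nrm_mul_coroot', nrm_mul_coroot', h, map_add, LinearMap.add_apply]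
  ring

lemma rootForm_comm (x y : M) : P.RootForm x y = P.RootForm y x := by
  simp [P.rootForm_apply_apply, mul_comm]

lemma two_mul_root'_polarization (j : ι) (ξ : M) :
    2 * P.root' j (P.Polarization ξ) = P.RootForm (P.root j) (P.root j) * P.coroot' j ξ := by
  rw [nrm_mul_coroot', P.toLinearMap_apply_apply_Polarization, rootForm_comm]

lemma cosgnVec_polarization (ξ : M) : cosgnVec P (P.Polarization ξ) = sgnVec P ξ := by
  funext j
  exact sign_eq_of_mul_eq two_pos (rootForm_root_self_pos j) (two_mul_root'_polarization j ξ)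

end Form

end Groth.Agent.Helper21.RC
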