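import Mathlib
import Groth.Prelude.Def_RootCh
import Groth.Agent.Lib.Helper21.RootChA

/-!
# RootCh library, part A2: fundamental coweights vs. polarization, regular vectors, existence of
chambers, fundamental weights in a closed chamber
-/

set_option linter.unusedSectionVars false
set_option linter.unusedSimpArgs false

namespace Groth.Agent.Helper21.RC

open RootCh RootPairing Module

variable {ι R M N : Type*} [Field R] [LinearOrder R] [IsStrictOrderedRing R]
  [AddCommGroup M] [Module R M] [AddCommGroup N] [Module R N]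
  {P : RootPairing ι R M N}

/-! ### fundamental coweights and the polarization -/

section LemmaC

variable [P.IsRootSystem]

lemma nrm_smul_fundCoweight [Fintype ι] (b : P.Base) (i : b.support) :
    P.RootForm (P.root i) (P.root i) • fundCoweight b i =
      (2 : R) • P.Polarization (fundWeight b i) := by
  apply eq_of_forall_coroot' (P := P.flip) b.flip
  intro k hk
  change P.root' k (P.RootForm (P.root i) (P.root i) • fundCoweight b i) =
    P.root' k ((2 : R) • P.Polarization (fundWeight b i))
  rw [map_smul, map_smul, smul_eq_mul, smul_eq_mul, two_mul_root'_polarization]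
  by_cases h : k = i
  · subst h
    rw [root'_fundCoweight_self, coroot'_fundWeight_same]
  · rw [root'_fundCoweight_of_ne b i ⟨k, hk⟩ (fun e => h (congrArg Subtype.val e)),
      coroot'_fundWeight_ne b i hk h]
    simp

lemma nrm_mul_coroot'_fundWeight [Fintype ι] (b : P.Base) (i : b.support) (j : ι) :
    P.RootForm (P.root j) (P.root j) * P.coroot' j (fundWeight b i) =
      P.RootForm (P.root i) (P.root i) * P.root' j (fundCoweight b i) := by
  have h := congrArg (P.root' j) (nrm_smul_fundCoweight b i)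
  rw [map_smul, map_smul, smul_eq_mul, smul_eq_mul, two_mul_root'_polarization] at h
  exact h.symm

lemma sign_root'_fundCoweight [Finite ι] (b : P.Base) (i : b.support) (j : ι) :
    SignType.sign (P.root' j (fundCoweight b i)) =
      SignType.sign (P.coroot' j (fundWeight b i)) := by
  have := Fintype.ofFinite ι
  exact sign_eq_of_mul_eq (rootForm_root_self_pos (P := P) i) (rootForm_root_self_pos j)
    (nrm_mul_coroot'_fundWeight b i j).symm

lemma cosgnVec_fundCoweight [Finite ι] (b : P.Base) (i : b.support) :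
    cosgnVec P (fundCoweight b i) = sgnVec P (fundWeight b i) := by
  funext j
  exact sign_root'_fundCoweight b i j

lemma exists_int_coroot'_fundWeight (b : P.Base) (i : b.support) (j : ι) :
    ∃ z : ℤ, P.coroot' j (fundWeight b i) = z := by
  have h := b.coroot_mem_span_int j
  change ∃ z : ℤ, P.toLinearMap (fundWeight b i) (P.coroot j) = z
  refine Submodule.span_induction
    (p := fun x _ => ∃ z : ℤ, P.toLinearMap (fundWeight b i) x = z) ?_ ?_ ?_ ?_ h
  · intro x hx
    obtain ⟨k, hk, rfl⟩ := hx
    by_cases h : k = i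
    · subst h
      exact ⟨1, by simpa using coroot'_fundWeight_same b i⟩
    · exact ⟨0, by simpa using coroot'_fundWeight_ne b i hk h⟩
  · exact ⟨0, by simp⟩
  · intro x y _ _ hx hy
    obtain ⟨z₁, h₁⟩ := hx
    obtain ⟨z₂, h₂⟩ := hy
    exact ⟨z₁ + z₂, by rw [map_add, h₁, h₂]; push_cast; ring⟩
  · intro n x _ hx
    obtain ⟨z, hz⟩ := hx
    exact ⟨n * z, by rw [map_zsmul, hz, zsmul_eq_mul]; push_cast; ring⟩

end LemmaC

/-! ### regular vectors and perturbation -/

section Regular

variable [Finite ι]

lemma exists_regular : ∃ ζ : M, ∀ j, P.coroot' j ζ ≠ 0 := by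
  obtain ⟨f, hf⟩ := Module.exists_dual_forall_apply_ne_zero (K := R) P.coroot
    (fun i => P.ne_zero' i)
  refine ⟨P.toPerfPair.symm f, fun j => ?_⟩
  have h : P.toLinearMap (P.toPerfPair.symm f) = f := P.toLinearMap.apply_symm_toPerfPair_self f
  change P.toLinearMap (P.toPerfPair.symm f) (P.coroot j) ≠ 0
  rw [h]
  exact hf j

lemma exists_pos_forall_mul_lt {κ : Type*} [Finite κ] (a c : κ → R) (ha : ∀ j, 0 ≤ a j)
    (hc : ∀ j, 0 < c j) : ∃ ε : R, 0 < ε ∧ ∀ j, ε * a j < c j := by
  rcases isEmpty_or_nonempty κ with h | h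
  · exact ⟨1, one_pos, fun j => (h.false j).elim⟩
  · obtain ⟨j₀, hj₀⟩ := Finite.exists_min (fun j => c j / (a j + 1))
    have hpos : ∀ j, 0 < a j + 1 := fun j => by linarith [ha j]
    refine ⟨c j₀ / (a j₀ + 1), div_pos (hc j₀) (hpos j₀), fun j => ?_⟩
    have h1 : c j₀ / (a j₀ + 1) * a j ≤ c j / (a j + 1) * a j :=
      mul_le_mul_of_nonneg_right (hj₀ j) (ha j)
    have h2 : c j / (a j + 1) * a j < c j := by
      rw [div_mul_eq_mul_div, div_lt_iff₀ (hpos j)]
      nlinarith [hc j, ha j]
    exact lt_of_le_of_lt h1 h2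

lemma exists_perturb (ξ η : M) : ∃ ξ' : M, ∀ j,
    (P.coroot' j ξ ≠ 0 → SignType.sign (P.coroot' j ξ') = SignType.sign (P.coroot' j ξ)) ∧
    (P.coroot' j ξ = 0 → SignType.sign (P.coroot' j ξ') = SignType.sign (P.coroot' j η)) := by
  classical
  obtain ⟨ε, hε, h⟩ := exists_pos_forall_mul_lt (κ := ι) (fun j => |P.coroot' j η|)
    (fun j => if P.coroot' j ξ = 0 then 1 else |P.coroot' j ξ|) (fun j => abs_nonneg _)
    (fun j => by
      split_ifs with h1
      · exact one_pos
      · exact abs_pos.mpr h1)
  refine ⟨ξ + ε • η, fun j => ⟨fun h0 => ?_, fun h0 => ?_⟩⟩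
  · have hj := h j
    beta_reduce at hj
    rw [if_neg h0] at hj
    rw [map_add, map_smul, smul_eq_mul]
    have h1 : ε * -|P.coroot' j η| ≤ ε * P.coroot' j η :=
      mul_le_mul_of_nonneg_left (neg_abs_le _) hε.le
    have h2 : ε * P.coroot' j η ≤ ε * |P.coroot' j η| :=
      mul_le_mul_of_nonneg_left (le_abs_self _) hε.le
    rcases lt_or_gt_of_ne h0 with hneg | hpos
    · rw [abs_of_neg hneg] at hj
      rw [sign_neg hneg, sign_neg (by linarith)]
    · rw [abs_of_pos hpos] at hj
      rw [sign_pos hpos, sign_pos (by linarith)]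
  · rw [map_add, map_smul, smul_eq_mul, h0, zero_add, sign_mul, sign_pos hε, one_mul]

end Regular

/-! ### chambers from regular vectors -/

section Chambers

variable [Finite ι] [P.IsRootSystem] [P.IsCrystallographic] [P.IsReduced]

lemma exists_base_of_regular (ξ : M) (hreg : ∀ j, P.coroot' j ξ ≠ 0) :
    ∃ b : P.Base, ξ ∈ openChamber b := by
  classical
  let _ := P.flip.indexNeg
  let f : Module.Dual R N := P.toLinearMap ξ
  have hf : ∀ i, f (P.flip.root i) ≠ 0 := fun i => hreg i
  have hli := P.flip.linearIndepOn_root_baseOf' (S := R) f hf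
  have hsp : ∀ i, P.flip.root i ∈ AddSubmonoid.closure
        (P.flip.root '' IsAddIndecomposable.baseOf P.flip.root (f : N →+ R)) ∨
      -P.flip.root i ∈ AddSubmonoid.closure
        (P.flip.root '' IsAddIndecomposable.baseOf P.flip.root (f : N →+ R)) :=
    fun i => IsAddIndecomposable.mem_or_neg_mem_closure_baseOf P.flip.root (f : N →+ R) i
      (hf i) (by simp)
  let b' : P.flip.Base := Base.mk' P.flip _ hli hsp
  refine ⟨b'.flip, fun i hi => ?_⟩
  have hi' : i ∈ IsAddIndecomposable.baseOf P.flip.root (f : N →+ R) := by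
    simpa [b', Base.mk'] using hi
  exact IsAddIndecomposable.baseOf_subset_pos _ _ hi'

lemma exists_base_closedChamber (ξ η : M) :
    ∃ b : P.Base, ξ ∈ closedChamber b ∧
      ∀ i ∈ b.support, P.coroot' i ξ = 0 → 0 ≤ P.coroot' i η := by
  obtain ⟨ζ, hζ⟩ := exists_regular (P := P)
  obtain ⟨η', hη'⟩ := exists_perturb (P := P) η ζ
  obtain ⟨ξ', hξ'⟩ := exists_perturb (P := P) ξ η'
  have hη'reg : ∀ j, P.coroot' j η' ≠ 0 := by
    intro j h0
    by_cases h : P.coroot' j η = 0
    · have := (hη' j).2 h
      rw [h0, sign_zero] at this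
      exact hζ j (sign_eq_zero_iff.1 this.symm)
    · have := (hη' j).1 h
      rw [h0, sign_zero] at this
      exact h (sign_eq_zero_iff.1 this.symm)
  have hξ'reg : ∀ j, P.coroot' j ξ' ≠ 0 := by
    intro j h0
    by_cases h : P.coroot' j ξ = 0
    · have := (hξ' j).2 h
      rw [h0, sign_zero] at this
      exact hη'reg j (sign_eq_zero_iff.1 this.symm)
    · have := (hξ' j).1 h
      rw [h0, sign_zero] at this
      exact h (sign_eq_zero_iff.1 this.symm)
  obtain ⟨b, hb⟩ := exists_base_of_regular ξ' hξ'reg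
  refine ⟨b, fun i hi => ?_, fun i hi h0 => ?_⟩
  · have hpos := hb i hi
    by_contra hneg
    have hne : P.coroot' i ξ ≠ 0 := fun h => hneg (by rw [h])
    have := (hξ' i).1 hne
    rw [sign_pos hpos, sign_neg (not_le.mp hneg)] at this
    exact absurd this (by decide)
  · have hpos := hb i hi
    have h1 := (hξ' i).2 h0
    rw [sign_pos hpos] at h1
    have hη'pos : 0 < P.coroot' i η' := sign_eq_one_iff.1 h1.symm
    by_contra hneg
    have hne : P.coroot' i η ≠ 0 := fun h => hneg (by rw [h])
    have := (hη' i).1 hne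
    rw [sign_pos hη'pos, sign_neg (not_le.mp hneg)] at this
    exact absurd this (by decide)

lemma exists_base_mem_closedChamber (ξ : M) : ∃ b : P.Base, ξ ∈ closedChamber b := by
  obtain ⟨b, hb, -⟩ := exists_base_closedChamber (P := P) ξ 0
  exact ⟨b, hb⟩

lemma Facet.cham_nonempty (F : Facet P) : F.cham.Nonempty := by
  obtain ⟨ξ, hξ⟩ := F.exists_sgnVec_eq
  obtain ⟨b, hb⟩ := exists_base_mem_closedChamber (P := P) ξ
  exact ⟨b, Facet.cham_nonempty_of_mem F hξ hb⟩

end Chambers

/-! ### fundamental weights lying in a closed chamber -/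

section Corners

variable [P.IsRootSystem]

lemma exists_fundWeight_eq_of_mem_closedChamber (b b' : P.Base) (i' : b'.support)
    (h : fundWeight b' i' ∈ closedChamber b) :
    ∃ i : b.support, fundWeight b i = fundWeight b' i' := by
  set w := fundWeight b' i' with hw
  have hwne : w ≠ 0 := fundWeight_ne_zero b' i'
  -- some coordinate is positive
  obtain ⟨i₁, hi₁⟩ : ∃ i₁ : b.support, 0 < P.coroot' i₁ w := by
    by_contra hcon
    push Not at hcon
    apply hwne
    rw [← sum_coroot'_smul_fundWeight b w]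
    apply Finset.sum_eq_zero
    intro i _
    rw [le_antisymm (hcon i) (h i i.2), zero_smul]
  -- Step 1
  have step1 : ∀ k ∈ b'.support, k ≠ i' → P.coroot' k (fundWeight b i₁) = 0 := by
    intro k hk hne
    have h0 : P.coroot' k w = 0 := coroot'_fundWeight_ne b' i' hk hne
    rw [coroot'_eq_sum b w k] at h0
    have hterm : P.coroot' i₁ w * P.coroot' k (fundWeight b i₁) = 0 := by
      rcases coroot'_nonneg_or_nonpos b k with hk' | hk'
      · exact (Finset.sum_eq_zero_iff_of_nonneg (s := Finset.univ)
          (f := fun i : b.support => P.coroot' i w * P.coroot' k (fundWeight b i)) (fun i _ =>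
          mul_nonneg (h i i.2) (hk' _ (fundWeight_mem_closedChamber b i)))).1 h0 i₁
            (Finset.mem_univ _)
      · exact (Finset.sum_eq_zero_iff_of_nonpos (s := Finset.univ)
          (f := fun i : b.support => P.coroot' i w * P.coroot' k (fundWeight b i)) (fun i _ =>
          mul_nonpos_of_nonneg_of_nonpos (h i i.2)
            (hk' _ (fundWeight_mem_closedChamber b i)))).1 h0 i₁ (Finset.mem_univ _)
    rcases mul_eq_zero.1 hterm with h' | h'
    · exact absurd h' hi₁.ne'
    · exact h'
  -- Step 2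
  set c := P.coroot' i' (fundWeight b i₁) with hc
  have step2 : fundWeight b i₁ = c • w := by
    apply eq_of_forall_coroot' b'
    intro k hk
    rw [map_smul, smul_eq_mul]
    by_cases hki : k = i'
    · subst hki
      rw [hw, coroot'_fundWeight_same, mul_one]
    · rw [step1 k hk hki, hw, coroot'_fundWeight_ne b' i' hk hki, mul_zero]
  -- Step 3
  have hca : c * P.coroot' i₁ w = 1 := by
    have := coroot'_fundWeight_same b i₁
    rw [step2, map_smul, smul_eq_mul] at this
    exact this
  have hcpos : 0 < c := by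
    by_contra hneg
    have : c * P.coroot' i₁ w ≤ 0 := mul_nonpos_of_nonpos_of_nonneg (not_lt.mp hneg) hi₁.le
    rw [hca] at this
    exact absurd this (not_le.mpr one_pos)
  -- Step 4
  obtain ⟨z₁, hz₁⟩ := exists_int_coroot'_fundWeight b i₁ i'
  obtain ⟨z₂, hz₂⟩ := exists_int_coroot'_fundWeight b' i' i₁
  have hz : z₁ * z₂ = 1 := by
    have : ((z₁ * z₂ : ℤ) : R) = ((1 : ℤ) : R) := by
      push_cast
      rw [← hz₁, ← hz₂]
      exact hca
    exact Int.cast_injective this
  have hz₁' : z₁ = 1 := by
    rcases Int.eq_one_or_neg_one_of_mul_eq_one hz with h1 | h1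
    · exact h1
    · exfalso
      have : c = -1 := by rw [hc, hz₁, h1]; simp
      rw [this] at hcpos
      linarith
  refine ⟨i₁, ?_⟩
  have : c = 1 := by rw [hc, hz₁, hz₁']; simp
  rw [step2, this, one_smul]

/-- S14227: the corners of the chamber of `b` are the fundamental weights of `b`. -/
theorem baseCorners_eq_range (b : P.Base) : baseCorners b = Set.range (fundWeight b) := by
  ext w
  constructor
  · rintro ⟨⟨b', i', rfl⟩, hw⟩
    obtain ⟨i, hi⟩ := exists_fundWeight_eq_of_mem_closedChamber b b' i' hw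
    exact ⟨i, hi⟩
  · rintro ⟨i, rfl⟩
    exact ⟨⟨b, i, rfl⟩, fundWeight_mem_closedChamber b i⟩

lemma Facet.corners_eq_of_mem_cham (F : Facet P) {b : P.Base} (hb : b ∈ F.cham) :
    F.corners = {w | ∃ i : b.support, F.sgn i = 1 ∧ fundWeight b i = w} := by
  ext w
  constructor
  · rintro ⟨hw, hcl⟩
    have hwb : w ∈ baseCorners b := ⟨hw, Facet.closure_subset_closedChamber F hb hcl⟩
    rw [baseCorners_eq_range] at hwb
    obtain ⟨i, rfl⟩ := hwb
    refine ⟨i, ?_, rfl⟩
    apply Facet.sgn_eq_one_of_ne_zero F hb i.2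
    intro h0
    have := ((Facet.mem_closure_iff_of_mem_cham F hb _).1 hcl).2 i i.2 h0
    rw [coroot'_fundWeight_same] at this
    exact one_ne_zero this
  · rintro ⟨i, hi, rfl⟩
    refine ⟨⟨b, i, rfl⟩, ?_⟩
    rw [Facet.mem_closure_iff_of_mem_cham F hb]
    refine ⟨fundWeight_mem_closedChamber b i, fun k hk h0 => ?_⟩
    apply coroot'_fundWeight_ne b i hk
    rintro rfl
    rw [hi] at h0
    exact absurd h0 (by decide)

lemma Facet.corners_subset_baseCorners (F : Facet P) {b : P.Base} (hb : b ∈ F.cham) :
    F.corners ⊆ baseCorners b := fun _ hw =>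
  ⟨hw.1, Facet.closure_subset_closedChamber F hb hw.2⟩

end Corners

end Groth.Agent.Helper21.RC
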