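import Mathlib
import Groth.Prelude.Def_RootCh
import Groth.Agent.Lib.Helper21.RootChB

/-!
# RootCh library, part A3: faces of a chamber, corners of facets, positive combinations
-/

set_option linter.unusedSectionVars false
set_option linter.unusedSimpArgs false

namespace Groth.Agent.Helper21.RC

open RootCh RootPairing Module

variable {ι R M N : Type*} [Field R] [LinearOrder R] [IsStrictOrderedRing R]
  [AddCommGroup M] [Module R M] [AddCommGroup N] [Module R N]
  {P : RootPairing ι R M N} [P.IsRootSystem]

/-- The sum of the fundamental weights of `b` indexed by `J`. -/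
noncomputable def faceVec (b : P.Base) (J : Finset b.support) : M := ∑ i ∈ J, fundWeight b i

lemma coroot'_faceVec_of_mem (b : P.Base) {J : Finset b.support} {k : b.support} (hk : k ∈ J) :
    P.coroot' k (faceVec b J) = 1 := by
  classical
  rw [faceVec, map_sum, Finset.sum_eq_single_of_mem k hk, coroot'_fundWeight_same]
  intro i _ hik
  exact coroot'_fundWeight_ne b i k.2 (fun e => hik (Subtype.ext e.symm))

lemma coroot'_faceVec_of_notMem (b : P.Base) {J : Finset b.support} {k : b.support}
    (hk : k ∉ J) : P.coroot' k (faceVec b J) = 0 := by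
  classical
  rw [faceVec, map_sum]
  apply Finset.sum_eq_zero
  intro i hi
  exact coroot'_fundWeight_ne b i k.2 (fun e => hk (by
    have : k = i := Subtype.ext e
    rw [this]; exact hi))

lemma faceVec_mem_closedChamber (b : P.Base) (J : Finset b.support) :
    faceVec b J ∈ closedChamber b := by
  classical
  intro k hk
  by_cases h : (⟨k, hk⟩ : b.support) ∈ J
  · have := coroot'_faceVec_of_mem b h
    simp only at this
    rw [this]; exact zero_le_one
  · have := coroot'_faceVec_of_notMem b h
    simp only at this
    rw [this]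

/-- The facet of `faceVec b J`. -/
noncomputable def face (b : P.Base) (J : Finset b.support) : Facet P :=
  Facet.ofVec P (faceVec b J)

lemma faceVec_mem_carrier (b : P.Base) (J : Finset b.support) :
    faceVec b J ∈ (face b J).carrier := rfl

lemma mem_cham_face (b : P.Base) (J : Finset b.support) : b ∈ (face b J).cham :=
  Facet.cham_nonempty_of_mem _ (faceVec_mem_carrier b J) (faceVec_mem_closedChamber b J)

lemma face_sgn_eq_one_iff (b : P.Base) (J : Finset b.support) (k : b.support) :
    (face b J).sgn k = 1 ↔ k ∈ J := by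
  change SignType.sign (P.coroot' k (faceVec b J)) = 1 ↔ k ∈ J
  by_cases h : k ∈ J
  · rw [coroot'_faceVec_of_mem b h, sign_one]; simp [h]
  · rw [coroot'_faceVec_of_notMem b h, sign_zero]; simp [h]

lemma corners_face (b : P.Base) (J : Finset b.support) :
    (face b J).corners = fundWeight b '' (J : Set b.support) := by
  rw [Facet.corners_eq_of_mem_cham _ (mem_cham_face b J)]
  ext w
  constructor
  · rintro ⟨i, hi, rfl⟩
    exact ⟨i, (face_sgn_eq_one_iff b J i).1 hi, rfl⟩
  · rintro ⟨i, hi, rfl⟩
    exact ⟨i, (face_sgn_eq_one_iff b J i).2 hi, rfl⟩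

open Classical in
/-- The index set of the corners of a facet inside an adjacent chamber. -/
noncomputable def cornerIdx (F : Facet P) (b : P.Base) : Finset b.support :=
  Finset.univ.filter (fun i : b.support => F.sgn i = 1)

lemma mem_cornerIdx (F : Facet P) (b : P.Base) (i : b.support) :
    i ∈ cornerIdx F b ↔ F.sgn i = 1 := by
  simp [cornerIdx]

lemma Facet.corners_eq_image (F : Facet P) {b : P.Base} (hb : b ∈ F.cham) :
    F.corners = fundWeight b '' (cornerIdx F b : Set b.support) := by
  rw [Facet.corners_eq_of_mem_cham F hb]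
  ext w
  constructor
  · rintro ⟨i, hi, rfl⟩
    exact ⟨i, (mem_cornerIdx F b i).2 hi, rfl⟩
  · rintro ⟨i, hi, rfl⟩
    exact ⟨i, (mem_cornerIdx F b i).1 hi, rfl⟩

/-- S14228 -/
theorem linearIndepOn_corners [Finite ι] [P.IsCrystallographic] [P.IsReduced] (F : Facet P) :
    LinearIndepOn R (fun m : M => m) F.corners := by
  obtain ⟨b, hb⟩ := Facet.cham_nonempty F
  have h1 : LinearIndependent R (fundWeight b) := by
    have := (fwBasis b).linearIndependent
    have e : ⇑(fwBasis b) = fundWeight b := funext (fwBasis_apply b)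
    rwa [e] at this
  have h2 := h1.linearIndepOn_id
  refine LinearIndepOn.mono h2 ?_
  intro w hw
  have := Facet.corners_subset_baseCorners F hb hw
  rwa [baseCorners_eq_range] at this

lemma Facet.coroot'_eq_zero_of_mem_carrier (F : Facet P) {b : P.Base} (hb : b ∈ F.cham) {ξ : M}
    (hξ : ξ ∈ F.carrier) {i : ι} (hi : i ∈ b.support) (h1 : F.sgn i ≠ 1) :
    P.coroot' i ξ = 0 := by
  have h := (Facet.mem_carrier_iff_of_mem_cham F hb ξ).1 hξ
  have h2 : ¬ 0 < P.coroot' i ξ := fun hp => h1 ((h.2 i hi).1 hp)
  exact le_antisymm (not_lt.mp h2) (h.1 i hi)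

lemma Facet.add_fundWeight_mem_carrier (F : Facet P) {b : P.Base} (hb : b ∈ F.cham) {ξ : M}
    (hξ : ξ ∈ F.carrier) (i : b.support) (hi : F.sgn i = 1) :
    ξ + fundWeight b i ∈ F.carrier := by
  have h := (Facet.mem_carrier_iff_of_mem_cham F hb ξ).1 hξ
  rw [Facet.mem_carrier_iff_of_mem_cham F hb]
  refine ⟨fun k hk => ?_, fun k hk => ?_⟩
  · rw [map_add]
    exact add_nonneg (h.1 k hk) (fundWeight_mem_closedChamber b i k hk)
  · rw [map_add]
    by_cases hki : k = i
    · subst hki
      rw [coroot'_fundWeight_same]
      constructor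
      · intro _; exact hi
      · intro _; linarith [h.1 _ hk]
    · rw [coroot'_fundWeight_ne b i hk hki, add_zero]
      exact h.2 k hk

/-- S14229 -/
theorem span_carrier_eq_span_corners [Finite ι] [P.IsCrystallographic] [P.IsReduced]
    (F : Facet P) : Submodule.span R F.carrier = Submodule.span R F.corners := by
  obtain ⟨b, hb⟩ := Facet.cham_nonempty F
  apply le_antisymm
  · rw [Submodule.span_le]
    intro ξ hξ
    rw [← sum_coroot'_smul_fundWeight b ξ]
    apply Submodule.sum_mem
    intro i _
    by_cases hi : F.sgn i = 1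
    · apply Submodule.smul_mem
      apply Submodule.subset_span
      rw [Facet.corners_eq_of_mem_cham F hb]
      exact ⟨i, hi, rfl⟩
    · rw [Facet.coroot'_eq_zero_of_mem_carrier F hb hξ i.2 hi, zero_smul]
      exact Submodule.zero_mem _
  · rw [Submodule.span_le]
    intro w hw
    rw [Facet.corners_eq_of_mem_cham F hb] at hw
    obtain ⟨i, hi, rfl⟩ := hw
    obtain ⟨ξ₀, hξ₀⟩ := F.exists_sgnVec_eq
    have h1 : ξ₀ ∈ F.carrier := hξ₀
    have h2 := Facet.add_fundWeight_mem_carrier F hb h1 i hi
    have : fundWeight b i = (ξ₀ + fundWeight b i) - ξ₀ := by abel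
    rw [this]
    exact Submodule.sub_mem _ (Submodule.subset_span h2) (Submodule.subset_span h1)

/-- S14230 -/
theorem carrier_eq_setOf_pos_comb [Finite ι] [P.IsCrystallographic] [P.IsReduced]
    (F : Facet P) :
    F.carrier = {ξ : M | ∃ c : M →₀ R, (c.support : Set M) ⊆ F.corners ∧
      (∀ m ∈ F.corners, 0 < c m) ∧ c.sum (fun m r => r • m) = ξ} := by
  classical
  obtain ⟨b, hb⟩ := Facet.cham_nonempty F
  have hcor := Facet.corners_eq_of_mem_cham F hb
  have hinj := fundWeight_injective b
  ext ξ
  constructor
  · intro hξ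
    have hmem := (Facet.mem_carrier_iff_of_mem_cham F hb ξ).1 hξ
    refine ⟨Finsupp.mapDomain (fundWeight b) ((fwBasis b).repr ξ), ?_, ?_, ?_⟩
    · intro m hm
      have hm' := Finsupp.mapDomain_support hm
      rw [Finset.mem_image] at hm'
      obtain ⟨i, hi, rfl⟩ := hm'
      rw [Finsupp.mem_support_iff, fwBasis_repr] at hi
      rw [hcor]
      refine ⟨i, ?_, rfl⟩
      by_contra h1
      exact hi (Facet.coroot'_eq_zero_of_mem_carrier F hb hξ i.2 h1)
    · intro m hm
      rw [hcor] at hm
      obtain ⟨i, hi, rfl⟩ := hm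
      rw [Finsupp.mapDomain_apply hinj, fwBasis_repr]
      exact (hmem.2 i i.2).2 hi
    · rw [Finsupp.sum_mapDomain_index (fun m => zero_smul R m) (fun m r₁ r₂ => add_smul r₁ r₂ m)]
      have := (fwBasis b).linearCombination_repr ξ
      rw [Finsupp.linearCombination_apply] at this
      simpa only [fwBasis_apply] using this
  · rintro ⟨c, hsupp, hpos, rfl⟩
    have hval : ∀ k : b.support, P.coroot' k (c.sum fun m r => r • m) = c (fundWeight b k) := by
      intro k
      rw [Finsupp.sum, map_sum]
      rw [Finset.sum_eq_single (fundWeight b k)]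
      · rw [map_smul, smul_eq_mul, coroot'_fundWeight_same, mul_one]
      · intro m hm hne
        have hm' := hsupp hm
        rw [hcor] at hm'
        obtain ⟨i, -, rfl⟩ := hm'
        rw [map_smul, smul_eq_mul, coroot'_fundWeight_ne b i k.2, mul_zero]
        intro e
        exact hne (by rw [show k = i from Subtype.ext e])
      · intro hk
        rw [Finsupp.notMem_support_iff.1 hk, zero_smul, map_zero]
    have hiff : ∀ k : b.support, (0 < c (fundWeight b k) ↔ F.sgn k = 1) := by
      intro k
      constructor
      · intro hp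
        have hk : fundWeight b k ∈ (c.support : Set M) := by
          simp only [Finset.mem_coe, Finsupp.mem_support_iff]
          exact hp.ne'
        have := hsupp hk
        rw [hcor] at this
        obtain ⟨i, hi, hik⟩ := this
        rw [← hinj hik]
        exact hi
      · intro hk
        apply hpos
        rw [hcor]
        exact ⟨k, hk, rfl⟩
    rw [Facet.mem_carrier_iff_of_mem_cham F hb]
    refine ⟨fun k hk => ?_, fun k hk => ?_⟩
    · have := hval ⟨k, hk⟩
      simp only at this
      rw [this]
      by_cases h1 : F.sgn k = 1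
      · exact ((hiff ⟨k, hk⟩).2 h1).le
      · have : ¬ 0 < c (fundWeight b ⟨k, hk⟩) := fun hp => h1 ((hiff ⟨k, hk⟩).1 hp)
        by_contra hneg
        have hne : c (fundWeight b ⟨k, hk⟩) ≠ 0 := fun h0 => hneg (by rw [h0])
        have hk' : fundWeight b ⟨k, hk⟩ ∈ (c.support : Set M) := by
          simp only [Finset.mem_coe, Finsupp.mem_support_iff]
          exact hne
        have := hsupp hk'
        rw [hcor] at this
        obtain ⟨i, hi, hik⟩ := this
        have : F.sgn k = 1 := by
          have e := hinj hik
          rw [e] at hi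
          exact hi
        exact h1 this
    · have := hval ⟨k, hk⟩
      simp only at this
      rw [this]
      exact hiff ⟨k, hk⟩

/-- S14232 -/
theorem exists_corners_eq_insert [Finite ι] [P.IsCrystallographic] [P.IsReduced]
    (F : Facet P) (m : M) (hm : m ∈ F.corners') :
    ∃ G : Facet P, G.corners = insert m F.corners := by
  classical
  simp only [Facet.corners', Set.mem_iUnion] at hm
  obtain ⟨b, hb, hmb⟩ := hm
  rw [baseCorners_eq_range] at hmb
  obtain ⟨k, rfl⟩ := hmb
  refine ⟨face b (insert k (cornerIdx F b)), ?_⟩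
  rw [corners_face, Facet.corners_eq_image F hb, Finset.coe_insert, Set.image_insert_eq]

/-- S14233 -/
theorem exists_corners_eq_diff_singleton [Finite ι] [P.IsCrystallographic] [P.IsReduced]
    (F : Facet P) (m : M) (hm : m ∈ F.corners) :
    ∃ G : Facet P, G.corners = F.corners \ {m} := by
  classical
  obtain ⟨b, hb⟩ := Facet.cham_nonempty F
  have hm' := hm
  rw [Facet.corners_eq_of_mem_cham F hb] at hm'
  obtain ⟨k, hk, rfl⟩ := hm'
  refine ⟨face b ((cornerIdx F b).erase k), ?_⟩
  rw [corners_face, Facet.corners_eq_image F hb, Finset.coe_erase,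
    Set.image_sdiff (fundWeight_injective b), Set.image_singleton]

end Groth.Agent.Helper21.RC
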