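import Mathlib
import Groth.Prelude.Def_RootCh
import Groth.Agent.Lib.Helper21.RootChC

/-!
# RootCh library, part A4: dual facets, dual corners, corners via parabolic sets, sum of roots
-/

set_option linter.unusedSectionVars false
set_option linter.unusedSimpArgs false

namespace Groth.Agent.Helper21.RC

open RootCh RootPairing Module

variable {ι R M N : Type*} [Field R] [LinearOrder R] [IsStrictOrderedRing R]
  [AddCommGroup M] [Module R M] [AddCommGroup N] [Module R N]
  {P : RootPairing ι R M N}

/-! ### reflections and pairings -/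

lemma coroot'_reflectionPerm_apply (i j : ι) (ξ : M) :
    P.coroot' (P.reflectionPerm j i) ξ = P.coroot' i ξ - P.pairing j i * P.coroot' j ξ := by
  change P.toLinearMap ξ (P.coroot (P.reflectionPerm j i)) =
    P.toLinearMap ξ (P.coroot i) - P.pairing j i * P.toLinearMap ξ (P.coroot j)
  rw [P.coroot_reflectionPerm, P.coreflection_apply_coroot, map_sub, map_smul, smul_eq_mul]

lemma root'_reflectionPerm_apply (i j : ι) (x : N) :
    P.root' (P.reflectionPerm j i) x = P.root' i x - P.pairing i j * P.root' j x := by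
  change P.toLinearMap (P.root (P.reflectionPerm j i)) x =
    P.toLinearMap (P.root i) x - P.pairing i j * P.toLinearMap (P.root j) x
  rw [P.root_reflectionPerm, P.reflection_apply_root, map_sub, map_smul, LinearMap.sub_apply,
    LinearMap.smul_apply, smul_eq_mul]

lemma pairing_reflectionPerm_left (i j : ι) :
    P.pairing (P.reflectionPerm j i) j = - P.pairing i j := by
  rw [← P.pairing_reflectionPerm j i j, P.pairing_reflectionPerm_self_right]

lemma nrm_mul_pairing [Fintype ι] (i j : ι) :
    P.RootForm (P.root j) (P.root j) * P.pairing i j =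
      P.RootForm (P.root i) (P.root i) * P.pairing j i := by
  have h1 := nrm_mul_coroot' (P := P) j (P.root i)
  have h2 := nrm_mul_coroot' (P := P) i (P.root j)
  rw [P.root_coroot'_eq_pairing] at h1 h2
  rw [h1, h2, rootForm_comm]

lemma pairing_pos_symm [Finite ι] {i j : ι} (h : 0 < P.pairing j i) : 0 < P.pairing i j := by
  have := Fintype.ofFinite ι
  have hs := sign_eq_of_mul_eq (rootForm_root_self_pos (P := P) j) (rootForm_root_self_pos i)
    (nrm_mul_pairing (P := P) i j)
  rw [sign_pos h] at hs
  exact sign_eq_one_iff.1 hs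

/-! ### S14237 -/

theorem sum_root_parab_mem_carrier [Finite ι] (F : Facet P) :
    (∑ i ∈ (Set.toFinite F.parab).toFinset, P.root i) ∈ F.carrier := by
  classical
  set S := (Set.toFinite F.parab).toFinset with hS
  have hmemS : ∀ i, i ∈ S ↔ F.sgn i ≠ -1 := fun i => by
    rw [hS, Set.Finite.mem_toFinset]; rfl
  obtain ⟨ξ, hξ⟩ := F.exists_sgnVec_eq
  have hsgn : ∀ i, F.sgn i = SignType.sign (P.coroot' i ξ) := fun i => by rw [← hξ]; rfl
  have hT : ∀ j, P.coroot' j (∑ i ∈ S, P.root i) = ∑ i ∈ S, P.pairing i j := fun j => by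
    rw [map_sum]; rfl
  have hpos : ∀ j, F.sgn j = 1 → 0 < ∑ i ∈ S, P.pairing i j := by
    intro j hj
    have ha : 0 < P.coroot' j ξ := by rw [hsgn] at hj; exact sign_eq_one_iff.1 hj
    rw [← Finset.sum_filter_add_sum_filter_not S (fun i => P.reflectionPerm j i ∈ S)]
    have h1 : ∑ i ∈ S.filter (fun i => P.reflectionPerm j i ∈ S), P.pairing i j = 0 := by
      have e : ∑ i ∈ S.filter (fun i => P.reflectionPerm j i ∈ S), P.pairing i j =
          ∑ i ∈ S.filter (fun i => P.reflectionPerm j i ∈ S), -P.pairing i j := by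
        apply Finset.sum_equiv (P.reflectionPerm j)
        · intro i
          simp only [Finset.mem_filter]
          constructor
          · rintro ⟨h1, h2⟩
            exact ⟨h2, by rw [P.reflectionPerm_self]; exact h1⟩
          · rintro ⟨h1, h2⟩
            rw [P.reflectionPerm_self] at h2
            exact ⟨h2, h1⟩
        · intro i _
          rw [pairing_reflectionPerm_left, neg_neg]
      rw [Finset.sum_neg_distrib] at e
      linarith
    rw [h1, zero_add]
    have hjmem : j ∈ S.filter (fun i => ¬ P.reflectionPerm j i ∈ S) := by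
      simp only [Finset.mem_filter, hmemS]
      refine ⟨by rw [hj]; decide, ?_⟩
      rw [Facet.sgn_neg, hj]; decide
    have hterm : ∀ i ∈ S.filter (fun i => ¬ P.reflectionPerm j i ∈ S), 0 < P.pairing i j := by
      intro i hi
      simp only [Finset.mem_filter, hmemS, not_not] at hi
      obtain ⟨hi1, hi2⟩ := hi
      have h0 : 0 ≤ P.coroot' i ξ := by
        rw [hsgn] at hi1
        simpa only [ne_eq, sign_eq_neg_one_iff, not_lt] using hi1
      have hlt : P.coroot' (P.reflectionPerm j i) ξ < 0 := by
        rw [hsgn] at hi2; exact sign_eq_neg_one_iff.1 hi2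
      rw [coroot'_reflectionPerm_apply] at hlt
      have hji : 0 < P.pairing j i := by
        by_contra hn
        have : P.pairing j i * P.coroot' j ξ ≤ 0 :=
          mul_nonpos_of_nonpos_of_nonneg (not_lt.mp hn) ha.le
        linarith
      exact pairing_pos_symm hji
    exact Finset.sum_pos hterm ⟨j, hjmem⟩
  have hzero : ∀ j, F.sgn j = 0 → ∑ i ∈ S, P.pairing i j = 0 := by
    intro j hj
    have ha : P.coroot' j ξ = 0 := by rw [hsgn] at hj; exact sign_eq_zero_iff.1 hj
    have hpres : ∀ i, F.sgn (P.reflectionPerm j i) = F.sgn i := by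
      intro i
      rw [hsgn, hsgn, coroot'_reflectionPerm_apply, ha, mul_zero, sub_zero]
    have e : ∑ i ∈ S, P.pairing i j = ∑ i ∈ S, -P.pairing i j := by
      apply Finset.sum_equiv (P.reflectionPerm j)
      · intro i; rw [hmemS, hmemS, hpres]
      · intro i _; rw [pairing_reflectionPerm_left, neg_neg]
    rw [Finset.sum_neg_distrib] at e
    linarith
  show sgnVec P _ = F.sgn
  funext j
  simp only [sgnVec]
  rw [hT]
  rcases signType_cases (F.sgn j) with h | h | h
  · rw [hzero j h, sign_zero, h]
  · rw [sign_pos (hpos j h), h]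
  · have h' : F.sgn (P.reflectionPerm j j) = 1 := by rw [Facet.sgn_neg, h]; decide
    have hp := hpos _ h'
    have e : ∑ i ∈ S, P.pairing i (P.reflectionPerm j j) = - ∑ i ∈ S, P.pairing i j := by
      rw [← Finset.sum_neg_distrib]
      apply Finset.sum_congr rfl
      intro i _
      exact P.pairing_reflectionPerm_self_right i j
    rw [e] at hp
    rw [sign_neg (by linarith), h]

/-! ### dual facets -/

/-- The dual facet, as a facet of the dual root system. -/
noncomputable def Facet.dual [Finite ι] (F : Facet P) : Facet P.flip :=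
  ⟨F.sgn, by
    have := Fintype.ofFinite ι
    obtain ⟨ξ, hξ⟩ := F.exists_sgnVec_eq
    exact ⟨P.Polarization ξ, (cosgnVec_polarization ξ).trans hξ⟩⟩

lemma Facet.dual_sgn [Finite ι] (F : Facet P) : (Facet.dual F).sgn = F.sgn := rfl

lemma Facet.dual_carrier [Finite ι] (F : Facet P) : (Facet.dual F).carrier = F.dualCarrier := rfl

lemma Facet.dual_closure [Finite ι] (F : Facet P) : (Facet.dual F).closure = F.dualClosure := rfl

lemma Facet.dual_corners [Finite ι] [P.IsRootSystem] (F : Facet P) :
    (Facet.dual F).corners = F.dualCorners := rfl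

lemma Facet.mem_cham_dual [Finite ι] [P.IsRootSystem] (F : Facet P) {b : P.Base}
    (hb : b ∈ F.cham) : b.flip ∈ (Facet.dual F).cham := by
  rw [Facet.mem_cham_iff] at hb ⊢
  exact hb

lemma Facet.dualCarrier_nonempty [Finite ι] (F : Facet P) : F.dualCarrier.Nonempty := by
  obtain ⟨x, hx⟩ := (Facet.dual F).exists_sgnVec_eq
  exact ⟨x, hx⟩

/-! ### S14231 -/

theorem dualCorners_eq [Finite ι] [P.IsRootSystem] (F : Facet P) :
    F.dualCorners = {y : N | ∃ m ∈ F.corners, Corr P m y} := by
  ext y
  constructor
  · rintro ⟨⟨b', i, rfl⟩, hcl⟩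
    let b : P.Base := b'.flip
    refine ⟨fundWeight b i, ⟨⟨b, i, rfl⟩, fun j => ?_⟩, b, i, rfl, rfl⟩
    have h1 := hcl j
    have h2 : cosgnVec P (fundCoweight b i) j = sgnVec P (fundWeight b i) j :=
      congrFun (cosgnVec_fundCoweight b i) j
    rw [← h2]
    exact h1
  · rintro ⟨m, ⟨-, hcl⟩, b, i, rfl, rfl⟩
    refine ⟨⟨b.flip, i, rfl⟩, fun j => ?_⟩
    have h2 : cosgnVec P (fundCoweight b i) j = sgnVec P (fundWeight b i) j :=
      congrFun (cosgnVec_fundCoweight b i) j
    rw [h2]
    exact hcl j

/-! ### S14234 -/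

theorem corners_eq_setOf_nonneg_on_parab [Finite ι] [P.IsRootSystem] (F : Facet P) :
    F.corners = {m : M | m ∈ fundWeights P ∧
      ∀ y : N, Corr P m y → ∀ i ∈ F.parab, 0 ≤ P.root' i y} := by
  ext m
  constructor
  · rintro ⟨hm, hcl⟩
    refine ⟨hm, ?_⟩
    rintro y ⟨b, k, rfl, rfl⟩ i hi
    have h1 : SignType.sign (P.root' i (fundCoweight b k)) ≠ -1 := by
      rw [sign_root'_fundCoweight]
      rcases hcl i with h | h
      · change SignType.sign (P.coroot' i (fundWeight b k)) = 0 at h
        rw [h]; decide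
      · change SignType.sign (P.coroot' i (fundWeight b k)) = F.sgn i at h
        rw [h]; exact hi
    simpa only [ne_eq, sign_eq_neg_one_iff, not_lt] using h1
  · rintro ⟨⟨b, k, rfl⟩, H⟩
    refine ⟨⟨b, k, rfl⟩, fun j => ?_⟩
    have H' : ∀ i ∈ F.parab, 0 ≤ P.coroot' i (fundWeight b k) := by
      intro i hi
      have h1 := H (fundCoweight b k) ⟨b, k, rfl, rfl⟩ i hi
      rw [← sign_nonneg_iff, sign_root'_fundCoweight, sign_nonneg_iff] at h1
      exact h1
    have Hneg : ∀ i, P.reflectionPerm i i ∈ F.parab → P.coroot' i (fundWeight b k) ≤ 0 := by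
      intro i hi
      have := H' _ hi
      rw [coroot'_neg] at this
      exact neg_nonneg.mp this
    change SignType.sign (P.coroot' j (fundWeight b k)) = 0 ∨
      SignType.sign (P.coroot' j (fundWeight b k)) = F.sgn j
    rcases signType_cases (F.sgn j) with h | h | h
    · left
      have h1 : j ∈ F.parab := by
        change F.sgn j ≠ -1; rw [h]; decide
      have h2 : P.reflectionPerm j j ∈ F.parab := by
        change F.sgn (P.reflectionPerm j j) ≠ -1; rw [Facet.sgn_neg, h]; decide
      rw [sign_eq_zero_iff]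
      exact le_antisymm (Hneg j h2) (H' j h1)
    · have h1 : j ∈ F.parab := by
        change F.sgn j ≠ -1; rw [h]; decide
      rcases (H' j h1).lt_or_eq with hp | hp
      · right; rw [sign_pos hp, h]
      · left; rw [← hp, sign_zero]
    · have h2 : P.reflectionPerm j j ∈ F.parab := by
        change F.sgn (P.reflectionPerm j j) ≠ -1; rw [Facet.sgn_neg, h]; decide
      rcases (Hneg j h2).lt_or_eq with hp | hp
      · right; rw [sign_neg hp, h]
      · left; rw [hp, sign_zero]

end Groth.Agent.Helper21.RC
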