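import Mathlib
import Groth.Prelude.Def_RootCh
import Groth.Agent.Lib.Helper21.RootChD

/-!
# RootCh library, part A5: reflected bases, positivity, parabolic sets of roots
-/

set_option linter.unusedSectionVars false
set_option linter.unusedSimpArgs false

namespace Groth.Agent.Helper21.RC

open RootCh RootPairing Module

variable {ι R M N : Type*} [Field R] [LinearOrder R] [IsStrictOrderedRing R]
  [AddCommGroup M] [Module R M] [AddCommGroup N] [Module R N]
  {P : RootPairing ι R M N}

/-! ### reflected bases -/

lemma refl_mem_closure_root {i : ι} {S : Set ι} {x : M}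
    (hx : x ∈ AddSubmonoid.closure (P.root '' S)) :
    P.reflection i x ∈ AddSubmonoid.closure (P.root '' ((P.reflectionPerm i) '' S)) := by
  induction hx using AddSubmonoid.closure_induction with
  | mem x hx =>
    obtain ⟨k, hk, rfl⟩ := hx
    exact AddSubmonoid.subset_closure
      ⟨P.reflectionPerm i k, ⟨k, hk, rfl⟩, P.root_reflectionPerm i k⟩
  | zero => rw [map_zero]; exact zero_mem _
  | add x y _ _ hx hy => rw [map_add]; exact add_mem hx hy

lemma corefl_mem_closure_coroot {i : ι} {S : Set ι} {x : N}
    (hx : x ∈ AddSubmonoid.closure (P.coroot '' S)) :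
    P.coreflection i x ∈ AddSubmonoid.closure (P.coroot '' ((P.reflectionPerm i) '' S)) := by
  induction hx using AddSubmonoid.closure_induction with
  | mem x hx =>
    obtain ⟨k, hk, rfl⟩ := hx
    exact AddSubmonoid.subset_closure
      ⟨P.reflectionPerm i k, ⟨k, hk, rfl⟩, P.coroot_reflectionPerm i k⟩
  | zero => rw [map_zero]; exact zero_mem _
  | add x y _ _ hx hy => rw [map_add]; exact add_mem hx hy

/-- The image of a base under the reflection in the root `i`. -/
noncomputable def reflBase (b : P.Base) (i : ι) : P.Base where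
  support := b.support.map (P.reflectionPerm i).toEmbedding
  linearIndepOn_root := by
    rw [Finset.coe_map]
    apply LinearIndepOn.image_of_comp
    have h1 := b.linearIndepOn_root.map_injOn (P.reflection i : M →ₗ[R] M)
      (fun x _ y _ h => (P.reflection i).injective h)
    have e : (P.root ∘ (P.reflectionPerm i).toEmbedding) =
        ((P.reflection i : M →ₗ[R] M) ∘ P.root) := by
      funext k; simp [P.root_reflectionPerm]
    rw [e]; exact h1
  linearIndepOn_coroot := by
    rw [Finset.coe_map]
    apply LinearIndepOn.image_of_comp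
    have h1 := b.linearIndepOn_coroot.map_injOn (P.coreflection i : N →ₗ[R] N)
      (fun x _ y _ h => (P.coreflection i).injective h)
    have e : (P.coroot ∘ (P.reflectionPerm i).toEmbedding) =
        ((P.coreflection i : N →ₗ[R] N) ∘ P.coroot) := by
      funext k; simp [P.coroot_reflectionPerm]
    rw [e]; exact h1
  root_mem_or_neg_mem j := by
    rw [Finset.coe_map]
    have hj : P.root j = P.reflection i (P.root (P.reflectionPerm i j)) := by
      rw [← P.root_reflectionPerm, P.reflectionPerm_self]
    rcases b.root_mem_or_neg_mem (P.reflectionPerm i j) with h | h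
    · left; rw [hj]; exact refl_mem_closure_root h
    · right; rw [hj, ← map_neg]; exact refl_mem_closure_root h
  coroot_mem_or_neg_mem j := by
    rw [Finset.coe_map]
    have hj : P.coroot j = P.coreflection i (P.coroot (P.reflectionPerm i j)) := by
      rw [← P.coroot_reflectionPerm, P.reflectionPerm_self]
    rcases b.coroot_mem_or_neg_mem (P.reflectionPerm i j) with h | h
    · left; rw [hj]; exact corefl_mem_closure_coroot h
    · right; rw [hj, ← map_neg]; exact corefl_mem_closure_coroot h

lemma mem_reflBase_support (b : P.Base) (i k : ι) :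
    k ∈ (reflBase b i).support ↔ P.reflectionPerm i k ∈ b.support := by
  simp only [reflBase, Finset.mem_map, Equiv.coe_toEmbedding]
  constructor
  · rintro ⟨k', hk', rfl⟩
    rw [P.reflectionPerm_self]; exact hk'
  · intro h
    exact ⟨_, h, P.reflectionPerm_self i k⟩

lemma reflection_mem_openChamber (b : P.Base) (i : ι) {ξ : M} (hξ : ξ ∈ openChamber b) :
    P.reflection i ξ ∈ openChamber (reflBase b i) := by
  intro k hk
  rw [mem_reflBase_support] at hk
  rw [P.coroot'_reflection]
  exact hξ _ hk

lemma reflection_mem_closedChamber (b : P.Base) (i : ι) {ξ : M} (hξ : ξ ∈ closedChamber b) :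
    P.reflection i ξ ∈ closedChamber (reflBase b i) := by
  intro k hk
  rw [mem_reflBase_support] at hk
  rw [P.coroot'_reflection]
  exact hξ _ hk

lemma root_neg_idx (j : ι) : P.root (P.reflectionPerm j j) = - P.root j := by simp

lemma neg_neg_idx (j : ι) :
    P.reflectionPerm (P.reflectionPerm j j) (P.reflectionPerm j j) = j :=
  P.root.injective (by rw [root_neg_idx, root_neg_idx, neg_neg])

lemma base_ext {b b' : P.Base} (h : b.support = b'.support) : b = b' := by
  cases b; cases b'; simp only [Base.mk.injEq]; exact h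

instance [Finite ι] : Finite P.Base :=
  Finite.of_injective (fun b : P.Base => b.support) (fun _ _ h => base_ext h)

/-! ### positive roots and chambers -/

section Pos

variable [Finite ι] [P.IsCrystallographic]

lemma isPos_imp_coroot'_pos (b : P.Base) {ξ : M} (hξ : ξ ∈ openChamber b) {j : ι}
    (hj : b.IsPos j) : 0 < P.coroot' j ξ := by
  have := Fintype.ofFinite ι
  have key : 0 < P.RootForm (P.root j) (P.root j) * P.coroot' j ξ := by
    refine hj.induction_on_add
      (p := fun k => 0 < P.RootForm (P.root k) (P.root k) * P.coroot' k ξ) ?_ ?_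
    · intro k hk
      exact mul_pos (rootForm_root_self_pos k) (hξ k hk)
    · intro i' j' k hk hi' hj'
      rw [nrm_mul_coroot'_add hk]
      exact add_pos hi' (mul_pos (rootForm_root_self_pos j') (hξ j' hj'))
  exact (mul_pos_iff_of_pos_left (rootForm_root_self_pos j)).1 key

lemma coroot'_nonneg_of_isPos (b : P.Base) {ξ : M} (hξ : ξ ∈ closedChamber b) {j : ι}
    (hj : b.IsPos j) : 0 ≤ P.coroot' j ξ := by
  have := Fintype.ofFinite ι
  have key : 0 ≤ P.RootForm (P.root j) (P.root j) * P.coroot' j ξ := by
    refine hj.induction_on_add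
      (p := fun k => 0 ≤ P.RootForm (P.root k) (P.root k) * P.coroot' k ξ) ?_ ?_
    · intro k hk
      exact mul_nonneg (rootForm_root_self_pos k).le (hξ k hk)
    · intro i' j' k hk hi' hj'
      rw [nrm_mul_coroot'_add hk]
      exact add_nonneg hi' (mul_nonneg (rootForm_root_self_pos j').le (hξ j' hj'))
  exact nonneg_of_mul_nonneg_right key (rootForm_root_self_pos j)

lemma isPos_neg_of_not (b : P.Base) {j : ι} (hj : ¬ b.IsPos j) :
    b.IsPos (P.reflectionPerm j j) :=
  (Base.IsPos.neg_iff_not b j).2 hj

lemma not_isPos_neg (b : P.Base) {j : ι} (hj : b.IsPos j) :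
    ¬ b.IsPos (P.reflectionPerm j j) := fun h =>
  (Base.IsPos.neg_iff_not b j).1 h hj

lemma isPos_iff_coroot'_pos (b : P.Base) {ξ : M} (hξ : ξ ∈ openChamber b) (j : ι) :
    b.IsPos j ↔ 0 < P.coroot' j ξ := by
  refine ⟨isPos_imp_coroot'_pos b hξ, fun h => ?_⟩
  by_contra hn
  have h2 := isPos_imp_coroot'_pos b hξ (isPos_neg_of_not b hn)
  rw [coroot'_neg] at h2
  linarith

lemma exists_mem_openChamber [P.IsRootSystem] (b : P.Base) : ∃ ξ : M, ξ ∈ openChamber b := by
  refine ⟨faceVec b Finset.univ, fun k hk => ?_⟩
  have := coroot'_faceVec_of_mem b (Finset.mem_univ (⟨k, hk⟩ : b.support))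
  simp only at this
  rw [this]
  exact one_pos

lemma isPos_reflBase_iff [P.IsRootSystem] (b : P.Base) (i j : ι) :
    (reflBase b i).IsPos j ↔ b.IsPos (P.reflectionPerm i j) := by
  obtain ⟨ξ, hξ⟩ := exists_mem_openChamber b
  rw [isPos_iff_coroot'_pos (reflBase b i) (reflection_mem_openChamber b i hξ),
    isPos_iff_coroot'_pos b hξ, P.coroot'_reflection]

lemma root'_fundCoweight_nonneg_of_isPos [P.IsRootSystem] (b : P.Base) {k : ι}
    (hk : b.IsPos k) (i : b.support) : 0 ≤ P.root' k (fundCoweight b i) := by
  refine hk.induction_on_add (p := fun k => 0 ≤ P.root' k (fundCoweight b i)) ?_ ?_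
  · intro k hk
    by_cases h : k = i
    · subst h; rw [root'_fundCoweight_self]; exact zero_le_one
    · rw [root'_fundCoweight_of_ne b i ⟨k, hk⟩ (fun e => h (congrArg Subtype.val e))]
  · intro i' j' k hk hi' hj'
    have e : P.root' k (fundCoweight b i) =
        P.root' i' (fundCoweight b i) + P.root' j' (fundCoweight b i) := by
      change P.toLinearMap (P.root k) _ = P.toLinearMap (P.root i') _ + P.toLinearMap (P.root j') _
      rw [hk, map_add, LinearMap.add_apply]
    rw [e]
    apply add_nonneg hi'
    by_cases h : j' = i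
    · subst h; rw [root'_fundCoweight_self]; exact zero_le_one
    · rw [root'_fundCoweight_of_ne b i ⟨j', hj'⟩ (fun e => h (congrArg Subtype.val e))]

end Pos

/-! ### parabolic sets -/

section Parabolic

variable [Finite ι] [P.IsRootSystem] [P.IsCrystallographic] [P.IsReduced]

lemma exists_base_isPos_subset {S : Set ι} (hS : IsParabolicSubset P S) :
    ∃ b : P.Base, ∀ j, b.IsPos j → j ∈ S := by
  classical
  have hne : Nonempty P.Base := P.nonempty_base
  obtain ⟨b, hb⟩ := Finite.exists_max (fun b : P.Base => Set.ncard {j | b.IsPos j ∧ j ∈ S})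
  have hsimple : ∀ i ∈ b.support, i ∈ S := by
    intro i hi
    by_contra hiS
    have hneg : P.reflectionPerm i i ∈ S := (hS.2 i).resolve_left hiS
    have hsub : {j | b.IsPos j ∧ j ∈ S} ⊆ {j | (reflBase b i).IsPos j ∧ j ∈ S} := by
      rintro j ⟨hj, hjS⟩
      refine ⟨(isPos_reflBase_iff b i j).2 (hj.reflectionPerm hi ?_), hjS⟩
      rintro rfl
      exact hiS hjS
    have hlt : Set.ncard {j | b.IsPos j ∧ j ∈ S} <
        Set.ncard {j | (reflBase b i).IsPos j ∧ j ∈ S} := by
      apply Set.ncard_lt_ncard _ (Set.toFinite _)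
      refine (Set.ssubset_iff_of_subset hsub).2 ⟨P.reflectionPerm i i, ⟨?_, hneg⟩, ?_⟩
      · rw [isPos_reflBase_iff, P.reflectionPerm_self]
        exact Base.isPos_of_mem_support hi
      · rintro ⟨h, -⟩
        exact not_isPos_neg b (Base.isPos_of_mem_support hi) h
    exact absurd (hb (reflBase b i)) (not_le.mpr hlt)
  refine ⟨b, fun j hj => ?_⟩
  exact hj.induction_on_add (p := fun k => k ∈ S) hsimple
    (fun i' j' k hk hi' hj' => hS.1 i' j' k hi' (hsimple j' hj') hk)

lemma neg_mem_iff_of_isPos (b : P.Base) {S : Set ι} (hS : IsParabolicSubset P S)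
    (hpos : ∀ j, b.IsPos j → j ∈ S) {k : ι} (hk : b.IsPos k) :
    P.reflectionPerm k k ∈ S ↔
      ∀ i : b.support, P.root' k (fundCoweight b i) ≠ 0 → P.reflectionPerm i i ∈ S := by
  have hroot_neg : ∀ j : ι, P.root (P.reflectionPerm j j) = - P.root j := fun j => by simp
  have main : b.IsPos k ∧ (P.reflectionPerm k k ∈ S ↔
      ∀ i : b.support, P.root' k (fundCoweight b i) ≠ 0 → P.reflectionPerm i i ∈ S) := by
    refine hk.induction_on_add (p := fun k => b.IsPos k ∧ (P.reflectionPerm k k ∈ S ↔
      ∀ i : b.support, P.root' k (fundCoweight b i) ≠ 0 → P.reflectionPerm i i ∈ S)) ?_ ?_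
    · intro k hk
      refine ⟨Base.isPos_of_mem_support hk, fun h i hne => ?_, fun H => ?_⟩
      · by_cases hki : k = i
        · rw [← hki]; exact h
        · exact absurd (root'_fundCoweight_of_ne b i ⟨k, hk⟩
            (fun e => hki (congrArg Subtype.val e))) hne
      · have := H ⟨k, hk⟩ (by
          have := root'_fundCoweight_self b ⟨k, hk⟩
          simp only at this
          rw [this]; exact one_ne_zero)
        exact this
    · rintro i' j' k hk ⟨hi'pos, hi'iff⟩ hj'
      have hj'pos : b.IsPos j' := Base.isPos_of_mem_support hj'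
      have hsum : ∀ i : b.support, P.root' k (fundCoweight b i) =
          P.root' i' (fundCoweight b i) + P.root' j' (fundCoweight b i) := by
        intro i
        change P.toLinearMap (P.root k) _ =
          P.toLinearMap (P.root i') _ + P.toLinearMap (P.root j') _
        rw [hk, map_add, LinearMap.add_apply]
      have hc : ∀ i : b.support, 0 ≤ P.root' i' (fundCoweight b i) :=
        fun i => root'_fundCoweight_nonneg_of_isPos b hi'pos i
      have hd : ∀ i : b.support, 0 ≤ P.root' j' (fundCoweight b i) :=
        fun i => root'_fundCoweight_nonneg_of_isPos b hj'pos i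
      refine ⟨hi'pos.add hj'pos hk, fun h => ?_, fun H => ?_⟩
      · have hnegi' : P.reflectionPerm i' i' ∈ S := by
          refine hS.1 (P.reflectionPerm k k) j' _ h (hpos j' hj'pos) ?_
          rw [hroot_neg, hroot_neg, hk]; abel
        have hnegj' : P.reflectionPerm j' j' ∈ S := by
          refine hS.1 (P.reflectionPerm k k) i' _ h (hpos i' hi'pos) ?_
          rw [hroot_neg, hroot_neg, hk]; abel
        intro i hne
        by_cases hci : P.root' i' (fundCoweight b i) = 0
        · have hdi : P.root' j' (fundCoweight b i) ≠ 0 := by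
            intro h0; apply hne; rw [hsum, hci, h0, add_zero]
          by_cases hji : j' = i
          · rw [← hji]; exact hnegj'
          · exact absurd (root'_fundCoweight_of_ne b i ⟨j', hj'⟩
              (fun e => hji (congrArg Subtype.val e))) hdi
        · exact hi'iff.1 hnegi' i hci
      · have hnegi' : P.reflectionPerm i' i' ∈ S := by
          apply hi'iff.2
          intro i hci
          apply H i
          rw [hsum]
          have : 0 < P.root' i' (fundCoweight b i) := lt_of_le_of_ne (hc i) (Ne.symm hci)
          linarith [hd i]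
        have hnegj' : P.reflectionPerm j' j' ∈ S := by
          have := H ⟨j', hj'⟩ (by
            rw [hsum]
            have h1 := root'_fundCoweight_self b ⟨j', hj'⟩
            simp only at h1
            rw [h1]
            linarith [hc ⟨j', hj'⟩])
          exact this
        refine hS.1 (P.reflectionPerm i' i') (P.reflectionPerm j' j') _ hnegi' hnegj' ?_
        rw [hroot_neg, hroot_neg, hroot_neg, hk]; abel
  exact main.2

lemma facet_eq_of_corners_eq {F G : Facet P} (h : F.corners = G.corners) : F = G := by
  have hc : F.carrier = G.carrier := by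
    rw [carrier_eq_setOf_pos_comb F, carrier_eq_setOf_pos_comb G, h]
  obtain ⟨ξ, hξ⟩ := F.exists_sgnVec_eq
  have h1 : ξ ∈ F.carrier := hξ
  rw [hc] at h1
  apply Facet.ext
  rw [← hξ]
  exact h1

lemma isParabolicSubset_parab (F : Facet P) : IsParabolicSubset P F.parab := by
  have := Fintype.ofFinite ι
  obtain ⟨ξ, hξ⟩ := F.exists_sgnVec_eq
  have hsgn : ∀ i, F.sgn i = SignType.sign (P.coroot' i ξ) := fun i => by rw [← hξ]; rfl
  have hmem : ∀ i, i ∈ F.parab ↔ 0 ≤ P.coroot' i ξ := by
    intro i
    change F.sgn i ≠ -1 ↔ _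
    rw [hsgn, ne_eq, sign_eq_neg_one_iff, not_lt]
  refine ⟨fun i j k hi hj hk => ?_, fun i => ?_⟩
  · rw [hmem] at hi hj ⊢
    have e := nrm_mul_coroot'_add hk ξ
    have h1 : 0 ≤ P.RootForm (P.root k) (P.root k) * P.coroot' k ξ := by
      rw [e]
      exact add_nonneg (mul_nonneg (rootForm_root_self_pos i).le hi)
        (mul_nonneg (rootForm_root_self_pos j).le hj)
    exact nonneg_of_mul_nonneg_right h1 (rootForm_root_self_pos k)
  · rw [hmem, hmem, coroot'_neg]
    rcases le_total 0 (P.coroot' i ξ) with h | h
    · left; exact h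
    · right; exact neg_nonneg.mpr h

lemma facet_le_iff_parab_subset (F G : Facet P) : F ≤ G ↔ F.parab ⊆ G.parab := by
  rw [Facet.le_def]
  constructor
  · intro h i hi
    change G.sgn i ≠ -1
    rcases h i with h0 | h0
    · rw [h0]; decide
    · rw [h0]; exact hi
  · intro h i
    rcases signType_cases (G.sgn i) with h0 | h0 | h0
    · left; exact h0
    · right
      have h1 : P.reflectionPerm i i ∉ G.parab := by
        change ¬ G.sgn (P.reflectionPerm i i) ≠ -1
        rw [Facet.sgn_neg, h0]; decide
      have h2 : P.reflectionPerm i i ∉ F.parab := fun hh => h1 (h hh)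
      have h3 : F.sgn (P.reflectionPerm i i) = -1 := not_not.mp h2
      rw [Facet.sgn_neg] at h3
      rw [h0]
      exact (neg_inj.mp h3).symm
    · right
      have h1 : i ∉ G.parab := by
        change ¬ G.sgn i ≠ -1
        rw [h0]; decide
      have h2 : i ∉ F.parab := fun hh => h1 (h hh)
      have h3 : F.sgn i = -1 := not_not.mp h2
      rw [h0, h3]

lemma parab_injective {F G : Facet P} (h : F.parab = G.parab) : F = G :=
  le_antisymm ((facet_le_iff_parab_subset F G).2 h.le) ((facet_le_iff_parab_subset G F).2 h.ge)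

/-- The facet attached to a parabolic set of roots. -/
theorem exists_facet_parab_eq {S : Set ι} (hS : IsParabolicSubset P S) :
    ∃ F : Facet P, F.parab = S := by
  classical
  obtain ⟨b, hpos⟩ := exists_base_isPos_subset hS
  let J : Finset b.support :=
    Finset.univ.filter (fun i : b.support => P.reflectionPerm i i ∉ S)
  refine ⟨face b J, ?_⟩
  have hsgn : ∀ j, (face b J).sgn j = SignType.sign (P.coroot' j (faceVec b J)) := fun j => rfl
  have hpos_iff : ∀ k, b.IsPos k →
      (0 < P.coroot' k (faceVec b J) ↔ ∃ i ∈ J, P.root' k (fundCoweight b i) ≠ 0) := by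
    intro k hk
    rw [faceVec, map_sum, Finset.sum_pos_iff_of_nonneg (fun i _ =>
      coroot'_nonneg_of_isPos b (fundWeight_mem_closedChamber b i) hk)]
    apply exists_congr
    intro i
    apply and_congr_right
    intro _
    have hs := sign_root'_fundCoweight b i k
    have hnn := root'_fundCoweight_nonneg_of_isPos b hk i
    constructor
    · intro hp
      rw [sign_pos hp] at hs
      exact (sign_eq_one_iff.1 hs).ne'
    · intro hne
      have : 0 < P.root' k (fundCoweight b i) := lt_of_le_of_ne hnn (Ne.symm hne)
      rw [sign_pos this] at hs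
      exact sign_eq_one_iff.1 hs.symm
  ext j
  change (face b J).sgn j ≠ -1 ↔ j ∈ S
  by_cases hj : b.IsPos j
  · refine ⟨fun _ => hpos j hj, fun _ => ?_⟩
    rw [hsgn, ne_eq, sign_eq_neg_one_iff, not_lt]
    exact coroot'_nonneg_of_isPos b (faceVec_mem_closedChamber b J) hj
  · have hk := isPos_neg_of_not b hj
    set k := P.reflectionPerm j j with hkdef
    have hjk : P.reflectionPerm k k = j := neg_neg_idx j
    have h1 : (face b J).sgn j = - (face b J).sgn k := by
      rw [← hjk, Facet.sgn_neg]
    have h2 := neg_mem_iff_of_isPos b hS hpos hk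
    rw [hjk] at h2
    rw [h2, h1, hsgn]
    constructor
    · intro hne i hi
      by_contra hiS
      have : 0 < P.coroot' k (faceVec b J) :=
        (hpos_iff k hk).2 ⟨i, by simp [J, hiS], hi⟩
      rw [sign_pos this] at hne
      exact hne rfl
    · intro H hneg
      have h3 : SignType.sign (P.coroot' k (faceVec b J)) = 1 := neg_inj.mp hneg
      have h4 := (hpos_iff k hk).1 (sign_eq_one_iff.1 h3)
      obtain ⟨i, hiJ, hi⟩ := h4
      have : P.reflectionPerm i i ∉ S := by simpa [J] using hiJ
      exact this (H i hi)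

/-- S14235 -/
theorem existsUnique_facet_corners_eq (S : Set ι) (hS : IsParabolicSubset P S) :
    ∃ F : Facet P,
      (F.corners = {m : M | m ∈ fundWeights P ∧
          ∀ y : N, Corr P m y → ∀ i ∈ S, 0 ≤ P.root' i y} ∧ F.parab = S) ∧
      ∀ G : Facet P,
        G.corners = {m : M | m ∈ fundWeights P ∧
          ∀ y : N, Corr P m y → ∀ i ∈ S, 0 ≤ P.root' i y} → G = F := by
  obtain ⟨F, hF⟩ := exists_facet_parab_eq hS
  have hc : F.corners = {m : M | m ∈ fundWeights P ∧
      ∀ y : N, Corr P m y → ∀ i ∈ S, 0 ≤ P.root' i y} := by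
    rw [corners_eq_setOf_nonneg_on_parab F, hF]
  refine ⟨F, ⟨hc, hF⟩, fun G hG => ?_⟩
  exact facet_eq_of_corners_eq (hG.trans hc.symm)

/-- S14236 -/
theorem isParabolicSubset_iff_existsUnique :
    (∀ S : Set ι, IsParabolicSubset P S ↔ ∃! F : Facet P, F.parab = S) ∧
      ∀ F G : Facet P, F ≤ G ↔ F.parab ⊆ G.parab := by
  refine ⟨fun S => ⟨fun hS => ?_, ?_⟩, facet_le_iff_parab_subset⟩
  · obtain ⟨F, hF⟩ := exists_facet_parab_eq hS
    exact ⟨F, hF, fun G hG => parab_injective (hG.trans hF.symm)⟩
  · rintro ⟨F, rfl, -⟩
    exact isParabolicSubset_parab F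

end Parabolic

end Groth.Agent.Helper21.RC
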