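import Mathlib
import Groth.Prelude.Def_RootCh2
import Groth.Agent.Lib.Helper21.RootChE
import Groth.Agent.Lib.Helper21.Farkas

/-!
# RootCh library, part B1: adjacent chambers and complementary convex solids
-/

set_option linter.unusedSectionVars false
set_option linter.unusedSimpArgs false

namespace Groth.Agent.Helper21.RC

open RootCh RootPairing Module

variable {ι R M N : Type*} [Field R] [LinearOrder R] [IsStrictOrderedRing R]
  [AddCommGroup M] [Module R M] [AddCommGroup N] [Module R N]
  {P : RootPairing ι R M N} [P.IsRootSystem]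

/-- Non-degeneracy of the pairing on the right. -/
lemma eq_zero_of_forall_toLinearMap_eq_zero {x : N} (h : ∀ ξ : M, P.toLinearMap ξ x = 0) :
    x = 0 := by
  apply P.flip.toPerfPair.injective
  ext ξ
  simpa using h ξ

section Adjacent

variable [Finite ι] [P.IsCrystallographic] [P.IsReduced]

lemma fundWeight_mem_closedChamber_reflBase (b : P.Base) {i : ι} (hi : i ∈ b.support)
    (k : b.support) (hk : (k : ι) ≠ i) : fundWeight b k ∈ closedChamber (reflBase b i) := by
  intro j hj
  rw [mem_reflBase_support] at hj
  have h1 : P.reflection i (fundWeight b k) = fundWeight b k := by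
    rw [P.reflection_apply, coroot'_fundWeight_ne b k hi (Ne.symm hk), zero_smul, sub_zero]
  have h2 : P.coroot' j (fundWeight b k) =
      P.coroot' (P.reflectionPerm i j) (fundWeight b k) := by
    conv_lhs => rw [← h1]
    rw [P.coroot'_reflection]
  rw [h2]
  exact fundWeight_mem_closedChamber b k _ hj

lemma fundWeight_notMem_closedChamber_reflBase (b : P.Base) {i : ι} (hi : i ∈ b.support) :
    fundWeight b ⟨i, hi⟩ ∉ closedChamber (reflBase b i) := by
  intro h
  have hmem : P.reflectionPerm i i ∈ (reflBase b i).support := by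
    rw [mem_reflBase_support, P.reflectionPerm_self]; exact hi
  have := h _ hmem
  rw [coroot'_neg] at this
  have h1 := coroot'_fundWeight_same b ⟨i, hi⟩
  simp only at h1
  rw [h1] at this
  linarith

lemma baseCorners_inter_reflBase (b : P.Base) {i : ι} (hi : i ∈ b.support) :
    baseCorners b ∩ baseCorners (reflBase b i) =
      fundWeight b '' {k : b.support | (k : ι) ≠ i} := by
  ext w
  constructor
  · rintro ⟨hw, hw'⟩
    rw [baseCorners_eq_range] at hw
    obtain ⟨k, rfl⟩ := hw
    refine ⟨k, ?_, rfl⟩
    intro e
    have : k = ⟨i, hi⟩ := Subtype.ext e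
    rw [this] at hw'
    exact fundWeight_notMem_closedChamber_reflBase b hi hw'.2
  · rintro ⟨k, hk, rfl⟩
    exact ⟨⟨⟨b, k, rfl⟩, fundWeight_mem_closedChamber b k⟩, ⟨b, k, rfl⟩,
      fundWeight_mem_closedChamber_reflBase b hi k hk⟩

lemma ncard_baseCorners_inter_reflBase (b : P.Base) {i : ι} (hi : i ∈ b.support) :
    (baseCorners b ∩ baseCorners (reflBase b i)).ncard + 1 = b.support.card := by
  classical
  have hset : {k : b.support | (k : ι) ≠ i} =
      ((Finset.univ.erase (⟨i, hi⟩ : b.support) : Finset b.support) : Set b.support) := by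
    ext k
    simp [Subtype.ext_iff]
  rw [baseCorners_inter_reflBase b hi, Set.ncard_image_of_injective _ (fundWeight_injective b),
    hset, Set.ncard_coe_finset, Finset.card_erase_of_mem (Finset.mem_univ _), Finset.card_univ,
    Fintype.card_coe]
  have : 0 < b.support.card := Finset.card_pos.2 ⟨i, hi⟩
  omega

lemma isPos_and_not_reflBase_iff (b : P.Base) {i : ι} (hi : i ∈ b.support) (j : ι) :
    (b.IsPos j ∧ ¬ (reflBase b i).IsPos j) ↔ j = i := by
  rw [isPos_reflBase_iff]
  constructor
  · rintro ⟨hj, hn⟩
    by_contra hne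
    exact hn (hj.reflectionPerm hi hne)
  · rintro rfl
    exact ⟨Base.isPos_of_mem_support hi, not_isPos_neg b (Base.isPos_of_mem_support hi)⟩

variable {d : P.Base → N}

lemma adjacent_pairing (hd : IsCCS d) (b : P.Base) {i : ι} (hi : i ∈ b.support) :
    ∃ t : R, 0 ≤ t ∧ ∀ ξ : M, P.toLinearMap ξ (d (reflBase b i)) =
      P.toLinearMap ξ (d b) + t * P.coroot' i ξ := by
  classical
  have hwall := hd.wall_le b (reflBase b i) i (ncard_baseCorners_inter_reflBase b hi)
    (isPos_and_not_reflBase_iff b hi)
  have hcorner : ∀ k : b.support, (k : ι) ≠ i →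
      P.toLinearMap (fundWeight b k) (d b) = P.toLinearMap (fundWeight b k) (d (reflBase b i)) := by
    intro k hk
    refine hd.corner_eq b (reflBase b i) _ ⟨⟨b, k, rfl⟩, fundWeight_mem_closedChamber b k⟩
      ⟨⟨b, k, rfl⟩, fundWeight_mem_closedChamber_reflBase b hi k hk⟩
  set t := P.toLinearMap (fundWeight b ⟨i, hi⟩) (d (reflBase b i)) -
    P.toLinearMap (fundWeight b ⟨i, hi⟩) (d b) with ht
  have hmain : ∀ ξ : M, P.toLinearMap ξ (d (reflBase b i)) =
      P.toLinearMap ξ (d b) + t * P.coroot' i ξ := by
    intro ξ
    rw [toLinearMap_eq_sum b ξ (d (reflBase b i)), toLinearMap_eq_sum b ξ (d b)]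
    have : ∑ k : b.support, P.coroot' k ξ * P.toLinearMap (fundWeight b k) (d (reflBase b i)) =
        ∑ k : b.support, (P.coroot' k ξ * P.toLinearMap (fundWeight b k) (d b) +
          if k = ⟨i, hi⟩ then t * P.coroot' i ξ else 0) := by
      apply Finset.sum_congr rfl
      intro k _
      by_cases hk : k = ⟨i, hi⟩
      · subst hk
        rw [if_pos rfl, ht]
        ring
      · rw [if_neg hk, add_zero, hcorner k (fun e => hk (Subtype.ext e))]
    rw [this, Finset.sum_add_distrib, Finset.sum_ite_eq' Finset.univ (⟨i, hi⟩ : b.support),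
      if_pos (Finset.mem_univ _)]
  refine ⟨t, ?_, hmain⟩
  have h2 := hmain (P.root i)
  have h3 : P.coroot' i (P.root i) = 2 := by
    rw [P.root_coroot'_eq_pairing, P.pairing_same]
  rw [h3] at h2
  change P.toLinearMap (P.root i) (d b) ≤ P.toLinearMap (P.root i) (d (reflBase b i)) at hwall
  linarith

/-- (B1)+(B2) imply: the pairing of a corner `w` with `d` is minimal at the chambers having
`w` as a corner. -/
theorem corner_le (hd : IsCCS d) (b₀ b : P.Base) {w : M} (hw : w ∈ baseCorners b₀) :
    P.toLinearMap w (d b₀) ≤ P.toLinearMap w (d b) := by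
  classical
  have key : ∀ n : ℕ, ∀ b : P.Base, Set.ncard {j | b.IsPos j ∧ P.coroot' j w < 0} = n →
      P.toLinearMap w (d b₀) ≤ P.toLinearMap w (d b) := by
    intro n
    induction n using Nat.strong_induction_on with
    | _ n ih =>
      intro b hn
      by_cases hall : ∀ i ∈ b.support, 0 ≤ P.coroot' i w
      · have hwb : w ∈ baseCorners b := ⟨hw.1, hall⟩
        exact (hd.corner_eq b₀ b w hw hwb).le
      · push Not at hall
        obtain ⟨i, hi, hneg⟩ := hall
        obtain ⟨t, ht, hpair⟩ := adjacent_pairing hd b hi
        have h1 : P.toLinearMap w (d (reflBase b i)) ≤ P.toLinearMap w (d b) := by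
          rw [hpair w]
          have : t * P.coroot' i w ≤ 0 := mul_nonpos_of_nonneg_of_nonpos ht hneg.le
          linarith
        have hlt : Set.ncard {j | (reflBase b i).IsPos j ∧ P.coroot' j w < 0} < n := by
          rw [← hn]
          apply Set.ncard_lt_ncard _ (Set.toFinite _)
          have hsub : {j | (reflBase b i).IsPos j ∧ P.coroot' j w < 0} ⊆
              {j | b.IsPos j ∧ P.coroot' j w < 0} := by
            rintro j ⟨hj, hjneg⟩
            rw [isPos_reflBase_iff] at hj
            refine ⟨?_, hjneg⟩
            have hne : P.reflectionPerm i j ≠ i := by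
              intro e
              have hje : j = P.reflectionPerm i i := by
                have h' := P.reflectionPerm_self i j
                rw [e] at h'
                exact h'.symm
              rw [hje, coroot'_neg] at hjneg
              linarith
            have := hj.reflectionPerm hi hne
            rwa [P.reflectionPerm_self] at this
          refine (Set.ssubset_iff_of_subset hsub).2
            ⟨i, ⟨Base.isPos_of_mem_support hi, hneg⟩, ?_⟩
          rintro ⟨h, -⟩
          rw [isPos_reflBase_iff] at h
          exact not_isPos_neg b (Base.isPos_of_mem_support hi) h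
        exact (ih _ hlt (reflBase b i) rfl).trans h1
  exact key _ b rfl

end Adjacent

end Groth.Agent.Helper21.RC
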