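import Mathlib
import Groth.Prelude.Def_RootCh2
import Groth.Agent.Lib.Helper21.RootChF

/-!
# RootCh library, part B2: the dual solid as an intersection of half-spaces, semi-stability
-/

set_option linter.unusedSectionVars false
set_option linter.unusedSimpArgs false

namespace Groth.Agent.Helper21.RC

open RootCh RootPairing Module

variable {ι R M N : Type*} [Field R] [LinearOrder R] [IsStrictOrderedRing R]
  [AddCommGroup M] [Module R M] [AddCommGroup N] [Module R N]
  {P : RootPairing ι R M N} [P.IsRootSystem]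

lemma convex_hyper (d : P.Base → N) (w : M) : Convex R (hyper d w) := by
  intro x hx y hy a c ha hc hac
  simp only [hyper, Set.mem_ofPred_eq] at hx hy ⊢
  intro b hb
  rw [map_add, map_smul, map_smul, hx b hb, hy b hb, smul_eq_mul, smul_eq_mul, ← add_mul, hac,
    one_mul]

lemma convex_halfClosed (d : P.Base → N) (w : M) : Convex R (halfClosed d w) := by
  intro x hx y hy a c ha hc hac
  simp only [halfClosed, Set.mem_ofPred_eq] at hx hy ⊢
  intro b hb
  rw [map_add, map_smul, map_smul, smul_eq_mul, smul_eq_mul]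
  calc P.toLinearMap w (d b) = a * P.toLinearMap w (d b) + c * P.toLinearMap w (d b) := by
        rw [← add_mul, hac, one_mul]
    _ ≤ a * P.toLinearMap w x + c * P.toLinearMap w y :=
        add_le_add (mul_le_mul_of_nonneg_left (hx b hb) ha)
          (mul_le_mul_of_nonneg_left (hy b hb) hc)

section Solid

variable [Finite ι] [P.IsCrystallographic] [P.IsReduced] {d : P.Base → N}

lemma dualSolid_subset (hd : IsCCS d) (F : Facet P) :
    dualSolid d F ⊆ (⋂ m ∈ F.corners, hyper d m) ∩ ⋂ m ∈ F.corners', halfClosed d m := by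
  apply convexHull_min
  · rintro _ ⟨b, hb, rfl⟩
    refine ⟨?_, ?_⟩
    · simp only [Set.mem_iInter]
      intro m hm b' hb'
      exact hd.corner_eq b b' m (Facet.corners_subset_baseCorners F hb hm) hb'
    · simp only [Set.mem_iInter]
      intro m _ b' hb'
      exact corner_le hd b' b hb'
  · apply Convex.inter
    · exact convex_iInter₂ (fun m _ => convex_hyper d m)
    · exact convex_iInter₂ (fun m _ => convex_halfClosed d m)

/-- S14238 -/
theorem dualSolid_eq (hd : IsCCS d) (F : Facet P) :
    dualSolid d F = (⋂ m ∈ F.corners, hyper d m) ∩ ⋂ m ∈ F.corners', halfClosed d m := by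
  apply Set.Subset.antisymm (dualSolid_subset hd F)
  intro x hx
  by_contra hnot
  rw [dualSolid, Set.image_eq_range] at hnot
  obtain ⟨ξ, hξ⟩ := Farkas.exists_separating (κ := F.cham) P.toLinearMap
    (fun x h => eq_zero_of_forall_toLinearMap_eq_zero h) (fun b : F.cham => d b) x hnot
  obtain ⟨ξF, hξF⟩ := F.exists_sgnVec_eq
  obtain ⟨b₀, hb₀, hb₀'⟩ := exists_base_closedChamber (P := P) ξF ξ
  have hb₀c : b₀ ∈ F.cham := Facet.cham_nonempty_of_mem F hξF hb₀
  have hlt := hξ ⟨b₀, hb₀c⟩
  simp only at hlt
  rw [toLinearMap_eq_sum b₀ ξ x, toLinearMap_eq_sum b₀ ξ (d b₀)] at hlt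
  have hx1 := hx.1
  have hx2 := hx.2
  simp only [Set.mem_iInter] at hx1 hx2
  have hle : ∑ k : b₀.support, P.coroot' k ξ * P.toLinearMap (fundWeight b₀ k) (d b₀) ≤
      ∑ k : b₀.support, P.coroot' k ξ * P.toLinearMap (fundWeight b₀ k) x := by
    apply Finset.sum_le_sum
    intro k _
    have hkb : fundWeight b₀ k ∈ baseCorners b₀ :=
      ⟨⟨b₀, k, rfl⟩, fundWeight_mem_closedChamber b₀ k⟩
    by_cases hk : F.sgn k = 1
    · have hm : fundWeight b₀ k ∈ F.corners := by
        rw [Facet.corners_eq_of_mem_cham F hb₀c]; exact ⟨k, hk, rfl⟩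
      rw [hx1 _ hm b₀ hkb]
    · have hk0 : P.coroot' k ξF = 0 :=
        Facet.coroot'_eq_zero_of_mem_carrier F hb₀c hξF k.2 hk
      have ha : 0 ≤ P.coroot' k ξ := hb₀' k k.2 hk0
      have hm : fundWeight b₀ k ∈ F.corners' := by
        simp only [Facet.corners', Set.mem_iUnion]
        exact ⟨b₀, hb₀c, hkb⟩
      exact mul_le_mul_of_nonneg_left (hx2 _ hm b₀ hkb) ha
  exact absurd hlt (not_lt.mpr hle)

lemma origin_sgn (i : ι) : (Facet.origin P).sgn i = 0 := by
  change SignType.sign (P.coroot' i 0) = 0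
  rw [map_zero, sign_zero]

lemma mem_cham_origin (b : P.Base) : b ∈ (Facet.origin P).cham := by
  rw [Facet.mem_cham_iff]
  intro i _
  rw [origin_sgn]; decide

lemma corners_origin : (Facet.origin P).corners = ∅ := by
  ext m
  simp only [Set.mem_empty_iff_false, iff_false]
  rintro ⟨⟨b, k, rfl⟩, hcl⟩
  have h := hcl k
  rw [origin_sgn, or_self] at h
  change SignType.sign (P.coroot' k (fundWeight b k)) = 0 at h
  rw [coroot'_fundWeight_same, sign_one] at h
  exact absurd h (by decide)

lemma solid_eq_dualSolid_origin (d : P.Base → N) : solid d = dualSolid d (Facet.origin P) := by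
  have : (Facet.origin P).cham = Set.univ := Set.eq_univ_of_forall mem_cham_origin
  rw [solid, dualSolid, this, Set.image_univ]

lemma dualSolid_subset_solid (d : P.Base → N) (F : Facet P) : dualSolid d F ⊆ solid d :=
  convexHull_mono (Set.image_subset_range _ _)

lemma solid_subset_halfClosed (hd : IsCCS d) {b : P.Base} {m : M} (hm : m ∈ baseCorners b) :
    solid d ⊆ halfClosed d m := by
  rw [solid_eq_dualSolid_origin]
  intro x hx
  have h2 := (dualSolid_subset hd (Facet.origin P) hx).2
  simp only [Set.mem_iInter] at h2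
  apply h2 m
  simp only [Facet.corners', Set.mem_iUnion]
  exact ⟨b, mem_cham_origin b, hm⟩

/-- S14241 -/
theorem corner_pairing_nonpos_iff (hd : IsCCS d) :
    (∀ b : P.Base, ∀ m ∈ baseCorners b, P.toLinearMap m (d b) ≤ 0) ↔ IsSemistable d := by
  rw [IsSemistable, solid_eq_dualSolid_origin, dualSolid_eq hd]
  constructor
  · intro H
    refine ⟨?_, ?_⟩
    · simp only [Set.mem_iInter]
      intro m hm
      rw [corners_origin] at hm
      exact absurd hm (Set.notMem_empty m)
    · simp only [Set.mem_iInter]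
      intro m _ b hb
      rw [map_zero]
      exact H b m hb
  · rintro ⟨-, h2⟩ b m hm
    simp only [Set.mem_iInter] at h2
    have hm' : m ∈ (Facet.origin P).corners' := by
      simp only [Facet.corners', Set.mem_iUnion]
      exact ⟨b, mem_cham_origin b, hm⟩
    have := h2 m hm' b hm
    rwa [map_zero] at this

/-! ### degrees -/

lemma deg_eq (d : P.Base → N) (F : Facet P) (b : P.Base) :
    F.deg d b = P.toLinearMap (∑ i ∈ (Set.toFinite F.parab).toFinset, P.root i) (d b) := by
  rw [Facet.deg, map_sum, LinearMap.sum_apply]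

lemma deg_eq_sum (d : P.Base → N) (F : Facet P) (b : P.Base) :
    F.deg d b = ∑ k : b.support,
      P.coroot' k (∑ i ∈ (Set.toFinite F.parab).toFinset, P.root i) *
        P.toLinearMap (fundWeight b k) (d b) := by
  rw [deg_eq, toLinearMap_eq_sum b]

lemma pairing_eq_of_mem_span_corners (hd : IsCCS d) (F : Facet P) {b b' : P.Base}
    (hb : b ∈ F.cham) (hb' : b' ∈ F.cham) {ξ : M} (hξ : ξ ∈ Submodule.span R F.corners) :
    P.toLinearMap ξ (d b) = P.toLinearMap ξ (d b') := by
  induction hξ using Submodule.span_induction with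
  | mem m hm =>
    exact hd.corner_eq b b' m (Facet.corners_subset_baseCorners F hb hm)
      (Facet.corners_subset_baseCorners F hb' hm)
  | zero => simp
  | add x y _ _ hx hy => rw [map_add, LinearMap.add_apply, LinearMap.add_apply, hx, hy]
  | smul a x _ hx => rw [map_smul, LinearMap.smul_apply, LinearMap.smul_apply, hx]

lemma sum_root_parab_mem_span_corners (F : Facet P) :
    (∑ i ∈ (Set.toFinite F.parab).toFinset, P.root i) ∈ Submodule.span R F.corners := by
  rw [← span_carrier_eq_span_corners]
  exact Submodule.subset_span (sum_root_parab_mem_carrier F)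

/-- S14249 -/
theorem deg_eq_deg_of_mem_cham (hd : IsCCS d) (F : Facet P) (b b' : P.Base) (hb : b ∈ F.cham)
    (hb' : b' ∈ F.cham) : F.deg d b = F.deg d b' := by
  rw [deg_eq, deg_eq]
  exact pairing_eq_of_mem_span_corners hd F hb hb' (sum_root_parab_mem_span_corners F)

lemma deg_nonpos_of_corner_nonpos
    (H : ∀ b : P.Base, ∀ m ∈ baseCorners b, P.toLinearMap m (d b) ≤ 0) (F : Facet P)
    (b : P.Base) (hb : b ∈ F.cham) : F.deg d b ≤ 0 := by
  rw [deg_eq_sum]
  apply Finset.sum_nonpos
  intro k _
  have h1 := (Facet.mem_carrier_iff_of_mem_cham F hb _).1 (sum_root_parab_mem_carrier F)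
  exact mul_nonpos_of_nonneg_of_nonpos (h1.1 k k.2)
    (H b _ ⟨⟨b, k, rfl⟩, fundWeight_mem_closedChamber b k⟩)

lemma dim_face_singleton (b : P.Base) (k : b.support) : (face b {k}).dim = 1 := by
  rw [Facet.dim, span_carrier_eq_span_corners, corners_face, Finset.coe_singleton,
    Set.image_singleton]
  exact finrank_span_singleton (fundWeight_ne_zero b k)

lemma corner_nonpos_of_deg_nonpos
    (H : ∀ (F : Facet P) (b : P.Base), F.dim = 1 → b ∈ F.cham → F.deg d b ≤ 0) :
    ∀ b : P.Base, ∀ m ∈ baseCorners b, P.toLinearMap m (d b) ≤ 0 := by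
  classical
  intro b m hm
  rw [baseCorners_eq_range] at hm
  obtain ⟨k, rfl⟩ := hm
  set F := face b {k} with hF
  have hb : b ∈ F.cham := mem_cham_face b {k}
  have hdeg := H F b (dim_face_singleton b k) hb
  rw [deg_eq_sum] at hdeg
  have hcar := (Facet.mem_carrier_iff_of_mem_cham F hb _).1 (sum_root_parab_mem_carrier F)
  rw [Finset.sum_eq_single k] at hdeg
  · have hpos : 0 < P.coroot' k (∑ i ∈ (Set.toFinite F.parab).toFinset, P.root i) :=
      (hcar.2 k k.2).2 ((face_sgn_eq_one_iff b {k} k).2 (Finset.mem_singleton_self k))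
    by_contra hcon
    have := mul_pos hpos (not_le.mp hcon)
    linarith
  · intro j _ hjk
    have hj : F.sgn j ≠ 1 := fun h =>
      hjk (Finset.mem_singleton.1 ((face_sgn_eq_one_iff b {k} j).1 h))
    rw [Facet.coroot'_eq_zero_of_mem_carrier F hb (sum_root_parab_mem_carrier F) j.2 hj, zero_mul]
  · intro h
    exact absurd (Finset.mem_univ k) h

/-- S14239 -/
theorem forall_deg_nonpos_iff (hd : IsCCS d) :
    (∀ (F : Facet P) (b : P.Base), b ∈ F.cham → F.deg d b ≤ 0) ↔ IsSemistable d := by
  rw [← corner_pairing_nonpos_iff hd]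
  constructor
  · intro H
    exact corner_nonpos_of_deg_nonpos (fun F b _ hb => H F b hb)
  · intro H F b hb
    exact deg_nonpos_of_corner_nonpos H F b hb

/-- S14240 -/
theorem forall_deg_nonpos_of_dim_one_iff (hd : IsCCS d) :
    (∀ (F : Facet P) (b : P.Base), F.dim = 1 → b ∈ F.cham → F.deg d b ≤ 0) ↔
      IsSemistable d := by
  rw [← corner_pairing_nonpos_iff hd]
  constructor
  · intro H
    exact corner_nonpos_of_deg_nonpos H
  · intro H F b _ hb
    exact deg_nonpos_of_corner_nonpos H F b hb

end Solid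

end Groth.Agent.Helper21.RC
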