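import Mathlib
import Groth.Prelude.Def_RootCh2
import Groth.Agent.Lib.Helper21.RootChG

/-!
# RootCh library, part B3: corresponding coweights, elementary sets of roots, numerical invariants,
the point `y(F)`, special facets
-/

set_option linter.unusedSectionVars false
set_option linter.unusedSimpArgs false

namespace Groth.Agent.Helper21.RC

open RootCh RootPairing Module

variable {ι R M N : Type*} [Field R] [LinearOrder R] [IsStrictOrderedRing R]
  [AddCommGroup M] [Module R M] [AddCommGroup N] [Module R N]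
  {P : RootPairing ι R M N} [P.IsRootSystem] [Finite ι] [P.IsCrystallographic] [P.IsReduced]

/-! ### the correspondence between fundamental weights and coweights is a function -/

lemma fundCoweight_eq_of_fundWeight_eq (b b' : P.Base) (i : b.support) (i' : b'.support)
    (h : fundWeight b i = fundWeight b' i') : fundCoweight b i = fundCoweight b' i' := by
  have hmem : fundWeight (P := P.flip) b'.flip i' ∈ closedChamber (P := P.flip) b.flip := by
    intro j hj
    change 0 ≤ P.root' j (fundCoweight b' i')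
    rw [← sign_nonneg_iff, sign_root'_fundCoweight, ← h, sign_nonneg_iff]
    exact fundWeight_mem_closedChamber b i j hj
  obtain ⟨k, hk⟩ := exists_fundWeight_eq_of_mem_closedChamber (P := P.flip) b.flip b'.flip i' hmem
  change fundCoweight b k = fundCoweight b' i' at hk
  have hki : k = i := by
    by_contra hne
    have h1 : SignType.sign (P.root' k (fundCoweight b' i')) = 1 := by
      rw [← hk, root'_fundCoweight_self, sign_one]
    rw [sign_root'_fundCoweight, ← h,
      coroot'_fundWeight_ne b i k.2 (fun e => hne (Subtype.ext e)), sign_zero] at h1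
    exact absurd h1 (by decide)
  rw [← hki]
  exact hk

lemma corr_unique {m : M} {y y' : N} (h : Corr P m y) (h' : Corr P m y') : y = y' := by
  obtain ⟨b, i, rfl, rfl⟩ := h
  obtain ⟨b', i', h1, rfl⟩ := h'
  exact fundCoweight_eq_of_fundWeight_eq b b' i i' h1.symm

lemma corr_fundWeight (b : P.Base) (i : b.support) :
    Corr P (fundWeight b i) (fundCoweight b i) := ⟨b, i, rfl, rfl⟩

/-! ### elementary sets of roots -/

lemma mem_Psi_iff (F : Facet P) {b : P.Base} (hb : b ∈ F.cham) (i₀ : b.support) (j : ι) :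
    j ∈ F.Psi (fundWeight b i₀) ↔ P.root' j (fundCoweight b i₀) = 1 ∧
      ∀ i : b.support, F.sgn i = 1 → i ≠ i₀ → P.root' j (fundCoweight b i) = 0 := by
  constructor
  · rintro ⟨h1, h2⟩
    refine ⟨h1 _ (corr_fundWeight b i₀), fun i hi hne => ?_⟩
    refine h2 (fundWeight b i) ?_ (fun e => hne (fundWeight_injective b e)) _
      (corr_fundWeight b i)
    rw [Facet.corners_eq_of_mem_cham F hb]
    exact ⟨i, hi, rfl⟩
  · rintro ⟨h1, h2⟩
    refine ⟨fun x hx => ?_, fun w' hw' hne x hx => ?_⟩
    · rw [corr_unique hx (corr_fundWeight b i₀)]; exact h1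
    · rw [Facet.corners_eq_of_mem_cham F hb] at hw'
      obtain ⟨i, hi, rfl⟩ := hw'
      rw [corr_unique hx (corr_fundWeight b i)]
      exact h2 i hi (fun e => hne (by rw [e]))

lemma mem_span_corners_iff (F : Facet P) {b : P.Base} (hb : b ∈ F.cham) (ξ : M) :
    ξ ∈ Submodule.span R F.corners ↔ ∀ k ∈ b.support, F.sgn k ≠ 1 → P.coroot' k ξ = 0 := by
  constructor
  · intro hξ k hk hk1
    induction hξ using Submodule.span_induction with
    | mem m hm =>
      rw [Facet.corners_eq_of_mem_cham F hb] at hm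
      obtain ⟨i, hi, rfl⟩ := hm
      apply coroot'_fundWeight_ne b i hk
      rintro rfl
      exact hk1 hi
    | zero => simp
    | add x y _ _ hx hy => rw [map_add, hx, hy, add_zero]
    | smul a x _ hx => rw [map_smul, hx, smul_zero]
  · intro H
    rw [← sum_coroot'_smul_fundWeight b ξ]
    apply Submodule.sum_mem
    intro k _
    by_cases hk : F.sgn k = 1
    · apply Submodule.smul_mem
      apply Submodule.subset_span
      rw [Facet.corners_eq_of_mem_cham F hb]
      exact ⟨k, hk, rfl⟩
    · rw [H k k.2 hk, zero_smul]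
      exact Submodule.zero_mem _

/-- S14242 -/
theorem sum_root_psi_mem_span_corners (F : Facet P) (m : M) (hm : m ∈ F.corners) :
    (∑ i ∈ (Set.toFinite (F.Psi m)).toFinset, P.root i) ∈ Submodule.span R F.corners := by
  classical
  obtain ⟨b, hb⟩ := Facet.cham_nonempty F
  have hm' := hm
  rw [Facet.corners_eq_of_mem_cham F hb] at hm'
  obtain ⟨i₀, hi₀, rfl⟩ := hm'
  rw [mem_span_corners_iff F hb]
  intro k hk hk1
  set S := (Set.toFinite (F.Psi (fundWeight b i₀))).toFinset with hS
  have hmemS : ∀ j, j ∈ S ↔ j ∈ F.Psi (fundWeight b i₀) := fun j => by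
    rw [hS, Set.Finite.mem_toFinset]
  have hpres : ∀ j, j ∈ S ↔ P.reflectionPerm k j ∈ S := by
    intro j
    rw [hmemS, hmemS, mem_Psi_iff F hb, mem_Psi_iff F hb]
    have hzero : ∀ i : b.support, F.sgn i = 1 → P.root' k (fundCoweight b i) = 0 := by
      intro i hi
      exact root'_fundCoweight_of_ne b i ⟨k, hk⟩ (fun e => hk1 (by rw [← e] at hi; exact hi))
    rw [root'_reflectionPerm_apply, hzero i₀ hi₀, mul_zero, sub_zero]
    constructor
    · rintro ⟨h1, h2⟩
      refine ⟨h1, fun i hi hne => ?_⟩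
      rw [root'_reflectionPerm_apply, hzero i hi, mul_zero, sub_zero]
      exact h2 i hi hne
    · rintro ⟨h1, h2⟩
      refine ⟨h1, fun i hi hne => ?_⟩
      have := h2 i hi hne
      rwa [root'_reflectionPerm_apply, hzero i hi, mul_zero, sub_zero] at this
  have hT : P.coroot' k (∑ i ∈ S, P.root i) = ∑ i ∈ S, P.pairing i k := by
    rw [map_sum]; rfl
  rw [hT]
  have e : ∑ i ∈ S, P.pairing i k = ∑ i ∈ S, -P.pairing i k := by
    apply Finset.sum_equiv (P.reflectionPerm k)
    · exact hpres
    · intro i _; rw [pairing_reflectionPerm_left, neg_neg]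
  rw [Finset.sum_neg_distrib] at e
  linarith

variable {d : P.Base → N}

lemma numInv_eq (d : P.Base → N) (F : Facet P) (m : M) (b : P.Base) :
    F.numInv d m b =
      P.toLinearMap (∑ i ∈ (Set.toFinite (F.Psi m)).toFinset, P.root i) (d b) := by
  rw [Facet.numInv, map_sum, LinearMap.sum_apply]

/-- S14250 -/
theorem numInv_eq_numInv_of_mem_cham (hd : IsCCS d) (F : Facet P) (m : M) (hm : m ∈ F.corners)
    (b b' : P.Base) (hb : b ∈ F.cham) (hb' : b' ∈ F.cham) :
    F.numInv d m b = F.numInv d m b' := by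
  rw [numInv_eq, numInv_eq]
  exact pairing_eq_of_mem_span_corners hd F hb hb' (sum_root_psi_mem_span_corners F m hm)

/-! ### the dual facet in coordinates -/

lemma mem_dualCarrier_iff (F : Facet P) {b : P.Base} (hb : b ∈ F.cham) (x : N) :
    x ∈ F.dualCarrier ↔ (∀ i ∈ b.support, 0 ≤ P.root' i x) ∧
      ∀ i ∈ b.support, (0 < P.root' i x ↔ F.sgn i = 1) :=
  Facet.mem_carrier_iff_of_mem_cham (Facet.dual F) (Facet.mem_cham_dual F hb) x

lemma root'_eq_zero_of_mem_span_dualCarrier (F : Facet P) {b : P.Base} (hb : b ∈ F.cham)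
    {x : N} (hx : x ∈ Submodule.span R F.dualCarrier) {k : ι} (hk : k ∈ b.support)
    (hk1 : F.sgn k ≠ 1) : P.root' k x = 0 := by
  induction hx using Submodule.span_induction with
  | mem x hx =>
    have h := (mem_dualCarrier_iff F hb x).1 hx
    have h2 : ¬ 0 < P.root' k x := fun hp => hk1 ((h.2 k hk).1 hp)
    exact le_antisymm (not_lt.mp h2) (h.1 k hk)
  | zero => simp
  | add x y _ _ hx hy => rw [map_add, hx, hy, add_zero]
  | smul a x _ hx => rw [map_smul, hx, smul_zero]

lemma sum_root'_smul_fundCoweight (b : P.Base) (x : N) :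
    ∑ i : b.support, P.root' i x • fundCoweight b i = x :=
  sum_coroot'_smul_fundWeight (P := P.flip) b.flip x

lemma toLinearMap_eq_sum' (b : P.Base) (ξ : M) (x : N) :
    P.toLinearMap ξ x = ∑ i : b.support, P.root' i x * P.toLinearMap ξ (fundCoweight b i) :=
  toLinearMap_eq_sum (P := P.flip) b.flip x ξ

/-- Two points of the intersection of the hyperplanes of the corners of `F` pair equally with
the span of the corners. -/
lemma pairing_eq_of_mem_hyper (F : Facet P) {x x' : N}
    (hx : x ∈ ⋂ m ∈ F.corners, hyper d m) (hx' : x' ∈ ⋂ m ∈ F.corners, hyper d m)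
    {ξ : M} (hξ : ξ ∈ Submodule.span R F.corners) :
    P.toLinearMap ξ x = P.toLinearMap ξ x' := by
  obtain ⟨b, hb⟩ := Facet.cham_nonempty F
  simp only [Set.mem_iInter] at hx hx'
  induction hξ using Submodule.span_induction with
  | mem m hm =>
    have hmb := Facet.corners_subset_baseCorners F hb hm
    rw [hx m hm b hmb, hx' m hm b hmb]
  | zero => simp
  | add x y _ _ hx hy => rw [map_add, LinearMap.add_apply, LinearMap.add_apply, hx, hy]
  | smul a x _ hx => rw [map_smul, LinearMap.smul_apply, LinearMap.smul_apply, hx]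

lemma mem_hyper_of_mem_cham (hd : IsCCS d) (F : Facet P) {b : P.Base} (hb : b ∈ F.cham) :
    d b ∈ ⋂ m ∈ F.corners, hyper d m :=
  (dualSolid_subset hd F (subset_convexHull R _ ⟨b, hb, rfl⟩)).1

lemma numInv_eq_card_mul (hd : IsCCS d) (F : Facet P) {b : P.Base} (hb : b ∈ F.cham)
    (i₀ : b.support) (hi₀ : F.sgn i₀ = 1) {y : N} (hy1 : y ∈ ⋂ m ∈ F.corners, hyper d m)
    (hy2 : y ∈ Submodule.span R F.dualCarrier) :
    F.numInv d (fundWeight b i₀) b =
      ((Set.toFinite (F.Psi (fundWeight b i₀))).toFinset.card : R) * P.root' i₀ y := by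
  classical
  have hm : fundWeight b i₀ ∈ F.corners := by
    rw [Facet.corners_eq_of_mem_cham F hb]; exact ⟨i₀, hi₀, rfl⟩
  rw [numInv_eq, pairing_eq_of_mem_hyper F (mem_hyper_of_mem_cham hd F hb) hy1
    (sum_root_psi_mem_span_corners F _ hm), map_sum, LinearMap.sum_apply]
  rw [← nsmul_eq_mul, ← Finset.sum_const]
  apply Finset.sum_congr rfl
  intro j hj
  rw [Set.Finite.mem_toFinset, mem_Psi_iff F hb] at hj
  change P.toLinearMap (P.root j) y = _
  rw [toLinearMap_eq_sum' b (P.root j) y, Finset.sum_eq_single i₀]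
  · change P.root' i₀ y * P.root' j (fundCoweight b i₀) = _
    rw [hj.1, mul_one]
  · intro k _ hk
    by_cases hk1 : F.sgn k = 1
    · change P.root' k y * P.root' j (fundCoweight b k) = 0
      rw [hj.2 k hk1 hk, mul_zero]
    · rw [root'_eq_zero_of_mem_span_dualCarrier F hb hy2 k.2 hk1, zero_mul]
  · intro h
    exact absurd (Finset.mem_univ i₀) h

lemma card_Psi_pos (F : Facet P) {b : P.Base} (hb : b ∈ F.cham) (i₀ : b.support) :
    0 < ((Set.toFinite (F.Psi (fundWeight b i₀))).toFinset.card : R) := by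
  rw [Nat.cast_pos, Finset.card_pos]
  refine ⟨i₀, ?_⟩
  rw [Set.Finite.mem_toFinset, mem_Psi_iff F hb]
  refine ⟨root'_fundCoweight_self b i₀, fun i _ hne => ?_⟩
  exact root'_fundCoweight_of_ne b i i₀ (Ne.symm hne)

/-- S14243 -/
theorem numInv_pos_and_meets_iff_isSpecial (hd : IsCCS d) (F : Facet P) :
    ((∀ m ∈ F.corners, ∀ b ∈ F.cham, 0 < F.numInv d m b) ∧
        (dualSolid d F ∩ (Submodule.span R F.dualCarrier : Set N)).Nonempty) ↔
      IsSpecial d F := by
  constructor
  · rintro ⟨hS1, y, hy1, hy2⟩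
    refine ⟨y, ?_, hy1⟩
    obtain ⟨b, hb⟩ := Facet.cham_nonempty F
    have hyh := (dualSolid_subset hd F hy1).1
    have hpos : ∀ i : b.support, F.sgn i = 1 → 0 < P.root' i y := by
      intro i hi
      have hm : fundWeight b i ∈ F.corners := by
        rw [Facet.corners_eq_of_mem_cham F hb]; exact ⟨i, hi, rfl⟩
      have h1 := hS1 _ hm b hb
      rw [numInv_eq_card_mul hd F hb i hi hyh hy2] at h1
      exact (mul_pos_iff_of_pos_left (card_Psi_pos F hb i)).1 h1
    rw [mem_dualCarrier_iff F hb]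
    refine ⟨fun i hi => ?_, fun i hi => ⟨fun hp => ?_, fun h1 => hpos ⟨i, hi⟩ h1⟩⟩
    · by_cases h1 : F.sgn i = 1
      · exact (hpos ⟨i, hi⟩ h1).le
      · rw [root'_eq_zero_of_mem_span_dualCarrier F hb hy2 hi h1]
    · by_contra h1
      rw [root'_eq_zero_of_mem_span_dualCarrier F hb hy2 hi h1] at hp
      exact lt_irrefl _ hp
  · rintro ⟨y, hy1, hy2⟩
    refine ⟨fun m hm b hb => ?_, ⟨y, hy2, Submodule.subset_span hy1⟩⟩
    have hm' := hm
    rw [Facet.corners_eq_of_mem_cham F hb] at hm'
    obtain ⟨i₀, hi₀, rfl⟩ := hm'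
    rw [numInv_eq_card_mul hd F hb i₀ hi₀ (dualSolid_subset hd F hy2).1
      (Submodule.subset_span hy1)]
    exact mul_pos (card_Psi_pos F hb i₀) (((mem_dualCarrier_iff F hb y).1 hy1).2 i₀ i₀.2 |>.2 hi₀)

/-! ### uniqueness of the point `y(F)` -/

lemma eq_of_mem_hyper_of_mem_span (F : Facet P) {y y' : N}
    (hy1 : y ∈ ⋂ m ∈ F.corners, hyper d m) (hy2 : y ∈ Submodule.span R F.dualCarrier)
    (hy1' : y' ∈ ⋂ m ∈ F.corners, hyper d m) (hy2' : y' ∈ Submodule.span R F.dualCarrier) :
    y = y' := by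
  classical
  have := Fintype.ofFinite ι
  obtain ⟨b, hb⟩ := Facet.cham_nonempty F
  rw [← sub_eq_zero]
  set z := y - y' with hz
  have hzspan : z ∈ Submodule.span R F.dualCarrier := Submodule.sub_mem _ hy2 hy2'
  have hzpair : ∀ ξ ∈ Submodule.span R F.corners, P.toLinearMap ξ z = 0 := by
    intro ξ hξ
    rw [hz, map_sub, pairing_eq_of_mem_hyper F hy1 hy1' hξ, sub_self]
  set n : b.support → R := fun k => P.RootForm (P.root k) (P.root k) with hn
  have hnpos : ∀ k, 0 < n k := fun k => rootForm_root_self_pos (P := P) k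
  set η : M := ∑ k : b.support, (P.root' k z / n k) • fundWeight b k with hη
  have hηspan : η ∈ Submodule.span R F.corners := by
    rw [mem_span_corners_iff F hb]
    intro k hk hk1
    rw [hη, map_sum]
    apply Finset.sum_eq_zero
    intro i _
    rw [map_smul, smul_eq_mul]
    by_cases hik : k = i
    · subst hik
      rw [root'_eq_zero_of_mem_span_dualCarrier F hb hzspan hk hk1, zero_div, zero_mul]
    · rw [coroot'_fundWeight_ne b i hk hik, mul_zero]
  have hpol : (2 : R) • P.Polarization η = z := by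
    rw [hη, map_sum, Finset.smul_sum]
    conv_rhs => rw [← sum_root'_smul_fundCoweight b z]
    apply Finset.sum_congr rfl
    intro k _
    rw [map_smul, smul_comm, ← nrm_smul_fundCoweight b k, smul_smul]
    congr 1
    exact div_mul_cancel₀ _ (hnpos k).ne'
  have hform : 2 * P.RootForm η η = 0 := by
    rw [← P.toLinearMap_apply_apply_Polarization η η, ← smul_eq_mul, ← map_smul, hpol]
    exact hzpair η hηspan
  have hη0 : η = 0 := by
    by_contra hne
    have hpos := P.rootForm_pos_of_ne_zero (x := η) (by simp [rootSpan]) hne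
    linarith
  rw [← hpol, hη0, map_zero, smul_zero]

lemma yLocus_subsingleton (F : Facet P) {y y' : N} (hy : y ∈ yLocus d F) (hy' : y' ∈ yLocus d F) :
    y = y' :=
  eq_of_mem_hyper_of_mem_span F hy.1 hy.2 hy'.1 hy'.2

lemma mem_yLocus_of_mem (hd : IsCCS d) (F : Facet P) {y : N}
    (hy : y ∈ F.dualCarrier ∩ dualSolid d F) : y ∈ yLocus d F :=
  ⟨(dualSolid_subset hd F hy.2).1, Submodule.subset_span hy.1⟩

/-- S14251 -/
theorem exists_yLocus_eq_and_inter_eq (hd : IsCCS d) (F : Facet P) (hF : IsSpecial d F) :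
    ∃ y₀ : N, yLocus d F = {y₀} ∧ F.dualCarrier ∩ dualSolid d F = {y₀} := by
  obtain ⟨y₀, hy₀⟩ := hF
  have h0 := mem_yLocus_of_mem hd F hy₀
  refine ⟨y₀, ?_, ?_⟩
  · ext y
    simp only [Set.mem_singleton_iff]
    exact ⟨fun hy => yLocus_subsingleton F hy h0, fun hy => hy ▸ h0⟩
  · ext y
    simp only [Set.mem_singleton_iff]
    exact ⟨fun hy => yLocus_subsingleton F (mem_yLocus_of_mem hd F hy) h0, fun hy => hy ▸ hy₀⟩

end Groth.Agent.Helper21.RC
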