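import Mathlib
import Groth.Prelude.Def_RootCh2
import Groth.Agent.Lib.Helper21.RootChH

/-!
# RootCh library, part B4: the special facet has maximal degree; the point closest to the origin
-/

set_option linter.unusedSectionVars false
set_option linter.unusedSimpArgs false

namespace Groth.Agent.Helper21.RC

open RootCh RootPairing Module

variable {ι R M N : Type*} [Field R] [LinearOrder R] [IsStrictOrderedRing R]
  [AddCommGroup M] [Module R M] [AddCommGroup N] [Module R N]
  {P : RootPairing ι R M N} [P.IsRootSystem] [Finite ι] [P.IsCrystallographic] [P.IsReduced]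
  {d : P.Base → N}

/-- A vector of `F` pairs at least as much with a point of the solid as with `d b`, `b` adjacent
to `F`. -/
lemma pairing_le_of_mem_solid (hd : IsCCS d) (F : Facet P) {b : P.Base} (hb : b ∈ F.cham)
    {ξ : M} (hξ : ξ ∈ closedChamber b) {y : N} (hy : y ∈ solid d) :
    P.toLinearMap ξ (d b) ≤ P.toLinearMap ξ y := by
  rw [toLinearMap_eq_sum b ξ (d b), toLinearMap_eq_sum b ξ y]
  apply Finset.sum_le_sum
  intro k _
  have hkb : fundWeight b k ∈ baseCorners b := ⟨⟨b, k, rfl⟩, fundWeight_mem_closedChamber b k⟩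
  exact mul_le_mul_of_nonneg_left (solid_subset_halfClosed hd hkb hy b hkb) (hξ k k.2)

lemma toLinearMap_sum_root (S : Finset ι) (x : N) :
    P.toLinearMap (∑ i ∈ S, P.root i) x = ∑ j ∈ S, P.root' j x := by
  rw [map_sum, LinearMap.sum_apply]

lemma deg_le_sum_root' (hd : IsCCS d) (G : Facet P) {c : P.Base} (hc : c ∈ G.cham) {y : N}
    (hy : y ∈ solid d) :
    G.deg d c ≤ ∑ j ∈ (Set.toFinite G.parab).toFinset, P.root' j y := by
  rw [deg_eq, ← toLinearMap_sum_root]
  exact pairing_le_of_mem_solid hd G hc (hc (sum_root_parab_mem_carrier G)) hy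

lemma deg_eq_sum_root' (hd : IsCCS d) (F : Facet P) {b : P.Base} (hb : b ∈ F.cham) {y : N}
    (hy : y ∈ ⋂ m ∈ F.corners, hyper d m) :
    F.deg d b = ∑ j ∈ (Set.toFinite F.parab).toFinset, P.root' j y := by
  rw [deg_eq, pairing_eq_of_mem_hyper F (mem_hyper_of_mem_cham hd F hb) hy
    (sum_root_parab_mem_span_corners F), toLinearMap_sum_root]

lemma two_mul_sum_parab (G : Facet P) [Fintype ι] (y : N) :
    2 * ∑ j ∈ (Set.toFinite G.parab).toFinset, P.root' j y =
      ∑ j, (G.sgn j : R) * P.root' j y := by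
  classical
  let ν : Equiv.Perm ι :=
    Function.Involutive.toPerm (fun j => P.reflectionPerm j j) (fun j => neg_neg_idx j)
  have hpar : (Set.toFinite G.parab).toFinset = Finset.univ.filter (fun j => G.sgn j ≠ -1) := by
    ext j
    simp [Facet.parab]
  have h1 : ∑ j ∈ (Set.toFinite G.parab).toFinset, P.root' j y =
      ∑ j, if G.sgn j ≠ -1 then P.root' j y else 0 := by
    rw [hpar, Finset.sum_filter]
  have h2 : (∑ j, if G.sgn j ≠ -1 then P.root' j y else 0) =
      ∑ j, if G.sgn j ≠ 1 then - P.root' j y else 0 := by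
    rw [← Equiv.sum_comp ν]
    apply Finset.sum_congr rfl
    intro j _
    change (if G.sgn (P.reflectionPerm j j) ≠ -1 then P.root' (P.reflectionPerm j j) y else 0) = _
    rw [Facet.sgn_neg, root'_neg]
    rcases signType_cases (G.sgn j) with h | h | h
    · rw [h, if_pos (by decide), if_pos (by decide)]
    · rw [h, if_neg (by decide), if_neg (by decide)]
    · rw [h, if_pos (by decide), if_pos (by decide)]
  have h3 : 2 * ∑ j ∈ (Set.toFinite G.parab).toFinset, P.root' j y =
      (∑ j, if G.sgn j ≠ -1 then P.root' j y else 0) +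
        ∑ j, if G.sgn j ≠ 1 then - P.root' j y else 0 := by
    rw [two_mul, h1]
    exact congrArg (fun t => (∑ j, if G.sgn j ≠ -1 then P.root' j y else 0) + t) h2
  rw [h3, ← Finset.sum_add_distrib]
  apply Finset.sum_congr rfl
  intro j _
  rcases signType_cases (G.sgn j) with h | h | h
  · rw [h, if_pos (by decide), if_pos (by decide), SignType.coe_zero]; ring
  · rw [h, if_pos (by decide), if_neg (by decide), SignType.coe_one]; ring
  · rw [h, if_neg (by decide), if_pos (by decide), SignType.coe_neg_one]; ring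

lemma sgn_mul_le_abs (s : SignType) (r : R) : (s : R) * r ≤ |r| := by
  rcases signType_cases s with h | h | h
  · rw [h, SignType.coe_zero, zero_mul]; exact abs_nonneg _
  · rw [h, SignType.coe_one, one_mul]; exact le_abs_self _
  · rw [h, SignType.coe_neg_one, neg_one_mul]; exact neg_le_abs _

/-- S14248 -/
theorem isGreatest_among_maxDeg_of_isSpecial (hd : IsCCS d) (F : Facet P) (b : P.Base)
    (hb : b ∈ F.cham) (hF : IsSpecial d F) :
    (∀ (G : Facet P) (c : P.Base), c ∈ G.cham → G.deg d c ≤ F.deg d b) ∧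
      ∀ (G : Facet P) (c : P.Base), c ∈ G.cham → G.deg d c = F.deg d b → G ≤ F := by
  classical
  have := Fintype.ofFinite ι
  obtain ⟨y₀, hy₀c, hy₀s⟩ := hF
  have hsgn : ∀ j, F.sgn j = SignType.sign (P.root' j y₀) := fun j => (congrFun hy₀c j).symm
  have hy₀solid : y₀ ∈ solid d := dualSolid_subset_solid d F hy₀s
  have hy₀h := (dualSolid_subset hd F hy₀s).1
  have hF2 : 2 * F.deg d b = ∑ j, |P.root' j y₀| := by
    rw [deg_eq_sum_root' hd F hb hy₀h, two_mul_sum_parab]
    apply Finset.sum_congr rfl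
    intro j _
    rw [hsgn j]
    exact sign_mul_self _
  have hG2 : ∀ (G : Facet P) (c : P.Base), c ∈ G.cham →
      2 * G.deg d c ≤ ∑ j, (G.sgn j : R) * P.root' j y₀ := by
    intro G c hc
    rw [← two_mul_sum_parab]
    exact mul_le_mul_of_nonneg_left (deg_le_sum_root' hd G hc hy₀solid) zero_le_two
  have hle : ∀ G : Facet P, ∑ j, (G.sgn j : R) * P.root' j y₀ ≤ ∑ j, |P.root' j y₀| :=
    fun G => Finset.sum_le_sum (fun j _ => sgn_mul_le_abs _ _)
  refine ⟨fun G c hc => ?_, fun G c hc heq => ?_⟩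
  · have := (hG2 G c hc).trans (hle G)
    linarith
  · have h1 : ∑ j, (G.sgn j : R) * P.root' j y₀ = ∑ j, |P.root' j y₀| := by
      apply le_antisymm (hle G)
      rw [← hF2, ← heq]
      exact hG2 G c hc
    have h2 := (Finset.sum_eq_sum_iff_of_le (fun j _ => sgn_mul_le_abs (G.sgn j)
      (P.root' j y₀))).1 h1
    rw [Facet.le_def]
    intro j
    have hj := h2 j (Finset.mem_univ j)
    rcases lt_trichotomy (P.root' j y₀) 0 with hr | hr | hr
    · right
      rw [hsgn j, sign_neg hr]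
      rw [abs_of_neg hr] at hj
      rcases signType_cases (G.sgn j) with h | h | h
      · rw [h, SignType.coe_zero, zero_mul] at hj; linarith
      · rw [h, SignType.coe_one, one_mul] at hj; linarith
      · exact h.symm
    · left
      rw [hsgn j, hr, sign_zero]
    · right
      rw [hsgn j, sign_pos hr]
      rw [abs_of_pos hr] at hj
      rcases signType_cases (G.sgn j) with h | h | h
      · rw [h, SignType.coe_zero, zero_mul] at hj; linarith
      · exact h.symm
      · rw [h, SignType.coe_neg_one, neg_one_mul] at hj; linarith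

/-! ### invariant scalar products -/

section Metric

variable (B : LinearMap.BilinForm R N)

lemma two_mul_B_coroot
    (hBi : ∀ (i : ι) (y z : N), B (P.coreflection i y) (P.coreflection i z) = B y z)
    (j : ι) (x : N) :
    2 * B x (P.coroot j) = B (P.coroot j) (P.coroot j) * P.root' j x := by
  have h := hBi j x (P.coroot j)
  rw [P.coreflection_apply_self, P.coreflection_apply] at h
  simp only [map_neg, map_sub, map_smul, LinearMap.sub_apply, LinearMap.smul_apply,
    LinearMap.neg_apply, smul_eq_mul] at h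
  linarith

/-- The vector of `M` representing `B y₀` lies in the facet whose dual facet contains `y₀`. -/
lemma exists_mem_carrier_of_mem_dualCarrier
    (hBp : ∀ y : N, y ≠ 0 → 0 < B y y)
    (hBi : ∀ (i : ι) (y z : N), B (P.coreflection i y) (P.coreflection i z) = B y z)
    (F : Facet P) {y₀ : N} (hy₀ : y₀ ∈ F.dualCarrier) :
    ∃ ξ₀ : M, ξ₀ ∈ F.carrier ∧ ∀ x : N, P.toLinearMap ξ₀ x = B y₀ x := by
  refine ⟨P.toPerfPair.symm (B y₀), ?_, fun x => ?_⟩
  · have hrep : ∀ x : N, P.toLinearMap (P.toPerfPair.symm (B y₀)) x = B y₀ x := fun x => by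
      rw [P.toLinearMap.apply_symm_toPerfPair_self]
    change sgnVec P _ = F.sgn
    rw [← (show cosgnVec P y₀ = F.sgn from hy₀)]
    funext j
    change SignType.sign (P.toLinearMap (P.toPerfPair.symm (B y₀)) (P.coroot j)) =
      SignType.sign (P.root' j y₀)
    rw [hrep]
    exact sign_eq_of_mul_eq two_pos (hBp _ (P.ne_zero' j)) (two_mul_B_coroot B hBi j y₀)
  · rw [P.toLinearMap.apply_symm_toPerfPair_self]

lemma B_lt_of_le (hBs : ∀ y z : N, B y z = B z y) (hBp : ∀ y : N, y ≠ 0 → 0 < B y y)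
    {y₀ y : N} (h : B y₀ y₀ ≤ B y₀ y) (hne : y ≠ y₀) : B y₀ y₀ < B y y := by
  have hz : 0 < B (y - y₀) (y - y₀) := hBp _ (sub_ne_zero.2 hne)
  have e : B (y - y₀) (y - y₀) = B y y - 2 * B y₀ y + B y₀ y₀ := by
    simp only [map_sub, LinearMap.sub_apply]
    rw [hBs y y₀]
    ring
  linarith

/-- S14244 -/
theorem exists_yLocus_eq_and_isMinOn (hd : IsCCS d)
    (hBs : ∀ y z : N, B y z = B z y) (hBp : ∀ y : N, y ≠ 0 → 0 < B y y)
    (hBi : ∀ (i : ι) (y z : N), B (P.coreflection i y) (P.coreflection i z) = B y z)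
    (F : Facet P) (hF : IsSpecial d F) :
    ∃ y₀ : N, yLocus d F = {y₀} ∧ y₀ ∈ solid d ∧
      ∀ y ∈ solid d, y ≠ y₀ → B y₀ y₀ < B y y := by
  obtain ⟨y₀, hyL, hyI⟩ := exists_yLocus_eq_and_inter_eq hd F hF
  have hy₀ : y₀ ∈ F.dualCarrier ∩ dualSolid d F := by rw [hyI]; rfl
  refine ⟨y₀, hyL, dualSolid_subset_solid d F hy₀.2, fun y hy hne => ?_⟩
  obtain ⟨b, hb⟩ := Facet.cham_nonempty F
  obtain ⟨ξ₀, hξ₀c, hξ₀⟩ := exists_mem_carrier_of_mem_dualCarrier B hBp hBi F hy₀.1
  have hspan : ξ₀ ∈ Submodule.span R F.corners := by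
    rw [← span_carrier_eq_span_corners]; exact Submodule.subset_span hξ₀c
  have h1 : P.toLinearMap ξ₀ (d b) = P.toLinearMap ξ₀ y₀ :=
    pairing_eq_of_mem_hyper F (mem_hyper_of_mem_cham hd F hb) (dualSolid_subset hd F hy₀.2).1 hspan
  have h2 := pairing_le_of_mem_solid hd F hb (hb hξ₀c) hy
  rw [h1, hξ₀, hξ₀] at h2
  exact B_lt_of_le B hBs hBp h2 hne

lemma B_le_of_isMinOn (hBs : ∀ y z : N, B y z = B z y) (hBp : ∀ y : N, y ≠ 0 → 0 < B y y)
    {s : Set N} (hs : Convex R s) {y₀ : N} (hy₀ : y₀ ∈ s) (hmin : ∀ y ∈ s, B y₀ y₀ ≤ B y y)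
    {y : N} (hy : y ∈ s) : B y₀ y₀ ≤ B y₀ y := by
  by_contra hlt
  push Not at hlt
  set z := y - y₀ with hz
  have hδ : B y₀ z < 0 := by rw [hz, map_sub]; linarith
  have hzne : z ≠ 0 := by
    intro h0; rw [h0, map_zero] at hδ; exact lt_irrefl _ hδ
  have hq : 0 < B z z := hBp z hzne
  set t := min 1 (-(B y₀ z) / B z z) with ht
  have ht0 : 0 < t := lt_min one_pos (div_pos (neg_pos.2 hδ) hq)
  have ht1 : t ≤ 1 := min_le_left _ _
  have htq : t * B z z ≤ -(B y₀ z) := by
    have : t ≤ -(B y₀ z) / B z z := min_le_right _ _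
    rwa [le_div_iff₀ hq] at this
  have hmem : y₀ + t • z ∈ s := by
    have : y₀ + t • z = (1 - t) • y₀ + t • y := by
      rw [hz, smul_sub, sub_smul, one_smul]; abel
    rw [this]
    exact hs hy₀ hy (by linarith) ht0.le (by ring)
  have h1 := hmin _ hmem
  have e : B (y₀ + t • z) (y₀ + t • z) = B y₀ y₀ + 2 * t * B y₀ z + t * (t * B z z) := by
    simp only [map_add, map_smul, LinearMap.add_apply, LinearMap.smul_apply, smul_eq_mul]
    rw [hBs z y₀]
    ring
  rw [e] at h1
  have h2 : t * (t * B z z) ≤ t * (-(B y₀ z)) := mul_le_mul_of_nonneg_left htq ht0.le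
  have h3 : t * B y₀ z < 0 := mul_neg_of_pos_of_neg ht0 hδ
  linarith

/-- S14245 -/
theorem isSpecial_of_isMinOn (hd : IsCCS d)
    (hBs : ∀ y z : N, B y z = B z y) (hBp : ∀ y : N, y ≠ 0 → 0 < B y y)
    (hBi : ∀ (i : ι) (y z : N), B (P.coreflection i y) (P.coreflection i z) = B y z)
    (y₀ : N) (hy₀ : y₀ ∈ solid d) (hmin : ∀ y ∈ solid d, B y₀ y₀ ≤ B y y)
    (F : Facet P) (hF : y₀ ∈ F.dualCarrier) :
    IsSpecial d F ∧ yLocus d F = {y₀} := by
  obtain ⟨b, hb⟩ := Facet.cham_nonempty F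
  obtain ⟨ξ₀, hξ₀c, hξ₀⟩ := exists_mem_carrier_of_mem_dualCarrier B hBp hBi F hF
  have hfirst : ∀ y ∈ solid d, P.toLinearMap ξ₀ y₀ ≤ P.toLinearMap ξ₀ y := by
    intro y hy
    rw [hξ₀, hξ₀]
    exact B_le_of_isMinOn B hBs hBp (convex_convexHull R _) hy₀ hmin hy
  have hdb : d b ∈ solid d := subset_convexHull R _ ⟨b, rfl⟩
  have hcar := (Facet.mem_carrier_iff_of_mem_cham F hb ξ₀).1 hξ₀c
  -- termwise equality
  have hsum_le : P.toLinearMap ξ₀ y₀ ≤ P.toLinearMap ξ₀ (d b) := hfirst _ hdb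
  rw [toLinearMap_eq_sum b ξ₀ y₀, toLinearMap_eq_sum b ξ₀ (d b)] at hsum_le
  have hterm : ∀ k : b.support, P.coroot' k ξ₀ * P.toLinearMap (fundWeight b k) (d b) ≤
      P.coroot' k ξ₀ * P.toLinearMap (fundWeight b k) y₀ := by
    intro k
    have hkb : fundWeight b k ∈ baseCorners b :=
      ⟨⟨b, k, rfl⟩, fundWeight_mem_closedChamber b k⟩
    exact mul_le_mul_of_nonneg_left (solid_subset_halfClosed hd hkb hy₀ b hkb) (hcar.1 k k.2)
  have hsum_eq : ∑ k : b.support, P.coroot' k ξ₀ * P.toLinearMap (fundWeight b k) (d b) =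
      ∑ k : b.support, P.coroot' k ξ₀ * P.toLinearMap (fundWeight b k) y₀ :=
    le_antisymm (Finset.sum_le_sum (fun k _ => hterm k)) hsum_le
  have hterm_eq := (Finset.sum_eq_sum_iff_of_le (fun k _ => hterm k)).1 hsum_eq
  have hy₀h : y₀ ∈ ⋂ m ∈ F.corners, hyper d m := by
    simp only [Set.mem_iInter]
    intro m hm b' hb'
    have hm' := hm
    rw [Facet.corners_eq_of_mem_cham F hb] at hm'
    obtain ⟨k, hk, rfl⟩ := hm'
    have hpos : 0 < P.coroot' k ξ₀ := (hcar.2 k k.2).2 hk
    have h1 := hterm_eq k (Finset.mem_univ k)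
    have h2 : P.toLinearMap (fundWeight b k) (d b) = P.toLinearMap (fundWeight b k) y₀ :=
      mul_left_cancel₀ hpos.ne' h1
    rw [← h2]
    exact hd.corner_eq b b' _ (Facet.corners_subset_baseCorners F hb hm) hb'
  have hy₀D : y₀ ∈ dualSolid d F := by
    rw [dualSolid_eq hd F]
    refine ⟨hy₀h, ?_⟩
    simp only [Set.mem_iInter]
    intro m hm
    simp only [Facet.corners', Set.mem_iUnion] at hm
    obtain ⟨c, -, hmc⟩ := hm
    exact solid_subset_halfClosed hd hmc hy₀
  have hsp : IsSpecial d F := ⟨y₀, hF, hy₀D⟩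
  refine ⟨hsp, ?_⟩
  have h0 := mem_yLocus_of_mem hd F (⟨hF, hy₀D⟩ : y₀ ∈ F.dualCarrier ∩ dualSolid d F)
  ext y
  simp only [Set.mem_singleton_iff]
  exact ⟨fun hy => yLocus_subsingleton F hy h0, fun hy => hy ▸ h0⟩

end Metric

end Groth.Agent.Helper21.RC
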