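import Mathlib
import Groth.Prelude.Def_RootCh2
import Groth.Agent.Lib.Helper21.RootChI

/-!
# RootCh library, part B5: existence and uniqueness of the special facet
-/

set_option linter.unusedSectionVars false
set_option linter.unusedSimpArgs false
set_option linter.unusedVariables false

namespace Groth.Agent.Helper21.RC

open RootCh RootPairing Module

variable {ι R M N : Type*} [Field R] [LinearOrder R] [IsStrictOrderedRing R]
  [AddCommGroup M] [Module R M] [AddCommGroup N] [Module R N]
  {P : RootPairing ι R M N} [P.IsRootSystem] [Finite ι] [P.IsCrystallographic] [P.IsReduced]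
  {d : P.Base → N}

lemma root'_eq_zero_of_sgn_eq_zero (F : Facet P) {x : N}
    (hx : x ∈ Submodule.span R F.dualCarrier) {j : ι} (hj : F.sgn j = 0) : P.root' j x = 0 := by
  induction hx using Submodule.span_induction with
  | mem x hx =>
    have h := congrFun (show cosgnVec P x = F.sgn from hx) j
    rw [hj] at h
    exact sign_eq_zero_iff.1 h
  | zero => simp
  | add x y _ _ hx hy => rw [map_add, hx, hy, add_zero]
  | smul a x _ hx => rw [map_smul, hx, smul_zero]

lemma facet_le_of_add {c : P.Base} {ξ η : M} (hξ : ξ ∈ closedChamber c)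
    (hη : η ∈ closedChamber c) {F G : Facet P} (hF : ξ ∈ F.carrier) (hG : ξ + η ∈ G.carrier) :
    G ≤ F := by
  rw [Facet.le_def]
  intro j
  have hFj : F.sgn j = SignType.sign (P.coroot' j ξ) :=
    (congrFun (show sgnVec P ξ = F.sgn from hF) j).symm
  have hGj : G.sgn j = SignType.sign (P.coroot' j ξ + P.coroot' j η) := by
    rw [← map_add]
    exact (congrFun (show sgnVec P (ξ + η) = G.sgn from hG) j).symm
  rw [hFj, hGj]
  rcases coroot'_nonneg_or_nonpos c j with h | h
  · rcases (h ξ hξ).lt_or_eq with hp | hp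
    · right
      rw [sign_pos hp, sign_pos (by linarith [h η hη])]
    · left
      rw [← hp, sign_zero]
  · rcases (h ξ hξ).lt_or_eq with hp | hp
    · right
      rw [sign_neg hp, sign_neg (by linarith [h η hη])]
    · left
      rw [hp, sign_zero]

lemma coroot'_fundWeight_eq_zero_of_face_sgn_eq_zero (b : P.Base) (J : Finset b.support) {j : ι}
    (h : (face b J).sgn j = 0) {k : b.support} (hk : k ∈ J) :
    P.coroot' j (fundWeight b k) = 0 := by
  have h0 : P.coroot' j (faceVec b J) = 0 := sign_eq_zero_iff.1 h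
  rw [faceVec, map_sum] at h0
  rcases coroot'_nonneg_or_nonpos b j with hj | hj
  · exact (Finset.sum_eq_zero_iff_of_nonneg
      (fun i _ => hj _ (fundWeight_mem_closedChamber b i))).1 h0 k hk
  · exact (Finset.sum_eq_zero_iff_of_nonpos
      (fun i _ => hj _ (fundWeight_mem_closedChamber b i))).1 h0 k hk

lemma faceVec_cornerIdx_mem_carrier (F : Facet P) {b : P.Base} (hb : b ∈ F.cham) :
    faceVec b (cornerIdx F b) ∈ F.carrier := by
  rw [Facet.mem_carrier_iff_of_mem_cham F hb]
  refine ⟨faceVec_mem_closedChamber b _, fun i hi => ?_⟩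
  by_cases h : (⟨i, hi⟩ : b.support) ∈ cornerIdx F b
  · have h1 := coroot'_faceVec_of_mem b h
    simp only at h1
    rw [h1]
    exact ⟨fun _ => (mem_cornerIdx F b ⟨i, hi⟩).1 h, fun _ => one_pos⟩
  · have h1 := coroot'_faceVec_of_notMem b h
    simp only at h1
    rw [h1]
    exact ⟨fun hp => absurd hp (lt_irrefl _),
      fun hs => absurd ((mem_cornerIdx F b ⟨i, hi⟩).2 hs) h⟩

lemma eq_zero_of_mem_span_dualCarrier (F : Facet P) {z : N}
    (hz : z ∈ Submodule.span R F.dualCarrier)
    (hpair : ∀ m ∈ F.corners, P.toLinearMap m z = 0) : z = 0 := by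
  have h1 : z ∈ ⋂ m ∈ F.corners, hyper (fun _ : P.Base => (0 : N)) m := by
    simp only [Set.mem_iInter]
    intro m hm b _
    rw [hpair m hm, map_zero]
  have h2 : (0 : N) ∈ ⋂ m ∈ F.corners, hyper (fun _ : P.Base => (0 : N)) m := by
    simp only [Set.mem_iInter]
    intro m _ b _
    rfl
  exact eq_of_mem_hyper_of_mem_span F h1 hz h2 (Submodule.zero_mem _)

lemma fundCoweight_mem_span_dualCarrier (F : Facet P) {b : P.Base} (hb : b ∈ F.cham)
    (k : b.support) (hk : F.sgn k = 1) :
    fundCoweight b k ∈ Submodule.span R F.dualCarrier := by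
  have e : Submodule.span R F.dualCarrier = Submodule.span R F.dualCorners :=
    span_carrier_eq_span_corners (P := P.flip) (Facet.dual F)
  rw [e]
  apply Submodule.subset_span
  rw [dualCorners_eq]
  refine ⟨fundWeight b k, ?_, corr_fundWeight b k⟩
  rw [Facet.corners_eq_of_mem_cham F hb]
  exact ⟨k, hk, rfl⟩

/-- Existence of the point `y(F)`. -/
lemma exists_mem_hyper_inter_span (hd : IsCCS d) (F : Facet P) :
    ∃ y : N, y ∈ (⋂ m ∈ F.corners, hyper d m) ∧ y ∈ Submodule.span R F.dualCarrier := by
  classical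
  obtain ⟨b, hb⟩ := Facet.cham_nonempty F
  let κ := {k : b.support // F.sgn k = 1}
  let v : κ → N := fun k => fundCoweight b k.1
  have hv : ∀ k : κ, v k ∈ Submodule.span R F.dualCarrier :=
    fun k => fundCoweight_mem_span_dualCarrier F hb k.1 k.2
  let L : (κ → R) →ₗ[R] (κ → R) :=
    LinearMap.pi (fun i : κ => (P.toLinearMap (fundWeight b i.1)).comp
      (Fintype.linearCombination R v))
  have hL : ∀ (t : κ → R) (i : κ),
      L t i = P.toLinearMap (fundWeight b i.1) (∑ k, t k • v k) := by
    intro t i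
    simp [L, Fintype.linearCombination_apply]
  have hspan : ∀ t : κ → R, (∑ k, t k • v k) ∈ Submodule.span R F.dualCarrier := fun t =>
    Submodule.sum_mem _ (fun k _ => Submodule.smul_mem _ _ (hv k))
  have hinj : Function.Injective L := by
    rw [injective_iff_map_eq_zero]
    intro t ht
    have hz : (∑ k, t k • v k) = 0 := by
      apply eq_zero_of_mem_span_dualCarrier F (hspan t)
      intro m hm
      rw [Facet.corners_eq_of_mem_cham F hb] at hm
      obtain ⟨i, hi, rfl⟩ := hm
      have := hL t ⟨i, hi⟩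
      rw [ht] at this
      exact this.symm
    funext k
    have h1 : P.root' k.1 (∑ k', t k' • v k') = t k := by
      rw [map_sum, Finset.sum_eq_single k]
      · rw [map_smul, smul_eq_mul, root'_fundCoweight_self, mul_one]
      · intro k' _ hne
        rw [map_smul, smul_eq_mul, root'_fundCoweight_of_ne b k'.1 k.1
          (fun e => hne (Subtype.ext e).symm), mul_zero]
      · intro h; exact absurd (Finset.mem_univ k) h
    rw [hz, map_zero] at h1
    exact h1.symm
  have hsurj : Function.Surjective L := LinearMap.injective_iff_surjective.1 hinj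
  obtain ⟨t, ht⟩ := hsurj (fun i => P.toLinearMap (fundWeight b i.1) (d b))
  refine ⟨∑ k, t k • v k, ?_, hspan t⟩
  simp only [Set.mem_iInter]
  intro m hm b' hb'
  have hm' := hm
  rw [Facet.corners_eq_of_mem_cham F hb] at hm'
  obtain ⟨i, hi, rfl⟩ := hm'
  have h1 := hL t ⟨i, hi⟩
  rw [ht] at h1
  rw [← h1]
  exact hd.corner_eq b b' _ (Facet.corners_subset_baseCorners F hb hm) hb'

lemma mem_dualSolid_of_maxDeg (hd : IsCCS d) (F : Facet P) (b : P.Base) (hb : b ∈ F.cham)
    (hmax : ∀ (G : Facet P) (c : P.Base), c ∈ G.cham → G.deg d c ≤ F.deg d b) {y : N}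
    (hy1 : y ∈ ⋂ m ∈ F.corners, hyper d m) (hy2 : y ∈ Submodule.span R F.dualCarrier) :
    y ∈ dualSolid d F := by
  classical
  rw [dualSolid_eq hd F]
  refine ⟨hy1, ?_⟩
  simp only [Set.mem_iInter] at hy1 ⊢
  intro m hm
  simp only [Facet.corners', Set.mem_iUnion] at hm
  obtain ⟨c, hc, hmc⟩ := hm
  intro b' hb'
  rw [hd.corner_eq b' c m hb' hmc]
  have hmc' := hmc
  rw [baseCorners_eq_range] at hmc'
  obtain ⟨k₀, rfl⟩ := hmc'
  by_cases hk₀ : F.sgn k₀ = 1
  · have hmF : fundWeight c k₀ ∈ F.corners := by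
      rw [Facet.corners_eq_of_mem_cham F hc]; exact ⟨k₀, hk₀, rfl⟩
    exact (hy1 _ hmF c hmc).ge
  · by_contra hlt
    push Not at hlt
    have hk₀I : k₀ ∉ cornerIdx F c := fun h => hk₀ ((mem_cornerIdx F c k₀).1 h)
    set J := insert k₀ (cornerIdx F c) with hJ
    set G := face c J with hGdef
    have hcG : c ∈ G.cham := mem_cham_face c J
    have hGF : G ≤ F := by
      refine facet_le_of_add (c := c) (ξ := faceVec c (cornerIdx F c)) (η := fundWeight c k₀)
        (faceVec_mem_closedChamber c _) (fundWeight_mem_closedChamber c k₀)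
        (faceVec_cornerIdx_mem_carrier F hc) ?_
      have : faceVec c (cornerIdx F c) + fundWeight c k₀ = faceVec c J := by
        rw [faceVec, faceVec, hJ, Finset.sum_insert hk₀I, add_comm]
      rw [this]
      exact faceVec_mem_carrier c J
    have hG := hmax G c hcG
    have hFc : F.deg d c = F.deg d b := deg_eq_deg_of_mem_cham hd F c b hc hb
    set ρG := ∑ i ∈ (Set.toFinite G.parab).toFinset, P.root i with hρG
    set ρF := ∑ i ∈ (Set.toFinite F.parab).toFinset, P.root i with hρF
    have hρGc : ρG ∈ G.carrier := sum_root_parab_mem_carrier G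
    have hρFc : ρF ∈ F.carrier := sum_root_parab_mem_carrier F
    have e1 : G.deg d c - F.deg d c = P.toLinearMap (ρG - ρF) (d c) := by
      rw [deg_eq, deg_eq, map_sub, LinearMap.sub_apply]
    have e2 : P.toLinearMap (ρG - ρF) y = 0 := by
      rw [map_sub, LinearMap.sub_apply, hρG, hρF, toLinearMap_sum_root, toLinearMap_sum_root,
        sub_eq_zero]
      apply Finset.sum_subset
      · rw [Set.Finite.toFinset_subset_toFinset]
        exact (facet_le_iff_parab_subset G F).1 hGF
      · intro j hjF hjG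
        rw [Set.Finite.mem_toFinset] at hjF hjG
        have hGj : G.sgn j = -1 := not_not.mp hjG
        have hFj : F.sgn j = 0 := by
          rcases (Facet.le_def G F).1 hGF j with h | h
          · exact h
          · exact absurd (h.trans hGj) hjF
        exact root'_eq_zero_of_sgn_eq_zero F hy2 hFj
    have e3 : P.toLinearMap (ρG - ρF) (d c) - P.toLinearMap (ρG - ρF) y =
        P.coroot' k₀ (ρG - ρF) * (P.toLinearMap (fundWeight c k₀) (d c) -
          P.toLinearMap (fundWeight c k₀) y) := by
      rw [toLinearMap_eq_sum c _ (d c), toLinearMap_eq_sum c _ y, ← Finset.sum_sub_distrib,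
        Finset.sum_eq_single k₀]
      · ring
      · intro k _ hk
        by_cases hk1 : F.sgn k = 1
        · have hmF : fundWeight c k ∈ F.corners := by
            rw [Facet.corners_eq_of_mem_cham F hc]; exact ⟨k, hk1, rfl⟩
          rw [hy1 _ hmF c ⟨⟨c, k, rfl⟩, fundWeight_mem_closedChamber c k⟩, sub_self]
        · have hGk : G.sgn k ≠ 1 := by
            intro h
            have := (face_sgn_eq_one_iff c J k).1 h
            rw [hJ, Finset.mem_insert] at this
            rcases this with h' | h'
            · exact hk h'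
            · exact hk1 ((mem_cornerIdx F c k).1 h')
          rw [map_sub, Facet.coroot'_eq_zero_of_mem_carrier G hcG hρGc k.2 hGk,
            Facet.coroot'_eq_zero_of_mem_carrier F hc hρFc k.2 hk1]
          ring
      · intro h; exact absurd (Finset.mem_univ k₀) h
    have e4 : 0 < P.coroot' k₀ (ρG - ρF) := by
      rw [map_sub, Facet.coroot'_eq_zero_of_mem_carrier F hc hρFc k₀.2 hk₀, sub_zero]
      refine (((Facet.mem_carrier_iff_of_mem_cham G hcG _).1 hρGc).2 k₀ k₀.2).2 ?_
      exact (face_sgn_eq_one_iff c J k₀).2 (by rw [hJ]; exact Finset.mem_insert_self _ _)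
    have hpos := mul_pos e4 (sub_pos.2 hlt)
    linarith

lemma root'_pos_of_maximal (hd : IsCCS d) (F : Facet P) (b : P.Base) (hb : b ∈ F.cham)
    (hmax : ∀ (G : Facet P) (c : P.Base), c ∈ G.cham → G.deg d c ≤ F.deg d b)
    (hmaxl : ∀ (G : Facet P) (c : P.Base), c ∈ G.cham → G.deg d c = F.deg d b → F ≤ G → G = F)
    {y : N} (hy1 : y ∈ ⋂ m ∈ F.corners, hyper d m) (hy2 : y ∈ Submodule.span R F.dualCarrier)
    (i₀ : b.support) (hi₀ : F.sgn i₀ = 1) : 0 < P.root' i₀ y := by
  classical
  by_contra hneg
  push Not at hneg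
  have hi₀I : i₀ ∈ cornerIdx F b := (mem_cornerIdx F b i₀).2 hi₀
  set J' := (cornerIdx F b).erase i₀ with hJ'
  set G' := face b J' with hG'def
  have hbG : b ∈ G'.cham := mem_cham_face b J'
  have hsumI : faceVec b J' + fundWeight b i₀ = faceVec b (cornerIdx F b) := by
    rw [faceVec, faceVec, hJ', add_comm, Finset.add_sum_erase _ _ hi₀I]
  have hFG : F ≤ G' := by
    refine facet_le_of_add (c := b) (ξ := faceVec b J') (η := fundWeight b i₀)
      (faceVec_mem_closedChamber b _) (fundWeight_mem_closedChamber b i₀)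
      (faceVec_mem_carrier b J') ?_
    rw [hsumI]
    exact faceVec_cornerIdx_mem_carrier F hb
  have hne : G' ≠ F := by
    intro e
    have h1 : G'.sgn i₀ = 1 := by rw [e]; exact hi₀
    have h2 := (face_sgn_eq_one_iff b J' i₀).1 h1
    rw [hJ'] at h2
    exact Finset.notMem_erase _ _ h2
  have hlt : G'.deg d b < F.deg d b :=
    lt_of_le_of_ne (hmax G' b hbG) (fun e => hne (hmaxl G' b hbG e hFG))
  have hsub : G'.corners ⊆ F.corners := by
    rw [corners_face, Facet.corners_eq_image F hb, hJ', Finset.coe_erase]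
    exact Set.image_mono Set.sdiff_subset
  have hy1' : y ∈ ⋂ m ∈ G'.corners, hyper d m := by
    simp only [Set.mem_iInter] at hy1 ⊢
    intro m hm
    exact hy1 m (hsub hm)
  have hF1 := deg_eq_sum_root' hd F hb hy1
  have hG1 := deg_eq_sum_root' hd G' hbG hy1'
  have hsubset : (Set.toFinite F.parab).toFinset ⊆ (Set.toFinite G'.parab).toFinset := by
    rw [Set.Finite.toFinset_subset_toFinset]
    exact (facet_le_iff_parab_subset F G').1 hFG
  have hnonneg : 0 ≤ ∑ j ∈ (Set.toFinite G'.parab).toFinset \ (Set.toFinite F.parab).toFinset,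
      P.root' j y := by
    apply Finset.sum_nonneg
    intro j hj
    rw [Finset.mem_sdiff, Set.Finite.mem_toFinset, Set.Finite.mem_toFinset] at hj
    obtain ⟨hjG, hjF⟩ := hj
    have hFj : F.sgn j = -1 := not_not.mp hjF
    have hGj : G'.sgn j = 0 := by
      rcases (Facet.le_def F G').1 hFG j with h | h
      · exact h
      · exact absurd (h.trans hFj) hjG
    have hr : P.root' j y = P.root' i₀ y * P.root' j (fundCoweight b i₀) := by
      change P.toLinearMap (P.root j) y = _
      rw [toLinearMap_eq_sum' b (P.root j) y, Finset.sum_eq_single i₀]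
      · intro k _ hk
        by_cases hk1 : F.sgn k = 1
        · have hkJ : k ∈ J' := by
            rw [hJ', Finset.mem_erase]
            exact ⟨hk, (mem_cornerIdx F b k).2 hk1⟩
          have h0 := coroot'_fundWeight_eq_zero_of_face_sgn_eq_zero b J' hGj hkJ
          have hs := sign_root'_fundCoweight b k j
          rw [h0, sign_zero] at hs
          change P.root' k y * P.root' j (fundCoweight b k) = 0
          rw [sign_eq_zero_iff.1 hs, mul_zero]
        · rw [root'_eq_zero_of_mem_span_dualCarrier F hb hy2 k.2 hk1, zero_mul]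
      · intro h; exact absurd (Finset.mem_univ i₀) h
    have hneg' : P.root' j (fundCoweight b i₀) < 0 := by
      have h0 : P.coroot' j (faceVec b J') = 0 := sign_eq_zero_iff.1 hGj
      have h1 : F.sgn j = SignType.sign (P.coroot' j (faceVec b J' + fundWeight b i₀)) := by
        rw [hsumI]
        exact (congrFun (show sgnVec P _ = F.sgn from faceVec_cornerIdx_mem_carrier F hb) j).symm
      rw [map_add, h0, zero_add, hFj, ← sign_root'_fundCoweight] at h1
      exact sign_eq_neg_one_iff.1 h1.symm
    rw [hr]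
    exact mul_nonneg_of_nonpos_of_nonpos hneg hneg'.le
  have hle : F.deg d b ≤ G'.deg d b := by
    rw [hF1, hG1, ← Finset.sum_sdiff hsubset]
    linarith
  exact absurd hlt (not_lt.mpr hle)

/-- S14247 -/
theorem isSpecial_of_maximal_among_maxDeg (hd : IsCCS d) (F : Facet P) (b : P.Base)
    (hb : b ∈ F.cham)
    (hmax : ∀ (G : Facet P) (c : P.Base), c ∈ G.cham → G.deg d c ≤ F.deg d b)
    (hmaxl : ∀ (G : Facet P) (c : P.Base), c ∈ G.cham → G.deg d c = F.deg d b → F ≤ G → G = F) :
    IsSpecial d F := by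
  obtain ⟨y, hy1, hy2⟩ := exists_mem_hyper_inter_span hd F
  have hyD := mem_dualSolid_of_maxDeg hd F b hb hmax hy1 hy2
  have hpos : ∀ i : b.support, F.sgn i = 1 → 0 < P.root' i y :=
    fun i hi => root'_pos_of_maximal hd F b hb hmax hmaxl hy1 hy2 i hi
  refine ⟨y, ?_, hyD⟩
  rw [mem_dualCarrier_iff F hb]
  refine ⟨fun i hi => ?_, fun i hi => ⟨fun hp => ?_, fun h1 => hpos ⟨i, hi⟩ h1⟩⟩
  · by_cases h1 : F.sgn i = 1
    · exact (hpos ⟨i, hi⟩ h1).le
    · rw [root'_eq_zero_of_mem_span_dualCarrier F hb hy2 hi h1]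
  · by_contra h1
    rw [root'_eq_zero_of_mem_span_dualCarrier F hb hy2 hi h1] at hp
    exact lt_irrefl _ hp

instance : Finite (Facet P) :=
  Finite.of_injective (fun F : Facet P => F.sgn) (fun _ _ h => Facet.ext h)

/-- S14246 -/
theorem existsUnique_isSpecial (hd : IsCCS d) : ∃! F : Facet P, IsSpecial d F := by
  classical
  let c : ∀ G : Facet P, P.Base := fun G => (Facet.cham_nonempty G).some
  have hc : ∀ G : Facet P, c G ∈ G.cham := fun G => (Facet.cham_nonempty G).some_mem
  let deg' : Facet P → R := fun G => G.deg d (c G)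
  have hdeg : ∀ (G : Facet P) (c' : P.Base), c' ∈ G.cham → G.deg d c' = deg' G :=
    fun G c' hc' => deg_eq_deg_of_mem_cham hd G c' (c G) hc' (hc G)
  have : Nonempty (Facet P) := ⟨Facet.origin P⟩
  obtain ⟨F₁, hF₁⟩ := Finite.exists_max deg'
  obtain ⟨F, hFmem, hFmax⟩ := Set.Finite.exists_maximal (s := {G : Facet P | deg' G = deg' F₁})
    (Set.toFinite _) ⟨F₁, rfl⟩
  have hFmem' : deg' F = deg' F₁ := hFmem
  have hFsp : IsSpecial d F := by
    refine isSpecial_of_maximal_among_maxDeg hd F (c F) (hc F) ?_ ?_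
    · intro G c' hc'
      rw [hdeg G c' hc', hdeg F (c F) (hc F), hFmem']
      exact hF₁ G
    · intro G c' hc' heq hFG
      rw [hdeg G c' hc', hdeg F (c F) (hc F), hFmem'] at heq
      exact le_antisymm (hFmax (show deg' G = deg' F₁ from heq) hFG) hFG
  refine ⟨F, hFsp, fun F' hF' => ?_⟩
  have h1 := isGreatest_among_maxDeg_of_isSpecial hd F (c F) (hc F) hFsp
  have h2 := isGreatest_among_maxDeg_of_isSpecial hd F' (c F') (hc F') hF'
  have heq : F'.deg d (c F') = F.deg d (c F) :=
    le_antisymm (h1.1 F' (c F') (hc F')) (h2.1 F (c F) (hc F))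
  exact le_antisymm (h1.2 F' (c F') (hc F') heq) (h2.2 F (c F) (hc F) heq.symm)

end Groth.Agent.Helper21.RC
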