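import Mathlib
import Groth.Agent.Lib.Helper21.Sep1

/-!
# Schematically dense families modulo a nilpotent ideal with free graded pieces: ring core
(helper21)
-/

set_option autoImplicit false
set_option linter.style.haveILetI false
set_option linter.unusedSectionVars false

universe u

open TensorProduct Function CategoryTheory Limits

namespace Groth.Agent.Helper21.Sep

theorem dense_ring {R : Type u} [CommRing R] (J : Ideal R) (hJ : IsNilpotent J)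
    (hfree : ∀ k : ℕ, Module.Free (R ⧸ J) ((R ⧸ J) ⊗[R] ↥(J ^ k)))
    {B B₀ : Type u} [CommRing B] [CommRing B₀] [Algebra R B] [Algebra R B₀]
    [Algebra (R ⧸ J) B₀] [Algebra B B₀] [IsScalarTower R B B₀] [IsScalarTower R (R ⧸ J) B₀]
    [Algebra.IsPushout R (R ⧸ J) B B₀]
    {κ : Type*} (C C₀ : κ → Type u) [∀ k, CommRing (C k)] [∀ k, CommRing (C₀ k)]
    [∀ k, Algebra R (C k)] [∀ k, Algebra R (C₀ k)] [∀ k, Algebra (R ⧸ J) (C₀ k)]
    [∀ k, Algebra (C k) (C₀ k)] [∀ k, IsScalarTower R (C k) (C₀ k)]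
    [∀ k, IsScalarTower R (R ⧸ J) (C₀ k)] [∀ k, Algebra.IsPushout R (R ⧸ J) (C k) (C₀ k)]
    [∀ k, Module.Flat R (C k)]
    (f : ∀ k, B →ₐ[R] C k) (f₀ : ∀ k, B₀ →ₐ[R ⧸ J] C₀ k)
    (hf₀ : ∀ k b, f₀ k (algebraMap B B₀ b) = algebraMap (C k) (C₀ k) (f k b))
    (h0 : ∀ x : B₀, (∀ k, f₀ k x = 0) → x = 0) (t : B) (ht : ∀ k, f k t = 0) : t = 0 := by
  refine eq_zero_of_forall_eq_zero J hJ hfree C (fun k => (f k).toLinearMap) ?_ t ht
  intro z hz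
  have key : ∀ k (z : (R ⧸ J) ⊗[R] B),
      f₀ k (Algebra.IsPushout.equiv R (R ⧸ J) B B₀ z) =
        Algebra.IsPushout.equiv R (R ⧸ J) (C k) (C₀ k)
          ((f k).toLinearMap.baseChange (R ⧸ J) z) := by
    intro k z
    induction z using TensorProduct.induction_on with
    | zero => simp
    | tmul a b =>
      rw [Algebra.IsPushout.equiv_tmul, map_mul, AlgHom.commutes, hf₀, LinearMap.baseChange_tmul,
        Algebra.IsPushout.equiv_tmul]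
      rfl
    | add x y hx hy => simp only [map_add, hx, hy]
  have hx : Algebra.IsPushout.equiv R (R ⧸ J) B B₀ z = 0 :=
    h0 _ (fun k => by rw [key, hz k, map_zero])
  exact (Algebra.IsPushout.equiv R (R ⧸ J) B B₀).injective (hx.trans (map_zero _).symm)

set_option maxHeartbeats 800000 in
/-- Categorical packaging of `dense_ring`. -/
theorem dense_core {R : CommRingCat.{u}} (J : Ideal ↑R) (hJ : IsNilpotent J)
    (hfree : ∀ k : ℕ, Module.Free (↑R ⧸ J) ((↑R ⧸ J) ⊗[↑R] ↥(J ^ k)))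
    {B B₀ : CommRingCat.{u}} (a : R ⟶ B) (b : B ⟶ B₀) (s : CommRingCat.of (↑R ⧸ J) ⟶ B₀)
    (hB : IsPushout a (CommRingCat.ofHom (Ideal.Quotient.mk J)) b s)
    {κ : Type*} (C C₀ : κ → CommRingCat.{u}) (c : ∀ k, R ⟶ C k) (hc : ∀ k, (c k).hom.Flat)
    (d : ∀ k, C k ⟶ C₀ k) (s' : ∀ k, CommRingCat.of (↑R ⧸ J) ⟶ C₀ k)
    (hC : ∀ k, IsPushout (c k) (CommRingCat.ofHom (Ideal.Quotient.mk J)) (d k) (s' k))
    (f : ∀ k, B ⟶ C k) (hf : ∀ k, a ≫ f k = c k)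
    (f₀ : ∀ k, B₀ ⟶ C₀ k) (hf₀ : ∀ k, b ≫ f₀ k = f k ≫ d k) (hf₀' : ∀ k, s ≫ f₀ k = s' k)
    (h0 : ∀ x : B₀, (∀ k, (f₀ k).hom x = 0) → x = 0) (t : B) (ht : ∀ k, (f k).hom t = 0) :
    t = 0 := by
  letI algB : Algebra ↑R ↑B := a.hom.toAlgebra
  letI algSB₀ : Algebra (↑R ⧸ J) ↑B₀ := s.hom.toAlgebra
  letI algBB₀ : Algebra ↑B ↑B₀ := b.hom.toAlgebra
  letI algRB₀ : Algebra ↑R ↑B₀ := (b.hom.comp a.hom).toAlgebra
  haveI tw1 : IsScalarTower ↑R ↑B ↑B₀ := IsScalarTower.of_algebraMap_eq fun _ => rfl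
  haveI tw2 : IsScalarTower ↑R (↑R ⧸ J) ↑B₀ := IsScalarTower.of_algebraMap_eq fun r => by
    have := congrArg (fun ψ => ψ.hom r) hB.w
    exact this
  have hpo1 : Algebra.IsPushout ↑R ↑B (↑R ⧸ J) ↑B₀ :=
    (CommRingCat.isPushout_iff_isPushout (R := ↑R) (S := ↑R ⧸ J) (R' := ↑B) (S' := ↑B₀)).mp hB
  haveI hpo : Algebra.IsPushout ↑R (↑R ⧸ J) ↑B ↑B₀ := hpo1.symm
  letI algC : ∀ k, Algebra ↑R ↑(C k) := fun k => (c k).hom.toAlgebra
  letI algSC₀ : ∀ k, Algebra (↑R ⧸ J) ↑(C₀ k) := fun k => (s' k).hom.toAlgebra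
  letI algCC₀ : ∀ k, Algebra ↑(C k) ↑(C₀ k) := fun k => (d k).hom.toAlgebra
  letI algRC₀ : ∀ k, Algebra ↑R ↑(C₀ k) := fun k => ((d k).hom.comp (c k).hom).toAlgebra
  haveI tw1C : ∀ k, IsScalarTower ↑R ↑(C k) ↑(C₀ k) := fun k =>
    IsScalarTower.of_algebraMap_eq fun _ => rfl
  haveI tw2C : ∀ k, IsScalarTower ↑R (↑R ⧸ J) ↑(C₀ k) := fun k =>
    IsScalarTower.of_algebraMap_eq fun r => by
      have := congrArg (fun ψ => ψ.hom r) (hC k).w
      exact this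
  haveI hpoC : ∀ k, Algebra.IsPushout ↑R (↑R ⧸ J) ↑(C k) ↑(C₀ k) := fun k =>
    ((CommRingCat.isPushout_iff_isPushout (R := ↑R) (S := ↑R ⧸ J) (R' := ↑(C k))
      (S' := ↑(C₀ k))).mp (hC k)).symm
  haveI flC : ∀ k, Module.Flat ↑R ↑(C k) := fun k => hc k
  refine dense_ring J hJ hfree (B := ↑B) (B₀ := ↑B₀) (fun k => ↑(C k)) (fun k => ↑(C₀ k))
    (fun k => { (f k).hom with
      commutes' := fun r => congrArg (fun ψ => ψ.hom r) (hf k) })
    (fun k => { (f₀ k).hom with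
      commutes' := fun r => congrArg (fun ψ => ψ.hom r) (hf₀' k) })
    (fun k x => congrArg (fun ψ => ψ.hom x) (hf₀ k)) h0 t ht

end Groth.Agent.Helper21.Sep
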