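import Mathlib
import Groth.Agent.Lib.Helper21.Sep2
import Groth.Agent.Lib.Helper21.Sep3

/-!
# Schematically dense families modulo a nilpotent ideal: scheme level (helper21)
-/

set_option autoImplicit false
set_option linter.style.haveILetI false
set_option linter.unusedSectionVars false
set_option maxRecDepth 8000

universe u

open CategoryTheory AlgebraicGeometry Limits Opposite TopologicalSpace TensorProduct

namespace Groth.Agent.Helper21.Sep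

theorem appLE_congr_hom {X Y : Scheme.{u}} {f g : X ⟶ Y} (h : f = g) {U : Y.Opens} {V : X.Opens}
    (e : V ≤ f ⁻¹ᵁ U) (e' : V ≤ g ⁻¹ᵁ U) : f.appLE U V e = g.appLE U V e' := by
  subst h; rfl

theorem apply_eq_of_comm {P Q Y X : Scheme.{u}} (m : P ⟶ Q) (pr : Q ⟶ X) (pr' : P ⟶ Y) (v : Y ⟶ X)
    (h : m ≫ pr = pr' ≫ v) (y : P) : pr (m y) = v (pr' y) := by
  rw [← Scheme.Hom.comp_apply, ← Scheme.Hom.comp_apply, h]

theorem preimage_le_of_comm {P Q Y X : Scheme.{u}} (m : P ⟶ Q) (pr : Q ⟶ X) (pr' : P ⟶ Y)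
    (v : Y ⟶ X) (h : m ≫ pr = pr' ≫ v) {W : X.Opens} {U : Y.Opens} (hU : U ≤ v ⁻¹ᵁ W) :
    pr' ⁻¹ᵁ U ≤ m ⁻¹ᵁ (pr ⁻¹ᵁ W) := by
  intro y hy
  have h1 : pr' y ∈ v ⁻¹ᵁ W := hU hy
  change pr (m y) ∈ W
  rw [apply_eq_of_comm m pr pr' v h]
  exact h1

/-- the quotient map as a morphism of `CommRingCat`. -/
abbrev qmap {A : CommRingCat.{u}} (J : Ideal ↑A) : A ⟶ CommRingCat.of (↑A ⧸ J) :=
  CommRingCat.ofHom (Ideal.Quotient.mk J)

set_option maxHeartbeats 1600000 in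
set_option synthInstance.maxHeartbeats 400000 in
theorem dense_affine_aux {X : Scheme.{u}} (A : CommRingCat.{u}) (p : X ⟶ Spec A)
    (J : Ideal ↑A) (hJ : IsNilpotent J)
    (hfree : ∀ k : ℕ, Module.Free (↑A ⧸ J) ((↑A ⧸ J) ⊗[↑A] ↥(J ^ k)))
    {ι : Type u} (Z : ι → Scheme.{u}) (v : ∀ i, Z i ⟶ X) [∀ i, Flat (v i ≫ p)]
    (m : ∀ i, pullback (v i ≫ p) (Spec.map (qmap J)) ⟶ pullback p (Spec.map (qmap J)))
    (hm1 : ∀ i, m i ≫ pullback.fst p (Spec.map (qmap J)) =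
      pullback.fst (v i ≫ p) (Spec.map (qmap J)) ≫ v i)
    (hm2 : ∀ i, m i ≫ pullback.snd p (Spec.map (qmap J)) =
      pullback.snd (v i ≫ p) (Spec.map (qmap J)))
    (h0 : ∀ (V : (pullback p (Spec.map (qmap J))).Opens)
      (t : Γ(pullback p (Spec.map (qmap J)), V)), (∀ i, (m i).app V t = 0) → t = 0)
    {W : X.Opens} (hW : IsAffineOpen W) (t : Γ(X, W)) (ht : ∀ i, (v i).app W t = 0) : t = 0 := by
  have hle : ∀ (i : ι) (U : {U : (Z i).Opens // IsAffineOpen U ∧ U ≤ (v i) ⁻¹ᵁ W}),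
      (pullback.fst (v i ≫ p) (Spec.map (qmap J))) ⁻¹ᵁ U.1 ≤
        (m i) ⁻¹ᵁ ((pullback.fst p (Spec.map (qmap J))) ⁻¹ᵁ W) :=
    fun i U => preimage_le_of_comm _ _ _ _ (hm1 i) U.2.2
  refine dense_core (R := A) J hJ hfree
    (B := Γ(X, W)) (B₀ := Γ(pullback p (Spec.map (qmap J)),
      (pullback.fst p (Spec.map (qmap J))) ⁻¹ᵁ W))
    ((Scheme.ΓSpecIso A).inv ≫ p.appLE ⊤ W le_top)
    ((pullback.fst p (Spec.map (qmap J))).appLE W
      ((pullback.fst p (Spec.map (qmap J))) ⁻¹ᵁ W) le_rfl)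
    ((Scheme.ΓSpecIso (CommRingCat.of (↑A ⧸ J))).inv ≫
      (pullback.snd p (Spec.map (qmap J))).appLE ⊤
        ((pullback.fst p (Spec.map (qmap J))) ⁻¹ᵁ W) le_top)
    (isPushout_sections p (qmap J) hW)
    (κ := Σ i : ι, {U : (Z i).Opens // IsAffineOpen U ∧ U ≤ (v i) ⁻¹ᵁ W})
    (fun k => Γ(Z k.1, k.2.1))
    (fun k => Γ(pullback (v k.1 ≫ p) (Spec.map (qmap J)),
      (pullback.fst (v k.1 ≫ p) (Spec.map (qmap J))) ⁻¹ᵁ k.2.1))
    (fun k => (Scheme.ΓSpecIso A).inv ≫ (v k.1 ≫ p).appLE ⊤ k.2.1 le_top)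
    ?hc
    (fun k => (pullback.fst (v k.1 ≫ p) (Spec.map (qmap J))).appLE k.2.1
      ((pullback.fst (v k.1 ≫ p) (Spec.map (qmap J))) ⁻¹ᵁ k.2.1) le_rfl)
    (fun k => (Scheme.ΓSpecIso (CommRingCat.of (↑A ⧸ J))).inv ≫
      (pullback.snd (v k.1 ≫ p) (Spec.map (qmap J))).appLE ⊤
        ((pullback.fst (v k.1 ≫ p) (Spec.map (qmap J))) ⁻¹ᵁ k.2.1) le_top)
    (fun k => isPushout_sections (v k.1 ≫ p) (qmap J) k.2.2.1)
    (fun k => (v k.1).appLE W k.2.1 k.2.2.2)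
    ?hf
    (fun k => (m k.1).appLE ((pullback.fst p (Spec.map (qmap J))) ⁻¹ᵁ W)
      ((pullback.fst (v k.1 ≫ p) (Spec.map (qmap J))) ⁻¹ᵁ k.2.1) (hle k.1 k.2))
    ?hf₀ ?hf₀' ?h0 t ?ht
  case hc =>
    intro k
    rw [CommRingCat.hom_comp]
    exact RingHom.Flat.comp (RingHom.Flat.of_bijective
      ((ConcreteCategory.isIso_iff_bijective (Scheme.ΓSpecIso A).inv).mp inferInstance))
      (Flat.flat_appLE (v k.1 ≫ p) (isAffineOpen_top _) k.2.2.1 le_top)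
  case hf =>
    intro k
    rw [Category.assoc, Scheme.Hom.appLE_comp_appLE]
  case hf₀ =>
    intro k
    rw [Scheme.Hom.appLE_comp_appLE, Scheme.Hom.appLE_comp_appLE]
    exact appLE_congr_hom (hm1 k.1) _ _
  case hf₀' =>
    intro k
    rw [Category.assoc, Scheme.Hom.appLE_comp_appLE]
    congr 1
    exact appLE_congr_hom (hm2 k.1) _ _
  case ht =>
    intro k
    have h1 : ((v k.1).appLE W k.2.1 k.2.2.2).hom t =
        ((Z k.1).presheaf.map (homOfLE k.2.2.2).op).hom (((v k.1).app W).hom t) := rfl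
    rw [h1, ht k.1, map_zero]
  case h0 =>
    intro x hx
    apply h0 _ x
    intro i
    refine TopCat.Sheaf.eq_of_locally_eq' (pullback (v i ≫ p) (Spec.map (qmap J))).sheaf
      (fun U : {U : (Z i).Opens // IsAffineOpen U ∧ U ≤ (v i) ⁻¹ᵁ W} =>
        (pullback.fst (v i ≫ p) (Spec.map (qmap J))) ⁻¹ᵁ U.1)
      ((m i) ⁻¹ᵁ ((pullback.fst p (Spec.map (qmap J))) ⁻¹ᵁ W))
      (fun U => homOfLE (hle i U)) ?_ _ 0 ?_
    · intro y hy
      have hy1 : (pullback.fst p (Spec.map (qmap J))) ((m i) y) ∈ W := hy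
      rw [apply_eq_of_comm _ _ _ _ (hm1 i)] at hy1
      have hy2 : (pullback.fst (v i ≫ p) (Spec.map (qmap J))) y ∈ (v i) ⁻¹ᵁ W := hy1
      obtain ⟨U, hUaff, hyU, hUW⟩ := (TopologicalSpace.Opens.isBasis_iff_nbhd.mp
        ((Z i).isBasis_affineOpens)) hy2
      exact TopologicalSpace.Opens.mem_iSup.mpr ⟨⟨U, hUaff, hUW⟩, hyU⟩
    · intro U
      refine Eq.trans ?_ (map_zero _).symm
      exact hx ⟨i, U⟩

theorem dense_affine {X : Scheme.{u}} (A : CommRingCat.{u}) (p : X ⟶ Spec A)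
    (J : Ideal ↑A) (hJ : IsNilpotent J)
    (hfree : ∀ k : ℕ, Module.Free (↑A ⧸ J) ((↑A ⧸ J) ⊗[↑A] ↥(J ^ k)))
    {ι : Type u} (Z : ι → Scheme.{u}) (v : ∀ i, Z i ⟶ X) [∀ i, Flat (v i ≫ p)]
    (h0 : ∀ (V : (pullback p (Spec.map (qmap J))).Opens)
      (t : Γ(pullback p (Spec.map (qmap J)), V)),
      (∀ i, (pullback.map (v i ≫ p) (Spec.map (qmap J)) p (Spec.map (qmap J)) (v i) (𝟙 _) (𝟙 _)
        (Category.comp_id _) ((Category.comp_id _).trans (Category.id_comp _).symm)).app V t = 0) →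
        t = 0)
    {W : X.Opens} (hW : IsAffineOpen W) (t : Γ(X, W)) (ht : ∀ i, (v i).app W t = 0) : t = 0 :=
  dense_affine_aux A p J hJ hfree Z v
    (fun i => pullback.map (v i ≫ p) (Spec.map (qmap J)) p (Spec.map (qmap J)) (v i) (𝟙 _) (𝟙 _)
        (Category.comp_id _) ((Category.comp_id _).trans (Category.id_comp _).symm))
    (fun i => pullback.lift_fst _ _ _)
    (fun i => (pullback.lift_snd _ _ _).trans (Category.comp_id _)) h0 hW t ht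

end Groth.Agent.Helper21.Sep
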