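import Mathlib

/-!
# Fully faithfulness of the functor induced on Serre quotients by a full abelian subcategory
-/

open CategoryTheory CategoryTheory.Limits

namespace Groth.Agent.Helper21.SFF

universe v u v' u' v'' u''

section

variable {A A' : Type u} [Category.{v} A] [Abelian A] [Category.{v} A'] [Abelian A']
    (i : A' ⥤ A) [i.Full] [i.Faithful] [PreservesFiniteLimits i] [PreservesFiniteColimits i]

/-- kernel of a map from `i M` to an object in the essential image. -/
lemma exists_kernel {M : A'} {T : A} (q : i.obj M ⟶ T) (hT : i.essImage T) :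
    ∃ (I' : A') (m' : I' ⟶ M) (eI : i.obj I' ≅ kernel q),
      eI.hom ≫ kernel.ι q = i.map m' := by
  obtain ⟨C', ⟨eC⟩⟩ := hT
  have hπ : i.map (i.preimage (q ≫ eC.inv)) = q ≫ eC.inv := i.map_preimage _
  refine ⟨kernel (i.preimage (q ≫ eC.inv)), kernel.ι _,
    PreservesKernel.iso i _ ≪≫ kernelIsoOfEq hπ ≪≫ kernelCompMono q eC.inv, ?_⟩
  simp

/-- cokernel of a map to `i N` from an object in the essential image. -/
lemma exists_cokernel {N : A'} {B : A} (b : B ⟶ i.obj N) (hB : i.essImage B) :
    ∃ (N' : A') (t' : N ⟶ N') (eN : cokernel b ≅ i.obj N'),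
      cokernel.π b ≫ eN.hom = i.map t' := by
  obtain ⟨B', ⟨eB⟩⟩ := hB
  have hβ : i.map (i.preimage (eB.hom ≫ b)) = eB.hom ≫ b := i.map_preimage _
  refine ⟨cokernel (i.preimage (eB.hom ≫ b)), cokernel.π _,
    (cokernelEpiComp eB.hom b).symm ≪≫ cokernelIsoOfEq hβ.symm ≪≫
      (PreservesCokernel.iso i _).symm, ?_⟩
  simp

variable (J : ObjectProperty A) [J.IsSerreClass] [(J.inverseImage i).IsSerreClass]

lemma isoModSerre_inverseImage_iff {X Y : A'} (h : X ⟶ Y) :
    (J.inverseImage i).isoModSerre h ↔ J.isoModSerre (i.map h) := by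
  rw [ObjectProperty.isoModSerre_iff, ObjectProperty.isoModSerre_iff]
  exact and_congr (J.prop_iff_of_iso (PreservesKernel.iso i h))
    (J.prop_iff_of_iso (PreservesCokernel.iso i h))

theorem full_faithful
    (hsub : ∀ (M : A') (N : A) (f : N ⟶ i.obj M), Mono f → J N → i.essImage N)
    (hquot : ∀ (M : A') (N : A) (p : i.obj M ⟶ N), Epi p → J N → i.essImage N)
    {Q : Type u'} [Category.{v'} Q] (L : A ⥤ Q) [L.IsLocalization J.isoModSerre]
    {Q' : Type u''} [Category.{v''} Q'] (L' : A' ⥤ Q')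
    [L'.IsLocalization (J.inverseImage i).isoModSerre]
    (Φ : Q' ⥤ Q) (e : L' ⋙ Φ ≅ i ⋙ L) : Φ.Full ∧ Φ.Faithful := by
  have hessL' : L'.EssSurj := Localization.essSurj L' (J.inverseImage i).isoModSerre
  have hinvL := Localization.inverts L J.isoModSerre
  have hinvL' := Localization.inverts L' (J.inverseImage i).isoModSerre
  have hnat : ∀ {X Y : A'} (x : X ⟶ Y),
      Φ.map (L'.map x) = e.hom.app X ≫ L.map (i.map x) ≫ e.inv.app Y :=
    fun x => (NatIso.naturality_2 e x).symm
  constructor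
  · refine Φ.full_of_comp_essSurj L' (fun M N c => ?_)
    obtain ⟨φ, hφ⟩ := Localization.exists_rightFraction L J.isoModSerre
      (e.inv.app M ≫ c ≫ e.hom.app N)
    have hsf : L.map φ.s ≫ (e.inv.app M ≫ c ≫ e.hom.app N) = L.map φ.f := by
      rw [hφ]; exact φ.map_s_comp_map L _
    have hs := φ.hs
    have hJK : J (kernel φ.s) := hs.1
    have hJC : J (cokernel φ.s) := hs.2
    -- the image part
    obtain ⟨I', m', eI, hm'⟩ := exists_kernel i (cokernel.π φ.s)
      (hquot M _ (cokernel.π φ.s) inferInstance hJC)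
    obtain ⟨p', hp'def⟩ : ∃ p' : φ.X' ⟶ i.obj I', p' = Abelian.factorThruImage φ.s ≫ eI.inv :=
      ⟨_, rfl⟩
    have hp'm : p' ≫ i.map m' = φ.s := by
      rw [hp'def, ← hm']
      simp only [Category.assoc, Iso.inv_hom_id_assoc]
      exact Abelian.image.fac φ.s
    have hepi : Epi p' := by rw [hp'def]; exact epi_comp _ _
    have hWm : J.isoModSerre (i.map m') := by
      rw [← hm']
      exact J.isoModSerre.comp_mem _ _ (J.isoModSerre_of_isIso eI.hom)
        (ObjectProperty.epiModSerre.isoModSerre_image_ι hs.2)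
    have hW'm : (J.inverseImage i).isoModSerre m' := (isoModSerre_inverseImage_iff i J m').2 hWm
    -- the B part
    have hJB : J (Abelian.image (kernel.ι φ.s ≫ φ.f)) :=
      J.prop_of_epi (Abelian.factorThruImage (kernel.ι φ.s ≫ φ.f)) hJK
    obtain ⟨N', t', eN, ht'⟩ := exists_cokernel i (Abelian.image.ι (kernel.ι φ.s ≫ φ.f))
      (hsub N _ (Abelian.image.ι (kernel.ι φ.s ≫ φ.f)) inferInstance hJB)
    have hWt : J.isoModSerre (i.map t') := by
      rw [← ht']
      refine J.isoModSerre.comp_mem _ _ ?_ (J.isoModSerre_of_isIso eN.hom)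
      refine J.isoModSerre_of_epi _ ?_
      exact J.prop_of_iso
        (asIso (Abelian.factorThruImage (Abelian.image.ι (kernel.ι φ.s ≫ φ.f)))) hJB
    have hW't : (J.inverseImage i).isoModSerre t' := (isoModSerre_inverseImage_iff i J t').2 hWt
    have hkill : kernel.ι φ.s ≫ φ.f ≫ i.map t' = 0 := by
      have h1 : kernel.ι φ.s ≫ φ.f = Abelian.factorThruImage (kernel.ι φ.s ≫ φ.f) ≫
          Abelian.image.ι (kernel.ι φ.s ≫ φ.f) := (Abelian.image.fac _).symm
      rw [← Category.assoc, h1, ← ht', Category.assoc, cokernel.condition_assoc, zero_comp,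
        comp_zero]
    have hkill' : kernel.ι p' ≫ φ.f ≫ i.map t' = 0 := by
      have h0 : kernel.ι p' ≫ φ.s = 0 := by
        rw [← hp'm, ← Category.assoc, kernel.condition, zero_comp]
      have h1 : kernel.lift φ.s (kernel.ι p') h0 ≫ kernel.ι φ.s = kernel.ι p' :=
        kernel.lift_ι _ _ _
      calc kernel.ι p' ≫ φ.f ≫ i.map t'
          = (kernel.lift φ.s (kernel.ι p') h0 ≫ kernel.ι φ.s) ≫ φ.f ≫ i.map t' := by rw [h1]
        _ = 0 := by rw [Category.assoc, hkill, comp_zero]
    have hf'' : p' ≫ Abelian.epiDesc p' (φ.f ≫ i.map t') hkill' = φ.f ≫ i.map t' :=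
      Abelian.comp_epiDesc p' _ hkill'
    obtain ⟨f', hf'⟩ : ∃ f' : I' ⟶ N', i.map f' = Abelian.epiDesc p' (φ.f ≫ i.map t') hkill' :=
      ⟨i.preimage _, i.map_preimage _⟩
    have hI1 : IsIso (L'.map m') := hinvL' _ hW'm
    have hI2 : IsIso (L'.map t') := hinvL' _ hW't
    have hI3 : IsIso (L.map (i.map m')) := hinvL _ hWm
    have hI4 : IsIso (L.map (i.map t')) := hinvL _ hWt
    have hI5 : IsIso (L.map φ.s) := hinvL _ hs
    have hLp : IsIso (L.map p') := by
      have h1 : L.map p' ≫ L.map (i.map m') = L.map φ.s := by rw [← L.map_comp, hp'm]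
      have h2 : IsIso (L.map p' ≫ L.map (i.map m')) := by rw [h1]; infer_instance
      exact IsIso.of_isIso_comp_right (L.map p') (L.map (i.map m'))
    have key : L.map (i.map m') ≫ (e.inv.app M ≫ c ≫ e.hom.app N) ≫ L.map (i.map t') =
        L.map (i.map f') := by
      rw [← cancel_epi (L.map p'), hf']
      calc L.map p' ≫ L.map (i.map m') ≫ (e.inv.app M ≫ c ≫ e.hom.app N) ≫ L.map (i.map t')
          = (L.map p' ≫ L.map (i.map m')) ≫ (e.inv.app M ≫ c ≫ e.hom.app N) ≫
              L.map (i.map t') := by simp only [Category.assoc]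
        _ = L.map φ.s ≫ (e.inv.app M ≫ c ≫ e.hom.app N) ≫ L.map (i.map t') := by
            rw [← L.map_comp, hp'm]
        _ = (L.map φ.s ≫ (e.inv.app M ≫ c ≫ e.hom.app N)) ≫ L.map (i.map t') := by
            simp only [Category.assoc]
        _ = L.map φ.f ≫ L.map (i.map t') := by rw [hsf]
        _ = L.map (p' ≫ Abelian.epiDesc p' (φ.f ≫ i.map t') hkill') := by
            rw [hf'', L.map_comp]
        _ = L.map p' ≫ L.map (Abelian.epiDesc p' (φ.f ≫ i.map t') hkill') := L.map_comp _ _
    obtain ⟨c₀, hc₀⟩ : ∃ c₀, L'.map m' ≫ c₀ ≫ L'.map t' = L'.map f' :=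
      ⟨inv (L'.map m') ≫ L'.map f' ≫ inv (L'.map t'), by simp⟩
    refine ⟨c₀, ?_⟩
    rw [← cancel_epi (Φ.map (L'.map m')), ← cancel_mono (Φ.map (L'.map t'))]
    have h2 := congrArg (fun x => Φ.map x) hc₀
    simp only [Functor.map_comp] at h2
    rw [Category.assoc, h2, hnat, hnat m', hnat t', ← key]
    simp only [Category.assoc]
  · refine Functor.faithful_of_comp_of_hasLeftCalculusOfFractions L'
      (J.inverseImage i).isoModSerre Φ (fun X₁ X₂ f g hfg => ?_)
    have h1 : L.map (i.map f) = L.map (i.map g) := by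
      have hf := hnat f
      have hg := hnat g
      rw [hfg, hg] at hf
      have h3 := congrArg (fun x => e.inv.app X₁ ≫ x ≫ e.hom.app X₂) hf
      simpa using h3.symm
    rw [MorphismProperty.map_eq_iff_precomp L J.isoModSerre] at h1
    obtain ⟨Z, s, hs, fac⟩ := h1
    rw [MorphismProperty.map_eq_iff_precomp L' (J.inverseImage i).isoModSerre]
    have hadd : i.Additive := Functor.additive_of_preserves_binary_products i
    refine ⟨kernel (f - g), kernel.ι (f - g), ?_, ?_⟩
    · rw [isoModSerre_inverseImage_iff]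
      have h0 : s ≫ i.map (f - g) = 0 := by
        rw [i.map_sub, Preadditive.comp_sub, fac, sub_self]
      have hs₀ : (kernel.lift (i.map (f - g)) s h0 ≫ (PreservesKernel.iso i (f - g)).inv) ≫
          i.map (kernel.ι (f - g)) = s := by
        rw [Category.assoc, PreservesKernel.iso_inv_ι, kernel.lift_ι]
      have hmono : Mono (i.map (kernel.ι (f - g))) := inferInstance
      rw [J.isoModSerre_iff_of_mono]
      have hcond : s ≫ cokernel.π (i.map (kernel.ι (f - g))) = 0 := by
        rw [← hs₀, Category.assoc, cokernel.condition, comp_zero]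
      have hepi : Epi (cokernel.desc s (cokernel.π (i.map (kernel.ι (f - g)))) hcond) :=
        epi_of_epi_fac (cokernel.π_desc s _ hcond)
      exact J.prop_of_epi (cokernel.desc s (cokernel.π (i.map (kernel.ι (f - g)))) hcond) hs.2
    · rw [← sub_eq_zero, ← Preadditive.comp_sub, kernel.condition]

end

end Groth.Agent.Helper21.SFF
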