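import Mathlib
import Groth.Agent.Lib.Helper21.Slice2

/-!
# Slicing a flat morphism by a fibrewise nonzerodivisor (helper21)

`slice_scheme`: `f : X ⟶ S` locally of finite presentation and flat at `x`, `h ∈ 𝔪_x` a nonzerodivisor
on `𝒪_{X,x}/𝔪_s𝒪_{X,x}`. Then `h` extends to a nonzerodivisor `h'` on an affine open neighbourhood
`U` of `x` such that `V(h') → S` is flat and locally of finite presentation.
-/

set_option autoImplicit false
set_option linter.style.haveILetI false
set_option linter.unusedSectionVars false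

universe u

open TensorProduct Function CategoryTheory AlgebraicGeometry Limits

namespace Groth.Agent.Helper21.Slice

set_option maxHeartbeats 1600000 in
set_option synthInstance.maxHeartbeats 400000 in
theorem slice_scheme {X S : Scheme.{u}} (f : X ⟶ S) [LocallyOfFinitePresentation f] (x : X)
    (hflat : (f.stalkMap x).hom.Flat) (h : X.presheaf.stalk x)
    (hm : h ∈ IsLocalRing.maximalIdeal (X.presheaf.stalk x))
    (hreg : Ideal.Quotient.mk (Ideal.map (f.stalkMap x).hom
        (IsLocalRing.maximalIdeal (S.presheaf.stalk (f x)))) h ∈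
      nonZeroDivisors (X.presheaf.stalk x ⧸ Ideal.map (f.stalkMap x).hom
        (IsLocalRing.maximalIdeal (S.presheaf.stalk (f x))))) :
    ∃ (U : X.Opens) (hU : IsAffineOpen U) (hx : x ∈ U) (h' : Γ(X, U)),
      X.presheaf.germ U x hx h' = h ∧ h' ∈ nonZeroDivisors Γ(X, U) ∧
      Flat (Spec.map (CommRingCat.ofHom (Ideal.Quotient.mk (Ideal.span {h'}))) ≫
        hU.fromSpec ≫ f) ∧
      LocallyOfFinitePresentation
        (Spec.map (CommRingCat.ofHom (Ideal.Quotient.mk (Ideal.span {h'}))) ≫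
          hU.fromSpec ≫ f) := by
  obtain ⟨W, hW, hfx, -⟩ := TopologicalSpace.Opens.isBasis_iff_nbhd.mp S.isBasis_affineOpens
    (TopologicalSpace.Opens.mem_top (f x))
  obtain ⟨U₀, hxU₀, s₀, hs₀⟩ := TopCat.Presheaf.exists_germ_eq X.presheaf h
  obtain ⟨V, hV, hxV, hVle⟩ := TopologicalSpace.Opens.isBasis_iff_nbhd.mp X.isBasis_affineOpens
    (show x ∈ U₀ ⊓ f ⁻¹ᵁ W from ⟨hxU₀, hfx⟩)
  have eV : V ≤ f ⁻¹ᵁ W := hVle.trans inf_le_right
  let h₀ : Γ(X, V) := X.presheaf.map (homOfLE (hVle.trans inf_le_left)).op s₀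
  have hh₀ : X.presheaf.germ V x hxV h₀ = h := by
    rw [← hs₀]
    exact X.presheaf.germ_res_apply (homOfLE (hVle.trans inf_le_left)) x hxV s₀
  have hfp : (f.appLE W V eV).hom.FinitePresentation :=
    HasRingHomProperty.appLE @LocallyOfFinitePresentation f inferInstance ⟨W, hW⟩ ⟨V, hV⟩ eV
  algebraize [(f.appLE W V eV).hom]
  letI aΛ := S.presheaf.algebra_section_stalk ⟨f x, hfx⟩
  letI aLX := X.presheaf.algebra_section_stalk ⟨x, hxV⟩
  haveI lΛ := hW.isLocalization_stalk ⟨f x, hfx⟩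
  haveI lLX := hV.isLocalization_stalk ⟨x, hxV⟩
  have hp : (hW.primeIdealOf ⟨f x, hfx⟩).asIdeal =
      (hV.primeIdealOf ⟨x, hxV⟩).asIdeal.comap (algebraMap Γ(S, W) Γ(X, V)) := by
    have h3 := IsAffineOpen.comap_primeIdealOf_appLE (f := f) W hW V hV eV hxV
    exact congr($(h3).1).symm
  have hα : (f.stalkMap x).hom.comp (algebraMap Γ(S, W) (S.presheaf.stalk (f x))) =
      (algebraMap Γ(X, V) (X.presheaf.stalk x)).comp (algebraMap Γ(S, W) Γ(X, V)) := by
    ext a
    simp only [RingHom.comp_apply, RingHom.algebraMap_toAlgebra,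
      Scheme.Hom.germ_stalkMap_apply, Scheme.Hom.appLE,
      homOfLE_leOfHom, CommRingCat.hom_comp, X.presheaf.germ_res_apply]
  letI aRLX : Algebra Γ(S, W) (X.presheaf.stalk x) :=
    ((algebraMap Γ(X, V) (X.presheaf.stalk x)).comp (algebraMap Γ(S, W) Γ(X, V))).toAlgebra
  haveI tRCLX : IsScalarTower Γ(S, W) Γ(X, V) (X.presheaf.stalk x) :=
    IsScalarTower.of_algebraMap_eq fun _ => rfl
  haveI hRLX : Module.Flat Γ(S, W) (X.presheaf.stalk x) := by
    have h1 : (algebraMap Γ(S, W) (S.presheaf.stalk (f x))).Flat :=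
      RingHom.flat_algebraMap_iff.mpr
        (IsLocalization.flat _ (hW.primeIdealOf ⟨f x, hfx⟩).asIdeal.primeCompl)
    have h2 := RingHom.Flat.comp h1 hflat
    rw [hα] at h2
    exact h2
  have hIX : Ideal.map (f.stalkMap x).hom (IsLocalRing.maximalIdeal (S.presheaf.stalk (f x))) =
      ((hV.primeIdealOf ⟨x, hxV⟩).asIdeal.comap (algebraMap Γ(S, W) Γ(X, V))).map
        (algebraMap Γ(S, W) (X.presheaf.stalk x)) := by
    rw [← hp, ← IsLocalization.AtPrime.map_eq_maximalIdeal (hW.primeIdealOf ⟨f x, hfx⟩).asIdeal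
      (S.presheaf.stalk (f x)), Ideal.map_map, hα]
    rfl
  have hQmem : h₀ ∈ (hV.primeIdealOf ⟨x, hxV⟩).asIdeal := by
    rw [← IsLocalization.AtPrime.to_map_mem_maximal_iff (X.presheaf.stalk x)
      (hV.primeIdealOf ⟨x, hxV⟩).asIdeal h₀]
    change X.presheaf.germ V x hxV h₀ ∈ _
    rw [hh₀]
    exact hm
  have hreg' : Ideal.Quotient.mk (Ideal.map (f.stalkMap x).hom
      (IsLocalRing.maximalIdeal (S.presheaf.stalk (f x))))
      (algebraMap Γ(X, V) (X.presheaf.stalk x) h₀) ∈ nonZeroDivisors _ := by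
    change Ideal.Quotient.mk _ (X.presheaf.germ V x hxV h₀) ∈ _
    rw [hh₀]
    exact hreg
  obtain ⟨g, hgQ, hg⟩ := slice_main (hV.primeIdealOf ⟨x, hxV⟩).asIdeal
    (LX := X.presheaf.stalk x) _ hIX h₀ hQmem hreg'
  have hUaff : IsAffineOpen (X.basicOpen g) := hV.basicOpen g
  have hxU : x ∈ X.basicOpen g := (X.mem_basicOpen g x hxV).mpr
    (IsLocalization.map_units (X.presheaf.stalk x)
      (⟨g, hgQ⟩ : (hV.primeIdealOf ⟨x, hxV⟩).asIdeal.primeCompl))
  haveI lCg : IsLocalization.Away g Γ(X, X.basicOpen g) := hV.isLocalization_basicOpen g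
  letI aRCg : Algebra Γ(S, W) Γ(X, X.basicOpen g) :=
    ((algebraMap Γ(X, V) Γ(X, X.basicOpen g)).comp (algebraMap Γ(S, W) Γ(X, V))).toAlgebra
  haveI tRCCg : IsScalarTower Γ(S, W) Γ(X, V) Γ(X, X.basicOpen g) :=
    IsScalarTower.of_algebraMap_eq fun _ => rfl
  obtain ⟨hnzd, hflatq⟩ := hg Γ(X, X.basicOpen g)
  have eU : X.basicOpen g ≤ f ⁻¹ᵁ W := (X.basicOpen_le g).trans eV
  have happ : (f.appLE W (X.basicOpen g) eU).hom = algebraMap Γ(S, W) Γ(X, X.basicOpen g) := by
    rw [← Scheme.Hom.appLE_map f eV (homOfLE (X.basicOpen_le g)).op]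
    rfl
  have hfac2 : Spec.map (CommRingCat.ofHom (Ideal.Quotient.mk
        (Ideal.span {algebraMap Γ(X, V) Γ(X, X.basicOpen g) h₀}))) ≫ hUaff.fromSpec ≫ f =
      Spec.map (f.appLE W (X.basicOpen g) eU ≫ CommRingCat.ofHom (Ideal.Quotient.mk
        (Ideal.span {algebraMap Γ(X, V) Γ(X, X.basicOpen g) h₀}))) ≫ hW.fromSpec := by
    rw [← IsAffineOpen.SpecMap_appLE_fromSpec f hW hUaff eU, Spec.map_comp, Category.assoc]
  refine ⟨X.basicOpen g, hUaff, hxU, algebraMap Γ(X, V) Γ(X, X.basicOpen g) h₀, ?_, hnzd, ?_, ?_⟩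
  · rw [← hh₀]
    exact X.presheaf.germ_res_apply (homOfLE (X.basicOpen_le g)) x hxU h₀
  · rw [hfac2]
    have hflatring : (f.appLE W (X.basicOpen g) eU ≫ CommRingCat.ofHom (Ideal.Quotient.mk
        (Ideal.span {algebraMap Γ(X, V) Γ(X, X.basicOpen g) h₀}))).hom.Flat := by
      rw [CommRingCat.hom_comp, CommRingCat.hom_ofHom, happ, Ideal.Quotient.mk_comp_algebraMap]
      exact RingHom.flat_algebraMap_iff.mpr hflatq
    haveI : Flat (Spec.map (f.appLE W (X.basicOpen g) eU ≫ CommRingCat.ofHom (Ideal.Quotient.mk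
        (Ideal.span {algebraMap Γ(X, V) Γ(X, X.basicOpen g) h₀})))) :=
      (HasRingHomProperty.Spec_iff (P := @Flat)).mpr hflatring
    infer_instance
  · rw [hfac2]
    have hfpring : (f.appLE W (X.basicOpen g) eU ≫ CommRingCat.ofHom (Ideal.Quotient.mk
        (Ideal.span {algebraMap Γ(X, V) Γ(X, X.basicOpen g) h₀}))).hom.FinitePresentation := by
      rw [CommRingCat.hom_comp, CommRingCat.hom_ofHom]
      refine RingHom.FinitePresentation.comp ?_ ?_
      · refine RingHom.FinitePresentation.of_surjective _ Ideal.Quotient.mk_surjective ?_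
        rw [Ideal.mk_ker]
        exact Submodule.fg_span_singleton _
      · exact HasRingHomProperty.appLE @LocallyOfFinitePresentation f inferInstance ⟨W, hW⟩
          ⟨X.basicOpen g, hUaff⟩ eU
    haveI : LocallyOfFinitePresentation (Spec.map (f.appLE W (X.basicOpen g) eU ≫
        CommRingCat.ofHom (Ideal.Quotient.mk
          (Ideal.span {algebraMap Γ(X, V) Γ(X, X.basicOpen g) h₀})))) :=
      (HasRingHomProperty.Spec_iff (P := @LocallyOfFinitePresentation)).mpr hfpring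
    infer_instance

end Groth.Agent.Helper21.Slice
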