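import Mathlib
import Groth.Agent.S2043

/-!
# Lifting sections of smooth morphisms étale-locally along closed immersions (ring level)

`ring_core`: `A → C` surjective, `B` smooth over `A`, `ψ : B →ₐ[A] C`.  Then there are an étale
`A`-algebra `A'` with `C → A' ⊗[A] C` bijective and `τ : B →ₐ[A] A'` with `1 ⊗ ψ b = τ b ⊗ 1`.
`spec_core`: the same statement for spectra.
-/

set_option autoImplicit false
set_option backward.isDefEq.respectTransparency false
set_option backward.isDefEq.respectTransparency.types false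
universe u
open CategoryTheory CategoryTheory.Limits AlgebraicGeometry TensorProduct

namespace Groth.Agent.Helper21.SmLift

/-- `A / ker ≃ C` as `A`-algebras. -/
noncomputable def eps {A C : Type u} [CommRing A] [CommRing C] [Algebra A C]
    (hC : Function.Surjective (algebraMap A C)) :
    (A ⧸ RingHom.ker (algebraMap A C)) ≃ₐ[A] C :=
  AlgEquiv.ofRingEquiv (f := RingHom.quotientKerEquivOfSurjective hC) (fun a => by
    exact RingHom.quotientKerEquivOfSurjective_apply_mk hC a)

theorem ring_core {A B C : Type u} [CommRing A] [CommRing B] [CommRing C] [Algebra A B]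
    [Algebra A C] [Algebra.Smooth A B] (hC : Function.Surjective (algebraMap A C))
    (ψ : B →ₐ[A] C) :
    ∃ (A' : Type u) (_ : CommRing A') (_ : Algebra A A') (τ : B →ₐ[A] A'), Algebra.Etale A A' ∧
      Function.Bijective ⇑(Algebra.TensorProduct.includeRight : C →ₐ[A] A' ⊗[A] C) ∧
      ∀ b : B, (1 : A') ⊗ₜ[A] ψ b = τ b ⊗ₜ[A] (1 : C) := by
  classical
  obtain ⟨I, hI⟩ : ∃ I : Ideal A, I = RingHom.ker (algebraMap A C) := ⟨_, rfl⟩
  subst hI
  let ε : (A ⧸ RingHom.ker (algebraMap A C)) ≃ₐ[A] C := eps hC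
  obtain ⟨A', _, _, hEt, hbij, τ, hτ⟩ :=
    Groth.Agent.S2043.result (RingHom.ker (algebraMap A C)) (ε.symm.toAlgHom.comp ψ)
  let Θ : A' ⊗[A] C ≃+* (A' ⧸ (RingHom.ker (algebraMap A C)).map (algebraMap A A')) :=
    ((Algebra.TensorProduct.congr (AlgEquiv.refl : A' ≃ₐ[A] A') ε.symm).toRingEquiv).trans
      (Algebra.TensorProduct.quotIdealMapEquivTensorQuot A'
        (RingHom.ker (algebraMap A C))).symm.toRingEquiv
  have hΘ : ∀ (a' : A') (a : A), Θ (a' ⊗ₜ algebraMap A C a) = Ideal.Quotient.mk _ (a • a') := by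
    intro a' a
    have h1 : ε.symm (algebraMap A C a) = Ideal.Quotient.mk _ a := ε.symm.commutes a
    change (Algebra.TensorProduct.quotIdealMapEquivTensorQuot A'
      (RingHom.ker (algebraMap A C))).symm (a' ⊗ₜ[A] ε.symm (algebraMap A C a)) = _
    rw [h1]
    exact Algebra.TensorProduct.quotIdealMapEquivTensorQuot_symm_tmul _ _ _ _
  have h1 : ∀ c : C, Θ (1 ⊗ₜ c) = algebraMap (A ⧸ RingHom.ker (algebraMap A C)) _ (ε.symm c) := by
    intro c
    obtain ⟨a, rfl⟩ := hC c
    rw [hΘ]
    have h1 : ε.symm (algebraMap A C a) = Ideal.Quotient.mk _ a := ε.symm.commutes a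
    rw [h1, Algebra.smul_def, mul_one]
    rfl
  refine ⟨A', _, _, τ, hEt, ?_, ?_⟩
  · have : ⇑(Algebra.TensorProduct.includeRight : C →ₐ[A] A' ⊗[A] C) =
        fun c => Θ.symm (algebraMap (A ⧸ RingHom.ker (algebraMap A C)) _ (ε.symm c)) := by
      funext c
      rw [← h1, RingEquiv.symm_apply_apply]
      rfl
    rw [this]
    exact Θ.symm.bijective.comp (hbij.comp ε.symm.bijective)
  · intro b
    apply Θ.injective
    rw [h1]
    have := hΘ (τ b) 1
    rw [map_one, one_smul] at this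
    rw [this]
    exact (hτ b).symm

theorem spec_core {A B C : Type u} [CommRing A] [CommRing B] [CommRing C] [Algebra A B]
    [Algebra A C] [Algebra.Smooth A B] (hC : Function.Surjective (algebraMap A C))
    (ψ : B →ₐ[A] C) :
    ∃ (A' : CommRingCat.{u}) (α : CommRingCat.of A ⟶ A') (τ : CommRingCat.of B ⟶ A'),
      α.hom.Etale ∧ CommRingCat.ofHom (algebraMap A B) ≫ τ = α ∧
      IsIso (pullback.snd (Spec.map α) (Spec.map (CommRingCat.ofHom (algebraMap A C)))) ∧
      pullback.snd (Spec.map α) (Spec.map (CommRingCat.ofHom (algebraMap A C))) ≫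
          Spec.map (CommRingCat.ofHom ψ.toRingHom) =
        pullback.fst (Spec.map α) (Spec.map (CommRingCat.ofHom (algebraMap A C))) ≫
          Spec.map τ := by
  obtain ⟨A', _, _, τ, hEt, hbij, hτ⟩ := ring_core hC ψ
  refine ⟨.of A', CommRingCat.ofHom (algebraMap A A'), CommRingCat.ofHom τ.toRingHom, ?_, ?_, ?_, ?_⟩
  · exact RingHom.etale_algebraMap.mpr hEt
  · ext a
    exact τ.commutes a
  · rw [← pullbackSpecIso_hom_snd]
    have h1 : IsIso (CommRingCat.ofHom (RingHomClass.toRingHom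
        (Algebra.TensorProduct.includeRight : C →ₐ[A] A' ⊗[A] C))) :=
      (ConcreteCategory.isIso_iff_bijective _).mpr hbij
    infer_instance
  · rw [← pullbackSpecIso_hom_snd, ← pullbackSpecIso_hom_fst, Category.assoc, Category.assoc,
      ← Spec.map_comp, ← Spec.map_comp]
    congr 2
    ext b
    change (1 : A') ⊗ₜ[A] ψ b = τ b ⊗ₜ[A] (1 : C)
    exact hτ b

end Groth.Agent.Helper21.SmLift

namespace Groth.Agent.Helper21.SmLift

theorem spec_core' {A B C : CommRingCat.{u}} (φ : A ⟶ B) (hφ : φ.hom.Smooth) (γ : A ⟶ C)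
    (hγ : Function.Surjective γ.hom) (ψ : B ⟶ C) (h : φ ≫ ψ = γ) :
    ∃ (A' : CommRingCat.{u}) (α : A ⟶ A') (τ : B ⟶ A'), α.hom.Etale ∧ φ ≫ τ = α ∧
      IsIso (pullback.snd (Spec.map α) (Spec.map γ)) ∧
      pullback.snd (Spec.map α) (Spec.map γ) ≫ Spec.map ψ =
        pullback.fst (Spec.map α) (Spec.map γ) ≫ Spec.map τ := by
  letI : Algebra A B := φ.hom.toAlgebra
  letI : Algebra A C := γ.hom.toAlgebra
  haveI : Algebra.Smooth A B := hφ
  let ψ' : B →ₐ[A] C :=
    { ψ.hom with
      commutes' := fun a => by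
        change ψ.hom (φ.hom a) = γ.hom a
        rw [← h]
        rfl }
  obtain ⟨A', α, τ, h1, h2, h3, h4⟩ := spec_core (A := A) (B := B) (C := C) hγ ψ'
  exact ⟨A', α, τ, h1, h2, h3, h4⟩

end Groth.Agent.Helper21.SmLift
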