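import Mathlib
import Groth.Agent.Lib.Helper21.SmLift1

/-!
# Lifting sections of smooth morphisms étale-locally along closed immersions (scheme level)

`exists_etale_lift_section`: `j : X₀ ⟶ X` closed immersion, `g : Z ⟶ X` smooth, `σ₀ : X₀ ⟶ Z` with
`σ₀ ≫ g = j`, `x₀ : X₀`.  Then there are an étale `e : U ⟶ X` with `U ×_X X₀ ⟶ X₀` an open immersion
whose image contains `x₀` and `τ : U ⟶ Z` over `X` restricting to `σ₀`.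
-/

set_option autoImplicit false
set_option backward.isDefEq.respectTransparency false
set_option backward.isDefEq.respectTransparency.types false
universe u
open CategoryTheory CategoryTheory.Limits AlgebraicGeometry

namespace Groth.Agent.Helper21.SmLift

theorem exists_etale_lift_section {X X₀ Z : Scheme.{u}} (j : X₀ ⟶ X) [IsClosedImmersion j]
    (g : Z ⟶ X) [Smooth g] (σ₀ : X₀ ⟶ Z) (hσ : σ₀ ≫ g = j) (x₀ : X₀) :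
    ∃ (U : Scheme.{u}) (e : U ⟶ X) (τ : U ⟶ Z), Etale e ∧ τ ≫ g = e ∧
      IsOpenImmersion (pullback.snd e j) ∧ x₀ ∈ Set.range (pullback.snd e j).base ∧
      pullback.snd e j ≫ σ₀ = pullback.fst e j ≫ τ := by
  subst hσ
  have hgx : g (σ₀ x₀) = (σ₀ ≫ g) x₀ := by simp
  -- affine opens
  obtain ⟨X₁, hX₁, hxX₁, -⟩ := TopologicalSpace.Opens.isBasis_iff_nbhd.mp X.isBasis_affineOpens
    (TopologicalSpace.Opens.mem_top ((σ₀ ≫ g) x₀))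
  obtain ⟨Z₁, hZ₁, hzZ₁, hZ₁le⟩ := TopologicalSpace.Opens.isBasis_iff_nbhd.mp Z.isBasis_affineOpens
    (show σ₀ x₀ ∈ g ⁻¹ᵁ X₁ from by
      change g (σ₀ x₀) ∈ X₁
      rw [hgx]; exact hxX₁)
  obtain ⟨O, hO⟩ : ∃ O : X.Opens, (σ₀ ≫ g) ⁻¹ᵁ O = σ₀ ⁻¹ᵁ Z₁ := by
    obtain ⟨t, ht, hts⟩ :=
      (σ₀ ≫ g).isClosedEmbedding.isInducing.isOpen_iff.mp (σ₀ ⁻¹ᵁ Z₁).isOpen
    exact ⟨⟨t, ht⟩, TopologicalSpace.Opens.ext hts⟩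
  have hxO : (σ₀ ≫ g) x₀ ∈ O := by
    change x₀ ∈ (σ₀ ≫ g) ⁻¹ᵁ O
    rw [hO]; exact hzZ₁
  obtain ⟨a, haO, hxa⟩ := hX₁.exists_basicOpen_le (V := O) ⟨(σ₀ ≫ g) x₀, hxO⟩ hxX₁
  have hX₂ : IsAffineOpen (X.basicOpen a) := hX₁.basicOpen a
  have hZ₂ : IsAffineOpen (Z.basicOpen (g.appLE X₁ Z₁ hZ₁le a)) := hZ₁.basicOpen _
  have hZ₂Z₁ : Z.basicOpen (g.appLE X₁ Z₁ hZ₁le a) ≤ Z₁ := Z.basicOpen_le _
  have hZ₂eq : Z.basicOpen (g.appLE X₁ Z₁ hZ₁le a) = Z₁ ⊓ g ⁻¹ᵁ (X.basicOpen a) := by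
    rw [Scheme.preimage_basicOpen]
    exact Scheme.basicOpen_res _ _ _
  have hZ₂le : Z.basicOpen (g.appLE X₁ Z₁ hZ₁le a) ≤ g ⁻¹ᵁ (X.basicOpen a) := by
    rw [hZ₂eq]; exact inf_le_right
  have hX₀₂ : IsAffineOpen ((σ₀ ≫ g) ⁻¹ᵁ (X.basicOpen a)) := hX₂.preimage (σ₀ ≫ g)
  have hσle : (σ₀ ≫ g) ⁻¹ᵁ (X.basicOpen a) ≤ σ₀ ⁻¹ᵁ (Z.basicOpen (g.appLE X₁ Z₁ hZ₁le a)) := by
    intro w hw
    change σ₀ w ∈ Z.basicOpen (g.appLE X₁ Z₁ hZ₁le a)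
    rw [hZ₂eq]
    refine ⟨?_, ?_⟩
    · have : w ∈ (σ₀ ≫ g) ⁻¹ᵁ O := haO hw
      rw [hO] at this
      exact this
    · change g (σ₀ w) ∈ X.basicOpen a
      have : g (σ₀ w) = (σ₀ ≫ g) w := by simp
      rw [this]; exact hw
  -- generalize the opens
  obtain ⟨X₂, hX₂def⟩ : ∃ X₂ : X.Opens, X₂ = X.basicOpen a := ⟨_, rfl⟩
  obtain ⟨Z₂, hZ₂def⟩ : ∃ Z₂ : Z.Opens, Z₂ = Z.basicOpen (g.appLE X₁ Z₁ hZ₁le a) := ⟨_, rfl⟩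
  rw [← hX₂def] at hX₂ hZ₂le hX₀₂ hσle hxa
  rw [← hZ₂def] at hZ₂ hZ₂le hσle
  clear hZ₂eq hZ₂Z₁
  -- rings
  have hsm : (g.appLE X₂ Z₂ hZ₂le).hom.Smooth :=
    HasRingHomProperty.appLE @Smooth g inferInstance ⟨X₂, hX₂⟩ ⟨Z₂, hZ₂⟩ hZ₂le
  have hsurj : Function.Surjective ((σ₀ ≫ g).app X₂).hom := (σ₀ ≫ g).app_surjective X₂ hX₂
  have hcomp : g.appLE X₂ Z₂ hZ₂le ≫ σ₀.appLE Z₂ ((σ₀ ≫ g) ⁻¹ᵁ X₂) hσle = (σ₀ ≫ g).app X₂ := by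
    rw [Scheme.Hom.appLE_comp_appLE, Scheme.Hom.app_eq_appLE]
  obtain ⟨A', α, τ, hα, hφτ, hiso, hcompat⟩ := spec_core' (g.appLE X₂ Z₂ hZ₂le) hsm
    ((σ₀ ≫ g).app X₂) hsurj (σ₀.appLE Z₂ ((σ₀ ≫ g) ⁻¹ᵁ X₂) hσle) hcomp
  have hEt : Etale (Spec.map α) := HasRingHomProperty.Spec_iff.mpr hα
  -- the pullback square
  have hsq : hX₀₂.fromSpec ≫ (σ₀ ≫ g) = Spec.map ((σ₀ ≫ g).app X₂) ≫ hX₂.fromSpec := by
    rw [Scheme.Hom.app_eq_appLE]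
    exact (IsAffineOpen.SpecMap_appLE_fromSpec (σ₀ ≫ g) hX₂ hX₀₂ le_rfl).symm
  have hpb1 : IsPullback (Spec.map ((σ₀ ≫ g).app X₂)) hX₀₂.fromSpec hX₂.fromSpec (σ₀ ≫ g) :=
    IsOpenImmersion.isPullback _ _ _ _ hsq (by
      rw [hX₂.opensRange_fromSpec, hX₀₂.opensRange_fromSpec])
  have hpb : IsPullback (pullback.fst (Spec.map α) (Spec.map ((σ₀ ≫ g).app X₂)))
      (pullback.snd (Spec.map α) (Spec.map ((σ₀ ≫ g).app X₂)) ≫ hX₀₂.fromSpec)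
      (Spec.map α ≫ hX₂.fromSpec) (σ₀ ≫ g) :=
    ((IsPullback.of_hasPullback (Spec.map α) (Spec.map ((σ₀ ≫ g).app X₂))).flip.paste_horiz
      hpb1.flip).flip
  obtain ⟨θ, hfst, hsnd⟩ : ∃ θ : pullback (Spec.map α) (Spec.map ((σ₀ ≫ g).app X₂)) ≅
      pullback (Spec.map α ≫ hX₂.fromSpec) (σ₀ ≫ g),
      θ.hom ≫ pullback.fst (Spec.map α ≫ hX₂.fromSpec) (σ₀ ≫ g) =
        pullback.fst (Spec.map α) (Spec.map ((σ₀ ≫ g).app X₂)) ∧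
      θ.hom ≫ pullback.snd (Spec.map α ≫ hX₂.fromSpec) (σ₀ ≫ g) =
        pullback.snd (Spec.map α) (Spec.map ((σ₀ ≫ g).app X₂)) ≫ hX₀₂.fromSpec :=
    ⟨hpb.isoPullback, hpb.isoPullback_hom_fst, hpb.isoPullback_hom_snd⟩
  have hsnd' : pullback.snd (Spec.map α ≫ hX₂.fromSpec) (σ₀ ≫ g) =
      θ.inv ≫
        pullback.snd (Spec.map α) (Spec.map ((σ₀ ≫ g).app X₂)) ≫ hX₀₂.fromSpec := by
    rw [← hsnd, Iso.inv_hom_id_assoc]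
  have hτsq : hX₀₂.fromSpec ≫ σ₀ =
      Spec.map (σ₀.appLE Z₂ ((σ₀ ≫ g) ⁻¹ᵁ X₂) hσle) ≫ hZ₂.fromSpec :=
    (IsAffineOpen.SpecMap_appLE_fromSpec σ₀ hZ₂ hX₀₂ hσle).symm
  have hgsq : hZ₂.fromSpec ≫ g = Spec.map (g.appLE X₂ Z₂ hZ₂le) ≫ hX₂.fromSpec :=
    (IsAffineOpen.SpecMap_appLE_fromSpec g hX₂ hZ₂ hZ₂le).symm
  refine ⟨Spec A', Spec.map α ≫ hX₂.fromSpec, Spec.map τ ≫ hZ₂.fromSpec, inferInstance, ?_, ?_,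
    ?_, ?_⟩
  · rw [Category.assoc, hgsq, ← Spec.map_comp_assoc, hφτ]
  · rw [hsnd']
    infer_instance
  · have hx₀ : x₀ ∈ Set.range hX₀₂.fromSpec.base := by
      rw [hX₀₂.range_fromSpec]
      exact hxa
    obtain ⟨c, hc⟩ := hx₀
    have hsurj2 : Function.Surjective
        (θ.inv ≫ pullback.snd (Spec.map α) (Spec.map ((σ₀ ≫ g).app X₂))).base := by
      have : IsIso (θ.inv ≫
          pullback.snd (Spec.map α) (Spec.map ((σ₀ ≫ g).app X₂))) := inferInstance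
      exact (TopCat.homeoOfIso (asIso (θ.inv ≫
          pullback.snd (Spec.map α) (Spec.map ((σ₀ ≫ g).app X₂))).base)).surjective
    obtain ⟨d, hd⟩ := hsurj2 c
    refine ⟨d, ?_⟩
    rw [hsnd', ← Category.assoc, Scheme.Hom.comp_base, TopCat.comp_app]
    rw [hd, hc]
  · rw [← cancel_epi θ.hom, reassoc_of% hsnd, reassoc_of% hfst, hτsq,
      reassoc_of% hcompat]

end Groth.Agent.Helper21.SmLift
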