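import Mathlib
import Groth.Agent.Lib.Helper21.DescEt2

/-!
Universally submersive morphisms with geometrically connected fibres.
-/

open AlgebraicGeometry CategoryTheory Limits MorphismProperty

universe u

namespace Groth.Agent.Helper21.SubmConn

open Groth.Agent.Helper21.DescEt

section

variable {S' S : Scheme.{u}} (g : S' ⟶ S)
  (hconn : ∀ (K : Type u) [Field K] [IsAlgClosed K] (ξ : Spec (CommRingCat.of K) ⟶ S),
    ConnectedSpace ↑(pullback g ξ))

include hconn in
/-- Fibres over arbitrary field-valued points are connected. -/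
theorem conn_fibre (L : Type u) [Field L] (η : Spec (CommRingCat.of L) ⟶ S) {T : Scheme.{u}}
    (t₂ : T ⟶ S') (t₁ : T ⟶ Spec (CommRingCat.of L)) (hT : IsPullback t₂ t₁ g η) :
    ConnectedSpace T := by
  obtain ⟨d, hd⟩ : ∃ d : Spec (CommRingCat.of (AlgebraicClosure L)) ⟶ Spec (CommRingCat.of L),
      d = Spec.map (CommRingCat.ofHom (algebraMap L (AlgebraicClosure L))) := ⟨_, rfl⟩
  haveI := hconn (AlgebraicClosure L) (d ≫ η)
  obtain ⟨a, ha₂, ha₁⟩ : ∃ a : pullback g (d ≫ η) ⟶ T, a ≫ t₂ = pullback.fst g (d ≫ η) ∧
      a ≫ t₁ = pullback.snd g (d ≫ η) ≫ d :=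
    ⟨hT.lift _ _ (by rw [Category.assoc]; exact pullback.condition), hT.lift_fst _ _ _,
      hT.lift_snd _ _ _⟩
  have hsq : IsPullback a (pullback.snd g (d ≫ η)) t₁ d := by
    refine IsPullback.of_right ?_ ha₁ hT
    rw [ha₂]
    exact IsPullback.of_hasPullback g (d ≫ η)
  haveI : Surjective d := ⟨fun y => by
    haveI : Subsingleton (PrimeSpectrum L) := inferInstance
    haveI : Nonempty (PrimeSpectrum (AlgebraicClosure L)) := inferInstance
    obtain ⟨x⟩ := ‹Nonempty (PrimeSpectrum (AlgebraicClosure L))›
    exact ⟨x, Subsingleton.elim (α := PrimeSpectrum L) _ _⟩⟩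
  haveI : Surjective a := MorphismProperty.of_isPullback (P := @Surjective) hsq.flip inferInstance
  have hrange : Set.range a.base = Set.univ := Set.range_eq_univ.mpr a.surjective
  have h1 : _root_.IsConnected (Set.range a.base) := isConnected_range a.continuous
  rw [hrange] at h1
  exact connectedSpace_iff_univ.mpr h1

include hconn in
theorem fibre_isConnected (s : S) : _root_.IsConnected (g.base ⁻¹' {s}) := by
  haveI := conn_fibre g hconn (S.residueField s) (S.fromSpecResidueField s)
    (pullback.fst g (S.fromSpecResidueField s)) (pullback.snd g (S.fromSpecResidueField s))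
    (IsPullback.of_hasPullback _ _)
  have h1 : _root_.IsConnected (Set.range (pullback.fst g (S.fromSpecResidueField s)).base) :=
    isConnected_range (pullback.fst g (S.fromSpecResidueField s)).continuous
  rw [Scheme.Pullback.range_fst, Scheme.range_fromSpecResidueField] at h1
  exact h1

include hconn in
theorem connected (hg : SGA1.UnivSubmersive g) [ConnectedSpace S] : ConnectedSpace S' := by
  have hq : Topology.IsQuotientMap g.base :=
    hg (𝟙 S') (𝟙 S) g IsPullback.of_id_snd
  obtain ⟨s⟩ := (inferInstance : Nonempty S)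
  obtain ⟨s', rfl⟩ := hq.surjective s
  rw [connectedSpace_iff_connectedComponent]
  refine ⟨s', ?_⟩
  rw [← hq.isCoinducing.preimage_connectedComponent (fibre_isConnected g hconn) s',
    PreconnectedSpace.connectedComponent_eq_univ, Set.preimage_univ]

end

end Groth.Agent.Helper21.SubmConn
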