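import Mathlib
import Groth.Agent.Lib.Helper21.SubmConn
import Groth.Agent.Lib.Helper21.GQuot10

/-!
Universally submersive morphisms with geometrically connected fibres: the cocycle condition for
morphisms to étale schemes is automatic.
-/

open AlgebraicGeometry CategoryTheory Limits MorphismProperty

universe u

namespace Groth.Agent.Helper21.SubmConn

open Groth.Agent.Helper21.DescEt

theorem locallyQuasiFinite_of_etale {X Y : Scheme.{u}} (f : X ⟶ Y) [Etale f] :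
    LocallyQuasiFinite f := by
  refine ⟨fun {U} hU {V} hV e => ?_⟩
  have h := HasRingHomProperty.appLE (P := @Etale) f inferInstance ⟨U, hU⟩ ⟨V, hV⟩ e
  letI := (f.appLE U V e).hom.toAlgebra
  haveI : Algebra.Etale Γ(Y, U) Γ(X, V) := h
  show Algebra.QuasiFinite Γ(Y, U) Γ(X, V)
  infer_instance

theorem subsingleton_of_isPreconnected_of_subset_isDiscrete {Y : Type*} [TopologicalSpace Y]
    {A D : Set Y} (hA : IsPreconnected A) (hD : IsDiscrete D) (hAD : A ⊆ D) : A.Subsingleton := by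
  haveI := hD.to_subtype
  have hA' : A = (Subtype.val : D → Y) '' ((Subtype.val : D → Y) ⁻¹' A) := by
    rw [Set.image_preimage_eq_inter_range, Subtype.range_coe]
    exact (Set.inter_eq_left.mpr hAD).symm
  have h1 : IsPreconnected ((Subtype.val : D → Y) ⁻¹' A) := by
    rw [← Topology.IsInducing.subtypeVal.isPreconnected_image, ← hA']
    exact hA
  rw [hA']
  exact h1.subsingleton.image _

section

variable {S' S X Y : Scheme.{u}} (g : S' ⟶ S)
  (hconn : ∀ (K : Type u) [Field K] [IsAlgClosed K] (ξ : Spec (CommRingCat.of K) ⟶ S),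
    ConnectedSpace ↑(pullback g ξ))
  (p : X ⟶ S) (q : Y ⟶ S) [Etale q]

include hconn in
theorem cocycle (f' : pullback p g ⟶ pullback q g)
    (hf' : f' ≫ pullback.snd q g = pullback.snd p g)
    (a₁ a₂ : pullback p (pullback.fst g g ≫ g) ⟶ pullback p g)
    (ha₁f : a₁ ≫ pullback.fst p g = pullback.fst p (pullback.fst g g ≫ g))
    (ha₁s : a₁ ≫ pullback.snd p g = pullback.snd p (pullback.fst g g ≫ g) ≫ pullback.fst g g)
    (ha₂f : a₂ ≫ pullback.fst p g = pullback.fst p (pullback.fst g g ≫ g))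
    (ha₂s : a₂ ≫ pullback.snd p g = pullback.snd p (pullback.fst g g ≫ g) ≫ pullback.snd g g) :
    a₁ ≫ f' ≫ pullback.fst q g = a₂ ≫ f' ≫ pullback.fst q g := by
  obtain ⟨F, hF⟩ : ∃ F : pullback p g ⟶ Y, F = f' ≫ pullback.fst q g := ⟨_, rfl⟩
  rw [← hF]
  obtain ⟨π, hπ⟩ : ∃ π : pullback p g ⟶ X, π = pullback.fst p g := ⟨_, rfl⟩
  obtain ⟨sX, hsX⟩ : ∃ sX : pullback p g ⟶ S', sX = pullback.snd p g := ⟨_, rfl⟩
  rw [← hπ] at ha₁f ha₂f
  rw [← hsX] at ha₁s ha₂s hf'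
  have hpg : π ≫ p = sX ≫ g := by rw [hπ, hsX]; exact pullback.condition
  have hPB : IsPullback π sX p g := by rw [hπ, hsX]; exact IsPullback.of_hasPullback p g
  have hFq : F ≫ q = π ≫ p := by
    rw [hF, Category.assoc, pullback.condition, ← Category.assoc, hf', hpg]
  obtain ⟨fst'', hfst''⟩ : ∃ m : pullback p (pullback.fst g g ≫ g) ⟶ X,
      m = pullback.fst p (pullback.fst g g ≫ g) := ⟨_, rfl⟩
  obtain ⟨snd'', hsnd''⟩ : ∃ m : pullback p (pullback.fst g g ≫ g) ⟶ pullback g g,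
      m = pullback.snd p (pullback.fst g g ≫ g) := ⟨_, rfl⟩
  rw [← hfst''] at ha₁f ha₂f
  rw [← hsnd''] at ha₁s ha₂s
  have hPB'' : IsPullback fst'' snd'' p (pullback.fst g g ≫ g) := by
    rw [hfst'', hsnd'']; exact IsPullback.of_hasPullback _ _
  have hleft : IsPullback a₁ snd'' sX (pullback.fst g g) := by
    refine IsPullback.of_right ?_ ha₁s hPB
    rw [ha₁f]; exact hPB''
  have hPB₁ : IsPullback a₁ (snd'' ≫ pullback.snd g g) (π ≫ p) g := by
    have h1 := (hleft.flip.paste_horiz (IsPullback.of_hasPullback g g).flip).flip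
    rw [hpg]; exact h1
  -- the diagonal
  obtain ⟨Δ, hΔ₁, hΔ₂⟩ : ∃ Δ : pullback p g ⟶ pullback p (pullback.fst g g ≫ g),
      Δ ≫ a₁ = 𝟙 _ ∧ Δ ≫ a₂ = 𝟙 _ := by
    have hc2 : π ≫ p = pullback.lift sX sX rfl ≫ pullback.fst g g ≫ g := by
      rw [← Category.assoc, pullback.lift_fst, hpg]
    obtain ⟨Δ, hΔf, hΔs⟩ : ∃ Δ : pullback p g ⟶ pullback p (pullback.fst g g ≫ g),
        Δ ≫ fst'' = π ∧ Δ ≫ snd'' = pullback.lift sX sX rfl := by
      refine ⟨pullback.lift π (pullback.lift sX sX rfl) hc2, ?_, ?_⟩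
      · rw [hfst'']; exact pullback.lift_fst _ _ _
      · rw [hsnd'']; exact pullback.lift_snd _ _ _
    refine ⟨Δ, ?_, ?_⟩
    · apply hPB.hom_ext
      · rw [Category.assoc, ha₁f, hΔf, Category.id_comp]
      · rw [Category.assoc, ha₁s, ← Category.assoc, hΔs, pullback.lift_fst, Category.id_comp]
    · apply hPB.hom_ext
      · rw [Category.assoc, ha₂f, hΔf, Category.id_comp]
      · rw [Category.assoc, ha₂s, ← Category.assoc, hΔs, pullback.lift_snd, Category.id_comp]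
  have hh₁ : (a₁ ≫ F) ≫ q = fst'' ≫ p := by rw [Category.assoc, hFq, ← Category.assoc, ha₁f]
  have hh₂ : (a₂ ≫ F) ≫ q = fst'' ≫ p := by rw [Category.assoc, hFq, ← Category.assoc, ha₂f]
  haveI : LocallyQuasiFinite q := locallyQuasiFinite_of_etale q
  -- key: on each fibre of `a₁` the two morphisms agree
  have key : ∀ x'' : ↥(pullback p (pullback.fst g g ≫ g)), ∃ (T : Scheme.{u})
      (j : T ⟶ pullback p (pullback.fst g g ≫ g)),
      x'' ∈ Set.range j.base ∧ j ≫ a₁ ≫ F = j ≫ a₂ ≫ F := by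
    intro x''
    obtain ⟨x', hx'⟩ : ∃ x', x' = a₁.base x'' := ⟨_, rfl⟩
    obtain ⟨φ, hφ⟩ : ∃ φ : Spec ((pullback p g).residueField x') ⟶ pullback p g,
        φ = (pullback p g).fromSpecResidueField x' := ⟨_, rfl⟩
    obtain ⟨j, hj⟩ : ∃ j : pullback a₁ φ ⟶ _, j = pullback.fst a₁ φ := ⟨_, rfl⟩
    obtain ⟨t₁, ht₁⟩ : ∃ t₁ : pullback a₁ φ ⟶ _, t₁ = pullback.snd a₁ φ := ⟨_, rfl⟩
    have hjt : j ≫ a₁ = t₁ ≫ φ := by rw [hj, ht₁]; exact pullback.condition
    have hTPB : IsPullback j t₁ a₁ φ := by rw [hj, ht₁]; exact IsPullback.of_hasPullback _ _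
    have hx''j : x'' ∈ Set.range j.base := by
      rw [hj, Scheme.Pullback.range_fst, hφ, Scheme.range_fromSpecResidueField, hx']
      rfl
    refine ⟨pullback a₁ φ, j, hx''j, ?_⟩
    haveI : ConnectedSpace ↑(pullback a₁ φ) :=
      conn_fibre g hconn ((pullback p g).residueField x') (φ ≫ π ≫ p)
        (j ≫ snd'' ≫ pullback.snd g g) t₁ (hTPB.paste_horiz hPB₁.flip)
    obtain ⟨w, hwj, hwt⟩ : ∃ w : Spec ((pullback p g).residueField x') ⟶ pullback a₁ φ,
        w ≫ j = φ ≫ Δ ∧ w ≫ t₁ = 𝟙 _ := by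
      refine ⟨pullback.lift (φ ≫ Δ) (𝟙 _)
        (by rw [Category.assoc, hΔ₁, Category.comp_id, Category.id_comp]), ?_, ?_⟩
      · rw [hj]; exact pullback.lift_fst _ _ _
      · rw [ht₁]; exact pullback.lift_snd _ _ _
    have hw₁ : w ≫ j ≫ a₁ ≫ F = φ ≫ F := by
      rw [← Category.assoc, hwj, Category.assoc, ← Category.assoc Δ, hΔ₁, Category.id_comp]
    have hw₂ : w ≫ j ≫ a₂ ≫ F = φ ≫ F := by
      rw [← Category.assoc, hwj, Category.assoc, ← Category.assoc Δ, hΔ₂, Category.id_comp]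
    have hφpt : ∀ z, φ.base z = x' := fun z => by
      rw [hφ]
      exact Scheme.fromSpecResidueField_apply x' z
    -- everything lies over one point of `S`
    obtain ⟨s, hs⟩ : ∃ s, s = (π ≫ p).base x' := ⟨_, rfl⟩
    have hTS : ∀ (h : pullback p (pullback.fst g g ≫ g) ⟶ Y), h ≫ q = fst'' ≫ p →
        Set.range (j ≫ h).base ⊆ q.base ⁻¹' {s} := by
      rintro h hh _ ⟨t, rfl⟩
      show q.base ((j ≫ h).base t) = s
      have e1 : (j ≫ h) ≫ q = t₁ ≫ φ ≫ π ≫ p := by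
        rw [Category.assoc, hh, ← ha₁f, ← Category.assoc j, ← Category.assoc j, hjt,
          Category.assoc, Category.assoc]
      have e2 : q.base ((j ≫ h).base t) = ((j ≫ h) ≫ q).base t := rfl
      rw [e2, e1, hs]
      show (π ≫ p).base (φ.base (t₁.base t)) = _
      rw [hφpt]
    have hD : _root_.IsDiscrete (q.base ⁻¹' {s}) := q.isDiscrete_preimage_singleton s
    have hsub : ∀ (h : pullback p (pullback.fst g g ≫ g) ⟶ Y), h ≫ q = fst'' ≫ p →
        (Set.range (j ≫ h).base).Subsingleton := fun h hh =>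
      subsingleton_of_isPreconnected_of_subset_isDiscrete
        (isConnected_range (j ≫ h).continuous).isPreconnected hD (hTS h hh)
    obtain ⟨pt⟩ : Nonempty (Spec ((pullback p g).residueField x')) := inferInstance
    obtain ⟨y, hy⟩ : ∃ y, y = (φ ≫ F).base pt := ⟨_, rfl⟩
    have hy₁ : ∀ t, (j ≫ a₁ ≫ F).base t = y := by
      intro t
      refine hsub (a₁ ≫ F) hh₁ ⟨t, rfl⟩ ⟨w.base pt, ?_⟩
      rw [hy, ← hw₁]
      rfl
    have hy₂ : ∀ t, (j ≫ a₂ ≫ F).base t = y := by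
      intro t
      refine hsub (a₂ ≫ F) hh₂ ⟨t, rfl⟩ ⟨w.base pt, ?_⟩
      rw [hy, ← hw₂]
      rfl
    obtain ⟨V, hV, hyV⟩ : ∃ V : Y.Opens, IsAffineOpen V ∧ y ∈ V := by
      obtain ⟨_, ⟨V, hV, rfl⟩, hyV, -⟩ :=
        Y.isBasis_affineOpens.exists_subset_of_mem_open (Set.mem_univ y) isOpen_univ
      exact ⟨V, hV, hyV⟩
    have hr₁ : Set.range (j ≫ a₁ ≫ F).base ⊆ Set.range V.ι.base := by
      rintro _ ⟨t, rfl⟩
      rw [Scheme.Opens.range_ι, hy₁ t]
      exact hyV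
    have hr₂ : Set.range (j ≫ a₂ ≫ F).base ⊆ Set.range V.ι.base := by
      rintro _ ⟨t, rfl⟩
      rw [Scheme.Opens.range_ι, hy₂ t]
      exact hyV
    obtain ⟨k₁, hk₁⟩ : ∃ k₁ : pullback a₁ φ ⟶ (V : Scheme.{u}), k₁ ≫ V.ι = j ≫ a₁ ≫ F :=
      ⟨IsOpenImmersion.lift V.ι _ hr₁, IsOpenImmersion.lift_fac _ _ _⟩
    obtain ⟨k₂, hk₂⟩ : ∃ k₂ : pullback a₁ φ ⟶ (V : Scheme.{u}), k₂ ≫ V.ι = j ≫ a₂ ≫ F :=
      ⟨IsOpenImmersion.lift V.ι _ hr₂, IsOpenImmersion.lift_fac _ _ _⟩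
    haveI : IsAffine (V : Scheme.{u}) := hV
    have hk : k₁ = k₂ := by
      refine Groth.Agent.Helper21.GQuot10.rigidity (V.ι ≫ q) ?_ w ?_
      · calc k₁ ≫ V.ι ≫ q = (k₁ ≫ V.ι) ≫ q := (Category.assoc _ _ _).symm
          _ = j ≫ (a₁ ≫ F) ≫ q := by rw [hk₁]; simp only [Category.assoc]
          _ = j ≫ (a₂ ≫ F) ≫ q := by rw [hh₁, hh₂]
          _ = (k₂ ≫ V.ι) ≫ q := by rw [hk₂]; simp only [Category.assoc]
          _ = k₂ ≫ V.ι ≫ q := Category.assoc _ _ _
      · rw [← cancel_mono V.ι, Category.assoc, hk₁, Category.assoc, hk₂, hw₁, hw₂]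
    rw [← hk₁, ← hk₂, hk]
  -- the equalizer
  let X₀ : Over S := Over.mk (fst'' ≫ p)
  let Y₀ : Over S := Over.mk q
  let h₁' : X₀ ⟶ Y₀ := Over.homMk (a₁ ≫ F) hh₁
  let h₂' : X₀ ⟶ Y₀ := Over.homMk (a₂ ≫ F) hh₂
  have : FormallyUnramified Y₀.hom := inferInstanceAs (FormallyUnramified q)
  have : LocallyOfFiniteType Y₀.hom := inferInstanceAs (LocallyOfFiniteType q)
  haveI : IsOpenImmersion (equalizer.ι h₁' h₂').left := isOpenImmersion_equalizer_ι_left h₁' h₂'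
  have hsurj : Set.range (equalizer.ι h₁' h₂').left.base = Set.univ := by
    rw [Set.eq_univ_iff_forall]
    intro x''
    obtain ⟨T, j, ⟨t, ht⟩, hjeq⟩ := key x''
    let T₀ : Over S := Over.mk (j ≫ fst'' ≫ p)
    let j' : T₀ ⟶ X₀ := Over.homMk j rfl
    have hl : j' ≫ h₁' = j' ≫ h₂' := by
      ext1
      exact hjeq
    have h2 : (equalizer.lift j' hl).left ≫ (equalizer.ι h₁' h₂').left = j := by
      rw [← Over.comp_left, equalizer.lift_ι]
      rfl
    refine ⟨(equalizer.lift j' hl).left.base t, ?_⟩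
    rw [← ht, ← h2]
    rfl
  haveI : IsIso (equalizer.ι h₁' h₂').left :=
    isIso_of_isOpenImmersion_of_opensRange_eq_top _ (TopologicalSpace.Opens.ext hsurj)
  rw [← cancel_epi (equalizer.ι h₁' h₂').left]
  exact congr($(equalizer.condition h₁' h₂').left)

end

end Groth.Agent.Helper21.SubmConn
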