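import Mathlib
import Groth.Agent.Lib.Helper21.Thick2
import Groth.Agent.Lib.Helper2.ThickRed
import Groth.Agent.Lib.Helper2.ThickAlg

/-!
# Thickenings of locally Noetherian schemes (helper21)

* `locallyOfFiniteType_of_thickening_of_isLocallyNoetherian`: finite type lifts along a thickening
  of a locally Noetherian base.
* `smooth_of_thickening_of_flat`: smoothness lifts along a thickening of a locally Noetherian base
  for flat morphisms.
-/

set_option autoImplicit false
set_option linter.style.haveILetI false

universe u

open CategoryTheory Limits AlgebraicGeometry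

namespace Groth.Agent.Helper21.Thick

variable {X X' Y Y' : Scheme.{u}} (iX : X ⟶ X') (iY : Y ⟶ Y') (f : X ⟶ Y) (f' : X' ⟶ Y')

/-- Finite type lifts along a thickening of a locally Noetherian base. -/
theorem locallyOfFiniteType_of_thickening_of_isLocallyNoetherian [IsClosedImmersion iY]
    [Surjective iY] [IsLocallyNoetherian Y'] (hc : IsPullback iX f f' iY)
    [LocallyOfFiniteType f] : LocallyOfFiniteType f' := by
  rw [HasRingHomProperty.iff_appLE (P := @LocallyOfFiniteType)]
  intro U' V' e'
  haveI : IsNoetherianRing Γ(Y', U'.1) := IsLocallyNoetherian.component_noetherian U'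
  have hnil : IsNilpotent (RingHom.ker (iY.app U'.1).hom) := by
    rw [Ideal.FG.isNilpotent_iff_le_nilradical (IsNoetherian.noetherian _)]
    intro a ha
    exact Groth.Agent.Helper2.ThickRed.isNilpotent_of_mem_ker ⟨inferInstance, inferInstance⟩ U' a ha
  exact Groth.Agent.Helper2.ThickAlg.finiteType_of_quotientMap _ _ hnil
    (Groth.Agent.Helper2.ThickRed.quotientMap_of_isPullback hc @LocallyOfFiniteType
      RingHom.FiniteType inferInstance U' V' e')

/-- Smoothness lifts along a thickening of a locally Noetherian base, for flat morphisms. -/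
theorem smooth_of_thickening_of_flat [IsClosedImmersion iY] [Surjective iY]
    [IsLocallyNoetherian Y'] (hc : IsPullback iX f f' iY) [Smooth f] [Flat f'] : Smooth f' := by
  haveI : LocallyOfFiniteType f' :=
    locallyOfFiniteType_of_thickening_of_isLocallyNoetherian iX iY f f' hc
  haveI : LocallyOfFinitePresentation f' := inferInstance
  haveI : Flat (f' ≫ 𝟙 Y') := by rw [Category.comp_id]; infer_instance
  haveI : LocallyOfFinitePresentation (f' ≫ 𝟙 Y') := by rw [Category.comp_id]; infer_instance
  have hcX : IsPullback iX (f ≫ 𝟙 Y) (f' ≫ 𝟙 Y') iY := by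
    rw [Category.comp_id, Category.comp_id]
    exact hc
  have hcY : IsPullback iY (𝟙 Y) (𝟙 Y') iY := IsPullback.of_vert_isIso ⟨by simp⟩
  exact (smooth_iff_of_thickening iX iY iY f f' (𝟙 Y) (𝟙 Y') hcX hcY hc.w).mp inferInstance

end Groth.Agent.Helper21.Thick
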