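import Mathlib
import Groth.Agent.Lib.Helper18.Tor.LES

/-!
# `Tor_i(M, R/x) = 0` for `i ≥ 1` when `x` is regular on `R` and on `M`.
-/

set_option autoImplicit false
universe u
open CategoryTheory CategoryTheory.Limits MonoidalCategory

namespace Groth.Agent.Helper21.TR

variable {R : Type u} [CommRing R] (x : R)

/-- terms of the resolution `0 → R → R` -/
noncomputable def X : ℕ → ModuleCat.{u} R
  | 0 => ModuleCat.of R R
  | 1 => ModuleCat.of R R
  | (_ + 2) => ModuleCat.of R PUnit

/-- differentials -/
noncomputable def d : ∀ i : ℕ, X (R := R) (i + 1) ⟶ X i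
  | 0 => ModuleCat.ofHom (x • (LinearMap.id : R →ₗ[R] R))
  | (_ + 1) => 0

theorem d_comp_d (i : ℕ) : d x (i + 1) ≫ d x i = 0 := by
  show (0 : X (i + 2) ⟶ X (i + 1)) ≫ d x i = 0
  exact zero_comp

/-- the complex -/
noncomputable def cx : ChainComplex (ModuleCat.{u} R) ℕ :=
  ChainComplex.of X (d x) (d_comp_d x)

theorem cx_d (i : ℕ) : (cx x).d (i + 1) i = d x i := ChainComplex.of_d _ _ _

/-- the augmentation -/
noncomputable def aug : (cx x).X 0 ⟶ ModuleCat.of R (R ⧸ Ideal.span {x}) :=
  ModuleCat.ofHom (Submodule.mkQ (Ideal.span {x}))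

theorem d_aug : (cx x).d 1 0 ≫ aug x = 0 := by
  rw [cx_d]
  refine ModuleCat.hom_ext (LinearMap.ext fun r => ?_)
  show Submodule.mkQ (Ideal.span {x}) (x * (show R from r)) = 0
  rw [Submodule.mkQ_apply, Submodule.Quotient.mk_eq_zero]
  exact Ideal.mul_mem_right _ _ (Ideal.mem_span_singleton_self x)

noncomputable def π : cx x ⟶ (ChainComplex.single₀ (ModuleCat.{u} R)).obj
    (ModuleCat.of R (R ⧸ Ideal.span {x})) :=
  ((cx x).toSingle₀Equiv _).symm ⟨aug x, d_aug x⟩

theorem π_f_zero : (π x).f 0 = aug x := by
  simp [π, ChainComplex.toSingle₀Equiv]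

theorem quasiIso_π (hx : IsSMulRegular R x) : QuasiIso (π x) where
  quasiIsoAt m := by
    induction m with
    | zero =>
      rw [ChainComplex.quasiIsoAt₀_iff, ShortComplex.quasiIso_iff_of_zeros' _ rfl rfl rfl]
      constructor
      · rw [ShortComplex.moduleCat_exact_iff_range_eq_ker]
        show LinearMap.range ((cx x).d 1 0).hom = LinearMap.ker ((π x).f 0).hom
        rw [cx_d, π_f_zero]
        show LinearMap.range (x • (LinearMap.id : R →ₗ[R] R)) =
          LinearMap.ker (Submodule.mkQ (Ideal.span {x}))
        rw [Submodule.ker_mkQ]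
        ext y
        rw [LinearMap.mem_range, Ideal.mem_span_singleton']
        constructor
        · rintro ⟨r, rfl⟩
          exact ⟨r, by simp [mul_comm]⟩
        · rintro ⟨r, rfl⟩
          exact ⟨r, by simp [mul_comm]⟩
      · show Epi ((π x).f 0)
        rw [π_f_zero, ModuleCat.epi_iff_surjective]
        exact Submodule.mkQ_surjective _
    | succ m _ =>
      rw [quasiIsoAt_iff_exactAt' (hL := ChainComplex.exactAt_succ_single_obj ..),
          HomologicalComplex.exactAt_iff' _ (m + 2) (m + 1) m (by simp) (by simp)]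
      rw [ShortComplex.moduleCat_exact_iff]
      intro y hy
      change ((cx x).d (m + 1) m).hom y = 0 at hy
      change ∃ z, ((cx x).d (m + 2) (m + 1)).hom z = y
      rw [cx_d] at hy ⊢
      cases m with
      | zero =>
        have hy' : x • (y : R) = x • (0 : R) := by
          rw [smul_zero]; exact hy
        have hy0 : y = (0 : R) := hx hy'
        refine ⟨0, ?_⟩
        rw [map_zero]
        exact hy0.symm
      | succ m =>
        have hs : Subsingleton ((cx x).X (m + 1 + 1)) :=
          inferInstanceAs (Subsingleton PUnit)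
        exact ⟨0, Subsingleton.elim _ _⟩

theorem projective_X (i : ℕ) : Projective ((cx x).X i) := by
  show Projective (X (R := R) i)
  match i with
  | 0 => exact (IsProjective.iff_projective (R := R) (P := R)).mp inferInstance
  | 1 => exact (IsProjective.iff_projective (R := R) (P := R)).mp inferInstance
  | (i + 2) => exact (IsProjective.iff_projective (R := R) (P := PUnit)).mp inferInstance

/-- the projective resolution `0 → R → R` of `R/x`. -/
noncomputable def res (hx : IsSMulRegular R x) :
    ProjectiveResolution (ModuleCat.of R (R ⧸ Ideal.span {x})) where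
  complex := cx x
  projective := projective_X x
  π := π x
  quasiIso := quasiIso_π x hx

open Groth.Agent.Helper18.TorLib in
theorem isZero_tor (hx : IsSMulRegular R x) (N : ModuleCat.{u} R) (hN : IsSMulRegular N x)
    (i : ℕ) (hi : 1 ≤ i) :
    IsZero (((Tor (ModuleCat.{u} R) i).obj N).obj (ModuleCat.of R (R ⧸ Ideal.span {x}))) := by
  refine IsZero.of_iso ?_ (torIso (res x hx) N i)
  rw [← HomologicalComplex.exactAt_iff_isZero_homology]
  obtain ⟨m, rfl⟩ : ∃ m, i = m + 1 := ⟨i - 1, by omega⟩
  rw [HomologicalComplex.exactAt_iff' _ (m + 2) (m + 1) m (by simp) (by simp),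
    ShortComplex.moduleCat_exact_iff]
  intro y hy
  change (N ◁ ((cx x).d (m + 1) m)).hom y = 0 at hy
  change ∃ z, (N ◁ ((cx x).d (m + 2) (m + 1))).hom z = y
  rw [cx_d] at hy ⊢
  cases m with
  | zero =>
    have key : ∀ t : TensorProduct R N R, x • t = 0 → t = 0 := by
      intro t ht
      have h2 : x • (TensorProduct.rid R N t) = x • (0 : N) := by
        rw [← _root_.map_smul, ht, map_zero, smul_zero]
      have h3 := hN h2
      exact (TensorProduct.rid R N).injective (by rw [h3, map_zero])
    have h1 : x • (show TensorProduct R N R from y) = 0 := by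
      have : LinearMap.lTensor N (x • (LinearMap.id : R →ₗ[R] R))
          (show TensorProduct R N R from y) = 0 := hy
      simpa only [LinearMap.lTensor_smul, LinearMap.lTensor_id, LinearMap.smul_apply,
        LinearMap.id_coe, id_eq] using this
    refine ⟨0, ?_⟩
    rw [map_zero]
    exact (key _ h1).symm
  | succ m =>
    have hs : Subsingleton (TensorProduct R N (PUnit : Type u)) := inferInstance
    have hy0 : y = 0 := @Subsingleton.elim _ hs _ _
    refine ⟨0, ?_⟩
    rw [map_zero]
    exact hy0.symm

end Groth.Agent.Helper21.TR
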