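import Mathlib
import Groth.Agent.S14100

/-! Factorisation of `τ_[q-1,q] f` through `τ_[q,q] K ⟶ τ_[q-1,q-1] K'` (S14388). -/

namespace Groth.Agent.Helper21.TF

open CategoryTheory Limits Pretriangulated Triangulated ComposableArrows

section abstract

variable {D : Type*} [Category D] [Preadditive D] [HasZeroObject D] [HasShift D ℤ]
  [∀ n : ℤ, (shiftFunctor D n).Additive] [Pretriangulated D] (t : TStructure D)

theorem existsUnique_factor (T T' : Triangle D) (hT : T ∈ distTriang D) (hT' : T' ∈ distTriang D)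
    (q : ℤ) [t.IsLE T.obj₁ (q - 1)] [t.IsLE T.obj₃ q] [t.IsGE T'.obj₂ (q - 1)] [t.IsGE T'.obj₃ q]
    (φ : T.obj₂ ⟶ T'.obj₂) (h₁ : T.mor₁ ≫ φ = 0) (h₂ : φ ≫ T'.mor₂ = 0) :
    ∃! L : T.obj₃ ⟶ T'.obj₁, φ = T.mor₂ ≫ L ≫ T'.mor₁ := by
  have hz1 : ∀ g : T.obj₁⟦(1 : ℤ)⟧ ⟶ T'.obj₃, g = 0 := by
    intro g
    have : t.IsLE (T.obj₁⟦(1 : ℤ)⟧) (q - 2) := t.isLE_shift T.obj₁ (q - 1) 1 (q - 2) (by lia)
    exact t.zero g (q - 2) q (by lia)
  have hz2 : ∀ g : T.obj₁⟦(1 : ℤ)⟧ ⟶ T'.obj₂, g = 0 := by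
    intro g
    have : t.IsLE (T.obj₁⟦(1 : ℤ)⟧) (q - 2) := t.isLE_shift T.obj₁ (q - 1) 1 (q - 2) (by lia)
    exact t.zero g (q - 2) (q - 1) (by lia)
  have hz3 : ∀ g : T.obj₃ ⟶ T'.obj₃⟦(-1 : ℤ)⟧, g = 0 := by
    intro g
    have : t.IsGE (T'.obj₃⟦(-1 : ℤ)⟧) (q + 1) := t.isGE_shift T'.obj₃ q (-1) (q + 1) (by lia)
    exact t.zero g q (q + 1) (by lia)
  obtain ⟨ψ, hψ⟩ := Triangle.yoneda_exact₂ T hT φ h₁
  have h3 : ψ ≫ T'.mor₂ = 0 := by
    have h4 : T.mor₂ ≫ (ψ ≫ T'.mor₂) = 0 := by rw [← Category.assoc, ← hψ, h₂]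
    obtain ⟨g, hg⟩ := Triangle.yoneda_exact₃ T hT (ψ ≫ T'.mor₂) h4
    rw [hg, hz1 g, comp_zero]
  obtain ⟨L, hL⟩ := Triangle.coyoneda_exact₂ T' hT' ψ h3
  refine ⟨L, by rw [hψ, hL], ?_⟩
  intro L' hL'
  have h5 : T.mor₂ ≫ ((L' - L) ≫ T'.mor₁) = 0 := by
    rw [Preadditive.sub_comp, Preadditive.comp_sub, ← hL', ← hL, ← hψ, sub_self]
  obtain ⟨g, hg⟩ := Triangle.yoneda_exact₃ T hT _ h5
  have h6 : (L' - L) ≫ T'.mor₁ = 0 := by rw [hg, hz2 g, comp_zero]
  obtain ⟨g', hg'⟩ := Triangle.coyoneda_exact₂ T'.invRotate (inv_rot_of_distTriang _ hT')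
    (L' - L) h6
  have hg0 : g' = 0 := hz3 g'
  have : L' - L = 0 := by
    rw [hg', hg0]
    exact zero_comp
  exact sub_eq_zero.mp this

end abstract

section tri

variable {D : Type*} [Category D] [Preadditive D] [HasZeroObject D] [HasShift D ℤ]
  [∀ n : ℤ, (shiftFunctor D n).Additive] [Pretriangulated D] [IsTriangulated D] (t : TStructure D)

/-- The distinguished triangle `τ_[q-1,q-1] ⟶ τ_[q-1,q] ⟶ τ_[q,q]`. -/
noncomputable def tri (q : ℤ) : D ⥤ Triangle D :=
  t.triangleω₁δ ((q - 1 : ℤ) : EInt) (q : ℤ) ((q + 1 : ℤ) : EInt)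
    (WithBotTop.coe_le_coe.mpr (sub_one_lt q).le) (WithBotTop.coe_le_coe.mpr (lt_add_one q).le)

lemma tri_distinguished (q : ℤ) (X : D) : (tri t q).obj X ∈ distTriang D :=
  t.triangleω₁δ_distinguished _ _ _ _ _ X

lemma tri_mor₁ (q : ℤ) (X : D) :
    ((tri t q).obj X).mor₁ =
      (t.truncGE (q - 1)).map ((t.natTransTruncLTOfLE q (q + 1) (lt_add_one q).le).app X) := by
  dsimp only [tri]
  rw [TStructure.triangleω₁δ_obj_mor₁]
  rfl

lemma tri_mor₂ (q : ℤ) (X : D) :
    ((tri t q).obj X).mor₂ =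
      (t.natTransTruncGEOfLE (q - 1) q (sub_one_lt q).le).app ((t.truncLT (q + 1)).obj X) := by
  dsimp only [tri]
  rw [TStructure.triangleω₁δ_obj_mor₂]
  rfl

end tri

section main

open DerivedCategory

universe w v u

variable {C : Type u} [Category.{v} C] [Abelian C] [HasDerivedCategory.{w} C]

variable (C) in
/-- The canonical t-structure. -/
noncomputable abbrev tt : TStructure (DerivedCategory C) := DerivedCategory.TStructure.t

theorem main {K K' : DerivedCategory C} (f : K ⟶ K') (q : ℤ)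
    (h₁ : (DerivedCategory.homologyFunctor C (q - 1)).map f = 0)
    (h₂ : (DerivedCategory.homologyFunctor C q).map f = 0) :
    ∃! L : ((DerivedCategory.TStructure.t (C := C)).truncGELT q (q + 1)).obj K ⟶
        ((DerivedCategory.TStructure.t (C := C)).truncGELT (q - 1) q).obj K',
      ((DerivedCategory.TStructure.t (C := C)).truncGELT (q - 1) (q + 1)).map f =
        ((DerivedCategory.TStructure.t (C := C)).natTransTruncGEOfLE (q - 1) q (sub_one_lt q).le).app
            (((DerivedCategory.TStructure.t (C := C)).truncLT (q + 1)).obj K) ≫ L ≫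
          ((DerivedCategory.TStructure.t (C := C)).truncGE (q - 1)).map
            (((DerivedCategory.TStructure.t (C := C)).natTransTruncLTOfLE q (q + 1) (lt_add_one q).le).app K') := by
  have hT := tri_distinguished (tt C) q K
  have hT' := tri_distinguished (tt C) q K'
  have i1 : (tt C).IsLE ((tri (tt C) q).obj K).obj₁ (q - 1) :=
    (inferInstance : (tt C).IsLE (((tt C).truncGELT (q - 1) q).obj K) (q - 1))
  have i2 : (tt C).IsLE ((tri (tt C) q).obj K).obj₃ q := by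
    have : (tt C).IsLE (((tt C).truncGELT q (q + 1)).obj K) (q + 1 - 1) := inferInstance
    exact (tt C).isLE_of_le (((tt C).truncGELT q (q + 1)).obj K) (q + 1 - 1) q (by lia)
  have i3 : (tt C).IsGE ((tri (tt C) q).obj K').obj₂ (q - 1) :=
    (inferInstance : (tt C).IsGE (((tt C).truncGELT (q - 1) (q + 1)).obj K') (q - 1))
  have i4 : (tt C).IsGE ((tri (tt C) q).obj K').obj₃ q :=
    (inferInstance : (tt C).IsGE (((tt C).truncGELT q (q + 1)).obj K') q)
  have hm1 : ((tri (tt C) q).map f).hom₁ = 0 := by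
    have e : ((tri (tt C) q).map f).hom₁ = ((tt C).truncGE (q - 1)).map (((tt C).truncLT q).map f) := rfl
    rw [e]
    apply Groth.Agent.S14100.eq_zero_of_heart (q - 1)
    apply Groth.Agent.S14100.homology_truncGE_map_eq_zero
    apply Groth.Agent.S14100.homology_truncLT_map_eq_zero
    exact h₁
  have hm3 : ((tri (tt C) q).map f).hom₃ = 0 := by
    have e : ((tri (tt C) q).map f).hom₃ = ((tt C).truncGE q).map (((tt C).truncLT (q + 1)).map f) := rfl
    rw [e]
    apply Groth.Agent.S14100.eq_zero_of_heart q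
    apply Groth.Agent.S14100.homology_truncGE_map_eq_zero
    apply Groth.Agent.S14100.homology_truncLT_map_eq_zero
    exact h₂
  have key := existsUnique_factor (tt C) ((tri (tt C) q).obj K) ((tri (tt C) q).obj K') hT hT' q
    ((tri (tt C) q).map f).hom₂
    (by rw [((tri (tt C) q).map f).comm₁, hm1, zero_comp])
    (by rw [← ((tri (tt C) q).map f).comm₂, hm3, comp_zero])
  rw [tri_mor₂ (tt C) q K, tri_mor₁ (tt C) q K'] at key
  exact key

end main

end Groth.Agent.Helper21.TF
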