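import Mathlib
import Groth.Agent.Lib.Helper21.IntLift
import Groth.Agent.Lib.Helper11.UnivHomeo

/-!
Weak normalization (weak subintegral closure) of `A` in an integral extension `B` as the equalizer
of `B ⇉ (B ⊗_A B)_red`.
-/

universe u
open AlgebraicGeometry
open scoped TensorProduct

namespace Groth.Agent.Helper21.WNE

theorem main (A B : Type u) [CommRing A] [CommRing B] [Algebra A B]
    (hinj : Function.Injective (algebraMap A B)) [Algebra.IsIntegral A B] :
    ∃ E : Subalgebra A B, (∀ b : B, b ∈ E ↔ IsNilpotent (b ⊗ₜ[A] (1 : B) - (1 : B) ⊗ₜ[A] b)) ∧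
      FlatMor.IsUnivHomeo (Spec.map (CommRingCat.ofHom (algebraMap A E))) ∧
      ∀ C : Subalgebra A B,
        FlatMor.IsUnivHomeo (Spec.map (CommRingCat.ofHom (algebraMap A C))) → C ≤ E := by
  classical
  let N : Ideal (B ⊗[A] B) := nilradical (B ⊗[A] B)
  let φ₁ : B →ₐ[A] (B ⊗[A] B) ⧸ N :=
    (Ideal.Quotient.mkₐ A N).comp Algebra.TensorProduct.includeLeft
  let φ₂ : B →ₐ[A] (B ⊗[A] B) ⧸ N :=
    (Ideal.Quotient.mkₐ A N).comp Algebra.TensorProduct.includeRight
  have hmem : ∀ b : B, b ∈ AlgHom.equalizer φ₁ φ₂ ↔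
      IsNilpotent (b ⊗ₜ[A] (1 : B) - (1 : B) ⊗ₜ[A] b) := by
    intro b
    rw [AlgHom.mem_equalizer]
    show Ideal.Quotient.mk N (b ⊗ₜ[A] (1 : B)) = Ideal.Quotient.mk N ((1 : B) ⊗ₜ[A] b) ↔ _
    rw [Ideal.Quotient.eq, mem_nilradical]
  refine ⟨AlgHom.equalizer φ₁ φ₂, hmem, ?_, ?_⟩
  · -- universal homeomorphism
    generalize hE : AlgHom.equalizer φ₁ φ₂ = E at hmem
    haveI : Algebra.IsIntegral A E := Algebra.IsIntegral.of_injective E.val Subtype.val_injective
    haveI : Algebra.IsIntegral E B := Algebra.IsIntegral.tower_top (R := A) (S := E) (T := B)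
    have hinjE : Function.Injective (algebraMap E B) := Subtype.val_injective
    rw [Groth.Agent.Helper11.UH.isUnivHomeo_spec_iff]
    refine ⟨algebraMap_isIntegral_iff.mpr inferInstance, ?_, ?_⟩
    · intro p
      have hle : (⊥ : Ideal E).comap (algebraMap A E) ≤ p.asIdeal := by
        intro a ha
        have h0 : algebraMap A E a = 0 := ha
        have h1 : algebraMap A B a = 0 := by
          have := congrArg E.val h0
          simpa using this
        have : a = 0 := hinj (by rw [h1, map_zero])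
        rw [this]; exact zero_mem _
      obtain ⟨Q, -, hQ, hQp⟩ := Ideal.exists_ideal_over_prime_of_isIntegral p.asIdeal
        (⊥ : Ideal E) hle
      exact ⟨⟨Q, hQ⟩, PrimeSpectrum.ext hQp⟩
    · intro K _ g₁ g₂ hg
      let ι : K →+* AlgebraicClosure K := algebraMap K (AlgebraicClosure K)
      obtain ⟨g₁', h₁⟩ := Groth.Agent.Helper21.ILF.exists_lift hinjE (ι.comp g₁)
      obtain ⟨g₂', h₂⟩ := Groth.Agent.Helper21.ILF.exists_lift hinjE (ι.comp g₂)
      have hAB : ∀ a : A, algebraMap A B a = algebraMap E B (algebraMap A E a) := fun a => rfl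
      have hAg : ∀ a : A, g₂' (algebraMap A B a) = g₁' (algebraMap A B a) := by
        intro a
        rw [hAB]
        have e1 : g₁' (algebraMap E B (algebraMap A E a)) = ι (g₁ (algebraMap A E a)) :=
          congrFun (congrArg DFunLike.coe h₁) (algebraMap A E a)
        have e2 : g₂' (algebraMap E B (algebraMap A E a)) = ι (g₂ (algebraMap A E a)) :=
          congrFun (congrArg DFunLike.coe h₂) (algebraMap A E a)
        have e3 : g₁ (algebraMap A E a) = g₂ (algebraMap A E a) :=
          congrFun (congrArg DFunLike.coe hg) a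
        rw [e1, e2, e3]
      letI : Algebra A (AlgebraicClosure K) := (g₁'.comp (algebraMap A B)).toAlgebra
      let G₁ : B →ₐ[A] AlgebraicClosure K := { g₁' with commutes' := fun a => rfl }
      let G₂ : B →ₐ[A] AlgebraicClosure K := { g₂' with commutes' := fun a => hAg a }
      let Φ : B ⊗[A] B →ₐ[A] AlgebraicClosure K := Algebra.TensorProduct.productMap G₁ G₂
      ext e
      have hnil : IsNilpotent ((e : B) ⊗ₜ[A] (1 : B) - (1 : B) ⊗ₜ[A] (e : B)) :=
        (hmem (e : B)).mp e.2
      have hnil' : IsNilpotent (Φ ((e : B) ⊗ₜ[A] (1 : B) - (1 : B) ⊗ₜ[A] (e : B))) :=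
        hnil.map Φ
      have hz := hnil'.eq_zero
      rw [map_sub, Algebra.TensorProduct.productMap_left_apply,
        Algebra.TensorProduct.productMap_right_apply, sub_eq_zero] at hz
      have e1 : g₁' (algebraMap E B e) = ι (g₁ e) := congrFun (congrArg DFunLike.coe h₁) e
      have e2 : g₂' (algebraMap E B e) = ι (g₂ e) := congrFun (congrArg DFunLike.coe h₂) e
      have hz' : g₁' (algebraMap E B e) = g₂' (algebraMap E B e) := hz
      rw [e1, e2] at hz'
      exact ι.injective hz'
  · intro C hC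
    rw [Groth.Agent.Helper11.UH.isUnivHomeo_spec_iff] at hC
    obtain ⟨-, -, hrad⟩ := hC
    intro c hc
    rw [hmem, nilpotent_iff_mem_prime]
    intro J hJ
    haveI := hJ
    let π : B ⊗[A] B →+* J.ResidueField := algebraMap (B ⊗[A] B) J.ResidueField
    let i₁ : B →+* B ⊗[A] B := (Algebra.TensorProduct.includeLeft : B →ₐ[A] B ⊗[A] B).toRingHom
    let i₂ : B →+* B ⊗[A] B := (Algebra.TensorProduct.includeRight : B →ₐ[A] B ⊗[A] B).toRingHom
    have hcomp : ((π.comp i₁).comp C.val.toRingHom).comp (algebraMap A C) =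
        ((π.comp i₂).comp C.val.toRingHom).comp (algebraMap A C) := by
      ext a
      show π (i₁ (algebraMap A B a)) = π (i₂ (algebraMap A B a))
      have e1 : i₁ (algebraMap A B a) = algebraMap A (B ⊗[A] B) a :=
        (Algebra.TensorProduct.includeLeft : B →ₐ[A] B ⊗[A] B).commutes a
      have e2 : i₂ (algebraMap A B a) = algebraMap A (B ⊗[A] B) a :=
        (Algebra.TensorProduct.includeRight : B →ₐ[A] B ⊗[A] B).commutes a
      rw [e1, e2]
    have h := hrad J.ResidueField _ _ hcomp
    have h' : π (c ⊗ₜ[A] (1 : B)) = π ((1 : B) ⊗ₜ[A] c) :=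
      congrFun (congrArg DFunLike.coe h) ⟨c, hc⟩
    have h0 : π (c ⊗ₜ[A] (1 : B) - (1 : B) ⊗ₜ[A] c) = 0 := by
      rw [map_sub, h', sub_self]
    exact (Ideal.algebraMap_residueField_eq_zero).mp h0

end Groth.Agent.Helper21.WNE
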