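import Mathlib
import Groth.Prelude.Def_Flat
import Groth.Agent.Lib.Helper21.WNEq
import Groth.Agent.Lib.Helper14.EtaleReduced

/-!
# Weak subintegral closure commutes with localization and étale base change (helper21)
-/

set_option autoImplicit false
set_option linter.unusedSectionVars false
set_option linter.unusedVariables false
set_option linter.style.haveILetI false
universe u
open AlgebraicGeometry CategoryTheory
open scoped TensorProduct

namespace Groth.Agent.Helper21.WSI

instance : MorphismProperty.RespectsIso (FlatMor.IsUnivHomeo : MorphismProperty Scheme.{u}) := by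
  unfold FlatMor.IsUnivHomeo; infer_instance

instance : MorphismProperty.IsStableUnderBaseChange
    (FlatMor.IsUnivHomeo : MorphismProperty Scheme.{u}) := by
  unfold FlatMor.IsUnivHomeo; infer_instance

/-- Transport of universal homeomorphisms along an algebra isomorphism. -/
theorem isUnivHomeo_of_algEquiv {A R R' : Type u} [CommRing A] [CommRing R] [CommRing R']
    [Algebra A R] [Algebra A R'] (e : R ≃ₐ[A] R')
    (h : FlatMor.IsUnivHomeo (Spec.map (CommRingCat.ofHom (algebraMap A R)))) :
    FlatMor.IsUnivHomeo (Spec.map (CommRingCat.ofHom (algebraMap A R'))) := by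
  have he : CommRingCat.ofHom (algebraMap A R') =
      CommRingCat.ofHom (algebraMap A R) ≫ CommRingCat.ofHom (e : R →+* R') := by
    ext a
    simp
  haveI : IsIso (CommRingCat.ofHom (e : R →+* R')) :=
    (e.toRingEquiv.toCommRingCatIso).isIso_hom
  rw [he, Spec.map_comp]
  exact (MorphismProperty.cancel_left_of_respectsIso FlatMor.IsUnivHomeo _ _).mpr h

/-- Universal homeomorphisms of spectra are stable under base change. -/
theorem isUnivHomeo_baseChange {A A' C : Type u} [CommRing A] [CommRing A'] [CommRing C]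
    [Algebra A A'] [Algebra A C]
    (h : FlatMor.IsUnivHomeo (Spec.map (CommRingCat.ofHom (algebraMap A C)))) :
    FlatMor.IsUnivHomeo (Spec.map (CommRingCat.ofHom (algebraMap A' (A' ⊗[A] C)))) := by
  have hpo := CommRingCat.isPushout_tensorProduct A A' C
  have hpb := isPullback_SpecMap_of_isPushout _ _ _ _ hpo
  have := MorphismProperty.of_isPullback (P := FlatMor.IsUnivHomeo) hpb.flip h
  exact this

/-- A radicial algebra produces nilpotent differences in any self tensor product. -/
theorem isNilpotent_of_radicial {A C R : Type u} [CommRing A] [CommRing C] [CommRing R]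
    [Algebra A C] [Algebra A R]
    (hrad : Groth.Agent.Helper11.UH.Radicial (algebraMap A C)) (j : C →ₐ[A] R) (c : C) :
    IsNilpotent (j c ⊗ₜ[A] (1 : R) - (1 : R) ⊗ₜ[A] j c) := by
  rw [nilpotent_iff_mem_prime]
  intro J hJ
  haveI := hJ
  let π : R ⊗[A] R →+* J.ResidueField := algebraMap (R ⊗[A] R) J.ResidueField
  let i₁ : R →+* R ⊗[A] R := (Algebra.TensorProduct.includeLeft : R →ₐ[A] R ⊗[A] R).toRingHom
  let i₂ : R →+* R ⊗[A] R := (Algebra.TensorProduct.includeRight : R →ₐ[A] R ⊗[A] R).toRingHom
  have hcomp : ((π.comp i₁).comp j.toRingHom).comp (algebraMap A C) =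
      ((π.comp i₂).comp j.toRingHom).comp (algebraMap A C) := by
    ext a
    show π (i₁ (j (algebraMap A C a))) = π (i₂ (j (algebraMap A C a)))
    rw [j.commutes]
    have e1 : i₁ (algebraMap A R a) = algebraMap A (R ⊗[A] R) a :=
      (Algebra.TensorProduct.includeLeft : R →ₐ[A] R ⊗[A] R).commutes a
    have e2 : i₂ (algebraMap A R a) = algebraMap A (R ⊗[A] R) a :=
      (Algebra.TensorProduct.includeRight : R →ₐ[A] R ⊗[A] R).commutes a
    rw [e1, e2]
  have h := hrad J.ResidueField _ _ hcomp
  have h' : π (j c ⊗ₜ[A] (1 : R)) = π ((1 : R) ⊗ₜ[A] j c) :=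
    congrFun (congrArg DFunLike.coe h) c
  have h0 : π (j c ⊗ₜ[A] (1 : R) - (1 : R) ⊗ₜ[A] j c) = 0 := by
    rw [map_sub, h', sub_self]
  exact (Ideal.algebraMap_residueField_eq_zero).mp h0

/-- Two algebra maps from a radicial algebra to a reduced ring agree. -/
theorem eq_of_radicial_of_isReduced {A C R : Type u} [CommRing A] [CommRing C] [CommRing R]
    [Algebra A C] [Algebra A R] [IsReduced R]
    (hrad : Groth.Agent.Helper11.UH.Radicial (algebraMap A C)) (j₁ j₂ : C →ₐ[A] R) (c : C) :
    j₁ c = j₂ c := by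
  rw [← sub_eq_zero]
  apply IsNilpotent.eq_zero
  rw [nilpotent_iff_mem_prime]
  intro J hJ
  haveI := hJ
  let π : R →+* J.ResidueField := algebraMap R J.ResidueField
  have hcomp : (π.comp j₁.toRingHom).comp (algebraMap A C) =
      (π.comp j₂.toRingHom).comp (algebraMap A C) := by
    ext a
    show π (j₁ (algebraMap A C a)) = π (j₂ (algebraMap A C a))
    rw [j₁.commutes, j₂.commutes]
  have h := hrad J.ResidueField _ _ hcomp
  have h' : π (j₁ c) = π (j₂ c) := congrFun (congrArg DFunLike.coe h) c
  have h0 : π (j₁ c - j₂ c) = 0 := by rw [map_sub, h', sub_self]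
  exact (Ideal.algebraMap_residueField_eq_zero).mp h0

theorem lTensor_eq_map {A A' M₁ M₂ : Type u} [CommRing A] [CommRing A'] [CommRing M₁]
    [CommRing M₂] [Algebra A A'] [Algebra A M₁] [Algebra A M₂] (φ : M₁ →ₐ[A] M₂)
    (y : A' ⊗[A] M₁) :
    (φ.toLinearMap.lTensor A') y = Algebra.TensorProduct.map (AlgHom.id A' A') φ y := by
  induction y using TensorProduct.induction_on with
  | zero => simp
  | tmul a b => simp
  | add y₁ y₂ h₁ h₂ => rw [map_add, map_add, h₁, h₂]

theorem map_id_eq {A A' M₁ M₂ : Type u} [CommRing A] [CommRing A'] [CommRing M₁]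
    [CommRing M₂] [Algebra A A'] [Algebra A M₁] [Algebra A M₂] (φ : M₁ →ₐ[A] M₂)
    (y : A' ⊗[A] M₁) :
    Algebra.TensorProduct.map (AlgHom.id A A') φ y =
      Algebra.TensorProduct.map (AlgHom.id A' A') φ y := by
  induction y using TensorProduct.induction_on with
  | zero => simp
  | tmul a b => simp
  | add y₁ y₂ h₁ h₂ => rw [map_add, map_add, h₁, h₂]

theorem isReduced_tensor_of_isLocalization {A A' T : Type u} [CommRing A] [CommRing A']
    [CommRing T] [Algebra A A'] (M : Submonoid A) [IsLocalization M A'] [Algebra A T]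
    [IsReduced T] : IsReduced (A' ⊗[A] T) := by
  letI : Algebra T (A' ⊗[A] T) := Algebra.TensorProduct.rightAlgebra
  haveI : IsLocalization (Algebra.algebraMapSubmonoid T M) (A' ⊗[A] T) :=
    IsLocalization.tensorRight A' M
  exact isReduced_localizationPreserves (Algebra.algebraMapSubmonoid T M) (A' ⊗[A] T)
    inferInstance

theorem isReduced_tensor_of_etale {A A' T : Type u} [CommRing A] [CommRing A']
    [CommRing T] [Algebra A A'] [Algebra.Etale A A'] [Algebra A T]
    [IsReduced T] : IsReduced (A' ⊗[A] T) := by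
  haveI : Algebra.Etale T (T ⊗[A] A') := inferInstance
  haveI : IsReduced (T ⊗[A] A') := Groth.Agent.Helper14.isReduced_of_etale T (T ⊗[A] A')
  exact isReduced_of_injective (Algebra.TensorProduct.comm A A' T)
    (Algebra.TensorProduct.comm A A' T).injective

theorem key_step {A A' I Q I' C' : Type u} [CommRing A] [CommRing A'] [CommRing I] [CommRing Q]
    [CommRing I'] [CommRing C'] [Algebra A A'] [Algebra A I] [Algebra A Q] [Module.Flat A A']
    [Algebra A' I'] (θ : A' ⊗[A] I ≃ₐ[A'] I') [Algebra A' C']
    (hrad : Groth.Agent.Helper11.UH.Radicial (algebraMap A' C')) (incl : C' →ₐ[A'] I')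
    (φ₁ φ₂ : I →ₐ[A] Q) (hredR : IsReduced (A' ⊗[A] Q))
    (E : Subalgebra A I) (hE : ∀ b, b ∈ E ↔ φ₁ b = φ₂ b) (c : C') :
    ∃ z : A' ⊗[A] E, θ ((E.val.toLinearMap.lTensor A') z) = incl c := by
  classical
  let ψ₁ : I' →ₐ[A'] A' ⊗[A] Q :=
    (Algebra.TensorProduct.map (AlgHom.id A' A') φ₁).comp θ.symm.toAlgHom
  let ψ₂ : I' →ₐ[A'] A' ⊗[A] Q :=
    (Algebra.TensorProduct.map (AlgHom.id A' A') φ₂).comp θ.symm.toAlgHom
  have hz : ψ₁ (incl c) = ψ₂ (incl c) :=
    eq_of_radicial_of_isReduced hrad (ψ₁.comp incl) (ψ₂.comp incl) c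
  set y : A' ⊗[A] I := θ.symm (incl c) with hy
  have hz' : Algebra.TensorProduct.map (AlgHom.id A' A') φ₁ y =
      Algebra.TensorProduct.map (AlgHom.id A' A') φ₂ y := hz
  let δ : I →ₗ[A] Q := φ₁.toLinearMap - φ₂.toLinearMap
  have hex : Function.Exact E.val.toLinearMap δ := by
    intro b
    constructor
    · intro hb
      have hb' : φ₁ b - φ₂ b = 0 := hb
      exact ⟨⟨b, (hE b).mpr (sub_eq_zero.mp hb')⟩, rfl⟩
    · rintro ⟨e, rfl⟩
      show φ₁ (e : I) - φ₂ (e : I) = 0
      exact sub_eq_zero.mpr ((hE _).mp e.2)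
  have hex' := Module.Flat.lTensor_exact A' hex
  have hker : (δ.lTensor A') y = 0 := by
    show ((φ₁.toLinearMap - φ₂.toLinearMap).lTensor A') y = 0
    rw [LinearMap.lTensor_sub, LinearMap.sub_apply, lTensor_eq_map, lTensor_eq_map, hz',
      sub_self]
  obtain ⟨z, hz2⟩ := (hex' y).mp hker
  exact ⟨z, by rw [hz2, hy, AlgEquiv.apply_symm_apply]⟩

theorem main_aux {A B A' : Type u} [CommRing A] [CommRing B] [CommRing A'] [Algebra A B]
    [Algebra A A'] (hinj : Function.Injective (algebraMap A B)) [Module.Flat A A']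
    (hint : Function.Bijective (TensorProduct.toIntegralClosure A A' B))
    (hred : ∀ (T : Type u) [CommRing T] [Algebra A T], IsReduced T → IsReduced (A' ⊗[A] T))
    (C : Subalgebra A B)
    (hC : FlatMor.IsUnivHomeo (Spec.map (CommRingCat.ofHom (algebraMap A C))))
    (hmax : ∀ D : Subalgebra A B,
      FlatMor.IsUnivHomeo (Spec.map (CommRingCat.ofHom (algebraMap A D))) → D ≤ C)
    (C' : Subalgebra A' (A' ⊗[A] B))
    (hC' : FlatMor.IsUnivHomeo (Spec.map (CommRingCat.ofHom (algebraMap A' C'))))
    (hmax' : ∀ D : Subalgebra A' (A' ⊗[A] B),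
      FlatMor.IsUnivHomeo (Spec.map (CommRingCat.ofHom (algebraMap A' D))) → D ≤ C') :
    (C' : Set (A' ⊗[A] B)) =
      Set.range (Algebra.TensorProduct.map (AlgHom.id A A') C.val) := by
  classical
  have hC'i := (Groth.Agent.Helper11.UH.isUnivHomeo_spec_iff _).mp hC'
  -- the A'-algebra version of the map
  let F : A' ⊗[A] C →ₐ[A'] A' ⊗[A] B := Algebra.TensorProduct.map (AlgHom.id A' A') C.val
  have hFrange : Set.range (Algebra.TensorProduct.map (AlgHom.id A A') C.val) =
      (F.range : Set (A' ⊗[A] B)) := by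
    ext w
    simp only [Set.mem_range, AlgHom.coe_range]
    constructor
    · rintro ⟨v, rfl⟩; exact ⟨v, (map_id_eq C.val v).symm⟩
    · rintro ⟨v, rfl⟩; exact ⟨v, map_id_eq C.val v⟩
  rw [hFrange]
  have hFinj : Function.Injective F := by
    have h1 : Function.Injective (C.val.toLinearMap.lTensor A') :=
      Module.Flat.lTensor_preserves_injective_linearMap _ Subtype.val_injective
    intro v w hvw
    apply h1
    rw [lTensor_eq_map, lTensor_eq_map]
    exact hvw
  -- first inclusion: range F ≤ C'
  have hle1 : F.range ≤ C' := by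
    apply hmax'
    exact isUnivHomeo_of_algEquiv (AlgEquiv.ofInjective F hFinj) (isUnivHomeo_baseChange hC)
  -- second inclusion
  have hle2 : C' ≤ F.range := by
    -- the integral closures
    have hinjI : Function.Injective (algebraMap A (integralClosure A B)) := by
      intro a b hab
      apply hinj
      exact congrArg (integralClosure A B).val hab
    obtain ⟨E, hmem, hE, hEmax⟩ := Groth.Agent.Helper21.WNE.main A (integralClosure A B) hinjI
    have hEC : ∀ e : integralClosure A B, e ∈ E → (e : B) ∈ C := by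
      intro e he
      have hle : E.map (integralClosure A B).val ≤ C :=
        hmax _ (isUnivHomeo_of_algEquiv
          (E.equivMapOfInjective (integralClosure A B).val Subtype.val_injective) hE)
      exact hle ⟨e, he, rfl⟩
    let N : Ideal ((integralClosure A B) ⊗[A] (integralClosure A B)) :=
      nilradical ((integralClosure A B) ⊗[A] (integralClosure A B))
    let φ₁ : integralClosure A B →ₐ[A]
        ((integralClosure A B) ⊗[A] (integralClosure A B)) ⧸ N :=
      (Ideal.Quotient.mkₐ A N).comp Algebra.TensorProduct.includeLeft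
    let φ₂ : integralClosure A B →ₐ[A]
        ((integralClosure A B) ⊗[A] (integralClosure A B)) ⧸ N :=
      (Ideal.Quotient.mkₐ A N).comp Algebra.TensorProduct.includeRight
    have hEeq : ∀ b : integralClosure A B, b ∈ E ↔ φ₁ b = φ₂ b := by
      intro b
      rw [hmem]
      show _ ↔ Ideal.Quotient.mk N (b ⊗ₜ[A] (1 : integralClosure A B)) =
        Ideal.Quotient.mk N ((1 : integralClosure A B) ⊗ₜ[A] b)
      rw [Ideal.Quotient.eq, mem_nilradical]
    haveI hredQ : IsReduced
        (((integralClosure A B) ⊗[A] (integralClosure A B)) ⧸ N) :=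
      (Ideal.isRadical_iff_quotient_reduced N).mp (Ideal.radical_isRadical _)
    let θ : A' ⊗[A] integralClosure A B ≃ₐ[A'] integralClosure A' (A' ⊗[A] B) :=
      AlgEquiv.ofBijective (TensorProduct.toIntegralClosure A A' B) hint
    have hC'le : C' ≤ integralClosure A' (A' ⊗[A] B) := by
      intro x hx
      have h1 : IsIntegral A' (⟨x, hx⟩ : C') := hC'i.1 ⟨x, hx⟩
      exact h1.map C'.val
    intro x hx
    have hR := hred (((integralClosure A B) ⊗[A] (integralClosure A B)) ⧸ N) hredQ
    obtain ⟨z, hz⟩ := key_step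
      (Q := ((integralClosure A B) ⊗[A] (integralClosure A B)) ⧸ N) θ hC'i.2.2
      (Subalgebra.inclusion hC'le) φ₁ φ₂ hR E hEeq ⟨x, hx⟩
    have hxy : x = ((θ ((E.val.toLinearMap.lTensor A') z) :
        integralClosure A' (A' ⊗[A] B)) : A' ⊗[A] B) := by
      rw [hz]; rfl
    rw [hxy]
    -- now induct on z
    have key : ∀ z : A' ⊗[A] E,
        ((θ ((E.val.toLinearMap.lTensor A') z) : integralClosure A' (A' ⊗[A] B)) :
          A' ⊗[A] B) ∈ F.range := by
      intro z
      induction z using TensorProduct.induction_on with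
      | zero =>
        rw [map_zero, map_zero]
        exact F.range.zero_mem
      | tmul a e =>
        refine ⟨a ⊗ₜ[A] ⟨((e : integralClosure A B) : B), hEC e e.2⟩, ?_⟩
        simp [F, θ, TensorProduct.toIntegralClosure]
      | add z₁ z₂ h₁ h₂ =>
        rw [map_add, map_add]
        exact F.range.add_mem h₁ h₂
    exact key z
  exact congrArg (fun S : Subalgebra A' (A' ⊗[A] B) => (S : Set (A' ⊗[A] B)))
    (le_antisymm hle2 hle1)

theorem main {A B A' : Type u} [CommRing A] [CommRing B] [CommRing A'] [Algebra A B]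
    [Algebra A A'] (hinj : Function.Injective (algebraMap A B))
    (hA' : (∃ M : Submonoid A, IsLocalization M A') ∨ Algebra.Etale A A')
    (C : Subalgebra A B)
    (hC : FlatMor.IsUnivHomeo (Spec.map (CommRingCat.ofHom (algebraMap A C))))
    (hmax : ∀ D : Subalgebra A B,
      FlatMor.IsUnivHomeo (Spec.map (CommRingCat.ofHom (algebraMap A D))) → D ≤ C)
    (C' : Subalgebra A' (A' ⊗[A] B))
    (hC' : FlatMor.IsUnivHomeo (Spec.map (CommRingCat.ofHom (algebraMap A' C'))))
    (hmax' : ∀ D : Subalgebra A' (A' ⊗[A] B),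
      FlatMor.IsUnivHomeo (Spec.map (CommRingCat.ofHom (algebraMap A' D))) → D ≤ C') :
    (C' : Set (A' ⊗[A] B)) =
      Set.range (Algebra.TensorProduct.map (AlgHom.id A A') C.val) := by
  rcases hA' with ⟨M, hM⟩ | het
  · haveI := hM
    haveI : Module.Flat A A' := IsLocalization.flat A' M
    exact main_aux hinj (TensorProduct.toIntegralClosure_bijective_of_isLocalization M)
      (fun T _ _ hT => by haveI := hT; exact isReduced_tensor_of_isLocalization M)
      C hC hmax C' hC' hmax'
  · haveI := het
    haveI : Algebra.Smooth A A' := inferInstance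
    exact main_aux hinj TensorProduct.toIntegralClosure_bijective_of_smooth
      (fun T _ _ hT => by haveI := hT; exact isReduced_tensor_of_etale)
      C hC hmax C' hC' hmax'

end Groth.Agent.Helper21.WSI
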